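import Groth.Prelude.Def_Flat
import Mathlib.Topology.KrullDimension
import Mathlib.Topology.NoetherianSpace
import Mathlib.Topology.Semicontinuity.Basic

set_option autoImplicit false

namespace Groth.Agent.H29

open TopologicalSpace Order Topology

universe u
variable {X : Type u} [TopologicalSpace X]

/-- A chain of irreducible closed subsets of `X` whose smallest member meets the open set `U`
restricts to a chain of the same length in `U`. -/
theorem length_le_dim_open (U : Set X) (hU : IsOpen U) (l : LTSeries (IrreducibleCloseds X))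
    (h : ((l.head : Set X) ∩ U).Nonempty) : (l.length : WithBot ℕ∞) ≤ topologicalKrullDim U := by
  have hemb : IsOpenEmbedding ((↑) : U → X) := hU.isOpenEmbedding_subtypeVal
  have hmem : ∀ i, (((↑) : U → X) ⁻¹' (l i : Set X)).Nonempty := by
    intro i
    obtain ⟨x, hx, hxU⟩ := h
    refine ⟨⟨x, hxU⟩, ?_⟩
    have : l.head ≤ l i := LTSeries.head_le l i
    exact this hx
  let l' : LTSeries {V : IrreducibleCloseds X | (((↑) : U → X) ⁻¹' (V : Set X)).Nonempty} :=
    { length := l.length, toFun := fun i => ⟨l i, hmem i⟩, step := fun i => l.step i }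
  calc (l.length : WithBot ℕ∞) = l'.length := rfl
    _ ≤ krullDim _ := l'.length_le_krullDim
    _ = krullDim (IrreducibleCloseds U) :=
      (krullDim_eq_of_orderIso (IrreducibleCloseds.orderIsoOfIsOpenEmbedding _ hemb)).symm

theorem isPreirreducible_of_isInducing_image {Y : Type*} [TopologicalSpace Y] {f : Y → X}
    (hf : IsInducing f) {T : Set Y} (hT : IsPreirreducible (f '' T)) : IsPreirreducible T := by
  intro u v hu hv hTu hTv
  obtain ⟨u', hu', rfl⟩ := hf.isOpen_iff.mp hu
  obtain ⟨v', hv', rfl⟩ := hf.isOpen_iff.mp hv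
  obtain ⟨a, haT, hau⟩ := hTu
  obtain ⟨b, hbT, hbv⟩ := hTv
  obtain ⟨z, ⟨t, htT, rfl⟩, hz⟩ := hT u' v' hu' hv' ⟨f a, ⟨a, haT, rfl⟩, hau⟩ ⟨f b, ⟨b, hbT, rfl⟩, hbv⟩
  exact ⟨t, htT, hz⟩

/-- A chain of irreducible closed subsets of `X` all contained in the subset `Y` gives a chain of
the same length in the subspace `Y`. -/
theorem length_le_dim_of_last_subset (Y : Set X) (l : LTSeries (IrreducibleCloseds X))
    (h : (l.last : Set X) ⊆ Y) : (l.length : WithBot ℕ∞) ≤ topologicalKrullDim Y := by
  have hsub : ∀ i, (l i : Set X) ⊆ Y := fun i =>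
    subset_trans (show l i ≤ l.last from l.monotone (Fin.le_last i)) h
  have himg : ∀ i, ((↑) : Y → X) '' (((↑) : Y → X) ⁻¹' (l i : Set X)) = (l i : Set X) := by
    intro i
    rw [Subtype.image_preimage_coe, Set.inter_eq_right.mpr (hsub i)]
  let T : Fin (l.length + 1) → IrreducibleCloseds Y := fun i =>
    { carrier := ((↑) : Y → X) ⁻¹' (l i : Set X)
      isIrreducible' := by
        refine ⟨?_, isPreirreducible_of_isInducing_image IsInducing.subtypeVal ?_⟩
        · obtain ⟨x, hx⟩ := (l i).isIrreducible.nonempty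
          exact ⟨⟨x, hsub i hx⟩, hx⟩
        · rw [himg i]; exact (l i).isIrreducible.isPreirreducible
      isClosed' := (l i).isClosed.preimage continuous_subtype_val }
  have hT : StrictMono T := by
    intro i j hij
    have hlt : l i < l j := l.strictMono hij
    refine lt_of_le_of_ne ?_ ?_
    · intro y hy
      exact hlt.le hy
    · intro heq
      apply hlt.ne
      apply IrreducibleCloseds.ext
      rw [← himg i, ← himg j]
      have : ((T i : IrreducibleCloseds Y) : Set Y) = (T j : Set Y) := by
        rw [heq]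
      exact congrArg (Set.image ((↑) : Y → X)) this
  let l' : LTSeries (IrreducibleCloseds Y) := LTSeries.mk l.length T hT
  calc (l.length : WithBot ℕ∞) = l'.length := rfl
    _ ≤ krullDim _ := l'.length_le_krullDim

theorem topologicalKrullDim_le_of_forall_chain {c : WithBot ℕ∞}
    (h : ∀ l : LTSeries (IrreducibleCloseds X), (l.length : WithBot ℕ∞) ≤ c) :
    topologicalKrullDim X ≤ c := by
  unfold topologicalKrullDim krullDim
  exact iSup_le h

/-- dimension of a finite closed cover -/
theorem topologicalKrullDim_eq_iSup_of_finite_closed_cover {ι : Type*} [Finite ι] (Y : ι → Set X)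
    (hY : ∀ i, IsClosed (Y i)) (hcov : ⋃ i, Y i = Set.univ) :
    topologicalKrullDim X = ⨆ i, topologicalKrullDim (Y i) := by
  classical
  refine le_antisymm ?_ (iSup_le fun i => topologicalKrullDim_subspace_le X (Y i))
  refine topologicalKrullDim_le_of_forall_chain fun l => ?_
  have := Fintype.ofFinite ι
  obtain ⟨z, hz, hlz⟩ := isIrreducible_iff_sUnion_isClosed.mp l.last.isIrreducible
    (Finset.univ.image Y) (by
      intro z hz
      obtain ⟨i, -, rfl⟩ := Finset.mem_image.mp hz
      exact hY i) (by
      intro x _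
      have : x ∈ ⋃ i, Y i := by rw [hcov]; trivial
      obtain ⟨i, hi⟩ := Set.mem_iUnion.mp this
      exact Set.mem_sUnion.mpr ⟨Y i, by simp, hi⟩)
  obtain ⟨i, -, rfl⟩ := Finset.mem_image.mp hz
  exact le_trans (length_le_dim_of_last_subset (Y i) l hlz)
    (le_iSup (fun i => topologicalKrullDim (Y i)) i)

theorem localDim_le_dim_of_mem (x : X) (U : Opens X) (hx : x ∈ U) :
    FlatMor.localDim X x ≤ topologicalKrullDim (U : Set X) :=
  iInf_le (fun U : {U : Opens X // x ∈ U} => topologicalKrullDim (U.1 : Set X)) ⟨U, hx⟩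

theorem localDim_le_dim (x : X) : FlatMor.localDim X x ≤ topologicalKrullDim X :=
  le_trans (localDim_le_dim_of_mem x ⊤ trivial) (topologicalKrullDim_subspace_le X _)

theorem length_le_localDim (l : LTSeries (IrreducibleCloseds X)) (x : X) (hx : x ∈ (l.head : Set X)) :
    (l.length : WithBot ℕ∞) ≤ FlatMor.localDim X x :=
  le_iInf fun U => length_le_dim_open (U.1 : Set X) U.1.2 l ⟨x, hx, U.2⟩

end Groth.Agent.H29
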