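import Mathlib
import Groth.Prelude.Def_Found
import Groth.Prelude.Def_EGA4b
import Groth.Agent.H24.Catenary
import Groth.Agent.H72.EquidimS2
import Groth.Agent.H72.EquidimFlat

set_option autoImplicit false
set_option linter.unusedSectionVars false
universe u

open Groth.Agent.H24

namespace Groth.Agent.H29.CatFlat

section Poset

variable {α : Type*} [PartialOrder α]

/-- Height goes up by exactly one along covering relations. -/
def HtCond (α : Type*) [PartialOrder α] : Prop :=
  ∀ x y : α, x ⋖ y → Order.height y = Order.height x + 1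

theorem HtCond.height_apply (h : HtCond α) (s : LTSeries α)
    (hs : ∀ i : Fin s.length, s (Fin.castSucc i) ⋖ s (Fin.succ i)) :
    ∀ (n : ℕ) (hn : n < s.length + 1),
      Order.height (s ⟨n, hn⟩) = Order.height s.head + n := by
  intro n
  induction n with
  | zero =>
    intro hn
    simp only [Nat.cast_zero, add_zero]
    rfl
  | succ n ih =>
    intro hn
    have hn' : n < s.length := by omega
    have h1 := h _ _ (hs ⟨n, hn'⟩)
    simp only [Fin.castSucc_mk, Fin.succ_mk] at h1
    rw [h1, ih (by omega)]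
    push_cast
    ring

theorem HtCond.height_last (h : HtCond α) (s : LTSeries α)
    (hs : ∀ i : Fin s.length, s (Fin.castSucc i) ⋖ s (Fin.succ i)) :
    Order.height s.last = Order.height s.head + s.length :=
  h.height_apply s hs s.length (by omega)

theorem HtCond.catenaryCond (h : HtCond α) (hfin : ∀ x : α, Order.height x ≠ ⊤) :
    CatenaryCond α := by
  intro s t hh hl hs ht
  have h1 := h.height_last s hs
  have h2 := h.height_last t ht
  rw [hl, hh, h2] at h1
  have h3 := ENat.add_right_injective_of_ne_top (hfin t.head) h1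
  exact_mod_cast h3.symm

variable [WellFoundedLT α] [WellFoundedGT α]

theorem HtCond.height_add_coheight (h : HtCond α) (hfin : ∀ x : α, Order.height x ≠ ⊤)
    (m : α) (hm : ∀ a, a ≤ m) :
    ∀ x : α, Order.height x + Order.coheight x = Order.height m := by
  have hc := h.catenaryCond hfin
  intro x
  induction x using WellFoundedGT.induction with
  | ind x ih =>
    rcases eq_or_lt_of_le (hm x) with rfl | hlt
    · have h0 : Order.coheight x = 0 := by
        rw [Order.coheight_eq_zero]
        intro b hb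
        exact hm b
      rw [h0, add_zero]
    · obtain ⟨c, hxc, hcm⟩ := exists_covBy_le_of_lt hlt
      have h1 := Groth.Agent.H72.EquidimS2.coheight_eq_of_covBy hc m hm hxc
      have h2 := h x c hxc
      rw [h1, ← ih c hxc.lt, h2]
      ring

theorem htCond_of_catenaryCond (hc : CatenaryCond α) (m : α) (hm : ∀ a, a ≤ m) (d : ℕ∞)
    (hd : d ≠ ⊤) (hdim : ∀ x : α, Order.height x + Order.coheight x = d) : HtCond α := by
  intro x y hxy
  have h1 := Groth.Agent.H72.EquidimS2.coheight_eq_of_covBy hc m hm hxy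
  have h2 := hdim x
  have h3 := hdim y
  rw [h1] at h2
  have hcy : Order.coheight y ≠ ⊤ := by
    intro htop
    rw [htop, add_top] at h3
    exact hd h3.symm
  have h4 : Order.height x + 1 + Order.coheight y = Order.height y + Order.coheight y := by
    rw [h3, ← h2]
    ring
  exact (ENat.add_left_injective_of_ne_top hcy h4).symm

end Poset

section Ring

variable {B : Type u} [CommRing B] [IsNoetherianRing B]

theorem orderHeight_ne_top (x : PrimeSpectrum B) : Order.height x ≠ ⊤ := by
  rw [← PrimeSpectrum.height_eq_orderHeight]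
  exact Ideal.height_ne_top_of_isPrime

variable [IsLocalRing B]

theorem le_closedPoint (a : PrimeSpectrum B) : a ≤ IsLocalRing.closedPoint B :=
  IsLocalRing.le_maximalIdeal a.2.ne_top

theorem htCond_of_isCatenary_of_isEquidim (hcat : CAlg.IsCatenary B) (heq : EGA4.IsEquidim B) :
    HtCond (PrimeSpectrum B) := by
  have := wellFoundedGT_primeSpectrum (A := B)
  have := wellFoundedLT_primeSpectrum (A := B)
  refine htCond_of_catenaryCond hcat.2 (IsLocalRing.closedPoint B) le_closedPoint
    (IsLocalRing.maximalIdeal B).height Ideal.height_ne_top_of_isPrime ?_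
  intro x
  have h1 := Groth.Agent.H72.EquidimFlat.ringKrullDim_quotient_add_height hcat heq x.asIdeal
  rw [← coheight_eq_ringKrullDim_quotient x, ← IsLocalRing.maximalIdeal_height_eq_ringKrullDim,
    PrimeSpectrum.height_eq_orderHeight x] at h1
  rw [add_comm]
  exact_mod_cast h1

theorem isCatenary_of_htCond (h : HtCond (PrimeSpectrum B)) : CAlg.IsCatenary B := by
  refine ⟨fun p q _ => ?_, h.catenaryCond orderHeight_ne_top⟩
  obtain ⟨n, hn⟩ := ENat.ne_top_iff_exists.mp (orderHeight_ne_top q)
  refine ⟨n, fun s _ hl => ?_⟩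
  have := Order.length_le_height_last (p := s)
  rw [hl, ← hn] at this
  exact_mod_cast this

theorem height_add_coheight_of_htCond (h : HtCond (PrimeSpectrum B)) (x : PrimeSpectrum B) :
    Order.height x + Order.coheight x = (IsLocalRing.maximalIdeal B).height := by
  have := wellFoundedGT_primeSpectrum (A := B)
  have := wellFoundedLT_primeSpectrum (A := B)
  have h1 := h.height_add_coheight orderHeight_ne_top (IsLocalRing.closedPoint B) le_closedPoint x
  rw [h1, ← PrimeSpectrum.height_eq_orderHeight]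
  rfl

theorem isEquidim_of_htCond (h : HtCond (PrimeSpectrum B)) : EGA4.IsEquidim B := by
  intro p hp
  have hpp : p.IsPrime := hp.1.1
  have h1 := height_add_coheight_of_htCond h ⟨p, hpp⟩
  rw [← PrimeSpectrum.height_eq_orderHeight] at h1
  have h0 : p.height = 0 := Ideal.height_eq_zero_iff.mpr hp
  have h2 : Order.coheight (⟨p, hpp⟩ : PrimeSpectrum B) = (IsLocalRing.maximalIdeal B).height := by
    rw [← h1]
    show _ = p.height + _
    rw [h0, zero_add]
  have h3 := coheight_eq_ringKrullDim_quotient (⟨p, hpp⟩ : PrimeSpectrum B)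
  rw [h2, IsLocalRing.maximalIdeal_height_eq_ringKrullDim] at h3
  exact h3.symm

end Ring

section Quot

variable {B : Type u} [CommRing B]

theorem map_mk_lt {I X Y : Ideal B} (hIX : I ≤ X) (hIY : I ≤ Y) (h : X < Y) :
    X.map (Ideal.Quotient.mk I) < Y.map (Ideal.Quotient.mk I) := by
  refine lt_of_le_of_ne (Ideal.map_mono h.le) fun heq => h.ne ?_
  have := congrArg (Ideal.comap (Ideal.Quotient.mk I)) heq
  rwa [comap_map_mk_of_le hIX, comap_map_mk_of_le hIY] at this

theorem map_mk_mem_minimalPrimes_map {I J Q : Ideal B} (hIJ : I ≤ J) (hQ : Q ∈ J.minimalPrimes) :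
    Q.map (Ideal.Quotient.mk I) ∈ (J.map (Ideal.Quotient.mk I)).minimalPrimes := by
  have h := Ideal.comap_minimalPrimes_eq_of_surjective (f := Ideal.Quotient.mk I)
    Ideal.Quotient.mk_surjective (J.map (Ideal.Quotient.mk I))
  rw [comap_map_mk_of_le hIJ] at h
  rw [h] at hQ
  obtain ⟨P', hP', rfl⟩ := hQ
  rw [Ideal.map_comap_of_surjective _ Ideal.Quotient.mk_surjective]
  exact hP'

theorem height_map_mk_le_one_of_covBy {p q : PrimeSpectrum B} (hpq : p ⋖ q) :
    (q.asIdeal.map (Ideal.Quotient.mk p.asIdeal)).height ≤ 1 := by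
  have hle : p.asIdeal ≤ q.asIdeal := hpq.le
  have : (q.asIdeal.map (Ideal.Quotient.mk p.asIdeal)).IsPrime := map_mk_isPrime_of_le hle
  rw [show (1 : ℕ∞) = ((1 : ℕ) : ℕ∞) from rfl, Ideal.height_le_iff]
  intro r hr hrq
  let r' : PrimeSpectrum B := ⟨r.comap (Ideal.Quotient.mk p.asIdeal), inferInstance⟩
  have h1 : p ≤ r' := by
    intro x hx
    show Ideal.Quotient.mk p.asIdeal x ∈ r
    rw [Ideal.Quotient.eq_zero_iff_mem.mpr hx]
    exact r.zero_mem
  have h2 : r' < q := by
    have h3 : r'.asIdeal ≤ q.asIdeal := by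
      have := Ideal.comap_mono (f := Ideal.Quotient.mk p.asIdeal) hrq.le
      rwa [comap_map_mk_of_le hle] at this
    refine lt_of_le_of_ne h3 fun heq => hrq.ne ?_
    have h4 : r.comap (Ideal.Quotient.mk p.asIdeal) = q.asIdeal :=
      congrArg PrimeSpectrum.asIdeal heq
    rw [← h4, Ideal.map_comap_of_surjective _ Ideal.Quotient.mk_surjective]
  have h3 : r' = p := by
    by_contra hne
    exact hpq.2 (lt_of_le_of_ne h1 (Ne.symm hne)) h2
  have h4 : r = ⊥ := by
    rw [← Ideal.map_comap_of_surjective _ Ideal.Quotient.mk_surjective r]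
    have : r.comap (Ideal.Quotient.mk p.asIdeal) = p.asIdeal := congrArg PrimeSpectrum.asIdeal h3
    rw [this, Ideal.map_quotient_self]
  rw [h4]
  have : Nontrivial (B ⧸ p.asIdeal) := Ideal.Quotient.nontrivial_iff.mpr p.2.ne_top
  simp

end Quot

section Descent

variable {A B : Type u} [CommRing A] [CommRing B] [IsNoetherianRing A] [IsNoetherianRing B]
  [IsLocalRing A] [IsLocalRing B] [Algebra A B] [IsLocalHom (algebraMap A B)] [Module.Flat A B]

open Groth.Agent.H72.EquidimFlat

theorem exists_minimalPrimes_map (p : Ideal A) [p.IsPrime] :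
    ∃ Q, Q ∈ (p.map (algebraMap A B)).minimalPrimes := by
  have hne := map_ne_top (B := B) p
  obtain ⟨M, hM, hle⟩ := Ideal.exists_le_maximal _ hne
  obtain ⟨Q, hQ, -⟩ := Ideal.exists_minimalPrimes_le hle
  exact ⟨Q, hQ⟩

theorem flat_quotient (I : Ideal A) : Module.Flat (A ⧸ I) (B ⧸ I.map (algebraMap A B)) :=
  Module.Flat.of_linearEquiv
    (Algebra.TensorProduct.quotIdealMapEquivQuotTensor B I).toLinearEquiv

theorem htCond_descent (hB : HtCond (PrimeSpectrum B)) : HtCond (PrimeSpectrum A) := by
  intro p q hpq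
  have hle : p.asIdeal ≤ q.asIdeal := hpq.le
  obtain ⟨Q, hQ⟩ := exists_minimalPrimes_map (B := B) q.asIdeal
  have hQp : Q.IsPrime := hQ.1.1
  have hpQ : p.asIdeal.map (algebraMap A B) ≤ Q := (Ideal.map_mono hle).trans hQ.1.2
  obtain ⟨P, hP, hPQ⟩ := Ideal.exists_minimalPrimes_le hpQ
  have hPp : P.IsPrime := hP.1.1
  have htQ := height_eq_of_mem_minimalPrimes_map q.asIdeal Q hQ
  have htP := height_eq_of_mem_minimalPrimes_map p.asIdeal P hP
  have hcQ := comap_eq_of_mem_minimalPrimes_map q.asIdeal Q hQ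
  have hcP := comap_eq_of_mem_minimalPrimes_map p.asIdeal P hP
  let P' : PrimeSpectrum B := ⟨P, hPp⟩
  let Q' : PrimeSpectrum B := ⟨Q, hQp⟩
  have hlt : P < Q := by
    refine lt_of_le_of_ne hPQ fun h => ?_
    rw [h, hcQ] at hcP
    exact hpq.lt.ne (PrimeSpectrum.ext hcP.symm)
  -- the quotient situation
  have hflat : Module.Flat (A ⧸ p.asIdeal) (B ⧸ p.asIdeal.map (algebraMap A B)) :=
    flat_quotient p.asIdeal
  have hqbar : (q.asIdeal.map (Ideal.Quotient.mk p.asIdeal)).IsPrime := map_mk_isPrime_of_le hle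
  have hmapeq : (q.asIdeal.map (Ideal.Quotient.mk p.asIdeal)).map
      (algebraMap (A ⧸ p.asIdeal) (B ⧸ p.asIdeal.map (algebraMap A B))) =
      (q.asIdeal.map (algebraMap A B)).map
        (Ideal.Quotient.mk (p.asIdeal.map (algebraMap A B))) := by
    rw [Ideal.map_map, Ideal.map_map]
    congr 1
  have hQbar : Q.map (Ideal.Quotient.mk (p.asIdeal.map (algebraMap A B))) ∈
      ((q.asIdeal.map (Ideal.Quotient.mk p.asIdeal)).map
        (algebraMap (A ⧸ p.asIdeal) (B ⧸ p.asIdeal.map (algebraMap A B)))).minimalPrimes := by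
    rw [hmapeq]
    exact map_mk_mem_minimalPrimes_map (Ideal.map_mono hle) hQ
  have hht := height_eq_of_mem_minimalPrimes_map _ _ hQbar
  have hht1 : (Q.map (Ideal.Quotient.mk (p.asIdeal.map (algebraMap A B)))).height ≤ 1 := by
    rw [hht]
    exact height_map_mk_le_one_of_covBy hpq
  have hIP : p.asIdeal.map (algebraMap A B) ≤ P := hP.1.2
  have hPbar : (P.map (Ideal.Quotient.mk (p.asIdeal.map (algebraMap A B)))).IsPrime :=
    map_mk_isPrime_of_le hIP
  have hQbarp : (Q.map (Ideal.Quotient.mk (p.asIdeal.map (algebraMap A B)))).IsPrime :=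
    map_mk_isPrime_of_le hpQ
  have hcovbar : (⟨_, hPbar⟩ : PrimeSpectrum (B ⧸ p.asIdeal.map (algebraMap A B))) ⋖
      ⟨_, hQbarp⟩ :=
    Groth.Agent.H72.EquidimS2.covBy_of_lt_of_height_le_one (map_mk_lt hIP hpQ hlt) hht1
  have hcov : P' ⋖ Q' := by
    refine ⟨hlt, fun R hPR hRQ => ?_⟩
    have hIR : p.asIdeal.map (algebraMap A B) ≤ R.asIdeal := hIP.trans hPR.le
    have hRbar : (R.asIdeal.map (Ideal.Quotient.mk (p.asIdeal.map (algebraMap A B)))).IsPrime :=
      map_mk_isPrime_of_le hIR
    exact hcovbar.2 (c := ⟨_, hRbar⟩) (map_mk_lt hIP hIR hPR) (map_mk_lt hIR hpQ hRQ)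
  have hfin := hB P' Q' hcov
  rw [← PrimeSpectrum.height_eq_orderHeight, ← PrimeSpectrum.height_eq_orderHeight] at hfin ⊢
  show q.asIdeal.height = p.asIdeal.height + 1
  rw [← htQ, ← htP]
  exact hfin

end Descent

end Groth.Agent.H29.CatFlat
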