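import Mathlib
import Groth.Agent.H24.Catenary

set_option autoImplicit false
set_option linter.unusedSectionVars false
universe u

open Groth.Agent.H24

namespace Groth.Agent.H29.RelHeight

section Poset

variable {α : Type*} [Preorder α]

theorem height_head_add_le (l : LTSeries α) :
    ∀ (n : ℕ) (hn : n < l.length + 1), Order.height l.head + n ≤ Order.height (l ⟨n, hn⟩) := by
  intro n
  induction n with
  | zero =>
    intro hn
    simp only [Nat.cast_zero, add_zero]
    exact le_rfl
  | succ n ih =>
    intro hn
    have hn' : n < l.length := by omega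
    have h1 : l ⟨n, by omega⟩ < l ⟨n + 1, hn⟩ := l.step ⟨n, hn'⟩
    have h2 := Order.height_add_one_le h1
    calc Order.height l.head + ((n + 1 : ℕ) : ℕ∞) = Order.height l.head + n + 1 := by
          push_cast; ring
      _ ≤ Order.height (l ⟨n, by omega⟩) + 1 := by gcongr; exact ih (by omega)
      _ ≤ _ := h2

theorem height_head_add_length_le (l : LTSeries α) :
    Order.height l.head + l.length ≤ Order.height l.last :=
  height_head_add_le l l.length (by omega)

end Poset

section Ring

variable {R : Type u} [CommRing R]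

/-- `comap` of `q/s` along `R/p → R/s` is `q/p`. -/
theorem comap_factor_map_mk {p s q : Ideal R} (hps : p ≤ s) (hsq : s ≤ q) :
    (q.map (Ideal.Quotient.mk s)).comap (Ideal.Quotient.factor hps) =
      q.map (Ideal.Quotient.mk p) := by
  ext y
  obtain ⟨y, rfl⟩ := Ideal.Quotient.mk_surjective y
  simp only [Ideal.mem_comap, Ideal.Quotient.factor_mk]
  rw [Ideal.mem_map_iff_of_surjective _ Ideal.Quotient.mk_surjective,
    Ideal.mem_map_iff_of_surjective _ Ideal.Quotient.mk_surjective]
  constructor
  · rintro ⟨z, hz, hzy⟩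
    rw [Ideal.Quotient.eq] at hzy
    have hy : y ∈ q := by
      have := q.sub_mem hz (hsq hzy)
      simpa using this
    exact ⟨y, hy, rfl⟩
  · rintro ⟨z, hz, hzy⟩
    rw [Ideal.Quotient.eq] at hzy
    have hy : y ∈ q := by
      have := q.sub_mem hz (hps.trans hsq hzy)
      simpa using this
    exact ⟨y, hy, rfl⟩

/-- Superadditivity of relative heights: `ht(s/p) + ht(q/s) ≤ ht(q/p)`. -/
theorem height_map_mk_add_le (p s q : Ideal R) [p.IsPrime] [s.IsPrime] [q.IsPrime]
    (hps : p ≤ s) (hsq : s ≤ q) :
    (s.map (Ideal.Quotient.mk p)).height + (q.map (Ideal.Quotient.mk s)).height ≤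
      (q.map (Ideal.Quotient.mk p)).height := by
  have hsp : (s.map (Ideal.Quotient.mk p)).IsPrime := map_mk_isPrime_of_le hps
  have hqs : (q.map (Ideal.Quotient.mk s)).IsPrime := map_mk_isPrime_of_le hsq
  have hqp : (q.map (Ideal.Quotient.mk p)).IsPrime := map_mk_isPrime_of_le (hps.trans hsq)
  let χ : R ⧸ p →+* R ⧸ s := Ideal.Quotient.factor hps
  have hχ : Function.Surjective χ := Ideal.Quotient.factor_surjective hps
  have hmono : StrictMono (PrimeSpectrum.comap χ) := by
    intro a b hab
    refine lt_of_le_of_ne (Ideal.comap_mono hab.le) fun h => hab.ne ?_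
    exact PrimeSpectrum.comap_injective_of_surjective χ hχ h
  let sp : PrimeSpectrum (R ⧸ p) := ⟨_, hsp⟩
  let qs : PrimeSpectrum (R ⧸ s) := ⟨_, hqs⟩
  let qp : PrimeSpectrum (R ⧸ p) := ⟨_, hqp⟩
  have hcomap : PrimeSpectrum.comap χ qs = qp :=
    PrimeSpectrum.ext (comap_factor_map_mk hps hsq)
  rw [PrimeSpectrum.height_eq_orderHeight sp, PrimeSpectrum.height_eq_orderHeight qs,
    PrimeSpectrum.height_eq_orderHeight qp]
  -- reduce to natural numbers below `height qs`
  suffices h : ∀ m : ℕ, (m : ℕ∞) ≤ Order.height qs → Order.height sp + m ≤ Order.height qp by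
    rcases eq_or_ne (Order.height qs) ⊤ with htop | hne
    · have h1 : Order.height qp = ⊤ := by
        rw [eq_top_iff, ← ENat.forall_natCast_le_iff_le]
        intro m _
        exact le_trans le_add_self (h m (by rw [htop]; exact le_top))
      rw [h1]
      exact le_top
    · obtain ⟨m, hm⟩ := ENat.ne_top_iff_exists.mp hne
      rw [← hm]
      exact h m (by rw [hm])
  intro m hm
  obtain ⟨l, hlast, hlen⟩ := Order.exists_series_of_le_height qs hm
  let l' : LTSeries (PrimeSpectrum (R ⧸ p)) := l.map (PrimeSpectrum.comap χ) hmono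
  have hl'last : l'.last = qp := by
    rw [LTSeries.last_map, hlast, hcomap]
  have hl'len : l'.length = m := by
    rw [LTSeries.map_length, hlen]
  have hhead : sp ≤ l'.head := by
    rw [LTSeries.head_map]
    intro y hy
    show χ y ∈ l.head.asIdeal
    have hy' : y ∈ s.map (Ideal.Quotient.mk p) := hy
    rw [Ideal.mem_map_iff_of_surjective _ Ideal.Quotient.mk_surjective] at hy'
    obtain ⟨z, hz, rfl⟩ := hy'
    have : χ (Ideal.Quotient.mk p z) = 0 := by
      simp only [χ, Ideal.Quotient.factor_mk]
      exact Ideal.Quotient.eq_zero_iff_mem.mpr hz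
    rw [this]
    exact l.head.asIdeal.zero_mem
  have h1 := height_head_add_length_le l'
  rw [hl'last, hl'len] at h1
  exact le_trans (add_le_add_left (Order.height_mono hhead) _) h1

end Ring

end Groth.Agent.H29.RelHeight
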