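import Mathlib
import Groth.Prelude.Def_Found
import Groth.Agent.S4730
import Groth.Agent.H62.CatenRing
import Groth.Agent.H62.CatenDim
import Groth.Agent.H29.RelHeight
import Groth.Agent.H29.CatFlat

/-!
# The dimension formula (Matsumura 15.5 / 15.6)

* `height_add_height_map_mk_le` : `ht x + ht (y/x) ≤ ht y`.
* `height_eq_add_of_catPair'` : equality when the relevant pairs are catenary (in a domain).
-/

set_option autoImplicit false
set_option linter.unusedSectionVars false
set_option linter.style.haveILetI false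
universe u

open Groth.Agent.H24 Groth.Agent.H62

namespace Groth.Agent.H29.DimFormula

section Cat

variable {A : Type u} [CommRing A]

/-- `ht x + ht (y/x) ≤ ht y`. -/
theorem height_add_height_map_mk_le (x y : Ideal A) [x.IsPrime] [y.IsPrime] (hxy : x ≤ y) :
    x.height + (y.map (Ideal.Quotient.mk x)).height ≤ y.height := by
  have hyx : (y.map (Ideal.Quotient.mk x)).IsPrime := map_mk_isPrime_of_le hxy
  let X : PrimeSpectrum A := ⟨x, inferInstance⟩
  let Y : PrimeSpectrum A := ⟨y, inferInstance⟩
  let yx : PrimeSpectrum (A ⧸ x) := ⟨_, hyx⟩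
  have hcomap : PrimeSpectrum.comap (Ideal.Quotient.mk x) yx = Y :=
    PrimeSpectrum.ext (comap_map_mk_of_le hxy)
  rw [PrimeSpectrum.height_eq_orderHeight X, PrimeSpectrum.height_eq_orderHeight Y,
    PrimeSpectrum.height_eq_orderHeight yx]
  suffices h : ∀ m : ℕ, (m : ℕ∞) ≤ Order.height yx → Order.height X + m ≤ Order.height Y by
    rcases eq_or_ne (Order.height yx) ⊤ with htop | hne
    · have h1 : Order.height Y = ⊤ := by
        rw [eq_top_iff, ← ENat.forall_natCast_le_iff_le]
        intro m _
        exact le_trans le_add_self (h m (by rw [htop]; exact le_top))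
      rw [h1]
      exact le_top
    · obtain ⟨m, hm⟩ := ENat.ne_top_iff_exists.mp hne
      rw [← hm]
      exact h m (by rw [hm])
  intro m hm
  obtain ⟨l, hlast, hlen⟩ := Order.exists_series_of_le_height yx hm
  let l' : LTSeries (PrimeSpectrum A) := l.map (PrimeSpectrum.comap (Ideal.Quotient.mk x))
    (strictMono_comap_mk x)
  have hl'last : l'.last = Y := by
    rw [LTSeries.last_map, hlast, hcomap]
  have hl'len : l'.length = m := by
    rw [LTSeries.map_length, hlen]
  have hhead : X ≤ l'.head := by
    rw [LTSeries.head_map]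
    intro z hz
    show Ideal.Quotient.mk x z ∈ l.head.asIdeal
    have : Ideal.Quotient.mk x z = 0 := Ideal.Quotient.eq_zero_iff_mem.mpr hz
    rw [this]
    exact l.head.asIdeal.zero_mem
  have h1 := Groth.Agent.H29.RelHeight.height_head_add_length_le l'
  rw [hl'last, hl'len] at h1
  exact le_trans (add_le_add_left (Order.height_mono hhead) _) h1

/-- The codimension of `x` in `y` is at most the height of `y/x`. -/
theorem cod_le_height_map_mk (x y : PrimeSpectrum A) (hxy : x ≤ y) :
    cod x y ≤ (y.asIdeal.map (Ideal.Quotient.mk x.asIdeal)).height := by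
  have hyx : (y.asIdeal.map (Ideal.Quotient.mk x.asIdeal)).IsPrime := map_mk_isPrime_of_le hxy
  let yx : PrimeSpectrum (A ⧸ x.asIdeal) := ⟨_, hyx⟩
  rw [PrimeSpectrum.height_eq_orderHeight yx]
  refine iSup₂_le fun s hs => ?_
  obtain ⟨hs1, hs2⟩ := hs
  have hle : ∀ i, x.asIdeal ≤ (s i).asIdeal := fun i => by
    have := LTSeries.head_le_apply s i
    rw [hs1] at this
    exact this
  let s' : LTSeries (PrimeSpectrum (A ⧸ x.asIdeal)) :=
    LTSeries.mk s.length
      (fun i => ⟨(s i).asIdeal.map (Ideal.Quotient.mk x.asIdeal),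
        map_mk_isPrime_of_le (hle i)⟩)
      (by
        intro i j hij
        exact Groth.Agent.H29.CatFlat.map_mk_lt (hle i) (hle j) (s.strictMono hij))
  have hlast : s'.last ≤ yx := by
    show (s.last).asIdeal.map (Ideal.Quotient.mk x.asIdeal) ≤ _
    exact Ideal.map_mono hs2
  have h1 : (s'.length : ℕ∞) ≤ Order.height s'.last := Order.length_le_height_last
  exact le_trans h1 (Order.height_mono hlast)

variable [IsDomain A]

/-- In a domain, `cod ⊥ x` is the height of `x`. -/
theorem cod_bot_eq_height (x : PrimeSpectrum A) :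
    cod (⊥ : PrimeSpectrum A) x = Order.height x := by
  apply le_antisymm
  · refine iSup₂_le fun s hs => ?_
    exact le_trans Order.length_le_height_last (Order.height_mono hs.2)
  · rw [Order.height_le_iff]
    intro p hp
    by_cases h : p.head = ⊥
    · exact le_iSup₂_of_le p ⟨h, hp⟩ le_rfl
    · have hlt : (⊥ : PrimeSpectrum A) < p.head := bot_lt_iff_ne_bot.mpr h
      refine le_iSup₂_of_le (p.cons ⊥ hlt) ⟨by simp, by simpa using hp⟩ ?_
      simp

/-- Additivity of heights for catenary pairs in a domain. -/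
theorem height_eq_add_of_catPair' (x y : PrimeSpectrum A) (hxy : x ≤ y)
    (h1 : CatPair' (⊥ : PrimeSpectrum A) x) (h2 : CatPair' x y)
    (h3 : CatPair' (⊥ : PrimeSpectrum A) y) :
    y.asIdeal.height =
      x.asIdeal.height + (y.asIdeal.map (Ideal.Quotient.mk x.asIdeal)).height := by
  apply le_antisymm
  · have hadd := cod_add (bot_le : (⊥ : PrimeSpectrum A) ≤ x) hxy
      (catPair_iff_catPair'.2 h1) (catPair_iff_catPair'.2 h2) (catPair_iff_catPair'.2 h3)
    rw [cod_bot_eq_height, cod_bot_eq_height] at hadd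
    rw [PrimeSpectrum.height_eq_orderHeight y, PrimeSpectrum.height_eq_orderHeight x, hadd]
    gcongr
    exact cod_le_height_map_mk x y hxy
  · exact height_add_height_map_mk_le x.asIdeal y.asIdeal hxy

end Cat

section Helpers

variable {R A B : Type u} [CommRing R] [CommRing A] [CommRing B] [Algebra R A] [Algebra R B]

/-- The residue algebra of `q.comap φ` is isomorphic to that of `q` for surjective `φ`, so the
transcendence degrees over `R ⧸ p` agree. -/
theorem trdeg_quotient_comap_eq (φ : A →ₐ[R] B) (hφ : Function.Surjective φ) (p : Ideal R)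
    (q : Ideal B) [q.LiesOver p] :
    haveI : (q.comap φ).LiesOver p := inferInstance
    Algebra.trdeg (R ⧸ p) (A ⧸ q.comap φ) = Algebra.trdeg (R ⧸ p) (B ⧸ q) := by
  haveI : (q.comap φ).LiesOver p := inferInstance
  let ψ0 : A ⧸ q.comap φ →+* B ⧸ q := Ideal.quotientMap q (φ : A →+* B) le_rfl
  have hinj : Function.Injective ψ0 := Ideal.quotientMap_injective
  have hsurj : Function.Surjective ψ0 :=
    Ideal.quotientMap_surjective (f := (φ : A →+* B)) hφ
  let ψ : (A ⧸ q.comap φ) →ₐ[R ⧸ p] (B ⧸ q) :=
    { ψ0 with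
      commutes' := by
        intro a
        obtain ⟨r, rfl⟩ := Ideal.Quotient.mk_surjective a
        simp only [Ideal.Quotient.algebraMap_mk_of_liesOver]
        show ψ0 (Ideal.Quotient.mk _ (algebraMap R A r)) = _
        simp only [ψ0, Ideal.quotientMap_mk, RingHom.coe_coe, AlgHom.commutes] }
  exact (AlgEquiv.ofBijective ψ ⟨hinj, hsurj⟩).trdeg_eq

omit [Algebra R A] [Algebra R B] in
/-- Heights along a surjection: `ht q = ht (φ⁻¹ q / ker φ)`. -/
theorem height_eq_height_comap_map_mk (φ : A →+* B) (hφ : Function.Surjective φ) (q : Ideal B) :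
    q.height = ((q.comap φ).map (Ideal.Quotient.mk (RingHom.ker φ))).height := by
  let e : A ⧸ RingHom.ker φ ≃+* B := RingHom.quotientKerEquivOfSurjective hφ
  rw [← e.height_comap q]
  congr 1
  ext z
  obtain ⟨a, rfl⟩ := Ideal.Quotient.mk_surjective z
  have hle : RingHom.ker φ ≤ q.comap φ := fun y hy => by
    rw [Ideal.mem_comap, (RingHom.mem_ker).1 hy]
    exact q.zero_mem
  rw [Ideal.mem_quotient_iff_mem hle, Ideal.mem_comap, Ideal.mem_comap]
  rfl

end Helpers

section OneGen

open Polynomial

variable {R S : Type u} [CommRing R] [IsDomain R] [IsNoetherianRing R] [CommRing S] [IsDomain S]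
  [Algebra R S] [FaithfulSMul R S]

/-- The one-generator step of the dimension formula: `S = R[x]`. -/
theorem oneGen (x : S) (hx : Algebra.adjoin R {x} = ⊤) (p : Ideal R) [p.IsPrime]
    (q : Ideal S) [q.IsPrime] [q.LiesOver p] :
    ((q.height : Cardinal.{u}) + Algebra.trdeg (R ⧸ p) (S ⧸ q) ≤
        (p.height : Cardinal.{u}) + Algebra.trdeg R S) ∧
      ((∀ a b : PrimeSpectrum R[X], a ≤ b →
          b.asIdeal ≤ q.comap (aeval x : R[X] →ₐ[R] S) → CatPair' a b) →
        (q.height : Cardinal.{u}) + Algebra.trdeg (R ⧸ p) (S ⧸ q) =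
          (p.height : Cardinal.{u}) + Algebra.trdeg R S) := by
  classical
  set φ : R[X] →ₐ[R] S := aeval x with hφdef
  have hφ : Function.Surjective φ := by
    rw [← AlgHom.range_eq_top, ← Algebra.adjoin_singleton_eq_range_aeval, hx]
  set Q : Ideal R[X] := RingHom.ker (φ : R[X] →+* S) with hQ
  set qt : Ideal R[X] := q.comap φ with hqt
  haveI hqtp : qt.IsPrime := Ideal.IsPrime.comap φ
  haveI hqtl : qt.LiesOver p := inferInstance
  have hS := Groth.Agent.S4730.result R p qt
  have htr : Algebra.trdeg (R ⧸ p) (R[X] ⧸ qt) = Algebra.trdeg (R ⧸ p) (S ⧸ q) :=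
    trdeg_quotient_comap_eq φ hφ p q
  have hht : q.height = (qt.map (Ideal.Quotient.mk Q)).height :=
    height_eq_height_comap_map_mk (φ : R[X] →+* S) hφ q
  have hQle : Q ≤ qt := fun y hy => by
    rw [hqt, Ideal.mem_comap]
    have : φ y = 0 := hy
    rw [this]
    exact q.zero_mem
  haveI hQprime : Q.IsPrime := RingHom.ker_isPrime _
  haveI : IsNoetherianRing S := isNoetherianRing_of_surjective R[X] S (φ : R[X] →+* S) hφ
  rw [htr] at hS
  -- natural numbers
  obtain ⟨a, ha⟩ := ENat.ne_top_iff_exists.mp (Ideal.height_ne_top_of_isPrime (I := p))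
  obtain ⟨b, hb⟩ := ENat.ne_top_iff_exists.mp (Ideal.height_ne_top_of_isPrime (I := q))
  obtain ⟨c, hc⟩ := ENat.ne_top_iff_exists.mp (Ideal.height_ne_top_of_isPrime (I := qt))
  rw [← ha, ← hc] at hS
  rw [← ha, ← hb]
  have htfin : Algebra.trdeg (R ⧸ p) (S ⧸ q) < Cardinal.aleph0 := by
    have h1 : Algebra.trdeg (R ⧸ p) (S ⧸ q) ≤ ((c : ℕ∞) : Cardinal.{u}) +
        Algebra.trdeg (R ⧸ p) (S ⧸ q) := le_add_self
    rw [← hS] at h1
    refine lt_of_le_of_lt h1 ?_
    simp only [Cardinal.ofENat_nat]
    exact_mod_cast Cardinal.natCast_lt_aleph0 (n := a + 1)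
  obtain ⟨t, ht⟩ := Cardinal.lt_aleph0.mp htfin
  rw [ht] at hS ⊢
  simp only [Cardinal.ofENat_nat] at hS ⊢
  have hS' : a + 1 = c + t := by exact_mod_cast hS
  by_cases hQ0 : Q = ⊥
  · -- `φ` is an isomorphism
    have hinj : Function.Injective φ := (RingHom.injective_iff_ker_eq_bot _).2 hQ0
    let e : R[X] ≃ₐ[R] S := AlgEquiv.ofBijective φ ⟨hinj, hφ⟩
    have hT : Algebra.trdeg R S = 1 := by
      rw [← e.trdeg_eq]
      exact Polynomial.trdeg_of_isDomain
    have hq : q.height = qt.height := by
      have := (e : R[X] ≃+* S).height_comap q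
      rw [← this]
      rfl
    rw [← hb, ← hc] at hq
    have hbc : b = c := by exact_mod_cast hq
    rw [hT]
    have : (b : Cardinal.{u}) + t = a + 1 := by
      rw [hbc]
      exact_mod_cast hS'.symm
    exact ⟨this.le, fun _ => this⟩
  · -- `x` is algebraic over `R`
    obtain ⟨f, hfQ, hf0⟩ := Submodule.exists_mem_ne_zero_of_ne_bot hQ0
    have hxalg : IsAlgebraic R x := ⟨f, hf0, hfQ⟩
    have halg : Algebra.IsAlgebraic R S := by
      refine ⟨fun y => ?_⟩
      have := (Algebra.isAlgebraic_adjoin_singleton_iff (R := R) (s := x)).mpr hxalg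
      rw [hx] at this
      exact this y Algebra.mem_top
    have hT : Algebra.trdeg R S = 0 := trdeg_eq_zero
    have h1Q : 1 ≤ Q.height := by
      rw [Order.one_le_iff_pos, pos_iff_ne_zero, Ne, Ideal.height_eq_zero_iff_eq_bot]
      exact hQ0
    have hadd := height_add_height_map_mk_le Q qt hQle
    rw [← hht, ← hb, ← hc] at hadd
    have hbc : b + 1 ≤ c := by
      have h2 : (1 : ℕ∞) + b ≤ c := le_trans (add_le_add_left h1Q _) hadd
      have h3 : ((1 + b : ℕ) : ℕ∞) ≤ c := by exact_mod_cast h2
      have h4 : 1 + b ≤ c := by exact_mod_cast h3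
      omega
    rw [hT, add_zero]
    refine ⟨by exact_mod_cast (show b + t ≤ a by omega), fun hcat => ?_⟩
    -- the catenary case
    have hQ1 : Q.height = 1 := by
      refine le_antisymm ?_ h1Q
      -- apply S4730 to `Q` over `⊥`
      haveI : Q.LiesOver (⊥ : Ideal R) := by
        constructor
        ext r
        simp only [Ideal.mem_bot, Ideal.under_def, Ideal.mem_comap]
        constructor
        · rintro rfl; simp
        · intro hr
          have h0 : φ (algebraMap R R[X] r) = 0 := hr
          rw [AlgHom.commutes] at h0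
          exact (FaithfulSMul.algebraMap_injective R S) (by rw [h0, map_zero])
      have h5 := Groth.Agent.S4730.result R (⊥ : Ideal R) Q
      rw [Ideal.height_bot] at h5
      have h6 : ((Q.height : ℕ∞) : Cardinal.{u}) ≤ 1 := by
        have : ((Q.height : ℕ∞) : Cardinal.{u}) ≤ (Q.height : Cardinal.{u}) +
            Algebra.trdeg (R ⧸ (⊥ : Ideal R)) (R[X] ⧸ Q) := le_self_add
        rw [← h5] at this
        simpa using this
      have h7 : ((Q.height : ℕ∞) : Cardinal.{u}) ≤ ((1 : ℕ∞) : Cardinal.{u}) := by simpa using h6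
      exact Cardinal.ofENat_le_ofENat.mp h7
    let X0 : PrimeSpectrum R[X] := ⟨Q, inferInstance⟩
    let Y0 : PrimeSpectrum R[X] := ⟨qt, inferInstance⟩
    have hXY : X0 ≤ Y0 := hQle
    have heq := height_eq_add_of_catPair' X0 Y0 hXY (hcat ⊥ X0 bot_le hQle)
      (hcat X0 Y0 hXY le_rfl) (hcat ⊥ Y0 bot_le le_rfl)
    change qt.height = Q.height + (qt.map (Ideal.Quotient.mk Q)).height at heq
    rw [← hht, hQ1, ← hb, ← hc] at heq
    have hcb : c = 1 + b := by exact_mod_cast heq
    exact_mod_cast (show b + t = a by omega)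

end OneGen

section Induction

open Polynomial

/-- The catenary hypothesis under which the dimension formula is an equality: every finite type
`R`-algebra embedded in `S[X]` is "catenary below every prime lying over `p`". -/
def CatHyp (R S : Type u) [CommRing R] [CommRing S] [Algebra R S] (p : Ideal R) : Prop :=
  ∀ (A' : Type u) [CommRing A'] [Algebra R A'] (f : A' →ₐ[R] S[X]), Function.Injective f →
    Algebra.FiniteType R A' → ∀ (P : Ideal A'), P.IsPrime → P.LiesOver p →
      ∀ a b : PrimeSpectrum A', a ≤ b → b.asIdeal ≤ P → CatPair' a b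

/-- The tower of residue algebras. -/
theorem isScalarTower_quotient {R R' S : Type u} [CommRing R] [CommRing R'] [CommRing S]
    [Algebra R R'] [Algebra R' S] [Algebra R S] [IsScalarTower R R' S]
    (p : Ideal R) (q' : Ideal R') (q : Ideal S) [q'.LiesOver p] [q.LiesOver q'] [q.LiesOver p] :
    IsScalarTower (R ⧸ p) (R' ⧸ q') (S ⧸ q) := by
  refine IsScalarTower.of_algebraMap_eq ?_
  intro a
  obtain ⟨r, rfl⟩ := Ideal.Quotient.mk_surjective a
  simp only [Ideal.Quotient.algebraMap_mk_of_liesOver]
  rw [IsScalarTower.algebraMap_apply R R' S]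

end Induction

section Step

open Polynomial

variable {R R' S : Type u} [CommRing R] [IsDomain R] [IsNoetherianRing R]
  [CommRing R'] [IsDomain R'] [IsNoetherianRing R'] [CommRing S] [IsDomain S]
  [Algebra R R'] [Algebra R' S] [Algebra R S] [IsScalarTower R R' S]
  [FaithfulSMul R R'] [FaithfulSMul R' S] [FaithfulSMul R S] [Algebra.FiniteType R R']

theorem catHyp_of_tower (p : Ideal R) (h : CatHyp R S p) : CatHyp R R' p := by
  intro A' _ _ f hf hft P hP hPl a b hab hb
  let g : R'[X] →ₐ[R] S[X] := Polynomial.mapAlgHom (IsScalarTower.toAlgHom R R' S)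
  have hg : Function.Injective g := by
    have : Function.Injective (algebraMap R' S) := FaithfulSMul.algebraMap_injective R' S
    exact Polynomial.map_injective (algebraMap R' S) this
  exact h A' (g.comp f) (hg.comp hf) hft P hP hPl a b hab hb

theorem catPair'_polynomial_of_catHyp (p : Ideal R) (h : CatHyp R S p) (P : Ideal R'[X])
    [P.IsPrime] [P.LiesOver p] (a b : PrimeSpectrum R'[X]) (hab : a ≤ b) (hb : b.asIdeal ≤ P) :
    CatPair' a b := by
  let g : R'[X] →ₐ[R] S[X] := Polynomial.mapAlgHom (IsScalarTower.toAlgHom R R' S)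
  have hg : Function.Injective g := by
    have : Function.Injective (algebraMap R' S) := FaithfulSMul.algebraMap_injective R' S
    exact Polynomial.map_injective (algebraMap R' S) this
  have hft : Algebra.FiniteType R R'[X] :=
    Algebra.FiniteType.trans (inferInstance : Algebra.FiniteType R R')
      (inferInstance : Algebra.FiniteType R' R'[X])
  exact h R'[X] g hg hft P inferInstance inferInstance a b hab hb

theorem step (x : S) (hx : Algebra.adjoin R' {x} = ⊤) (p : Ideal R) [p.IsPrime]
    (q : Ideal S) [q.IsPrime] [q.LiesOver p] (q' : Ideal R') [q'.IsPrime] [q'.LiesOver p]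
    [q.LiesOver q']
    (ih : ((q'.height : Cardinal.{u}) + Algebra.trdeg (R ⧸ p) (R' ⧸ q') ≤
        (p.height : Cardinal.{u}) + Algebra.trdeg R R') ∧
      (CatHyp R R' p → (q'.height : Cardinal.{u}) + Algebra.trdeg (R ⧸ p) (R' ⧸ q') =
        (p.height : Cardinal.{u}) + Algebra.trdeg R R')) :
    ((q.height : Cardinal.{u}) + Algebra.trdeg (R ⧸ p) (S ⧸ q) ≤
        (p.height : Cardinal.{u}) + Algebra.trdeg R S) ∧
      (CatHyp R S p → (q.height : Cardinal.{u}) + Algebra.trdeg (R ⧸ p) (S ⧸ q) =
        (p.height : Cardinal.{u}) + Algebra.trdeg R S) := by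
  have hone := oneGen (R := R') (S := S) x hx q' q
  haveI : IsScalarTower (R ⧸ p) (R' ⧸ q') (S ⧸ q) := isScalarTower_quotient p q' q
  have hT : Algebra.trdeg R R' + Algebra.trdeg R' S = Algebra.trdeg R S :=
    trdeg_add_eq R R'
  haveI : IsDomain (S ⧸ q) := Ideal.Quotient.isDomain q
  have ht : Algebra.trdeg (R ⧸ p) (R' ⧸ q') + Algebra.trdeg (R' ⧸ q') (S ⧸ q) =
      Algebra.trdeg (R ⧸ p) (S ⧸ q) :=
    trdeg_add_eq (R ⧸ p) (R' ⧸ q')
  constructor
  · calc (q.height : Cardinal.{u}) + Algebra.trdeg (R ⧸ p) (S ⧸ q)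
        = ((q.height : Cardinal.{u}) + Algebra.trdeg (R' ⧸ q') (S ⧸ q)) +
            Algebra.trdeg (R ⧸ p) (R' ⧸ q') := by rw [← ht]; ring
      _ ≤ ((q'.height : Cardinal.{u}) + Algebra.trdeg R' S) +
            Algebra.trdeg (R ⧸ p) (R' ⧸ q') := add_le_add_left hone.1 _
      _ = ((q'.height : Cardinal.{u}) + Algebra.trdeg (R ⧸ p) (R' ⧸ q')) +
            Algebra.trdeg R' S := by ring
      _ ≤ ((p.height : Cardinal.{u}) + Algebra.trdeg R R') + Algebra.trdeg R' S :=
          add_le_add_left ih.1 _
      _ = (p.height : Cardinal.{u}) + Algebra.trdeg R S := by rw [← hT]; ring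
  · intro hcat
    have h1 := ih.2 (catHyp_of_tower p hcat)
    haveI hPl : (q.comap (aeval x : R'[X] →ₐ[R'] S)).LiesOver p :=
      Ideal.LiesOver.trans (q.comap (aeval x : R'[X] →ₐ[R'] S)) q' p
    have h2 := hone.2 (fun a b hab hb =>
      catPair'_polynomial_of_catHyp (R' := R') p hcat (q.comap (aeval x : R'[X] →ₐ[R'] S))
        a b hab hb)
    calc (q.height : Cardinal.{u}) + Algebra.trdeg (R ⧸ p) (S ⧸ q)
        = ((q.height : Cardinal.{u}) + Algebra.trdeg (R' ⧸ q') (S ⧸ q)) +
            Algebra.trdeg (R ⧸ p) (R' ⧸ q') := by rw [← ht]; ring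
      _ = ((q'.height : Cardinal.{u}) + Algebra.trdeg R' S) +
            Algebra.trdeg (R ⧸ p) (R' ⧸ q') := by rw [h2]
      _ = ((q'.height : Cardinal.{u}) + Algebra.trdeg (R ⧸ p) (R' ⧸ q')) +
            Algebra.trdeg R' S := by ring
      _ = ((p.height : Cardinal.{u}) + Algebra.trdeg R R') + Algebra.trdeg R' S := by rw [h1]
      _ = (p.height : Cardinal.{u}) + Algebra.trdeg R S := by rw [← hT]; ring

end Step

section Main

open Polynomial

/-- The dimension formula: the inequality, and the equality under the catenary hypothesis. -/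
theorem main : ∀ (n : ℕ) (R S : Type u) [CommRing R] [IsDomain R] [IsNoetherianRing R]
    [CommRing S] [IsDomain S] [Algebra R S] [FaithfulSMul R S] (x : Fin n → S)
    (_ : Algebra.adjoin R (Set.range x) = ⊤) (p : Ideal R) [p.IsPrime] (q : Ideal S) [q.IsPrime]
    [q.LiesOver p],
    ((q.height : Cardinal.{u}) + Algebra.trdeg (R ⧸ p) (S ⧸ q) ≤
        (p.height : Cardinal.{u}) + Algebra.trdeg R S) ∧
      (CatHyp R S p → (q.height : Cardinal.{u}) + Algebra.trdeg (R ⧸ p) (S ⧸ q) =
        (p.height : Cardinal.{u}) + Algebra.trdeg R S) := by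
  intro n
  induction n with
  | zero =>
    intro R S _ _ _ _ _ _ _ x hx p _ q _ _
    have h0 : Algebra.adjoin R {(0 : S)} = ⊤ := by
      rw [eq_top_iff, ← hx]
      apply Algebra.adjoin_le
      rintro y ⟨i, rfl⟩
      exact i.elim0
    have hone := oneGen (R := R) (S := S) 0 h0 p q
    refine ⟨hone.1, fun hcat => hone.2 fun a b hab hb => ?_⟩
    exact catPair'_polynomial_of_catHyp (R := R) (R' := R) (S := S) p hcat
      (q.comap (aeval (0 : S) : R[X] →ₐ[R] S)) a b hab hb
  | succ n ih =>
    intro R S _ _ _ _ _ _ _ x hx p _ q _ _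
    let R' : Subalgebra R S := Algebra.adjoin R (Set.range (x ∘ Fin.castSucc))
    have hfg : R'.FG := Subalgebra.fg_def.mpr ⟨_, Set.finite_range _, rfl⟩
    haveI hft : Algebra.FiniteType R R' := (Subalgebra.fg_iff_finiteType R').mp hfg
    haveI : IsNoetherianRing R' := Algebra.FiniteType.isNoetherianRing R R'
    haveI : FaithfulSMul R R' := by
      rw [faithfulSMul_iff_algebraMap_injective]
      intro a b hab
      apply FaithfulSMul.algebraMap_injective R S
      have := congrArg (Subtype.val) hab
      exact this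
    haveI : FaithfulSMul R' S := by
      rw [faithfulSMul_iff_algebraMap_injective]
      exact Subtype.val_injective
    let x' : Fin n → R' := fun i => ⟨x i.castSucc, Algebra.subset_adjoin ⟨i, rfl⟩⟩
    have hx' : Algebra.adjoin R (Set.range x') = ⊤ := by
      apply Subalgebra.map_injective (f := R'.val) Subtype.val_injective
      rw [AlgHom.map_adjoin, Algebra.map_top, Subalgebra.range_val, ← Set.range_comp]
      rfl
    have hlast : Algebra.adjoin R' {x (Fin.last n)} = ⊤ := by
      have hrange : Set.range x = Set.range (x ∘ Fin.castSucc) ∪ {x (Fin.last n)} := by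
        ext y
        constructor
        · rintro ⟨i, rfl⟩
          induction i using Fin.lastCases with
          | last => right; rfl
          | cast i => left; exact ⟨i, rfl⟩
        · rintro (⟨i, rfl⟩ | rfl)
          · exact ⟨_, rfl⟩
          · exact ⟨_, rfl⟩
      have h1 := Algebra.adjoin_union_eq_adjoin_adjoin R (Set.range (x ∘ Fin.castSucc))
        {x (Fin.last n)}
      rw [← hrange, hx] at h1
      apply Subalgebra.restrictScalars_injective R
      rw [Subalgebra.restrictScalars_top]
      exact h1.symm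
    let q' : Ideal R' := q.under R'
    haveI : q'.IsPrime := inferInstance
    haveI : q.LiesOver q' := inferInstance
    haveI : q'.LiesOver p := Ideal.LiesOver.tower_bot q q' p
    exact step (R := R) (R' := R') (S := S) (x (Fin.last n)) hlast p q q'
      (ih R R' x' hx' p q')

end Main

section Corollaries

variable (R S : Type u) [CommRing R] [IsDomain R] [IsNoetherianRing R]
  [CommRing S] [IsDomain S] [Algebra R S] [FaithfulSMul R S] [Algebra.FiniteType R S]
  (p : Ideal R) [p.IsPrime] (q : Ideal S) [q.IsPrime] [q.LiesOver p]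

theorem exists_generators : ∃ (n : ℕ) (x : Fin n → S), Algebra.adjoin R (Set.range x) = ⊤ := by
  classical
  obtain ⟨s, hs⟩ := (Algebra.FiniteType.out : (⊤ : Subalgebra R S).FG)
  refine ⟨s.card, fun i => (s.equivFin.symm i : S), ?_⟩
  have hrange : Set.range (fun i : Fin s.card => (s.equivFin.symm i : S)) = ↑s := by
    ext y
    constructor
    · rintro ⟨i, rfl⟩
      exact (s.equivFin.symm i).2
    · intro hy
      exact ⟨s.equivFin ⟨y, hy⟩, by simp⟩
  rw [hrange, hs]

/-- The dimension formula (inequality). -/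
theorem dimension_formula_le :
    (q.height : Cardinal.{u}) + Algebra.trdeg (R ⧸ p) (S ⧸ q) ≤
      (p.height : Cardinal.{u}) + Algebra.trdeg R S := by
  obtain ⟨n, x, hx⟩ := exists_generators R S
  exact (main n R S x hx p q).1

/-- The dimension formula (equality under the catenary hypothesis). -/
theorem dimension_formula_eq (h : CatHyp R S p) :
    (q.height : Cardinal.{u}) + Algebra.trdeg (R ⧸ p) (S ⧸ q) =
      (p.height : Cardinal.{u}) + Algebra.trdeg R S := by
  obtain ⟨n, x, hx⟩ := exists_generators R S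
  exact (main n R S x hx p q).2 h

omit [IsDomain R] [IsNoetherianRing R] [IsDomain S] [FaithfulSMul R S] [Algebra.FiniteType R S]
  [p.IsPrime] in
theorem catHyp_of_isUniversallyCatenary (hR : CAlg.IsUniversallyCatenary R) : CatHyp R S p := by
  intro A' _ _ f _ hft P _ _ a b hab _
  exact (isCatenary_iff_catPair' A').1 (hR.2 A' hft) a b hab

end Corollaries

end Groth.Agent.H29.DimFormula
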