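import Mathlib
import Groth.Prelude.Def_Found
import Groth.Agent.H29.DimFormula

/-!
# Dimension formula ⇒ universally catenary (EGA IV 5.6.1 c ⇒ b)
-/

set_option autoImplicit false
set_option linter.unusedSectionVars false
set_option linter.style.haveILetI false
universe u

open Groth.Agent.H24 Groth.Agent.H62

namespace Groth.Agent.H29.DimFormula

section Trdeg

variable {R R' T T' : Type u} [CommRing R] [CommRing R'] [CommRing T] [CommRing T']
  [Algebra R T] [Algebra R' T']

theorem trdeg_le_of_equiv_equiv [Nontrivial R'] (e1 : R ≃+* R') (e2 : T ≃+* T')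
    (h : (algebraMap R' T').comp (e1 : R →+* R') = (e2 : T →+* T').comp (algebraMap R T)) :
    Algebra.trdeg R T ≤ Algebra.trdeg R' T' := by
  rw [Algebra.trdeg]
  apply ciSup_le'
  intro s
  have := (algebraicIndependent_ringHom_iff_of_comp_eq (x := ((↑) : s.1 → T)) e1
    (e2 : T →+* T') e2.injective h).mpr s.2
  exact this.cardinalMk_le_trdeg

theorem trdeg_eq_of_equiv_equiv [Nontrivial R] [Nontrivial R'] (e1 : R ≃+* R') (e2 : T ≃+* T')
    (h : (algebraMap R' T').comp (e1 : R →+* R') = (e2 : T →+* T').comp (algebraMap R T)) :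
    Algebra.trdeg R T = Algebra.trdeg R' T' := by
  apply le_antisymm (trdeg_le_of_equiv_equiv e1 e2 h)
  refine trdeg_le_of_equiv_equiv e1.symm e2.symm ?_
  ext r
  obtain ⟨r, rfl⟩ := e1.surjective r
  have := congrArg (fun f => f r) h
  simp only [RingHom.comp_apply, RingEquiv.coe_toRingHom] at this ⊢
  rw [RingEquiv.symm_apply_apply, this, RingEquiv.symm_apply_apply]

end Trdeg

section DoubleQuot

variable {R T : Type u} [CommRing R] [CommRing T] [Algebra R T]
  (i j : Ideal R) (I J : Ideal T) [I.LiesOver i] [J.LiesOver j]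

theorem liesOver_map_mk (hij : i ≤ j) (hIJ : I ≤ J) :
    (J.map (Ideal.Quotient.mk I)).LiesOver (j.map (Ideal.Quotient.mk i)) := by
  constructor
  ext z
  obtain ⟨r, rfl⟩ := Ideal.Quotient.mk_surjective z
  rw [Ideal.mem_quotient_iff_mem hij, Ideal.under_def, Ideal.mem_comap,
    Ideal.Quotient.algebraMap_mk_of_liesOver, Ideal.mem_quotient_iff_mem hIJ,
    Ideal.mem_of_liesOver J j]

theorem trdeg_doubleQuot [j.IsPrime] (hij : i ≤ j) (hIJ : I ≤ J) :
    haveI := liesOver_map_mk i j I J hij hIJ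
    Algebra.trdeg ((R ⧸ i) ⧸ j.map (Ideal.Quotient.mk i)) ((T ⧸ I) ⧸ J.map (Ideal.Quotient.mk I)) =
      Algebra.trdeg (R ⧸ j) (T ⧸ J) := by
  haveI := liesOver_map_mk i j I J hij hIJ
  haveI : (j.map (Ideal.Quotient.mk i)).IsPrime := map_mk_isPrime_of_le hij
  refine trdeg_eq_of_equiv_equiv (DoubleQuot.quotQuotEquivQuotOfLE hij)
    (DoubleQuot.quotQuotEquivQuotOfLE hIJ) ?_
  ext z
  rfl

end DoubleQuot

section Cod

variable {A : Type u} [CommRing A]

theorem height_map_mk_le_cod (x y : PrimeSpectrum A) (hxy : x ≤ y) :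
    (y.asIdeal.map (Ideal.Quotient.mk x.asIdeal)).height ≤ cod x y := by
  have hyx : (y.asIdeal.map (Ideal.Quotient.mk x.asIdeal)).IsPrime := map_mk_isPrime_of_le hxy
  let yx : PrimeSpectrum (A ⧸ x.asIdeal) := ⟨_, hyx⟩
  rw [PrimeSpectrum.height_eq_orderHeight yx, Order.height_le_iff]
  intro l hl
  let l' : LTSeries (PrimeSpectrum A) :=
    l.map (PrimeSpectrum.comap (Ideal.Quotient.mk x.asIdeal)) (strictMono_comap_mk x.asIdeal)
  have hl'last : l'.last ≤ y := by
    rw [LTSeries.last_map]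
    have h1 : PrimeSpectrum.comap (Ideal.Quotient.mk x.asIdeal) l.last ≤
        PrimeSpectrum.comap (Ideal.Quotient.mk x.asIdeal) yx := Ideal.comap_mono hl
    have h2 : PrimeSpectrum.comap (Ideal.Quotient.mk x.asIdeal) yx = y :=
      PrimeSpectrum.ext (comap_map_mk_of_le hxy)
    rwa [h2] at h1
  have hhead : x ≤ l'.head := by
    rw [LTSeries.head_map]
    intro z hz
    show Ideal.Quotient.mk x.asIdeal z ∈ l.head.asIdeal
    have : Ideal.Quotient.mk x.asIdeal z = 0 := Ideal.Quotient.eq_zero_iff_mem.mpr hz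
    rw [this]
    exact l.head.asIdeal.zero_mem
  rcases eq_or_lt_of_le hhead with h | h
  · exact le_iSup₂_of_le l' ⟨h.symm, hl'last⟩ (by simp [l'])
  · refine le_iSup₂_of_le (l'.cons x h) ⟨by simp, by simpa using hl'last⟩ ?_
    simp [l']

theorem cod_eq_height_map_mk (x y : PrimeSpectrum A) (hxy : x ≤ y) :
    cod x y = (y.asIdeal.map (Ideal.Quotient.mk x.asIdeal)).height :=
  le_antisymm (cod_le_height_map_mk x y hxy) (height_map_mk_le_cod x y hxy)

/-- In a catenary ring relative heights are additive. -/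
theorem height_map_mk_add_of_isCatenary (hcat : CAlg.IsCatenary A) (x y z : PrimeSpectrum A)
    (hxy : x ≤ y) (hyz : y ≤ z) :
    (z.asIdeal.map (Ideal.Quotient.mk x.asIdeal)).height =
      (y.asIdeal.map (Ideal.Quotient.mk x.asIdeal)).height +
        (z.asIdeal.map (Ideal.Quotient.mk y.asIdeal)).height := by
  have h := (isCatenary_iff_catPair' A).1 hcat
  have hadd := cod_add hxy hyz (catPair_iff_catPair'.2 (h x y hxy))
    (catPair_iff_catPair'.2 (h y z hyz)) (catPair_iff_catPair'.2 (h x z (hxy.trans hyz)))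
  rwa [cod_eq_height_map_mk x z (hxy.trans hyz), cod_eq_height_map_mk x y hxy,
    cod_eq_height_map_mk y z hyz] at hadd

end Cod

section UnivCat

open Ideal.Quotient in
/-- EGA IV 5.6.1 c) ⇒ b): a catenary Noetherian ring satisfying the dimension formula (with
equality) for all finite type domain extensions of its quotient domains is universally catenary. -/
theorem isUniversallyCatenary_of_dimension_formula (A : Type u) [CommRing A] [IsNoetherianRing A]
    (hcat : CAlg.IsCatenary A)
    (hdf : ∀ (P : Ideal A) [P.IsPrime] (S : Type u) [CommRing S] [IsDomain S] [Algebra (A ⧸ P) S]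
      [FaithfulSMul (A ⧸ P) S] [Algebra.FiniteType (A ⧸ P) S] (p : Ideal (A ⧸ P)) [p.IsPrime]
      (q : Ideal S) [q.IsPrime] [q.LiesOver p],
      (q.height : Cardinal.{u}) + Algebra.trdeg ((A ⧸ P) ⧸ p) (S ⧸ q) =
        (p.height : Cardinal.{u}) + Algebra.trdeg (A ⧸ P) S) :
    CAlg.IsUniversallyCatenary A := by
  refine ⟨inferInstance, fun B _ _ hft => ?_⟩
  haveI := hft
  haveI : IsNoetherianRing B := Algebra.FiniteType.isNoetherianRing A B
  have key : ∀ Q X : PrimeSpectrum B, Q ≤ X →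
      ((X.asIdeal.map (Ideal.Quotient.mk Q.asIdeal)).height : Cardinal.{u}) +
          Algebra.trdeg (A ⧸ X.asIdeal.under A) (B ⧸ X.asIdeal) =
        (((X.asIdeal.under A).map (Ideal.Quotient.mk (Q.asIdeal.under A))).height :
            Cardinal.{u}) +
          Algebra.trdeg (A ⧸ Q.asIdeal.under A) (B ⧸ Q.asIdeal) := by
    intro Q X hQX
    have hPle : Q.asIdeal.under A ≤ X.asIdeal.under A := Ideal.comap_mono hQX
    haveI := liesOver_map_mk (Q.asIdeal.under A) (X.asIdeal.under A) Q.asIdeal X.asIdeal hPle hQX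
    haveI : ((X.asIdeal.under A).map (Ideal.Quotient.mk (Q.asIdeal.under A))).IsPrime :=
      map_mk_isPrime_of_le hPle
    haveI : (X.asIdeal.map (Ideal.Quotient.mk Q.asIdeal)).IsPrime := map_mk_isPrime_of_le hQX
    have h := hdf (Q.asIdeal.under A) (B ⧸ Q.asIdeal)
      ((X.asIdeal.under A).map (Ideal.Quotient.mk _)) (X.asIdeal.map (Ideal.Quotient.mk Q.asIdeal))
    rw [trdeg_doubleQuot _ _ _ _ hPle hQX] at h
    exact h
  have τfin : ∀ X : PrimeSpectrum B,
      Algebra.trdeg (A ⧸ X.asIdeal.under A) (B ⧸ X.asIdeal) < Cardinal.aleph0 :=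
    fun X => trdeg_lt_aleph0_of_finiteType
  have htfin : ∀ Q X : PrimeSpectrum B, Q ≤ X →
      (X.asIdeal.map (Ideal.Quotient.mk Q.asIdeal)).height ≠ ⊤ := by
    intro Q X hQX
    haveI : (X.asIdeal.map (Ideal.Quotient.mk Q.asIdeal)).IsPrime := map_mk_isPrime_of_le hQX
    exact Ideal.height_ne_top_of_isPrime
  have htfinA : ∀ Q X : PrimeSpectrum A, Q ≤ X →
      (X.asIdeal.map (Ideal.Quotient.mk Q.asIdeal)).height ≠ ⊤ := by
    intro Q X hQX
    haveI : (X.asIdeal.map (Ideal.Quotient.mk Q.asIdeal)).IsPrime := map_mk_isPrime_of_le hQX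
    exact Ideal.height_ne_top_of_isPrime
  have hadd : ∀ a b c : PrimeSpectrum B, a ≤ b → b ≤ c → cod a c = cod a b + cod b c := by
    intro a b c hab hbc
    rw [cod_eq_height_map_mk a c (hab.trans hbc), cod_eq_height_map_mk a b hab,
      cod_eq_height_map_mk b c hbc]
    let Pa : PrimeSpectrum A := ⟨a.asIdeal.under A, inferInstance⟩
    let Pb : PrimeSpectrum A := ⟨b.asIdeal.under A, inferInstance⟩
    let Pc : PrimeSpectrum A := ⟨c.asIdeal.under A, inferInstance⟩
    have hPab : Pa ≤ Pb := Ideal.comap_mono hab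
    have hPbc : Pb ≤ Pc := Ideal.comap_mono hbc
    have hA := height_map_mk_add_of_isCatenary hcat Pa Pb Pc hPab hPbc
    have k1 := key a c (hab.trans hbc)
    have k2 := key a b hab
    have k3 := key b c hbc
    obtain ⟨ta, hta⟩ := Cardinal.lt_aleph0.mp (τfin a)
    obtain ⟨tb, htb⟩ := Cardinal.lt_aleph0.mp (τfin b)
    obtain ⟨tc, htc⟩ := Cardinal.lt_aleph0.mp (τfin c)
    obtain ⟨hca, hhca⟩ := ENat.ne_top_iff_exists.mp (htfin a c (hab.trans hbc))
    obtain ⟨hba, hhba⟩ := ENat.ne_top_iff_exists.mp (htfin a b hab)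
    obtain ⟨hcb, hhcb⟩ := ENat.ne_top_iff_exists.mp (htfin b c hbc)
    obtain ⟨pca, hpca⟩ := ENat.ne_top_iff_exists.mp (htfinA Pa Pc (hPab.trans hPbc))
    obtain ⟨pba, hpba⟩ := ENat.ne_top_iff_exists.mp (htfinA Pa Pb hPab)
    obtain ⟨pcb, hpcb⟩ := ENat.ne_top_iff_exists.mp (htfinA Pb Pc hPbc)
    change _ = ((c.asIdeal.under A).map (Ideal.Quotient.mk (a.asIdeal.under A))).height at hpca
    change _ = ((b.asIdeal.under A).map (Ideal.Quotient.mk (a.asIdeal.under A))).height at hpba
    change _ = ((c.asIdeal.under A).map (Ideal.Quotient.mk (b.asIdeal.under A))).height at hpcb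
    change ((c.asIdeal.under A).map (Ideal.Quotient.mk (a.asIdeal.under A))).height =
      ((b.asIdeal.under A).map (Ideal.Quotient.mk (a.asIdeal.under A))).height +
        ((c.asIdeal.under A).map (Ideal.Quotient.mk (b.asIdeal.under A))).height at hA
    rw [← hpca, ← hpba, ← hpcb] at hA
    rw [← hhca, ← hpca, hta, htc] at k1
    rw [← hhba, ← hpba, hta, htb] at k2
    rw [← hhcb, ← hpcb, htb, htc] at k3
    simp only [Cardinal.ofENat_nat] at k1 k2 k3
    have k1' : hca + tc = pca + ta := by exact_mod_cast k1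
    have k2' : hba + tb = pba + ta := by exact_mod_cast k2
    have k3' : hcb + tc = pcb + tb := by exact_mod_cast k3
    have hA' : pca = pba + pcb := by exact_mod_cast hA
    rw [← hhca, ← hhba, ← hhcb]
    have : hca = hba + hcb := by omega
    exact_mod_cast this
  have hfin : ∀ a b : PrimeSpectrum B, a ≤ b → cod a b ≠ ⊤ := by
    intro a b hab
    rw [cod_eq_height_map_mk a b hab]
    exact htfin a b hab
  exact (isCatenary_iff_catPair' B).2 fun a b hab =>
    catPair_iff_catPair'.1 (catPair_of_additive hfin hadd hab)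

end UnivCat

end Groth.Agent.H29.DimFormula
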