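import Groth.Agent.H29.CM
import Groth.Agent.H15.DepthLoc
import Groth.Agent.H31.Support
import Groth.Agent.S5765
import Mathlib.RingTheory.Localization.Finiteness
import Mathlib.RingTheory.Ideal.AssociatedPrime.Localization

set_option autoImplicit false
set_option linter.unusedSectionVars false

namespace Groth.Agent.H29

namespace CML

universe u

open RingTheory.Sequence IsLocalRing Groth.Agent.H15 Groth.Agent.H29.DimL Pointwise TensorProduct

section general

variable {A : Type u} [CommRing A]

/-- `dim M/pM = dim A/p` for `p` in the support -/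
theorem supportDim_quotient_smul_top_eq (M : Type u) [AddCommGroup M] [Module A M]
    [Module.Finite A M] (p : PrimeSpectrum A) (hp : p ∈ Module.support A M) :
    Module.supportDim A (M ⧸ (p.asIdeal • (⊤ : Submodule A M))) = ringKrullDim (A ⧸ p.asIdeal) := by
  rw [Module.supportDim, Module.support_quotient, ringKrullDim_quotient]
  have : Module.support A M ∩ PrimeSpectrum.zeroLocus (p.asIdeal : Set A) =
      PrimeSpectrum.zeroLocus (p.asIdeal : Set A) := by
    apply Set.inter_eq_right.mpr
    intro q hq
    exact Module.mem_support_mono (p := p) hq hp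
  rw [this]

/-- a point of the support of maximal dimension is minimal in the support -/
theorem eq_of_le_of_ringKrullDim_eq (M : Type u) [AddCommGroup M] [Module A M]
    (p : PrimeSpectrum A) (d : ℕ) (hd : Module.supportDim A M = d)
    (hpd : ringKrullDim (A ⧸ p.asIdeal) = d) (q : PrimeSpectrum A)
    (hq : q ∈ Module.support A M) (hqp : q ≤ p) : q = p := by
  by_contra hne
  have hlt : q.asIdeal < p.asIdeal := lt_of_le_of_ne hqp (fun h => hne (PrimeSpectrum.ext h))
  have h1 := ringKrullDim_quotient_add_one_le_of_lt q.asIdeal p.asIdeal hlt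
  have h2 := ringKrullDim_quotient_le_supportDim M q hq
  rw [hpd] at h1
  rw [hd] at h2
  have h3 := h1.trans h2
  have : d + 1 ≤ d := by exact_mod_cast h3
  omega

end general

variable {A : Type u} [CommRing A] [IsLocalRing A] [IsNoetherianRing A]

/-- in a CM module, a prime of the support which is not associated contains a regular element -/
theorem exists_isSMulRegular_mem_of_notMem_associatedPrimes (M : Type u) [AddCommGroup M]
    [Module A M] [Module.Finite A M] (hM : LocCoh.IsCohenMacaulayModule A M)
    (p : PrimeSpectrum A) (hp : p ∈ Module.support A M)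
    (hpass : p.asIdeal ∉ associatedPrimes A M) : ∃ x ∈ p.asIdeal, IsSMulRegular M x := by
  classical
  have hMnt := nontrivial_of_isCM M hM
  obtain ⟨d, hd⟩ := exists_nat_supportDim_eq (A := A) M
  by_contra hcon
  push Not at hcon
  have hfin : (associatedPrimes A M).Finite := associatedPrimes.finite A M
  have hsub : (p.asIdeal : Set A) ⊆ ⋃ q ∈ associatedPrimes A M, (q : Set A) := by
    intro r hr
    rw [biUnion_associatedPrimes_eq_compl_regular]
    exact hcon r hr
  have hsub' : (p.asIdeal : Set A) ⊆
      ⋃ q ∈ (hfin.toFinset : Set (Ideal A)), ((id q : Ideal A) : Set A) := by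
    simpa using hsub
  rw [Ideal.subset_union_prime (f := id) ⊥ ⊥ (fun q hq _ _ => by
    have : q ∈ associatedPrimes A M := by simpa using hq
    exact this.isPrime)] at hsub'
  obtain ⟨q, hq, hpq⟩ := hsub'
  have hq' : q ∈ associatedPrimes A M := by simpa using hq
  have hqd := ringKrullDim_quotient_eq_supportDim_of_isCM M hM q hq'
  rw [hd] at hqd
  have := eq_of_le_of_ringKrullDim_eq M ⟨q, hq'.isPrime⟩ d hd hqd p hp hpq
  apply hpass
  rw [this]
  exact hq'

/-- the iso `M_p / x M_p ≃ (M / x M)_p` -/
noncomputable def quotSMulTopLocalizedEquiv (M : Type u) [AddCommGroup M] [Module A M]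
    (p : Ideal A) [p.IsPrime] (x : A) :
    QuotSMulTop (algebraMap A (Localization.AtPrime p) x) (LocalizedModule p.primeCompl M)
      ≃ₗ[Localization.AtPrime p] LocalizedModule p.primeCompl (QuotSMulTop x M) :=
  have hf : IsBaseChange (Localization.AtPrime p) (LocalizedModule.mkLinearMap p.primeCompl M) :=
    IsLocalizedModule.isBaseChange p.primeCompl (Localization.AtPrime p) _
  have hf' : IsBaseChange (Localization.AtPrime p)
      (LocalizedModule.mkLinearMap p.primeCompl (QuotSMulTop x M)) :=
    IsLocalizedModule.isBaseChange p.primeCompl (Localization.AtPrime p) _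
  ((QuotSMulTop.algebraMapTensorEquivTensorQuotSMulTop x M (Localization.AtPrime p)).symm ≪≫ₗ
      QuotSMulTop.congr (algebraMap A (Localization.AtPrime p) x) hf.equiv).symm ≪≫ₗ hf'.equiv

theorem localized_quotSMulTop (M : Type u) [AddCommGroup M] [Module A M] [Module.Finite A M]
    (p : Ideal A) [p.IsPrime] (x : A) (hxp : x ∈ p) (hx : IsSMulRegular M x) :
    Module.supportDim (Localization.AtPrime p) (LocalizedModule p.primeCompl (QuotSMulTop x M)) + 1 =
      Module.supportDim (Localization.AtPrime p) (LocalizedModule p.primeCompl M) ∧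
    LocCoh.depth (Localization.AtPrime p) (LocalizedModule p.primeCompl (QuotSMulTop x M)) + 1 =
      LocCoh.depth (Localization.AtPrime p) (LocalizedModule p.primeCompl M) := by
  have hf : IsBaseChange (Localization.AtPrime p) (LocalizedModule.mkLinearMap p.primeCompl M) :=
    IsLocalizedModule.isBaseChange p.primeCompl (Localization.AtPrime p) _
  have : Module.Flat A (Localization.AtPrime p) := IsLocalization.flat _ p.primeCompl
  have hmem : algebraMap A (Localization.AtPrime p) x ∈ maximalIdeal (Localization.AtPrime p) :=
    (IsLocalization.AtPrime.to_map_mem_maximal_iff (Localization.AtPrime p) p x).mpr hxp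
  have hreg : IsSMulRegular (LocalizedModule p.primeCompl M)
      (algebraMap A (Localization.AtPrime p) x) := hx.of_flat_of_isBaseChange hf
  have e := quotSMulTopLocalizedEquiv M p x
  constructor
  · rw [← Module.supportDim_eq_of_equiv e]
    exact Module.supportDim_quotSMulTop_succ_eq_supportDim hreg hmem
  · unfold LocCoh.depth
    rw [← idealDepth_congr e]
    exact depth_quotSMulTop_add_one _ _ hmem hreg

theorem isCM_localization_aux : ∀ (n : ℕ) (M : Type u) [AddCommGroup M] [Module A M]
    [Module.Finite A M], LocCoh.IsCohenMacaulayModule A M → Module.supportDim A M = n →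
    ∀ (p : PrimeSpectrum A), p ∈ Module.support A M →
    LocCoh.IsCohenMacaulayModule (Localization.AtPrime p.asIdeal)
      (LocalizedModule p.asIdeal.primeCompl M) ∧
    Module.supportDim A M = Module.supportDim A (M ⧸ (p.asIdeal • (⊤ : Submodule A M))) +
      Module.supportDim (Localization.AtPrime p.asIdeal) (LocalizedModule p.asIdeal.primeCompl M) ∧
    ∃ xs : List A, (xs.length : WithBot ℕ∞) =
      Module.supportDim (Localization.AtPrime p.asIdeal) (LocalizedModule p.asIdeal.primeCompl M) ∧
      (∀ x ∈ xs, x ∈ p.asIdeal) ∧ IsWeaklyRegular M xs := by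
  intro n
  induction n using Nat.strong_induction_on with
  | _ n ih =>
    intro M _ _ _ hM hn p hp
    have hMnt := nontrivial_of_isCM M hM
    have hMp : Nontrivial (LocalizedModule p.asIdeal.primeCompl M) :=
      Module.mem_support_iff.mp hp
    have hquot := supportDim_quotient_smul_top_eq M p hp
    by_cases hpass : p.asIdeal ∈ associatedPrimes A M
    · have h1 := ringKrullDim_quotient_eq_supportDim_of_isCM M hM p.asIdeal hpass
      have h2 := Groth.Agent.S5765.result A M p.asIdeal
      obtain ⟨k, hk⟩ := exists_nat_supportDim_eq (A := Localization.AtPrime p.asIdeal)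
        (LocalizedModule p.asIdeal.primeCompl M)
      rw [hquot, h1, hn, hk] at h2
      have hk0 : k = 0 := by
        have : k + n ≤ n := by exact_mod_cast h2
        omega
      subst hk0
      have hd := depth_localization_eq_zero_of_mem_associatedPrimes M p.asIdeal hpass
      have hd0 : LocCoh.depth (Localization.AtPrime p.asIdeal)
          (LocalizedModule p.asIdeal.primeCompl M) = 0 := le_antisymm hd zero_le
      refine ⟨?_, ?_, [], ?_, by simp, IsWeaklyRegular.nil A M⟩
      · unfold LocCoh.IsCohenMacaulayModule
        rw [hk, hd0]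
        rfl
      · rw [hquot, h1, hk, hn]
        simp
      · rw [hk]
        rfl
    · obtain ⟨x, hxp, hxreg⟩ := exists_isSMulRegular_mem_of_notMem_associatedPrimes M hM p hp hpass
      have hxm : x ∈ maximalIdeal A := IsLocalRing.le_maximalIdeal p.2.ne_top hxp
      have hM' := isCM_quotSMulTop M hM x hxm hxreg
      have hdim := Module.supportDim_quotSMulTop_succ_eq_supportDim hxreg hxm
      have hM'nt := nontrivial_of_isCM _ hM'
      obtain ⟨m, hm⟩ := exists_nat_supportDim_eq (A := A) (QuotSMulTop x M)
      rw [hm, hn] at hdim
      have hmn : m + 1 = n := by exact_mod_cast hdim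
      have hp' : p ∈ Module.support A (QuotSMulTop x M) := by
        rw [Module.support_quotSMulTop]
        refine ⟨hp, ?_⟩
        simpa using hxp
      obtain ⟨hcm, hadd, xs, hlen, hmem, hreg⟩ := ih m (by omega) (QuotSMulTop x M) hM' hm p hp'
      obtain ⟨hl1, hl2⟩ := localized_quotSMulTop M p.asIdeal x hxp hxreg
      have hquot' := supportDim_quotient_smul_top_eq (QuotSMulTop x M) p hp'
      refine ⟨?_, ?_, x :: xs, ?_, ?_, ?_⟩
      · unfold LocCoh.IsCohenMacaulayModule at hcm ⊢
        rw [← hl1, ← hl2, hcm]
        rfl
      · rw [hn, ← hmn, ← hl1, ← add_assoc, hquot, ← hquot', ← hadd, hm]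
        rfl
      · rw [← hl1, ← hlen]
        simp
      · intro y hy
        rcases List.mem_cons.mp hy with rfl | hy
        · exact hxp
        · exact hmem y hy
      · exact (isWeaklyRegular_cons_iff M x xs).mpr ⟨hxreg, hreg⟩

end CML

end Groth.Agent.H29
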