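import Mathlib.Algebra.Category.ModuleCat.Ext.HasExt
import Mathlib.Algebra.Category.ModuleCat.Injective
import Mathlib.Algebra.Category.ModuleCat.EnoughInjectives
import Mathlib.Algebra.Homology.ShortComplex.ModuleCat
import Mathlib.Algebra.Homology.DerivedCategory.Ext.ExactSequences
import Mathlib.CategoryTheory.Abelian.Injective.Dimension
import Mathlib.CategoryTheory.Abelian.Projective.Dimension
import Mathlib.Algebra.Module.Injective

set_option autoImplicit false

namespace Groth.Agent.H29

namespace InjDimL

universe u

open CategoryTheory Abelian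

variable (A : Type u) [CommRing A]

/-- Baer's criterion through `Ext¹` of cyclic modules -/
theorem injective_of_ext_one (X : ModuleCat.{u} A)
    (h : ∀ I : Ideal A, Subsingleton (Ext (ModuleCat.of A (A ⧸ I)) X 1)) : Injective X := by
  have hbaer : Module.Baer A X := by
    intro I g
    have hS := LinearMap.shortExact_shortComplexKer (f := I.mkQ) I.mkQ_surjective
    have hker : LinearMap.ker I.mkQ = I := Submodule.ker_mkQ I
    let e : LinearMap.ker I.mkQ ≃ₗ[A] I := LinearEquiv.ofEq _ _ hker
    let g' : (I.mkQ).shortComplexKer.X₁ ⟶ X := ModuleCat.ofHom (g.comp e.toLinearMap)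
    have := h I
    obtain ⟨φ, hφ⟩ := Ext.contravariant_sequence_exact₁ hS X (Ext.mk₀ g') (add_zero 1)
      (by subsingleton)
    obtain ⟨φ, rfl⟩ := Ext.homEquiv₀.symm.surjective φ
    have hcomp : (I.mkQ).shortComplexKer.f ≫ φ = g' :=
      Ext.homEquiv₀.symm.injective (by simpa using hφ)
    refine ⟨φ.hom, fun x hx => ?_⟩
    have h1 := congrArg (fun ψ => ψ.hom ⟨x, by rw [hker]; exact hx⟩) hcomp
    exact h1
  have hinj : Module.Injective A X := Module.Baer.injective hbaer
  exact Module.injective_object_of_injective_module A X

theorem hasInjectiveDimensionLT_of_ext (n : ℕ) :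
    ∀ (X : ModuleCat.{u} A),
      (∀ I : Ideal A, Subsingleton (Ext (ModuleCat.of A (A ⧸ I)) X (n + 1))) →
        HasInjectiveDimensionLT X (n + 1) := by
  induction n with
  | zero =>
    intro X h
    have := injective_of_ext_one A X h
    infer_instance
  | succ n ih =>
    intro X h
    have hS : (ShortComplex.mk (Injective.ι X) (Limits.cokernel.π (Injective.ι X))
        (Limits.cokernel.condition _)).ShortExact :=
      { exact := ShortComplex.exact_cokernel (Injective.ι X) }
    have h3 : HasInjectiveDimensionLT (Limits.cokernel (Injective.ι X)) (n + 1) := by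
      apply ih
      intro I
      have := h I
      refine ⟨fun x y => ?_⟩
      have key : ∀ z : Ext (ModuleCat.of A (A ⧸ I)) (Limits.cokernel (Injective.ι X)) (n + 1),
          z = 0 := by
        intro z
        obtain ⟨x₂, rfl⟩ := Ext.covariant_sequence_exact₃ _ hS z (rfl : n + 1 + 1 = n + 1 + 1)
          (by subsingleton)
        rw [Ext.eq_zero_of_injective x₂, Ext.zero_comp]
      rw [key x, key y]
    have h2 : HasInjectiveDimensionLT (Injective.under X) (n + 1 + 1) :=
      hasInjectiveDimensionLT_of_ge _ 1 _ (by omega)
    exact hS.hasInjectiveDimensionLT_X₁ (n + 1) h3 h2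

end InjDimL

end Groth.Agent.H29
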