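import Groth.Agent.H29.CM
import Groth.Agent.H15.DepthFlat
import Groth.Agent.H34.Sk
import Mathlib.RingTheory.Ideal.GoingUp

set_option autoImplicit false
set_option linter.unusedSectionVars false

namespace Groth.Agent.H29

namespace DepthAB

universe u

open RingTheory.Sequence IsLocalRing Groth.Agent.H15 Groth.Agent.H29.CML Pointwise

variable {A B : Type u} [CommRing A] [CommRing B] [IsLocalRing A]
    [IsLocalRing B] [IsNoetherianRing A] [IsNoetherianRing B] [Algebra A B]
    [IsLocalHom (algebraMap A B)]

theorem exists_ne_zero_killed (M : Type u) [AddCommGroup M] [Module B M] [Module A M]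
    [IsScalarTower A B M] [Module.Finite A M] (z : M) (hz : z ≠ 0)
    (hkill : ∀ a ∈ maximalIdeal A, a • z = 0) :
    ∃ w : M, w ≠ 0 ∧ ∀ b ∈ maximalIdeal B, b • w = 0 := by
  let N' : Submodule B M := Submodule.span B {z}
  have hN'nt : Nontrivial N' :=
    ⟨⟨⟨z, Submodule.mem_span_singleton_self z⟩, 0, fun h => hz (congrArg Subtype.val h)⟩⟩
  obtain ⟨q, hq⟩ := associatedPrimes.nonempty B N'
  have hqprime : q.IsPrime := hq.isPrime
  obtain ⟨-, f, hf⟩ := (isAssociatedPrime_iff_exists_injective_linearMap q N').mp hq
  let g0 : (B ⧸ q) →ₗ[B] M := N'.subtype ∘ₗ f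
  have hg0 : Function.Injective g0 := N'.subtype_injective.comp hf
  let g : (B ⧸ q) →ₗ[A] M := g0.restrictScalars A
  have hg : Function.Injective g := hg0
  have hfin : Module.Finite A (B ⧸ q) := Module.Finite.of_injective g hg
  have hint : Algebra.IsIntegral A (B ⧸ q) := Algebra.IsIntegral.of_finite A (B ⧸ q)
  have hw_kill : ∀ a ∈ maximalIdeal A, a • g0 1 = 0 := by
    intro a ha
    have hmem : g0 1 ∈ N' := (f 1).2
    obtain ⟨b, hb⟩ := Submodule.mem_span_singleton.mp hmem
    rw [← hb, smul_comm, hkill a ha, smul_zero]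
  have hcomap : (⊥ : Ideal (B ⧸ q)).comap (algebraMap A (B ⧸ q)) = maximalIdeal A := by
    apply le_antisymm
    · apply IsLocalRing.le_maximalIdeal
      rw [Ne, Ideal.eq_top_iff_one, Ideal.mem_comap, map_one]
      simp
    · intro a ha
      rw [Ideal.mem_comap, Ideal.mem_bot]
      apply hg
      rw [map_zero, Algebra.algebraMap_eq_smul_one, map_smul]
      exact hw_kill a ha
  have hbp : (⊥ : Ideal (B ⧸ q)).IsPrime := Ideal.isPrime_bot
  have hmax : (⊥ : Ideal (B ⧸ q)).IsMaximal :=
    Ideal.isMaximal_of_isIntegral_of_isMaximal_comap (R := A) ⊥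
      (hcomap ▸ maximalIdeal.isMaximal A)
  have hqmax : q.IsMaximal := (Ideal.bot_quotient_isMaximal_iff q).mp hmax
  have hqeq : q = maximalIdeal B := IsLocalRing.eq_maximalIdeal hqmax
  refine ⟨g0 1, ?_, ?_⟩
  · intro h0
    have : (1 : B ⧸ q) = 0 := hg0 (by rw [h0, map_zero])
    exact one_ne_zero this
  · intro b hb
    rw [← map_smul]
    have : b • (1 : B ⧸ q) = 0 := by
      rw [← hqeq] at hb
      rw [Algebra.smul_def, mul_one]
      exact Ideal.Quotient.eq_zero_iff_mem.mpr hb
    rw [this, map_zero]

/-- `M/xM` (over `A`) and `M/ρ(x)M` (over `B`) agree -/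
noncomputable def quotSMulTopEquiv (M : Type u) [AddCommGroup M] [Module B M] [Module A M]
    [IsScalarTower A B M] (x : A) :
    QuotSMulTop x M ≃ₗ[A] QuotSMulTop (algebraMap A B x) M :=
  Submodule.quotEquivOfEq _ _ (by
    ext m
    simp only [Submodule.mem_smul_pointwise_iff_exists, Submodule.mem_top, true_and,
      Submodule.restrictScalars_mem, algebraMap_smul]) ≪≫ₗ
    Submodule.Quotient.restrictScalarsEquiv A (algebraMap A B x • (⊤ : Submodule B M))

theorem depth_eq_aux : ∀ (n : ℕ) (M : Type u) [AddCommGroup M] [Module B M] [Module A M]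
    [IsScalarTower A B M] [Module.Finite A M], LocCoh.depth A M = n → LocCoh.depth B M = n := by
  intro n
  induction n with
  | zero =>
    intro M _ _ _ _ _ h
    have hfinB : Module.Finite B M := Module.Finite.of_restrictScalars_finite A B M
    have hMnt : Nontrivial M := by
      by_contra hcon
      rw [not_nontrivial_iff_subsingleton] at hcon
      rw [depth_eq_top_of_subsingleton M] at h
      exact ENat.top_ne_natCast 0 h
    have hnoreg : ∀ x ∈ maximalIdeal A, ¬ IsSMulRegular M x := by
      intro x hx hreg
      have h1 : ((([x] : List A).length : ℕ) : ℕ∞) ≤ LocCoh.depth A M :=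
        le_idealDepth (maximalIdeal A) M
          ((isWeaklyRegular_singleton_iff M x).mpr hreg) (by simpa using hx)
      rw [h] at h1
      simp at h1
    obtain ⟨z, hz, hkill⟩ :=
      exists_ne_zero_smul_eq_zero_of_forall_not_isSMulRegular (maximalIdeal A) M hnoreg
    obtain ⟨w, hw, hwkill⟩ := exists_ne_zero_killed (A := A) (B := B) M z hz hkill
    have := Groth.Agent.H34.not_one_le_depth_of_killed w hw hwkill
    rw [not_le, Order.lt_one_iff] at this
    rw [this]
    rfl
  | succ n ih =>
    intro M _ _ _ _ _ h
    have hfinB : Module.Finite B M := Module.Finite.of_restrictScalars_finite A B M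
    have hMnt : Nontrivial M := by
      by_contra hcon
      rw [not_nontrivial_iff_subsingleton] at hcon
      rw [depth_eq_top_of_subsingleton M] at h
      exact ENat.top_ne_natCast _ h
    obtain ⟨x, hx, hreg⟩ := Groth.Agent.H34.exists_regular_of_one_le_idealDepth (maximalIdeal A) M
      (smul_top_ne_top M) (by
        change 1 ≤ LocCoh.depth A M
        rw [h]
        exact_mod_cast Nat.le_add_left 1 n)
    have hA := depth_quotSMulTop_add_one M x hx hreg
    have hxB : algebraMap A B x ∈ maximalIdeal B := by
      rw [mem_maximalIdeal, mem_nonunits_iff] at hx ⊢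
      exact fun hu => hx (isUnit_of_map_unit (algebraMap A B) x hu)
    have hregB : IsSMulRegular M (algebraMap A B x) := by
      intro m₁ m₂ hm
      apply hreg
      simpa only [algebraMap_smul] using hm
    have hB := depth_quotSMulTop_add_one M (algebraMap A B x) hxB hregB
    have e := quotSMulTopEquiv (A := A) (B := B) M x
    have hA' : LocCoh.depth A (QuotSMulTop (algebraMap A B x) M) = n := by
      unfold LocCoh.depth at hA h ⊢
      rw [← idealDepth_congr e]
      rw [h] at hA
      have : LocCoh.idealDepth (maximalIdeal A) (QuotSMulTop x M) + 1 = (n : ℕ∞) + 1 := by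
        rw [hA]; rfl
      exact ENat.add_left_injective_of_ne_top (ENat.one_ne_top) this
    have hfin' : Module.Finite A (QuotSMulTop (algebraMap A B x) M) :=
      Module.Finite.of_surjective
        ((Submodule.mkQ (algebraMap A B x • (⊤ : Submodule B M))).restrictScalars A)
        (Submodule.mkQ_surjective _)
    have := ih (QuotSMulTop (algebraMap A B x) M) hA'
    rw [this] at hB
    rw [← hB]
    rfl

theorem depth_eq (M : Type u) [AddCommGroup M] [Module B M] [Module A M]
    [IsScalarTower A B M] [Module.Finite A M] : LocCoh.depth A M = LocCoh.depth B M := by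
  rcases subsingleton_or_nontrivial M with hM | hM
  · rw [depth_eq_top_of_subsingleton M, depth_eq_top_of_subsingleton M]
  obtain ⟨n, hn⟩ := exists_nat_depth_eq (A := A) M
  rw [hn, depth_eq_aux n M hn]

end DepthAB

end Groth.Agent.H29
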