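import Groth.Agent.H2.LocalCrit
import Mathlib.RingTheory.Regular.RegularSequence

set_option autoImplicit false

namespace Groth.Agent.H29

namespace Tor1R

universe u

open Function (Injective Surjective Exact)
open TensorProduct Groth.Agent.H2 RingTheory.Sequence

variable {R : Type u} [CommRing R] {N N' N'' M : Type u} [AddCommGroup N] [Module R N]
  [AddCommGroup N'] [Module R N'] [AddCommGroup N''] [Module R N''] [AddCommGroup M] [Module R M]

theorem tor1Zero_of_exact_right (f : N' →ₗ[R] N) (g : N →ₗ[R] N'') (hfg : Exact f g)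
    (hg : Surjective g) (h : Tor1Zero R N M) (hinj : Injective (f.rTensor M)) :
    Tor1Zero R N'' M := by
  intro K F _ _ _ _ _ i p hi hip hp
  rw [injective_iff_map_eq_zero]
  intro z hz
  obtain ⟨y, rfl⟩ := LinearMap.rTensor_surjective K hg z
  have h1 : g.rTensor F (i.lTensor N y) = 0 := by
    rw [← LinearMap.comp_apply, LinearMap.rTensor_comp_lTensor, ← LinearMap.lTensor_comp_rTensor,
      LinearMap.comp_apply, hz]
  obtain ⟨w, hw⟩ := (rTensor_exact F hfg hg _).mp h1
  have h2 : f.rTensor M (p.lTensor N' w) = 0 := by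
    rw [← LinearMap.comp_apply, LinearMap.rTensor_comp_lTensor, ← LinearMap.lTensor_comp_rTensor,
      LinearMap.comp_apply, hw, ← LinearMap.comp_apply, ← LinearMap.lTensor_comp,
      hip.linearMap_comp_eq_zero, LinearMap.lTensor_zero, LinearMap.zero_apply]
  have h3 : p.lTensor N' w = 0 := hinj (by rw [h2, map_zero])
  obtain ⟨u, hu⟩ := (lTensor_exact N' hip hp _).mp h3
  have h4 : i.lTensor N (y - f.rTensor K u) = 0 := by
    rw [map_sub, ← hw, ← hu, ← LinearMap.comp_apply, ← LinearMap.comp_apply,
      LinearMap.lTensor_comp_rTensor, LinearMap.rTensor_comp_lTensor, sub_self]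
  have h5 : y = f.rTensor K u :=
    sub_eq_zero.mp (h K F i p hi hip hp (by rw [h4, map_zero]))
  rw [h5, ← LinearMap.comp_apply, ← LinearMap.rTensor_comp, hfg.linearMap_comp_eq_zero,
    LinearMap.rTensor_zero, LinearMap.zero_apply]

variable (M)

theorem rTensor_smul_injective_iff (I : Ideal R) (f : R) :
    Injective ((DistribSMul.toLinearMap R (R ⧸ I) f).rTensor M) ↔
      IsSMulRegular (M ⧸ (I • ⊤ : Submodule R M)) f := by
  rw [LinearMap.rTensor_smul_action]
  exact (TensorProduct.quotTensorEquivQuotSMul M I).isSMulRegular_congr f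

theorem tor1Zero_take (fs : List R) (hM : IsWeaklyRegular M fs) :
    ∀ i, i ≤ fs.length → Tor1Zero R (R ⧸ Ideal.ofList (fs.take i)) M := by
  intro i
  induction i with
  | zero =>
    intro _
    have : Module.Flat R (R ⧸ Ideal.ofList (fs.take 0)) := by
      rw [List.take_zero, Ideal.ofList_nil]
      exact Module.Flat.of_linearEquiv (Submodule.quotEquivOfEqBot ⊥ rfl)
    exact tor1Zero_of_flat_left
  | succ i ih =>
    intro hi
    have hlt : i < fs.length := hi
    have hJ : Ideal.ofList (fs.take (i + 1)) = Ideal.ofList (fs.take i) ⊔ Ideal.span {fs[i]} := by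
      rw [List.take_succ_eq_append_getElem hlt, Ideal.ofList_append, Ideal.ofList_singleton]
    have hle : Ideal.ofList (fs.take i) ≤
        Submodule.comap (LinearMap.id : R →ₗ[R] R) (Ideal.ofList (fs.take (i + 1))) := by
      rw [hJ]
      exact le_sup_left
    let g : (R ⧸ Ideal.ofList (fs.take i)) →ₗ[R] (R ⧸ Ideal.ofList (fs.take (i + 1))) :=
      Submodule.mapQ _ _ LinearMap.id hle
    have hg : Surjective g := by
      intro y
      obtain ⟨a, rfl⟩ := Submodule.Quotient.mk_surjective _ y
      exact ⟨Submodule.Quotient.mk a, rfl⟩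
    have hex : Exact (DistribSMul.toLinearMap R (R ⧸ Ideal.ofList (fs.take i)) fs[i]) g := by
      intro x
      obtain ⟨a, rfl⟩ := Submodule.Quotient.mk_surjective _ x
      change (Submodule.Quotient.mk a : R ⧸ Ideal.ofList (fs.take (i + 1))) = 0 ↔ _
      rw [Submodule.Quotient.mk_eq_zero, hJ]
      constructor
      · intro ha
        obtain ⟨j, hj, c, hc, rfl⟩ := Submodule.mem_sup.mp ha
        obtain ⟨b, rfl⟩ := Ideal.mem_span_singleton'.mp hc
        refine ⟨Submodule.Quotient.mk b, ?_⟩
        change fs[i] • (Submodule.Quotient.mk b : R ⧸ Ideal.ofList (fs.take i)) = _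
        rw [← Submodule.Quotient.mk_smul, eq_comm, ← sub_eq_zero, ← Submodule.Quotient.mk_sub,
          Submodule.Quotient.mk_eq_zero, smul_eq_mul, mul_comm]
        simpa using hj
      · rintro ⟨y, hy⟩
        obtain ⟨b, rfl⟩ := Submodule.Quotient.mk_surjective _ y
        change fs[i] • (Submodule.Quotient.mk b : R ⧸ Ideal.ofList (fs.take i)) = _ at hy
        rw [← Submodule.Quotient.mk_smul, eq_comm, ← sub_eq_zero, ← Submodule.Quotient.mk_sub,
          Submodule.Quotient.mk_eq_zero] at hy
        have : a = (a - fs[i] • b) + b * fs[i] := by rw [smul_eq_mul]; ring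
        rw [this]
        exact Submodule.add_mem_sup hy (Ideal.mem_span_singleton'.mpr ⟨b, rfl⟩)
    exact tor1Zero_of_exact_right _ g hex hg (ih hlt.le)
      ((rTensor_smul_injective_iff M _ _).mpr (hM.regular_mod_prev i hlt))

end Tor1R

end Groth.Agent.H29
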