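import Groth.Agent.H46.RegularSeqIndep
import Groth.Agent.Lead.RegularGlDim
import Groth.Agent.H29.DepthAB
import Groth.Agent.H72.DepthFinite
import Groth.Agent.S5777
import Groth.Agent.S5766
import Groth.Agent.S2938

set_option autoImplicit false
set_option linter.unusedSectionVars false

namespace Groth.Agent.H29

namespace RegFree

universe u

open IsLocalRing RingTheory.Sequence Groth.Agent.Lead.RLR Groth.Agent.H29.CML Pointwise TensorProduct

/-- choose a parameter outside `m²` which is `M`-regular -/
theorem exists_regular_notMem_sq (A : Type u) [CommRing A] [IsLocalRing A] [IsNoetherianRing A]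
    (M : Type u) [AddCommGroup M] [Module A M] [Module.Finite A M]
    (hm : maximalIdeal A ≠ ⊥) (hdepth : 1 ≤ LocCoh.depth A M) :
    ∃ x ∈ maximalIdeal A, x ∉ maximalIdeal A ^ 2 ∧ IsSMulRegular M x := by
  classical
  by_contra hcon
  push Not at hcon
  have hfin : (associatedPrimes A M).Finite := associatedPrimes.finite A M
  have hsub : (maximalIdeal A : Set A) ⊆
      ⋃ q ∈ ((insert (maximalIdeal A ^ 2) hfin.toFinset : Finset (Ideal A)) : Set (Ideal A)),
        ((id q : Ideal A) : Set A) := by
    intro r hr
    by_cases h2 : r ∈ maximalIdeal A ^ 2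
    · simp only [Finset.coe_insert, Set.Finite.coe_toFinset, Set.mem_insert_iff, id_eq,
        Set.iUnion_iUnion_eq_or_left, Set.mem_union, SetLike.mem_coe, Set.mem_iUnion, exists_prop]
      exact Or.inl h2
    · have h3 := hcon r hr h2
      have h4 : r ∈ ⋃ p ∈ associatedPrimes A M, (p : Set A) := by
        rw [biUnion_associatedPrimes_eq_compl_regular]
        exact h3
      simp only [Set.mem_iUnion, SetLike.mem_coe, exists_prop] at h4
      obtain ⟨p, hp, hrp⟩ := h4
      simp only [Finset.coe_insert, Set.Finite.coe_toFinset, Set.mem_insert_iff, id_eq,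
        Set.iUnion_iUnion_eq_or_left, Set.mem_union, SetLike.mem_coe, Set.mem_iUnion, exists_prop]
      exact Or.inr ⟨p, hp, hrp⟩
  rw [Ideal.subset_union_prime (f := id) (maximalIdeal A ^ 2) (maximalIdeal A ^ 2)
    (fun q hq hq1 _ => by
      have : q ∈ associatedPrimes A M := by
        rcases Finset.mem_insert.mp hq with h | h
        · exact absurd h hq1
        · simpa using h
      exact this.isPrime)] at hsub
  obtain ⟨q, hq, hmq⟩ := hsub
  rcases Finset.mem_insert.mp hq with h | h
  · rw [h] at hmq
    apply hm
    apply Submodule.eq_bot_of_le_smul_of_le_jacobson_bot (maximalIdeal A) (maximalIdeal A)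
      (IsNoetherian.noetherian _) _ (maximalIdeal_le_jacobson ⊥)
    rw [smul_eq_mul, ← pow_two]
    exact hmq
  · have hq' : q ∈ associatedPrimes A M := by simpa using h
    have hqm : q = maximalIdeal A :=
      le_antisymm (IsLocalRing.le_maximalIdeal hq'.isPrime.ne_top) hmq
    rw [hqm] at hq'
    obtain ⟨-, z, hz⟩ := isAssociatedPrime_iff.mp (AssociatedPrimes.mem_iff.mp hq')
    have hkill : ∀ a ∈ maximalIdeal A, a • z = 0 := by
      intro a ha
      rw [hz] at ha
      simpa [Submodule.mem_colon_singleton] using ha
    have hz0 : z ≠ 0 := by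
      rintro rfl
      have : (1 : A) ∈ maximalIdeal A := by
        rw [hz]
        simp [Submodule.mem_colon_singleton]
      exact (Ideal.ne_top_iff_one _).mp (maximalIdeal.isMaximal _).ne_top this
    exact Groth.Agent.H34.not_one_le_depth_of_killed z hz0 hkill hdepth

theorem free_of_depth_eq_dim : ∀ (d : ℕ) (A : Type u) [CommRing A] [IsRegularLocalRing A],
    ringKrullDim A = d → ∀ (M : Type u) [AddCommGroup M] [Module A M] [Module.Finite A M],
    LocCoh.depth A M = d → Module.Free A M := by
  intro d
  induction d with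
  | zero =>
    intro A _ _ hd M _ _ _ _
    have hsf : (maximalIdeal A).spanFinrank = 0 := by
      have := ringKrullDim_eq_spanFinrank A
      rw [hd] at this
      exact_mod_cast this.symm
    have hm : maximalIdeal A = ⊥ :=
      (Submodule.spanFinrank_eq_zero_iff_eq_bot (IsNoetherian.noetherian _)).mp hsf
    have : Module.FinitePresentation A M := Module.finitePresentation_of_finite A M
    apply Module.free_of_maximalIdeal_rTensor_injective
    have : Subsingleton (maximalIdeal A) := by
      rw [hm]
      infer_instance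
    intro a b _
    exact Subsingleton.elim _ _
  | succ d ih =>
    intro A _ _ hd M _ _ _ hdepth
    have hm : maximalIdeal A ≠ ⊥ := by
      intro hm
      have hsf : (maximalIdeal A).spanFinrank = 0 := by rw [hm]; exact Submodule.spanFinrank_bot
      have := ringKrullDim_eq_spanFinrank A
      rw [hd, hsf] at this
      have : d + 1 = 0 := by exact_mod_cast this
      omega
    obtain ⟨x, hxm, hx2, hxreg⟩ := exists_regular_notMem_sq A M hm (by
      rw [hdepth]
      exact_mod_cast Nat.le_add_left 1 d)
    obtain ⟨t, ht, hspan⟩ := exists_finset_span_insert A x hxm hx2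
    obtain ⟨hreg', hdim', -⟩ := quotient_regular A x t hspan ht.le
    have hI : Ideal.ofList [x] = Ideal.span {x} := Ideal.ofList_singleton x
    let e : (A ⧸ Ideal.span {x}) ≃+* (A ⧸ Ideal.ofList [x]) := Ideal.quotEquivOfEq hI.symm
    have hregI : IsRegularLocalRing (A ⧸ Ideal.ofList [x]) := IsRegularLocalRing.of_ringEquiv e
    have hdimI : ringKrullDim (A ⧸ Ideal.ofList [x]) = d := by
      rw [← ringKrullDim_eq_of_ringEquiv e]
      rw [hd] at hdim'
      obtain ⟨k, hk, -⟩ := exists_ringKrullDim_eq (A ⧸ Ideal.span {x})
      rw [hk] at hdim' ⊢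
      have : k + 1 = d + 1 := by exact_mod_cast hdim'
      have : k = d := by omega
      rw [this]
    have hlh : IsLocalHom (algebraMap A (A ⧸ Ideal.ofList [x])) :=
      IsLocalHom.of_surjective _ Ideal.Quotient.mk_surjective
    have hfinA : Module.Finite A (M ⧸ (Ideal.ofList [x] • (⊤ : Submodule A M))) := inferInstance
    have hfinI : Module.Finite (A ⧸ Ideal.ofList [x])
        (M ⧸ (Ideal.ofList [x] • (⊤ : Submodule A M))) :=
      Module.Finite.of_restrictScalars_finite A _ _
    have hdepthI : LocCoh.depth (A ⧸ Ideal.ofList [x])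
        (M ⧸ (Ideal.ofList [x] • (⊤ : Submodule A M))) = d := by
      rw [← DepthAB.depth_eq (A := A) (B := A ⧸ Ideal.ofList [x])]
      have e2 : QuotSMulTop x M ≃ₗ[A] (M ⧸ (Ideal.ofList [x] • (⊤ : Submodule A M))) :=
        Submodule.quotEquivOfEq _ _ (by rw [hI, Submodule.ideal_span_singleton_smul])
      have h1 := depth_quotSMulTop_add_one M x hxm hxreg
      rw [hdepth] at h1
      unfold LocCoh.depth at h1 ⊢
      rw [← Groth.Agent.H15.idealDepth_congr e2]
      have : LocCoh.idealDepth (maximalIdeal A) (QuotSMulTop x M) + 1 = (d : ℕ∞) + 1 := by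
        rw [h1]; rfl
      exact ENat.add_left_injective_of_ne_top ENat.one_ne_top this
    have hfree := ih (A ⧸ Ideal.ofList [x]) hdimI (M ⧸ (Ideal.ofList [x] • (⊤ : Submodule A M)))
      hdepthI
    have hid : IsLocalHom (algebraMap A A) := ⟨fun a h => h⟩
    have hdom : IsDomain A := isDomain A
    have hx0 : x ≠ 0 := by
      rintro rfl
      exact hx2 (Ideal.zero_mem _)
    have hAreg : IsWeaklyRegular A [x] := by
      rw [isWeaklyRegular_singleton_iff]
      intro a b hab
      exact mul_left_cancel₀ hx0 hab
    have hflat : Module.Flat A M :=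
      (Groth.Agent.S5777.result A A M [x] (by simpa using hxm) hAreg).mpr
        ⟨inferInstance, (isWeaklyRegular_singleton_iff M x).mpr hxreg⟩
    exact Module.free_of_flat_of_isLocalRing

theorem depth_eq_of_regular (A : Type u) [CommRing A] [IsRegularLocalRing A] (d : ℕ)
    (hd : ringKrullDim A = d) : LocCoh.depth A A = d := by
  obtain ⟨x, hx⟩ := exists_fin_span_eq A d hd
  have hreg := isRegular_ofFn A d hd x hx
  have hle : (d : ℕ∞) ≤ LocCoh.depth A A := by
    have := Groth.Agent.H15.le_idealDepth (maximalIdeal A) A hreg.toIsWeaklyRegular (by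
      intro r hr
      rw [← hx]
      obtain ⟨i, rfl⟩ := (List.mem_ofFn' x r).mp hr
      exact Ideal.subset_span ⟨i, rfl⟩)
    rw [List.length_ofFn] at this
    exact this
  have hge := depth_le_supportDim (A := A) A
  rw [Module.supportDim_self_eq_ringKrullDim, hd] at hge
  have hge' : LocCoh.depth A A ≤ (d : ℕ∞) := by exact_mod_cast hge
  exact le_antisymm hge' hle

theorem depth_of_free (A B : Type u) [CommRing A] [CommRing B] [IsLocalRing A] [IsNoetherianRing A]
    [IsLocalRing B] [Algebra A B] [IsLocalHom (algebraMap A B)] [Module.Finite A B]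
    [Module.Free A B] : LocCoh.depth A B = LocCoh.depth A A := by
  have hN : IsNoetherianRing B := IsNoetherianRing.of_finite A B
  have hflat : Module.Flat A B := inferInstance
  have hff : Module.FaithfullyFlat A B := Module.FaithfullyFlat.of_flat_of_isLocalHom
  have h1 := Groth.Agent.H72.DepthFinite.idealDepth_eq_idealDepth_map (A := A) (B := B)
    (maximalIdeal A) B
  have h2 := (Groth.Agent.S2938.result A B (maximalIdeal A) A).2 hff
  unfold LocCoh.depth
  rw [h1, ← h2]
  exact (Groth.Agent.H15.idealDepth_congr (AlgebraTensorModule.rid A B B) _).symm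

end RegFree

end Groth.Agent.H29
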