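import Groth.Agent.H29.DimL2
import Mathlib.RingTheory.Regular.RegularSequence

set_option autoImplicit false

namespace Groth.Agent.H29

namespace DimL

universe u

variable {A : Type u} [CommRing A]

/-- `(M/IM)/J(M/IM) ≃ M/(I ⊔ J)M` -/
noncomputable def quotQuotSMulEquiv (M : Type*) [AddCommGroup M] [Module A M] (I J : Ideal A) :
    ((M ⧸ (I • ⊤ : Submodule A M)) ⧸ (J • ⊤ : Submodule A (M ⧸ (I • ⊤ : Submodule A M)))) ≃ₗ[A]
      M ⧸ ((I ⊔ J) • ⊤ : Submodule A M) :=
  (Submodule.quotEquivOfEq _ _ (by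
    rw [Submodule.map_smul'', Submodule.map_top, Submodule.range_mkQ])).trans
  ((Submodule.quotientQuotientEquivQuotientSup (I • ⊤ : Submodule A M)
      (J • ⊤ : Submodule A M)).trans
    (Submodule.quotEquivOfEq _ _ (Submodule.sup_smul I J ⊤).symm))

theorem ofList_ofFn {n : ℕ} (y : Fin n → A) :
    Ideal.ofList (List.ofFn y) = Ideal.span (Set.range y) := by
  unfold Ideal.ofList
  congr 1
  ext a
  simp [List.mem_ofFn]

theorem span_range_get (l : List A) : Ideal.span (Set.range l.get) = Ideal.ofList l := by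
  unfold Ideal.ofList
  congr 1
  ext a
  simp [List.mem_iff_get]

variable [IsNoetherianRing A]

theorem supportDim_le_length_of_isFiniteLength (M : Type u) [AddCommGroup M] [Module A M]
    [Module.Finite A M] (l : List A) (hl : ∀ x ∈ l, x ∈ Ring.jacobson A)
    (hfl : IsFiniteLength A (M ⧸ (Ideal.ofList l • ⊤ : Submodule A M))) :
    Module.supportDim A M ≤ (l.length : WithBot ℕ∞) := by
  refine Groth.Agent.H17.supportDim_le_of_isFiniteLength_quotient M l.get
    (fun i => hl _ (List.get_mem l i)) ?_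
  rw [span_range_get]
  exact hfl

theorem exists_list_parameters [Finite (MaximalSpectrum A)] (d : ℕ) (M : Type u)
    [AddCommGroup M] [Module A M] [Module.Finite A M] (hd : Module.supportDim A M ≤ d) :
    ∃ ys : List A, ys.length ≤ d ∧ (∀ y ∈ ys, y ∈ Ring.jacobson A) ∧
      IsFiniteLength A (M ⧸ (Ideal.ofList ys • ⊤ : Submodule A M)) := by
  obtain ⟨n, y, hn, hy, hfl⟩ := Groth.Agent.H17.exists_parameters d M hd
  refine ⟨List.ofFn y, by simpa using hn, ?_, ?_⟩
  · intro a ha
    obtain ⟨i, rfl⟩ := List.mem_ofFn.mp ha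
    exact hy i
  · rw [ofList_ofFn]
    exact hfl

/-- `dim M ≤ dim M/IM + k` for `I` generated by `k` elements of the radical -/
theorem supportDim_le_supportDim_quotient_add_length [Finite (MaximalSpectrum A)] (M : Type u)
    [AddCommGroup M] [Module A M] [Module.Finite A M] [Nontrivial M] (xs : List A)
    (hxs : ∀ x ∈ xs, x ∈ Ring.jacobson A) :
    Nontrivial (M ⧸ (Ideal.ofList xs • ⊤ : Submodule A M)) ∧
    Module.supportDim A M ≤
      Module.supportDim A (M ⧸ (Ideal.ofList xs • ⊤ : Submodule A M)) + xs.length := by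
  have hI : Ideal.ofList xs ≤ Ring.jacobson A := by
    unfold Ideal.ofList
    rw [Ideal.span_le]
    exact fun x hx => hxs x hx
  have hnt : Nontrivial (M ⧸ (Ideal.ofList xs • ⊤ : Submodule A M)) := by
    rw [Submodule.Quotient.nontrivial_iff]
    intro htop
    have h1 : (⊤ : Submodule A M) = ⊥ :=
      Submodule.eq_bot_of_le_smul_of_le_jacobson_bot (Ideal.ofList xs) ⊤ Module.Finite.fg_top
        (le_of_eq htop.symm) (by rw [Ideal.jacobson_bot]; exact hI)
    exact (bot_ne_top (α := Submodule A M)) h1.symm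
  refine ⟨hnt, ?_⟩
  obtain ⟨n, hn⟩ := exists_nat_supportDim_le (A := A) (M ⧸ (Ideal.ofList xs • ⊤ : Submodule A M))
  obtain ⟨d', hd'⟩ := exists_nat_eq (Module.supportDim A (M ⧸ (Ideal.ofList xs • ⊤ : Submodule A M)))
    (Module.supportDim_ne_bot_of_nontrivial A _)
    (ne_top_of_le_ne_top (WithBot.coe_lt_coe.mpr (ENat.natCast_lt_top n)).ne hn)
  obtain ⟨ys, hys, hysj, hfl⟩ := exists_list_parameters d' _ hd'.le
  have hfl' : IsFiniteLength A (M ⧸ (Ideal.ofList (xs ++ ys) • ⊤ : Submodule A M)) := by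
    rw [Ideal.ofList_append]
    exact (quotQuotSMulEquiv M (Ideal.ofList xs) (Ideal.ofList ys)).isFiniteLength hfl
  have h2 := supportDim_le_length_of_isFiniteLength M (xs ++ ys) (by
    intro x hx
    rcases List.mem_append.mp hx with h | h
    · exact hxs x h
    · exact hysj x h) hfl'
  rw [hd']
  refine h2.trans ?_
  rw [List.length_append]
  have : xs.length + ys.length ≤ d' + xs.length := by omega
  exact_mod_cast this

end DimL

end Groth.Agent.H29
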