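import Groth.Agent.H15.Depth
import Groth.Agent.H29.DimL3
import Mathlib.RingTheory.KrullDimension.Regular
import Mathlib.RingTheory.Ideal.AssociatedPrime.Finiteness
import Groth.Agent.H9.Depth

set_option autoImplicit false
set_option linter.unusedSectionVars false

namespace Groth.Agent.H29

namespace CML

universe u

open RingTheory.Sequence IsLocalRing Groth.Agent.H15 Groth.Agent.H29.DimL Pointwise

variable {A : Type u} [CommRing A] [IsLocalRing A] [IsNoetherianRing A]

theorem smul_top_ne_top (M : Type u) [AddCommGroup M] [Module A M] [Module.Finite A M]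
    [Nontrivial M] : maximalIdeal A • (⊤ : Submodule A M) ≠ ⊤ :=
  (Submodule.top_ne_ideal_smul_of_le_jacobson_annihilator
    (IsLocalRing.maximalIdeal_le_jacobson _)).symm

theorem depth_eq_top_of_subsingleton (M : Type u) [AddCommGroup M] [Module A M]
    [Subsingleton M] : LocCoh.depth A M = ⊤ :=
  idealDepth_eq_top_of_smul_top_eq _ _ (Subsingleton.elim _ _)

theorem exists_nat_supportDim_eq (M : Type u) [AddCommGroup M] [Module A M] [Nontrivial M] :
    ∃ d : ℕ, Module.supportDim A M = d := by
  obtain ⟨n, hn⟩ := exists_nat_supportDim_le (A := A) M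
  exact exists_nat_eq (Module.supportDim A M) (Module.supportDim_ne_bot_of_nontrivial A _)
    (ne_top_of_le_ne_top (WithBot.coe_lt_coe.mpr (ENat.natCast_lt_top n)).ne hn)

/-- a regular sequence in the maximal ideal has length at most the dimension -/
theorem length_le_supportDim (M : Type u) [AddCommGroup M] [Module A M] [Module.Finite A M]
    [Nontrivial M] (rs : List A) (hreg : IsWeaklyRegular M rs)
    (hmem : ∀ r ∈ rs, r ∈ maximalIdeal A) :
    (rs.length : WithBot ℕ∞) ≤ Module.supportDim A M := by
  have reg : IsRegular M rs :=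
    isRegular_of_isWeaklyRegular_of_mem (maximalIdeal A) M (smul_top_ne_top M) hreg hmem
  have h := Module.supportDim_add_length_eq_supportDim_of_isRegular rs reg
  have hnt : Nontrivial (M ⧸ (Ideal.ofList rs • ⊤ : Submodule A M)) :=
    Submodule.Quotient.nontrivial_iff.mpr reg.2.symm
  have h0 : (0 : WithBot ℕ∞) ≤ Module.supportDim A (M ⧸ (Ideal.ofList rs • ⊤ : Submodule A M)) := by
    obtain ⟨d, hd⟩ := exists_nat_supportDim_eq (A := A) (M ⧸ (Ideal.ofList rs • ⊤ : Submodule A M))
    rw [hd]
    exact_mod_cast Nat.zero_le d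
  calc (rs.length : WithBot ℕ∞) = 0 + rs.length := (zero_add _).symm
    _ ≤ Module.supportDim A (M ⧸ (Ideal.ofList rs • ⊤ : Submodule A M)) + rs.length :=
      add_le_add_left h0 _
    _ = Module.supportDim A M := h

/-- `depth M ≤ dim M` -/
theorem depth_le_supportDim (M : Type u) [AddCommGroup M] [Module A M] [Module.Finite A M]
    [Nontrivial M] : ((LocCoh.depth A M : ℕ∞) : WithBot ℕ∞) ≤ Module.supportDim A M := by
  obtain ⟨d, hd⟩ := exists_nat_supportDim_eq (A := A) M
  rw [hd]
  have : LocCoh.depth A M ≤ (d : ℕ∞) := by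
    apply idealDepth_le_of_forall _ _ (smul_top_ne_top M)
    intro rs hrs hmem
    have := length_le_supportDim M rs hrs hmem
    rw [hd] at this
    exact_mod_cast this
  exact_mod_cast this

theorem exists_nat_depth_eq (M : Type u) [AddCommGroup M] [Module A M] [Module.Finite A M]
    [Nontrivial M] : ∃ d : ℕ, LocCoh.depth A M = d := by
  obtain ⟨d, hd⟩ := exists_nat_supportDim_eq (A := A) M
  have h := depth_le_supportDim (A := A) M
  rw [hd] at h
  have h' : LocCoh.depth A M ≤ (d : ℕ∞) := by exact_mod_cast h
  exact ⟨_, (ENat.natCast_toNat (ne_top_of_le_ne_top (ENat.natCast_ne_top d) h')).symm⟩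

/-- depth drops by exactly one modulo a regular element of the maximal ideal -/
theorem depth_quotSMulTop_add_one (M : Type u) [AddCommGroup M] [Module A M] [Module.Finite A M]
    (x : A) (hx : x ∈ maximalIdeal A) (hreg : IsSMulRegular M x) :
    LocCoh.depth A (QuotSMulTop x M) + 1 = LocCoh.depth A M := by
  rcases subsingleton_or_nontrivial M with hM | hM
  · rw [depth_eq_top_of_subsingleton M, depth_eq_top_of_subsingleton (QuotSMulTop x M)]
    rfl
  have hne := smul_top_ne_top (A := A) M
  have hne' : maximalIdeal A • (⊤ : Submodule A (QuotSMulTop x M)) ≠ ⊤ :=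
    smul_top_quotSMulTop_ne_top hx hne
  apply ENat.eq_of_forall_natCast_le_iff
  intro n
  cases n with
  | zero => simp
  | succ n =>
    constructor
    · intro h
      have h' : (n : ℕ∞) ≤ LocCoh.depth A (QuotSMulTop x M) := by
        have h2 : ((n : ℕ∞) + 1) ≤ LocCoh.depth A (QuotSMulTop x M) + 1 := by exact_mod_cast h
        exact (ENat.add_le_add_iff_right ENat.one_ne_top).mp h2
      obtain ⟨rs, hlen, hmem, hr⟩ :=
        exists_isRegular_of_le_idealDepth (maximalIdeal A) (QuotSMulTop x M) hne' n h'
      have hw : IsWeaklyRegular M (x :: rs) :=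
        (isWeaklyRegular_cons_iff M x rs).mpr ⟨hreg, hr.toIsWeaklyRegular⟩
      have := le_idealDepth (maximalIdeal A) M hw (by
        intro r hr'
        rcases List.mem_cons.mp hr' with rfl | h3
        · exact hx
        · exact hmem r h3)
      have h4 : (((n + 1 : ℕ)) : ℕ∞) ≤ LocCoh.idealDepth (maximalIdeal A) M := by
        simpa [hlen] using this
      exact h4
    · intro h
      have := le_idealDepth_quotSMulTop (maximalIdeal A) M x hx hreg n (by exact_mod_cast h)
      have h2 : ((n : ℕ∞) + 1) ≤ LocCoh.depth A (QuotSMulTop x M) + 1 :=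
        add_le_add_left this 1
      exact_mod_cast h2

omit [IsLocalRing A] [IsNoetherianRing A] in
theorem ringKrullDim_quotient_eq_coheight (q : PrimeSpectrum A) :
    ringKrullDim (A ⧸ q.asIdeal) = (Order.coheight q : WithBot ℕ∞) := by
  rw [ringKrullDim_quotient, Order.coheight_eq_krullDim_Ici]
  have : PrimeSpectrum.zeroLocus (q.asIdeal : Set A) = Set.Ici q := by
    ext x
    simp only [PrimeSpectrum.mem_zeroLocus, SetLike.coe_subset_coe, Set.mem_Ici]
    rfl
  rw [this]

omit [IsLocalRing A] [IsNoetherianRing A] in
theorem ringKrullDim_quotient_add_one_le_of_lt (p q : Ideal A) [hp : p.IsPrime] [hq : q.IsPrime]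
    (h : p < q) : ringKrullDim (A ⧸ q) + 1 ≤ ringKrullDim (A ⧸ p) := by
  have h1 := ringKrullDim_quotient_eq_coheight (⟨q, hq⟩ : PrimeSpectrum A)
  have h2 := ringKrullDim_quotient_eq_coheight (⟨p, hp⟩ : PrimeSpectrum A)
  simp only at h1 h2
  rw [h1, h2]
  have h3 : Order.coheight (⟨q, hq⟩ : PrimeSpectrum A) + 1 ≤
      Order.coheight (⟨p, hp⟩ : PrimeSpectrum A) :=
    Order.coheight_add_one_le (show (⟨p, hp⟩ : PrimeSpectrum A) < ⟨q, hq⟩ from h)
  exact_mod_cast h3

/-- `depth M ≤ dim A/p` for every associated prime `p` of `M` -/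
theorem le_ringKrullDim_quotient_of_le_depth : ∀ (n : ℕ) (M : Type u) [AddCommGroup M] [Module A M]
    [Module.Finite A M] (p : Ideal A), p ∈ associatedPrimes A M →
    (n : ℕ∞) ≤ LocCoh.depth A M → (n : WithBot ℕ∞) ≤ ringKrullDim (A ⧸ p) := by
  intro n
  induction n with
  | zero =>
    intro M _ _ _ p hp _
    have := hp.isPrime
    have : Nontrivial (A ⧸ p) := Ideal.Quotient.nontrivial_iff.mpr hp.isPrime.ne_top
    exact_mod_cast ringKrullDim_nonneg_of_nontrivial (R := A ⧸ p)
  | succ n ih =>
    intro M _ _ _ p hp hdepth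
    have hpprime : p.IsPrime := hp.isPrime
    have hMnt : Nontrivial M := by
      by_contra hcon
      rw [not_nontrivial_iff_subsingleton] at hcon
      exact not_isAssociatedPrime_of_subsingleton hp
    obtain ⟨rs, hlen, hmem, hr⟩ :=
      exists_isRegular_of_le_idealDepth (maximalIdeal A) M (smul_top_ne_top M) (n + 1) hdepth
    match rs, hlen, hmem, hr with
    | x :: rs', hlen, hmem, hr =>
      have hx : x ∈ maximalIdeal A := hmem x List.mem_cons_self
      have hxreg : IsSMulRegular M x := ((isRegular_cons_iff M x rs').mp hr).1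
      have hdepth' : (n : ℕ∞) ≤ LocCoh.depth A (QuotSMulTop x M) :=
        le_idealDepth_quotSMulTop (maximalIdeal A) M x hx hxreg n (by exact_mod_cast hdepth)
      -- the annihilated submodule
      obtain ⟨hpp, z, hz⟩ := isAssociatedPrime_iff.mp (AssociatedPrimes.mem_iff.mp hp)
      let N : Submodule A M :=
        { carrier := {w | ∀ a ∈ p, a • w = 0}
          add_mem' := fun {a b} ha hb c hc => by rw [smul_add, ha c hc, hb c hc, add_zero]
          zero_mem' := fun c _ => smul_zero c
          smul_mem' := fun c w hw a ha => by rw [smul_comm, hw a ha, smul_zero] }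
      have hzN : z ∈ N := by
        intro a ha
        rw [hz] at ha
        simpa [Submodule.mem_colon_singleton] using ha
      have hz0 : z ≠ 0 := by
        rintro rfl
        apply hpp.ne_top
        rw [hz, Ideal.eq_top_iff_one]
        simp [Submodule.mem_colon_singleton]
      have hNx : ¬ N ≤ x • (⊤ : Submodule A M) := by
        intro hle
        have hNle : N ≤ (Ideal.span {x}) • N := by
          intro w hw
          obtain ⟨w', -, rfl⟩ := hle hw
          have hw'N : w' ∈ N := by
            intro a ha
            have h1 : x • (a • w') = 0 := by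
              rw [smul_comm]
              exact hw a ha
            exact hxreg (show x • (a • w') = x • 0 by rw [h1, smul_zero])
          exact Submodule.smul_mem_smul (Ideal.mem_span_singleton_self x) hw'N
        have hN0 : N = ⊥ := Submodule.eq_bot_of_le_smul_of_le_jacobson_bot (Ideal.span {x}) N
          (IsNoetherian.noetherian N) hNle (by
            rw [Ideal.span_le, Set.singleton_subset_iff]
            exact IsLocalRing.maximalIdeal_le_jacobson _ hx)
        exact hz0 (by simpa [hN0] using hzN)
      obtain ⟨w, hwN, hwx⟩ := Set.not_subset.mp hNx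
      let wbar : QuotSMulTop x M := Submodule.mkQ _ w
      have hwbar : wbar ≠ 0 := by
        intro h0
        exact hwx ((Submodule.Quotient.mk_eq_zero _).mp h0)
      obtain ⟨q, hqass, hqle⟩ := exists_le_isAssociatedPrime_of_isNoetherianRing A wbar hwbar
      have hqprime : q.IsPrime := hqass.isPrime
      have hpq : p ≤ q := by
        intro a ha
        apply hqle
        rw [Submodule.mem_colon_singleton, Submodule.mem_bot]
        change a • Submodule.mkQ _ w = 0
        rw [← map_smul, hwN a ha, map_zero]
      have hxq : x ∈ q := by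
        apply hqle
        rw [Submodule.mem_colon_singleton, Submodule.mem_bot]
        change x • Submodule.mkQ _ w = 0
        rw [← map_smul]
        exact (Submodule.Quotient.mk_eq_zero _).mpr
          (Submodule.smul_mem_pointwise_smul _ _ _ Submodule.mem_top)
      have hxp : x ∉ p := by
        intro hxp
        have : x • z = 0 := hzN x hxp
        exact hz0 (hxreg (show x • z = x • 0 by rw [this, smul_zero]))
      have hlt : p < q := lt_of_le_of_ne hpq (fun h => hxp (h ▸ hxq))
      have h1 := ih (QuotSMulTop x M) q hqass hdepth'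
      have h2 := ringKrullDim_quotient_add_one_le_of_lt p q hlt
      calc ((n + 1 : ℕ) : WithBot ℕ∞) = (n : WithBot ℕ∞) + 1 := by push_cast; rfl
        _ ≤ ringKrullDim (A ⧸ q) + 1 := add_le_add_left h1 1
        _ ≤ ringKrullDim (A ⧸ p) := h2

theorem depth_le_ringKrullDim_quotient (M : Type u) [AddCommGroup M] [Module A M]
    [Module.Finite A M] (p : Ideal A) (hp : p ∈ associatedPrimes A M) :
    ((LocCoh.depth A M : ℕ∞) : WithBot ℕ∞) ≤ ringKrullDim (A ⧸ p) := by
  have hMnt : Nontrivial M := by
    by_contra hcon
    rw [not_nontrivial_iff_subsingleton] at hcon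
    exact not_isAssociatedPrime_of_subsingleton hp
  obtain ⟨d, hd⟩ := exists_nat_depth_eq (A := A) M
  rw [hd]
  exact le_ringKrullDim_quotient_of_le_depth d M p hp (le_of_eq hd.symm)

omit [IsLocalRing A] [IsNoetherianRing A] in
theorem mem_support_of_mem_associatedPrimes (M : Type u) [AddCommGroup M] [Module A M]
    [Module.Finite A M] (p : Ideal A) (hp : p ∈ associatedPrimes A M) :
    (⟨p, hp.isPrime⟩ : PrimeSpectrum A) ∈ Module.support A M := by
  rw [Module.support_eq_zeroLocus]
  have := hp.annihilator_le
  rw [Submodule.annihilator_top] at this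
  exact this

theorem nontrivial_of_isCM (M : Type u) [AddCommGroup M] [Module A M]
    (hM : LocCoh.IsCohenMacaulayModule A M) : Nontrivial M := by
  by_contra hcon
  rw [not_nontrivial_iff_subsingleton] at hcon
  unfold LocCoh.IsCohenMacaulayModule at hM
  rw [Module.supportDim_eq_bot_of_subsingleton] at hM
  exact WithBot.bot_ne_coe hM

/-- S5757: no embedded primes, all associated primes have maximal dimension -/
theorem ringKrullDim_quotient_eq_supportDim_of_isCM (M : Type u) [AddCommGroup M] [Module A M]
    [Module.Finite A M] (hM : LocCoh.IsCohenMacaulayModule A M) (p : Ideal A)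
    (hp : p ∈ associatedPrimes A M) : ringKrullDim (A ⧸ p) = Module.supportDim A M := by
  apply le_antisymm
  · exact ringKrullDim_quotient_le_supportDim M ⟨p, hp.isPrime⟩
      (mem_support_of_mem_associatedPrimes M p hp)
  · rw [hM]
    exact depth_le_ringKrullDim_quotient M p hp

theorem isCM_of_equiv {M N : Type u} [AddCommGroup M] [Module A M] [AddCommGroup N] [Module A N]
    (e : M ≃ₗ[A] N) (hM : LocCoh.IsCohenMacaulayModule A M) :
    LocCoh.IsCohenMacaulayModule A N := by
  unfold LocCoh.IsCohenMacaulayModule LocCoh.depth at hM ⊢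
  rw [← Module.supportDim_eq_of_equiv e, ← idealDepth_congr e]
  exact hM

theorem isCM_quotSMulTop (M : Type u) [AddCommGroup M] [Module A M] [Module.Finite A M]
    (hM : LocCoh.IsCohenMacaulayModule A M) (x : A) (hx : x ∈ maximalIdeal A)
    (hreg : IsSMulRegular M x) : LocCoh.IsCohenMacaulayModule A (QuotSMulTop x M) := by
  have hMnt := nontrivial_of_isCM M hM
  have hQnt : Nontrivial (QuotSMulTop x M) := nontrivial_quotSMulTop_of_mem_maximalIdeal M hx
  have h1 := Module.supportDim_quotSMulTop_succ_eq_supportDim hreg hx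
  have h2 := depth_quotSMulTop_add_one M x hx hreg
  obtain ⟨e, he⟩ := exists_nat_supportDim_eq (A := A) (QuotSMulTop x M)
  obtain ⟨f, hf⟩ := exists_nat_depth_eq (A := A) (QuotSMulTop x M)
  unfold LocCoh.IsCohenMacaulayModule at hM ⊢
  rw [he, hf]
  rw [he, hM, ← h2, hf] at h1
  have : e + 1 = f + 1 := by exact_mod_cast h1
  have : e = f := by omega
  rw [this]
  rfl

theorem isCM_quotient_of_isWeaklyRegular (xs : List A) : ∀ (M : Type u) [AddCommGroup M]
    [Module A M] [Module.Finite A M], LocCoh.IsCohenMacaulayModule A M →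
    (∀ x ∈ xs, x ∈ maximalIdeal A) → IsWeaklyRegular M xs →
    LocCoh.IsCohenMacaulayModule A (M ⧸ (Ideal.ofList xs • ⊤ : Submodule A M)) := by
  induction xs with
  | nil =>
    intro M _ _ _ hM _ _
    refine isCM_of_equiv (Submodule.quotEquivOfEqBot _ ?_).symm hM
    simp
  | cons x xs ih =>
    intro M _ _ _ hM hmem hreg
    rw [isWeaklyRegular_cons_iff] at hreg
    have hx : x ∈ maximalIdeal A := hmem x List.mem_cons_self
    have h1 := isCM_quotSMulTop M hM x hx hreg.1
    have h2 := ih (QuotSMulTop x M) h1 (fun y hy => hmem y (List.mem_cons_of_mem _ hy)) hreg.2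
    exact isCM_of_equiv (Submodule.quotOfListConsSMulTopEquivQuotSMulTopInner M x xs).symm h2

/-- in a CM module, an element of the maximal ideal dropping the dimension is regular -/
theorem isSMulRegular_of_supportDim_quotSMulTop (M : Type u) [AddCommGroup M] [Module A M]
    [Module.Finite A M] (hM : LocCoh.IsCohenMacaulayModule A M) (x : A)
    (h : Module.supportDim A (QuotSMulTop x M) + 1 = Module.supportDim A M) :
    IsSMulRegular M x := by
  by_contra hnot
  have hx : x ∈ ⋃ p ∈ associatedPrimes A M, (p : Set A) := by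
    rw [biUnion_associatedPrimes_eq_compl_regular]
    exact hnot
  simp only [Set.mem_iUnion] at hx
  obtain ⟨p, hp, hxp⟩ := hx
  have hdim := ringKrullDim_quotient_eq_supportDim_of_isCM M hM p hp
  have hsupp := mem_support_of_mem_associatedPrimes M p hp
  have hsupp' : (⟨p, hp.isPrime⟩ : PrimeSpectrum A) ∈ Module.support A (QuotSMulTop x M) := by
    rw [Module.support_quotSMulTop]
    exact ⟨hsupp, by simpa using hxp⟩
  have hle := ringKrullDim_quotient_le_supportDim (QuotSMulTop x M) ⟨p, hp.isPrime⟩ hsupp'
  have hQnt : Nontrivial (QuotSMulTop x M) := by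
    rw [← Module.nonempty_support_iff (R := A)]
    exact ⟨_, hsupp'⟩
  obtain ⟨e, he⟩ := exists_nat_supportDim_eq (A := A) (QuotSMulTop x M)
  simp only at hle
  rw [hdim, ← h, he] at hle
  have : e + 1 ≤ e := by exact_mod_cast hle
  omega

theorem isWeaklyRegular_of_supportDim_eq (xs : List A) : ∀ (M : Type u) [AddCommGroup M]
    [Module A M] [Module.Finite A M], LocCoh.IsCohenMacaulayModule A M →
    (∀ x ∈ xs, x ∈ maximalIdeal A) →
    Module.supportDim A (M ⧸ (Ideal.ofList xs • ⊤ : Submodule A M)) + xs.length =
      Module.supportDim A M → IsWeaklyRegular M xs := by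
  induction xs with
  | nil =>
    intro M _ _ _ _ _ _
    exact IsWeaklyRegular.nil A M
  | cons x xs ih =>
    intro M _ _ _ hM hmem hdim
    have hMnt := nontrivial_of_isCM M hM
    have hx : x ∈ maximalIdeal A := hmem x List.mem_cons_self
    have hxs : ∀ y ∈ xs, y ∈ maximalIdeal A := fun y hy => hmem y (List.mem_cons_of_mem _ hy)
    have hQnt : Nontrivial (QuotSMulTop x M) := nontrivial_quotSMulTop_of_mem_maximalIdeal M hx
    obtain ⟨hnt2, hG1⟩ := supportDim_le_supportDim_quotient_add_length (QuotSMulTop x M) xs
      (by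
        intro y hy
        rw [IsLocalRing.ringJacobson_eq_maximalIdeal]
        exact hxs y hy)
    have hG2 := Module.supportDim_le_supportDim_quotSMulTop_succ (M := M) hx
    have he := Module.supportDim_eq_of_equiv
      (Submodule.quotOfListConsSMulTopEquivQuotSMulTopInner M x xs)
    rw [he] at hdim
    obtain ⟨dM, hdM⟩ := exists_nat_supportDim_eq (A := A) M
    obtain ⟨dM', hdM'⟩ := exists_nat_supportDim_eq (A := A) (QuotSMulTop x M)
    obtain ⟨a, ha⟩ := exists_nat_supportDim_eq (A := A)
      (QuotSMulTop x M ⧸ (Ideal.ofList xs • ⊤ : Submodule A (QuotSMulTop x M)))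
    rw [ha, hdM] at hdim
    rw [ha, hdM'] at hG1
    rw [hdM, hdM'] at hG2
    simp only [List.length_cons] at hdim
    have e1 : a + (xs.length + 1) = dM := by exact_mod_cast hdim
    have e2 : dM' ≤ a + xs.length := by exact_mod_cast hG1
    have e3 : dM ≤ dM' + 1 := by exact_mod_cast hG2
    have hreg : IsSMulRegular M x := by
      apply isSMulRegular_of_supportDim_quotSMulTop M hM x
      rw [hdM, hdM']
      have : dM' + 1 = dM := by omega
      exact_mod_cast this
    have hCM' := isCM_quotSMulTop M hM x hx hreg
    have hreg' := ih (QuotSMulTop x M) hCM' hxs (by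
      rw [ha, hdM']
      have : a + xs.length = dM' := by omega
      exact_mod_cast this)
    exact (isWeaklyRegular_cons_iff M x xs).mpr ⟨hreg, hreg'⟩

/-- S5759: unmixedness of all quotients by parts of systems of parameters implies CM -/
theorem isCM_of_unmixed : ∀ (d : ℕ) (M : Type u) [AddCommGroup M] [Module A M]
    [Module.Finite A M] [Nontrivial M], Module.supportDim A M = d →
    (∀ xs : List A, (∀ x ∈ xs, x ∈ maximalIdeal A) →
      Module.supportDim A (M ⧸ (Ideal.ofList xs • (⊤ : Submodule A M))) + xs.length =
        Module.supportDim A M →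
        ∀ p ∈ associatedPrimes A (M ⧸ (Ideal.ofList xs • (⊤ : Submodule A M))),
          ringKrullDim (A ⧸ p) =
            Module.supportDim A (M ⧸ (Ideal.ofList xs • (⊤ : Submodule A M)))) →
    LocCoh.IsCohenMacaulayModule A M := by
  intro d
  induction d with
  | zero =>
    intro M _ _ _ _ hd _
    have h1 := depth_le_supportDim (A := A) M
    unfold LocCoh.IsCohenMacaulayModule
    rw [hd] at h1 ⊢
    have : LocCoh.depth A M ≤ 0 := by exact_mod_cast h1
    rw [nonpos_iff_eq_zero.mp this]
    rfl
  | succ d ih =>
    intro M _ _ _ _ hd h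
    let e0 : (M ⧸ (Ideal.ofList ([] : List A) • ⊤ : Submodule A M)) ≃ₗ[A] M :=
      Submodule.quotEquivOfEqBot _ (by simp)
    have h0 := h [] (by simp) (by
      rw [Module.supportDim_eq_of_equiv e0]
      simp)
    have hm : maximalIdeal A ∉ associatedPrimes A M := by
      intro hmass
      have h1 := h0 (maximalIdeal A) (by rw [LinearEquiv.AssociatedPrimes.eq e0]; exact hmass)
      rw [Module.supportDim_eq_of_equiv e0, hd] at h1
      have h2 : ringKrullDim (A ⧸ maximalIdeal A) = 0 :=
        ringKrullDim_eq_zero_of_isField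
          ((Ideal.Quotient.maximal_ideal_iff_isField_quotient _).mp (maximalIdeal.isMaximal A))
      rw [h2] at h1
      have : (0 : ℕ) = d + 1 := by exact_mod_cast h1
      omega
    obtain ⟨x, hx, hreg⟩ :=
      Groth.Agent.H9.exists_isSMulRegular_mem_of_notMem_associatedPrimes (maximalIdeal A) hm
    have hQnt : Nontrivial (QuotSMulTop x M) := nontrivial_quotSMulTop_of_mem_maximalIdeal M hx
    have hdim := Module.supportDim_quotSMulTop_succ_eq_supportDim hreg hx
    have hdepth := depth_quotSMulTop_add_one M x hx hreg
    obtain ⟨d', hd'⟩ := exists_nat_supportDim_eq (A := A) (QuotSMulTop x M)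
    have hdd : d' = d := by
      rw [hd', hd] at hdim
      have : d' + 1 = d + 1 := by exact_mod_cast hdim
      omega
    subst hdd
    have hCM' : LocCoh.IsCohenMacaulayModule A (QuotSMulTop x M) := by
      apply ih (QuotSMulTop x M) hd'
      intro xs hxs hxsdim p hp
      let e := Submodule.quotOfListConsSMulTopEquivQuotSMulTopInner M x xs
      have h1 := h (x :: xs) (by
        intro y hy
        rcases List.mem_cons.mp hy with rfl | hy'
        · exact hx
        · exact hxs y hy') (by
        rw [Module.supportDim_eq_of_equiv e, List.length_cons, ← hdim, ← hxsdim]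
        push_cast
        rw [add_assoc]) p (by rw [LinearEquiv.AssociatedPrimes.eq e]; exact hp)
      rw [Module.supportDim_eq_of_equiv e] at h1
      exact h1
    unfold LocCoh.IsCohenMacaulayModule at hCM' ⊢
    rw [← hdim, hCM', ← hdepth]
    rfl

end CML

end Groth.Agent.H29
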