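import Mathlib
import Groth.Agent.H29.GlDim
import Groth.Agent.Lead.DepthZero

set_option autoImplicit false

namespace Groth.Agent.H29

namespace Vasc

universe u

open CategoryTheory IsLocalRing

variable {R : Type u} [CommRing R]

/-- projective dimension localizes -/
theorem localized_pd (q : Ideal R) [q.IsPrime] (M : Type u) [AddCommGroup M] [Module R M] (n : ℕ)
    (h : HasProjectiveDimensionLT (ModuleCat.of R M) (n + 1)) :
    HasProjectiveDimensionLT (ModuleCat.of (Localization.AtPrime q)
      (LocalizedModule q.primeCompl M)) (n + 1) := by
  have : HasProjectiveDimensionLE (ModuleCat.of R M) n := h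
  have h1 := ModuleCat.localizedModule_hasProjectiveDimensionLE n q.primeCompl (ModuleCat.of R M)
  have e : ((ModuleCat.of R M).localizedModule q.primeCompl) ≅
      ModuleCat.of (Localization.AtPrime q) (LocalizedModule q.primeCompl M) :=
    (Shrink.linearEquiv (Localization.AtPrime q) (LocalizedModule q.primeCompl M)).toModuleIso
  exact hasProjectiveDimensionLT_of_iso e (n + 1)

theorem split_aux (q : Ideal R) [q.IsPrime] {K F M : Type u} [AddCommGroup K] [Module R K]
    [AddCommGroup F] [Module R F] [Module.Projective R F] [AddCommGroup M] [Module R M]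
    [Module.Finite R K]
    [Module.Finite R M]
    (i : K →ₗ[R] F) (g : F →ₗ[R] M) (hinj : Function.Injective i) (hg : Function.Surjective g)
    (hexact : Function.Exact i g)
    (hfree : Module.Free (Localization.AtPrime q) (LocalizedModule q.primeCompl M)) :
    Module.Free (Localization.AtPrime q) (LocalizedModule q.primeCompl K) ∧
      Module.finrank (Localization.AtPrime q) (LocalizedModule q.primeCompl F) =
        Module.finrank (Localization.AtPrime q) (LocalizedModule q.primeCompl K) +
        Module.finrank (Localization.AtPrime q) (LocalizedModule q.primeCompl M) := by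
  have hgq : Function.Surjective (LocalizedModule.map q.primeCompl g) :=
    LocalizedModule.map_surjective q.primeCompl g hg
  have hiq : Function.Injective (LocalizedModule.map q.primeCompl i) :=
    LocalizedModule.map_injective q.primeCompl i hinj
  have hex : Function.Exact (LocalizedModule.map q.primeCompl i)
      (LocalizedModule.map q.primeCompl g) :=
    LocalizedModule.map_exact q.primeCompl i g hexact
  obtain ⟨s, hs⟩ := Module.projective_lifting_property (LocalizedModule.map q.primeCompl g)
    LinearMap.id hgq
  have key := Function.Exact.splitSurjectiveEquiv (R := Localization.AtPrime q)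
    (f := LocalizedModule.map q.primeCompl i) (g := LocalizedModule.map q.primeCompl g)
    hex hiq
  obtain ⟨e, he1, he2⟩ := key ⟨s, hs⟩
  have hKproj : Module.Projective (Localization.AtPrime q) (LocalizedModule q.primeCompl K) := by
    refine Module.Projective.of_split (LocalizedModule.map q.primeCompl i)
      ((LinearMap.fst _ _ _) ∘ₗ e.toLinearMap) ?_
    ext z
    rw [he1]
    simp
  have hKfree : Module.Free (Localization.AtPrime q) (LocalizedModule q.primeCompl K) :=
    Module.free_of_flat_of_isLocalRing
  refine ⟨hKfree, ?_⟩
  have h3 := e.finrank_eq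
  rw [Module.finrank_prod] at h3
  exact h3

/-- Euler characteristic: the rank of `M_q` at the primes where it is free is constant -/
theorem exists_rank [IsLocalRing R] [IsNoetherianRing R] : ∀ (n : ℕ) (M : Type u) [AddCommGroup M]
    [Module R M] [Module.Finite R M],
    HasProjectiveDimensionLT (ModuleCat.of R M) (n + 1) →
    ∃ r : ℤ, ∀ (q : Ideal R) [q.IsPrime],
      Module.Free (Localization.AtPrime q) (LocalizedModule q.primeCompl M) →
      (Module.finrank (Localization.AtPrime q) (LocalizedModule q.primeCompl M) : ℤ) = r := by
  intro n
  induction n with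
  | zero =>
    intro M _ _ _ h
    rw [zero_add, ← projective_iff_hasProjectiveDimensionLT_one] at h
    have : Module.Projective R M := (IsProjective.iff_projective M).mpr h
    have : Module.Free R M := Module.free_of_flat_of_isLocalRing
    refine ⟨Module.finrank R M, fun q _ _ => ?_⟩
    rw [Module.finrank_of_isLocalizedModule_of_free (Localization.AtPrime q) q.primeCompl
      (LocalizedModule.mkLinearMap q.primeCompl M)]
  | succ n ih =>
    intro M _ _ _ h
    obtain ⟨m, g, hg⟩ := Module.Finite.exists_fin' R M
    let K := LinearMap.ker g
    have hexact : Function.Exact K.subtype g := LinearMap.exact_subtype_ker_map g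
    have hinj : Function.Injective K.subtype := Subtype.val_injective
    have hS := GlDimL.shortExact_of_exact K.subtype g hinj hg hexact
    have hproj : Projective (ModuleCat.of R (Fin m → R)) :=
      (IsProjective.iff_projective _).mp inferInstance
    have hK : HasProjectiveDimensionLT (ModuleCat.of R K) (n + 1) :=
      (hS.hasProjectiveDimensionLT_X₃_iff n hproj).mp h
    obtain ⟨rK, hrK⟩ := ih K hK
    refine ⟨m - rK, fun q _ hfree => ?_⟩
    obtain ⟨hKfree, h3⟩ := split_aux q K.subtype g hinj hg hexact hfree
    have h1 := hrK q hKfree
    have h2 : Module.finrank (Localization.AtPrime q) (LocalizedModule q.primeCompl (Fin m → R))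
        = m := by
      rw [Module.finrank_of_isLocalizedModule_of_free (Localization.AtPrime q) q.primeCompl
        (LocalizedModule.mkLinearMap q.primeCompl (Fin m → R))]
      simp
    rw [h2] at h3
    omega

/-- depth zero Auslander–Buchsbaum at an associated prime -/
theorem free_localized_of_mem_associatedPrimes [IsNoetherianRing R] (q : Ideal R) [q.IsPrime]
    (hq : q ∈ associatedPrimes R R) (M : Type u) [AddCommGroup M] [Module R M] [Module.Finite R M]
    (n : ℕ) (hpd : HasProjectiveDimensionLT (ModuleCat.of R M) (n + 1)) :
    Module.Free (Localization.AtPrime q) (LocalizedModule q.primeCompl M) := by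
  obtain ⟨-, y, hy⟩ := isAssociatedPrime_iff.mp (AssociatedPrimes.mem_iff.mp hq)
  have hmem : ∀ t : R, t ∈ q ↔ t * y = 0 := by
    intro t
    rw [hy, Submodule.mem_colon_singleton, Submodule.mem_bot, smul_eq_mul]
  have ha : algebraMap R (Localization.AtPrime q) y ≠ 0 := by
    intro h0
    rw [IsLocalization.map_eq_zero_iff q.primeCompl] at h0
    obtain ⟨s, hs⟩ := h0
    exact s.2 ((hmem s.1).mpr hs)
  have ham : ∀ z ∈ maximalIdeal (Localization.AtPrime q),
      z * algebraMap R (Localization.AtPrime q) y = 0 := by
    intro z hz
    obtain ⟨t, s, rfl⟩ := IsLocalization.exists_mk'_eq q.primeCompl z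
    rw [IsLocalization.AtPrime.mk'_mem_maximal_iff (Localization.AtPrime q) q] at hz
    rw [mul_comm, IsLocalization.mul_mk'_eq_mk'_of_mul, mul_comm, (hmem t).mp hz,
      IsLocalization.mk'_zero]
  exact Groth.Agent.Lead.PdQuot.free_of_hasProjectiveDimensionLT_of_socle _ ha ham n
    (LocalizedModule q.primeCompl M) (localized_pd q M n hpd)

/-- a nonzero ideal of finite projective dimension in a Noetherian local ring is not contained in
any associated prime of the ring (so it contains a nonzerodivisor) -/
theorem not_le_of_mem_associatedPrimes [IsLocalRing R] [IsNoetherianRing R] (I : Ideal R)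
    (hI : I ≠ ⊥) (n : ℕ) (hpd : HasProjectiveDimensionLT (ModuleCat.of R I) (n + 1)) (p : Ideal R)
    (hp : p ∈ associatedPrimes R R) : ¬ I ≤ p := by
  intro hIp
  have hpprime : p.IsPrime := (AssociatedPrimes.mem_iff.mp hp).isPrime
  obtain ⟨r, hr⟩ := exists_rank n I hpd
  have hfree_p := free_localized_of_mem_associatedPrimes p hp I n hpd
  have hsub : Subsingleton (LocalizedModule p.primeCompl I) := by
    obtain ⟨-, y, hy⟩ := isAssociatedPrime_iff.mp (AssociatedPrimes.mem_iff.mp hp)
    have hmem : ∀ t : R, t ∈ p ↔ t * y = 0 := by
      intro t
      rw [hy, Submodule.mem_colon_singleton, Submodule.mem_bot, smul_eq_mul]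
    have ha : algebraMap R (Localization.AtPrime p) y ≠ 0 := by
      intro h0
      rw [IsLocalization.map_eq_zero_iff p.primeCompl] at h0
      obtain ⟨s, hs⟩ := h0
      exact s.2 ((hmem s.1).mpr hs)
    by_contra hns
    rw [not_subsingleton_iff_nontrivial] at hns
    let b := Module.Free.chooseBasis (Localization.AtPrime p) (LocalizedModule p.primeCompl I)
    obtain ⟨i⟩ := b.index_nonempty
    have hkill : ∀ z : LocalizedModule p.primeCompl I, y • z = 0 := by
      intro z
      induction z using LocalizedModule.induction_on with
      | h m s =>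
        rw [LocalizedModule.smul'_mk]
        have : y • m = 0 := Subtype.ext (by
          have := (hmem m.1).mp (hIp m.2)
          simpa [mul_comm] using this)
        rw [this, LocalizedModule.zero_mk]
    have h1 : algebraMap R (Localization.AtPrime p) y • b i = 0 := by
      rw [algebraMap_smul]
      exact hkill _
    have h2 := congrArg (fun v => b.repr v i) h1
    simp only [map_smul, Finsupp.smul_apply, Module.Basis.repr_self, Finsupp.single_eq_same,
      smul_eq_mul, mul_one, map_zero, Finsupp.zero_apply] at h2
    exact ha h2
  have hr0 : r = 0 := by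
    rw [← hr p hfree_p, Module.finrank_eq_zero_of_subsingleton]
    rfl
  obtain ⟨x, hxI, hx0⟩ := Submodule.exists_mem_ne_zero_of_ne_bot hI
  obtain ⟨q, hq, hle⟩ := exists_le_isAssociatedPrime_of_isNoetherianRing R x hx0
  have hqprime : q.IsPrime := hq.isPrime
  have hfree_q := free_localized_of_mem_associatedPrimes q hq I n hpd
  have hrank := hr q hfree_q
  rw [hr0] at hrank
  have hsubq : Subsingleton (LocalizedModule q.primeCompl I) := by
    rw [← Module.finrank_eq_zero_iff_of_free (Localization.AtPrime q)]
    exact_mod_cast hrank
  have h0 : LocalizedModule.mk (⟨x, hxI⟩ : I) (1 : q.primeCompl) = 0 := Subsingleton.elim _ _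
  rw [← LocalizedModule.zero_mk 1, LocalizedModule.mk_eq] at h0
  obtain ⟨u, hu⟩ := h0
  simp only [one_smul, smul_zero] at hu
  have hux : (u : R) * x = 0 := congrArg Subtype.val hu
  apply u.2
  apply hle
  rw [Submodule.mem_colon_singleton, Submodule.mem_bot, smul_eq_mul]
  exact hux

end Vasc

end Groth.Agent.H29
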