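import Mathlib
import Groth.Agent.Lead.PdQuot
import Groth.Agent.Lead.DepthZero
import Groth.Agent.H29.CM
import Groth.Agent.H29.DepthAB
import Groth.Agent.H34.Sk
import Groth.Agent.H9.Depth

set_option autoImplicit false

namespace Groth.Agent.H29

namespace AB

universe u

open CategoryTheory IsLocalRing RingTheory.Sequence Pointwise Groth.Agent.Lead.PdQuot

variable {R : Type u} [CommRing R] [IsLocalRing R] [IsNoetherianRing R]

theorem isLocalRing_quotient (x : R) (hxm : x ∈ maximalIdeal R) :
    IsLocalRing (R ⧸ Ideal.span {x}) := by
  have hne : Ideal.span {x} ≠ ⊤ := fun h =>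
    (maximalIdeal.isMaximal R).ne_top (top_le_iff.mp (h ▸ (Ideal.span_singleton_le_iff_mem _).mpr hxm))
  have : Nontrivial (R ⧸ Ideal.span {x}) := Ideal.Quotient.nontrivial_iff.mpr hne
  exact IsLocalRing.of_surjective' (Ideal.Quotient.mk _) Ideal.Quotient.mk_surjective

/-- converse change of rings: `pd_R M ≤ pd_{R/x} M/xM` -/
theorem hasProjectiveDimensionLT_of_quotSMulTop (x : R) (hxm : x ∈ maximalIdeal R)
    (hx : IsSMulRegular R x) :
    ∀ (n : ℕ) (M : Type u) [AddCommGroup M] [Module R M] [Module.Finite R M], IsSMulRegular M x →
    HasProjectiveDimensionLT (ModuleCat.of (R ⧸ Ideal.span {x}) (QuotSMulTop x M)) (n + 1) →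
    HasProjectiveDimensionLT (ModuleCat.of R M) (n + 1) := by
  have hloc := isLocalRing_quotient x hxm
  intro n
  induction n with
  | zero =>
    intro M _ _ _ hreg h
    rw [zero_add, ← projective_iff_hasProjectiveDimensionLT_one] at h ⊢
    have hproj : Module.Projective (R ⧸ Ideal.span {x}) (QuotSMulTop x M) :=
      (IsProjective.iff_projective _).mpr h
    have hfin : Module.Finite (R ⧸ Ideal.span {x}) (QuotSMulTop x M) :=
      Module.Finite.of_restrictScalars_finite R _ _
    have hfree : Module.Free (R ⧸ Ideal.span {x}) (QuotSMulTop x M) :=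
      Module.free_of_flat_of_isLocalRing
    have hfp : Module.FinitePresentation R M := Module.finitePresentation_of_finite R M
    have : Module.Free R M :=
      (Module.free_quotSMulTop_iff_free R M (maximalIdeal_le_jacobson ⊥ hxm) hreg).mp hfree
    exact (IsProjective.iff_projective _).mp inferInstance
  | succ n ih =>
    intro M _ _ _ hreg h
    obtain ⟨m, g, hg⟩ := Module.Finite.exists_fin' R M
    let K := LinearMap.ker g
    have hexact : Function.Exact K.subtype g := LinearMap.exact_subtype_ker_map g
    have hinj : Function.Injective K.subtype := Subtype.val_injective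
    have hS := Groth.Agent.H29.GlDimL.shortExact_of_exact K.subtype g hinj hg hexact
    have hproj : Projective (ModuleCat.of R (Fin m → R)) :=
      (IsProjective.iff_projective _).mp inferInstance
    have hFreg : IsSMulRegular (Fin m → R) x := by
      intro a b hab
      funext i
      exact hx (congrFun hab i)
    have hKreg : IsSMulRegular K x := isSMulRegular_of_injective x K.subtype hinj hFreg
    have hS' := Groth.Agent.H29.GlDimL.shortExact_of_exact (qmap x K.subtype) (qmap x g)
      (qmap_injective x K.subtype g hinj hexact hreg) (qmap_surjective x g hg)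
      (qmap_exact x K.subtype g hg hexact)
    have hproj' : Projective (ModuleCat.of (R ⧸ Ideal.span {x}) (QuotSMulTop x (Fin m → R))) :=
      (IsProjective.iff_projective _).mp (projective_quotSMulTop x _)
    have hK' : HasProjectiveDimensionLT (ModuleCat.of (R ⧸ Ideal.span {x}) (QuotSMulTop x K))
        (n + 1) := (hS'.hasProjectiveDimensionLT_X₃_iff n hproj').mp h
    have hK := ih K hKreg hK'
    exact (hS.hasProjectiveDimensionLT_X₃_iff n hproj).mpr hK

end AB

end Groth.Agent.H29
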