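import Mathlib
import Groth.Agent.H29.AB1

set_option autoImplicit false

namespace Groth.Agent.H29

namespace AB

universe u

open CategoryTheory IsLocalRing RingTheory.Sequence Pointwise Groth.Agent.Lead.PdQuot
  Groth.Agent.H29.CML

section

variable {R : Type u} [CommRing R] [IsLocalRing R] [IsNoetherianRing R]

/-- depth zero: a nonzero element killed by the maximal ideal -/
theorem exists_killed_of_depth_eq_zero (M : Type u) [AddCommGroup M] [Module R M]
    [Module.Finite R M] (h : LocCoh.depth R M = 0) :
    ∃ z : M, z ≠ 0 ∧ ∀ a ∈ maximalIdeal R, a • z = 0 := by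
  have hmem : maximalIdeal R ∈ associatedPrimes R M := by
    by_contra hcon
    have := Groth.Agent.H9.one_le_depth_of_maximalIdeal_notMem_associatedPrimes hcon
    rw [h] at this
    simp at this
  obtain ⟨-, z, hz⟩ := isAssociatedPrime_iff.mp (AssociatedPrimes.mem_iff.mp hmem)
  refine ⟨z, ?_, ?_⟩
  · rintro rfl
    have : (1 : R) ∈ maximalIdeal R := by
      rw [hz]
      simp [Submodule.mem_colon_singleton]
    exact (Ideal.ne_top_iff_one _).mp (maximalIdeal.isMaximal _).ne_top this
  · intro a ha
    rw [hz] at ha
    simpa [Submodule.mem_colon_singleton] using ha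

theorem depth_eq_zero_of_killed (M : Type u) [AddCommGroup M] [Module R M]
    [Module.Finite R M] (z : M) (hz : z ≠ 0) (hkill : ∀ a ∈ maximalIdeal R, a • z = 0) :
    LocCoh.depth R M = 0 := by
  have := Groth.Agent.H34.not_one_le_depth_of_killed z hz hkill
  rw [not_le] at this
  exact Order.lt_one_iff.mp this

theorem isSMulRegular_of_free (M : Type u) [AddCommGroup M] [Module R M] [Module.Free R M]
    (x : R) (hx : IsSMulRegular R x) : IsSMulRegular M x := by
  let b := Module.Free.chooseBasis R M
  refine isSMulRegular_of_injective x b.repr.toLinearMap b.repr.injective ?_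
  intro a c hac
  ext i
  exact hx (by simpa using DFunLike.congr_fun hac i)

end

/-- Auslander–Buchsbaum for modules of depth zero: `pd M = depth R` -/
theorem pd_eq_depth_of_depth_zero : ∀ (h : ℕ) (R : Type u) [CommRing R] [IsLocalRing R]
    [IsNoetherianRing R], LocCoh.depth R R = h → ∀ (M : Type u) [AddCommGroup M] [Module R M]
    [Module.Finite R M] [Nontrivial M], LocCoh.depth R M = 0 → ∀ n : ℕ,
    HasProjectiveDimensionLT (ModuleCat.of R M) (n + 1) →
    HasProjectiveDimensionLT (ModuleCat.of R M) (h + 1) ∧
      ¬ HasProjectiveDimensionLT (ModuleCat.of R M) h := by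
  intro h
  induction h with
  | zero =>
    intro R _ _ _ hR M _ _ _ _ hM n hLT
    obtain ⟨a, ha, ham⟩ := exists_killed_of_depth_eq_zero (R := R) R (by simpa using hR)
    have hfree : Module.Free R M :=
      free_of_hasProjectiveDimensionLT_of_socle a ha (fun y hy => by simpa using ham y hy) n M hLT
    refine ⟨?_, ?_⟩
    · rw [zero_add, ← projective_iff_hasProjectiveDimensionLT_one]
      exact (IsProjective.iff_projective _).mp inferInstance
    · intro h0
      have := (ModuleCat.isZero_iff_subsingleton (M := ModuleCat.of R M)).mp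
        (isZero_of_hasProjectiveDimensionLT_zero _)
      exact not_subsingleton M this
  | succ h ih =>
    intro R _ _ _ hR M _ _ _ _ hM n hLT
    have hone : (1 : ℕ∞) ≤ LocCoh.depth R R := by
      rw [hR]
      exact_mod_cast Nat.le_add_left 1 h
    obtain ⟨x, hxm, hx⟩ := Groth.Agent.H34.exists_regular_of_one_le_idealDepth (maximalIdeal R) R
      (smul_top_ne_top R) hone
    have hnotproj : ¬ HasProjectiveDimensionLT (ModuleCat.of R M) 1 := by
      intro h1
      rw [← projective_iff_hasProjectiveDimensionLT_one] at h1
      have : Module.Projective R M := (IsProjective.iff_projective M).mpr h1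
      have : Module.Free R M := Module.free_of_flat_of_isLocalRing
      have hreg := isSMulRegular_of_free M x hx
      have := Groth.Agent.H34.one_le_idealDepth_of_regular (maximalIdeal R) M x hxm hreg
      change 1 ≤ LocCoh.depth R M at this
      rw [hM] at this
      simp at this
    obtain ⟨m, g, hg⟩ := Module.Finite.exists_fin' R M
    let K := LinearMap.ker g
    have hexact : Function.Exact K.subtype g := LinearMap.exact_subtype_ker_map g
    have hinj : Function.Injective K.subtype := Subtype.val_injective
    have hS := Groth.Agent.H29.GlDimL.shortExact_of_exact K.subtype g hinj hg hexact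
    have hproj : Projective (ModuleCat.of R (Fin m → R)) :=
      (IsProjective.iff_projective _).mp inferInstance
    have hLT' : HasProjectiveDimensionLT (ModuleCat.of R M) (n + 2) :=
      hasProjectiveDimensionLT_of_ge _ (n + 1) (n + 2) (by omega)
    have hK : HasProjectiveDimensionLT (ModuleCat.of R K) (n + 1) :=
      (hS.hasProjectiveDimensionLT_X₃_iff n hproj).mp hLT'
    have hFreg : IsSMulRegular (Fin m → R) x := by
      intro a b hab
      funext i
      exact hx (congrFun hab i)
    have hKreg : IsSMulRegular K x := isSMulRegular_of_injective x K.subtype hinj hFreg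
    have hKnt : Nontrivial K := by
      by_contra hns
      rw [not_nontrivial_iff_subsingleton] at hns
      have hker : LinearMap.ker g = ⊥ := Submodule.eq_bot_of_subsingleton
      have hbij : Function.Bijective g := ⟨LinearMap.ker_eq_bot.mp hker, hg⟩
      have : Module.Projective R M := Module.Projective.of_equiv (LinearEquiv.ofBijective g hbij)
      apply hnotproj
      rw [← projective_iff_hasProjectiveDimensionLT_one]
      exact (IsProjective.iff_projective _).mp this
    have hloc := isLocalRing_quotient x hxm
    have hlochom : IsLocalHom (algebraMap R (R ⧸ Ideal.span {x})) :=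
      IsLocalHom.of_surjective _ Ideal.Quotient.mk_surjective
    have hNnt : Nontrivial (QuotSMulTop x K) := nontrivial_quotSMulTop_of_mem_maximalIdeal K hxm
    -- depth of the ring drops by one
    have h1 := depth_quotSMulTop_add_one R x hxm hx
    let e : QuotSMulTop x R ≃ₗ[R] R ⧸ Ideal.span {x} :=
      Submodule.quotEquivOfEq _ _ (by
        rw [← Submodule.ideal_span_singleton_smul, smul_eq_mul, Ideal.mul_top])
    have h2 : LocCoh.depth R (R ⧸ Ideal.span {x}) = LocCoh.depth R (QuotSMulTop x R) :=
      (Groth.Agent.H15.idealDepth_congr e _).symm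
    have h3 : LocCoh.depth R (R ⧸ Ideal.span {x}) =
        LocCoh.depth (R ⧸ Ideal.span {x}) (R ⧸ Ideal.span {x}) :=
      DepthAB.depth_eq (A := R) (B := R ⧸ Ideal.span {x}) (R ⧸ Ideal.span {x})
    have hR' : LocCoh.depth (R ⧸ Ideal.span {x}) (R ⧸ Ideal.span {x}) = h := by
      rw [← h3, h2]
      rw [hR] at h1
      have h4 : LocCoh.depth R (QuotSMulTop x R) + 1 = (h : ℕ∞) + 1 := by exact_mod_cast h1
      exact (ENat.add_left_injective_of_ne_top ENat.one_ne_top) h4
    -- depth of `K/xK` is zero
    obtain ⟨z, hz, hzm⟩ := exists_killed_of_depth_eq_zero M hM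
    obtain ⟨f, hf⟩ := hg z
    have hfK : f ∉ K := fun hfK => hz (by rw [← hf]; exact LinearMap.mem_ker.mp hfK)
    have hmf : ∀ a ∈ maximalIdeal R, a • f ∈ K := by
      intro a ha
      rw [LinearMap.mem_ker, map_smul, hf]
      exact hzm a ha
    let k₀ : K := ⟨x • f, hmf x hxm⟩
    have hk₀ : (Submodule.Quotient.mk k₀ : QuotSMulTop x K) ≠ 0 := by
      intro h0
      rw [Submodule.Quotient.mk_eq_zero] at h0
      obtain ⟨k, -, hk⟩ := (Submodule.mem_smul_pointwise_iff_exists _ _ _).mp h0
      have hk' : x • (k : Fin m → R) = x • f := congrArg Subtype.val hk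
      exact hfK (hFreg hk' ▸ k.2)
    have hkill : ∀ a ∈ maximalIdeal R, a • (Submodule.Quotient.mk k₀ : QuotSMulTop x K) = 0 := by
      intro a ha
      rw [← Submodule.Quotient.mk_smul, Submodule.Quotient.mk_eq_zero]
      refine (Submodule.mem_smul_pointwise_iff_exists _ _ _).mpr ⟨⟨a • f, hmf a ha⟩, trivial, ?_⟩
      apply Subtype.ext
      change x • (a • f) = a • (x • f)
      rw [smul_comm]
    have hN0 : LocCoh.depth R (QuotSMulTop x K) = 0 := depth_eq_zero_of_killed _ _ hk₀ hkill
    have hN0' : LocCoh.depth (R ⧸ Ideal.span {x}) (QuotSMulTop x K) = 0 := by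
      rw [← DepthAB.depth_eq (A := R) (B := R ⧸ Ideal.span {x}) (QuotSMulTop x K), hN0]
    have hfinN : Module.Finite (R ⧸ Ideal.span {x}) (QuotSMulTop x K) :=
      Module.Finite.of_restrictScalars_finite R _ _
    have hLTN := hasProjectiveDimensionLT_quotSMulTop x hx n K hKreg hK
    obtain ⟨ih1, ih2⟩ := ih (R ⧸ Ideal.span {x}) hR' (QuotSMulTop x K) hN0' n hLTN
    have hK' := hasProjectiveDimensionLT_of_quotSMulTop x hxm hx h K hKreg ih1
    refine ⟨(hS.hasProjectiveDimensionLT_X₃_iff h hproj).mpr hK', ?_⟩
    cases h with
    | zero => exact hnotproj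
    | succ h' =>
      intro hcon
      have hK2 : HasProjectiveDimensionLT (ModuleCat.of R K) (h' + 1) :=
        (hS.hasProjectiveDimensionLT_X₃_iff h' hproj).mp hcon
      exact ih2 (hasProjectiveDimensionLT_quotSMulTop x hx h' K hKreg hK2)

end AB

end Groth.Agent.H29
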