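import Mathlib
import Groth.Agent.H29.AB2

set_option autoImplicit false

namespace Groth.Agent.H29

namespace AB

universe u

open CategoryTheory IsLocalRing RingTheory.Sequence Pointwise Groth.Agent.Lead.PdQuot
  Groth.Agent.H29.CML

variable {R : Type u} [CommRing R] [IsLocalRing R] [IsNoetherianRing R]

theorem auslander_buchsbaum_aux : ∀ (d : ℕ) (M : Type u) [AddCommGroup M] [Module R M]
    [Module.Finite R M] [Nontrivial M], LocCoh.depth R M = d → ∀ e : ℕ,
    projectiveDimension (ModuleCat.of R M) = e → LocCoh.depth R R = e + d := by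
  intro d
  induction d with
  | zero =>
    intro M _ _ _ _ hM e he
    obtain ⟨h, hh⟩ := exists_nat_depth_eq (A := R) R
    have hLT : HasProjectiveDimensionLT (ModuleCat.of R M) (e + 1) :=
      (projectiveDimension_le_iff _ e).mp (le_of_eq he)
    have hnot : ¬ HasProjectiveDimensionLT (ModuleCat.of R M) e := by
      rw [← projectiveDimension_lt_iff, he]
      exact lt_irrefl _
    obtain ⟨h1, h2⟩ := pd_eq_depth_of_depth_zero h R hh M (by simpa using hM) e hLT
    have hle : e ≤ h := by
      have := (projectiveDimension_le_iff _ h).mpr h1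
      rw [he] at this
      exact_mod_cast this
    have hge : h ≤ e := by
      rw [← projectiveDimension_lt_iff, he, not_lt] at h2
      exact_mod_cast h2
    rw [hh]
    have : h = e := le_antisymm hge hle
    subst this
    simp
  | succ d ih =>
    intro M _ _ _ _ hM e he
    have hone : (1 : ℕ∞) ≤ LocCoh.depth R M := by
      rw [hM]
      exact_mod_cast Nat.le_add_left 1 d
    obtain ⟨x, hxm, hx⟩ := Groth.Agent.H34.exists_regular_of_one_le_idealDepth (maximalIdeal R) M
      (smul_top_ne_top M) hone
    have hnt : Nontrivial (QuotSMulTop x M) := nontrivial_quotSMulTop_of_mem_maximalIdeal M hxm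
    have h1 := depth_quotSMulTop_add_one M x hxm hx
    have hd : LocCoh.depth R (QuotSMulTop x M) = d := by
      rw [hM] at h1
      have h4 : LocCoh.depth R (QuotSMulTop x M) + 1 = (d : ℕ∞) + 1 := by exact_mod_cast h1
      exact (ENat.add_left_injective_of_ne_top ENat.one_ne_top) h4
    have hpd := ModuleCat.projectiveDimension_quotSMulTop_eq_succ_of_isSMulRegular
      (ModuleCat.of R M) x hx hxm
    have hpd' : projectiveDimension (ModuleCat.of R (QuotSMulTop x M)) = ((e + 1 : ℕ) : WithBot ℕ∞) := by
      rw [hpd, he]
      rfl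
    have := ih (QuotSMulTop x M) hd (e + 1) hpd'
    rw [this]
    push_cast
    ring

/-- **Auslander–Buchsbaum formula** -/
theorem auslander_buchsbaum (M : Type u) [AddCommGroup M] [Module R M] [Module.Finite R M]
    [Nontrivial M] (e : ℕ) (he : projectiveDimension (ModuleCat.of R M) = e) :
    LocCoh.depth R R = e + LocCoh.depth R M := by
  obtain ⟨d, hd⟩ := exists_nat_depth_eq (A := R) M
  rw [hd]
  exact auslander_buchsbaum_aux d M hd e he

end AB

end Groth.Agent.H29
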