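import Mathlib
import Groth.Agent.H31.Support

set_option autoImplicit false

/-! Going-down: a flat base change does not lower the dimension of the support, provided
every maximal ideal of the base is hit. -/

namespace Groth.Agent.H29.ComplDim

universe u

open TensorProduct

/-- turn a chain of primes all of whose members lie in a set into a chain in the subtype -/
theorem exists_ltSeries_subtype {X : Type*} [Preorder X] (U : Set X) (L : LTSeries X)
    (h : ∀ i, L i ∈ U) : ∃ L' : LTSeries U, L'.length = L.length :=
  ⟨⟨L.length, fun i => ⟨L i, h i⟩, fun i => L.step i⟩, rfl⟩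

theorem supportDim_le_of_flat {A : Type u} [CommRing A] {S : Type u} [CommRing S] [Algebra A S]
    [Module.Flat A S] (M : Type u) [AddCommGroup M] [Module A M] [Module.Finite A M]
    (hmax : ∀ m : Ideal A, m.IsMaximal → ∃ P : Ideal S, P.IsPrime ∧ P.LiesOver m) :
    Module.supportDim A M ≤ Module.supportDim S (S ⊗[A] M) := by
  unfold Module.supportDim
  rw [Order.krullDim]
  apply iSup_le
  intro l
  -- the chain in Spec A
  let l' : LTSeries (PrimeSpectrum A) := l.map Subtype.val (fun _ _ h => h)
  obtain ⟨m, hm, hle⟩ := Ideal.exists_le_maximal l'.last.asIdeal l'.last.2.ne_top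
  obtain ⟨P, hP, hPm⟩ := hmax m hm
  obtain ⟨P', hP'le, hP'prime, hP'lo⟩ :=
    Ideal.exists_ideal_le_liesOver_of_le (R := A) (S := S) (p := l'.last.asIdeal) (q := m) P hle
  obtain ⟨L, hlen, -, hmap⟩ := Ideal.exists_ltSeries_of_hasGoingDown (S := S) l' P'
  have hmem : ∀ i, L i ∈ Module.support S (S ⊗[A] M) := by
    intro i
    rw [Groth.Agent.H31.support_baseChange_eq_preimage, Set.mem_preimage]
    have h1 : L i ∈ L.toList := by
      rw [RelSeries.mem_toList]; exact ⟨i, rfl⟩
    have h2 : PrimeSpectrum.comap (algebraMap A S) (L i) ∈ l'.toList := by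
      rw [← hmap]; exact List.mem_map_of_mem h1
    rw [RelSeries.mem_toList] at h2
    obtain ⟨j, hj⟩ := h2
    rw [← hj]
    exact (l j).2
  obtain ⟨L', hL'⟩ := exists_ltSeries_subtype _ L hmem
  have h3 := Order.LTSeries.length_le_krullDim L'
  rw [hL', hlen] at h3
  exact h3

end Groth.Agent.H29.ComplDim
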