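import Groth.Agent.H29.DimL2
import Groth.Agent.H29.CM
import Mathlib.RingTheory.TensorProduct.Finite

set_option autoImplicit false
set_option linter.unusedSectionVars false

namespace Groth.Agent.H29

namespace DimL

universe u

open TensorProduct

theorem finite_tensor {A B : Type u} [CommRing A] [CommRing B] [Algebra A B]
    (N : Type u) [AddCommGroup N] [Module B N] [Module A N]
    [IsScalarTower A B N] [Module.Finite B N] (P : Type u) [AddCommGroup P] [Module A P]
    [Module.Finite A P] : Module.Finite B (N ⊗[A] P) :=
  Module.Finite.equiv (AlgebraTensorModule.cancelBaseChange A B B N P)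

/-- `dim_B (N ⊗_A M) ≤ dim_A M + dim_B (N/mN)` -/
theorem supportDim_tensor_le (A B : Type u) [CommRing A] [CommRing B] [IsLocalRing A]
    [IsLocalRing B] [IsNoetherianRing A] [IsNoetherianRing B] [Algebra A B]
    [IsLocalHom (algebraMap A B)]
    (M : Type u) [AddCommGroup M] [Module A M] [Module.Finite A M] (N : Type u) [AddCommGroup N]
    [Module B N] [Module A N] [IsScalarTower A B N] [Module.Finite B N] :
    Module.supportDim B (N ⊗[A] M) ≤ Module.supportDim A M +
      Module.supportDim B (N ⧸ ((IsLocalRing.maximalIdeal A).map (algebraMap A B) •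
        (⊤ : Submodule B N))) := by
  set mB := (IsLocalRing.maximalIdeal A).map (algebraMap A B) with hmB
  have hmB_le : mB ≤ IsLocalRing.maximalIdeal B :=
    ((IsLocalRing.local_hom_TFAE (algebraMap A B)).out 0 2).mp ‹_›
  have hfinT : Module.Finite B (N ⊗[A] M) := finite_tensor N M
  rcases subsingleton_or_nontrivial M with hM | hM
  · rw [Module.supportDim_eq_bot_of_subsingleton]
    exact bot_le
  rcases subsingleton_or_nontrivial (N ⧸ (mB • (⊤ : Submodule B N))) with hN | hN
  · have htop : mB • (⊤ : Submodule B N) = ⊤ := Submodule.Quotient.subsingleton_iff.mp hN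
    have hbot : (⊤ : Submodule B N) = ⊥ :=
      Submodule.eq_bot_of_le_smul_of_le_jacobson_bot mB ⊤ Module.Finite.fg_top htop.ge
        (hmB_le.trans (IsLocalRing.maximalIdeal_le_jacobson _))
    have : Subsingleton N := (Submodule.subsingleton_iff B).mp (subsingleton_of_bot_eq_top hbot.symm)
    rw [Module.supportDim_eq_bot_of_subsingleton]
    exact bot_le
  obtain ⟨d, hd⟩ := CML.exists_nat_supportDim_eq (A := A) M
  obtain ⟨e, he⟩ := CML.exists_nat_supportDim_eq (A := B) (N ⧸ (mB • (⊤ : Submodule B N)))
  rw [hd, he]
  obtain ⟨n, x, hn, hx, hflA⟩ := Groth.Agent.H17.exists_parameters d M hd.le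
  obtain ⟨n', y, hn', hy, hflB⟩ := Groth.Agent.H17.exists_parameters e
    (N ⧸ (mB • (⊤ : Submodule B N))) he.le
  rw [IsLocalRing.ringJacobson_eq_maximalIdeal] at hx hy
  let z : Fin (n + n') → B := Fin.append (fun i => algebraMap A B (x i)) y
  have hz : ∀ i, z i ∈ Ring.jacobson B := by
    rw [IsLocalRing.ringJacobson_eq_maximalIdeal]
    intro i
    refine Fin.addCases (fun i => ?_) (fun j => ?_) i
    · simp only [z, Fin.append_left]
      exact hmB_le (Ideal.mem_map_of_mem _ (hx i))
    · simp only [z, Fin.append_right]
      exact hy j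
  have hannN : Module.annihilator B N ≤ Module.annihilator B (N ⊗[A] M) := by
    intro b hb
    rw [Module.mem_annihilator] at hb ⊢
    intro t
    induction t using TensorProduct.induction_on with
    | zero => simp
    | tmul n m => rw [TensorProduct.smul_tmul', hb, TensorProduct.zero_tmul]
    | add t₁ t₂ h₁ h₂ => rw [smul_add, h₁, h₂, add_zero]
  have hannM : ∀ a ∈ Module.annihilator A M,
      algebraMap A B a ∈ Module.annihilator B (N ⊗[A] M) := by
    intro a ha
    rw [Module.mem_annihilator] at ha ⊢
    intro t
    induction t using TensorProduct.induction_on with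
    | zero => simp
    | tmul n m =>
      rw [TensorProduct.smul_tmul', algebraMap_smul, TensorProduct.smul_tmul, ha,
        TensorProduct.tmul_zero]
    | add t₁ t₂ h₁ h₂ => rw [smul_add, h₁, h₂, add_zero]
  have hfl : IsFiniteLength B
      ((N ⊗[A] M) ⧸ (Ideal.span (Set.range z) • ⊤ : Submodule B (N ⊗[A] M))) := by
    rw [Groth.Agent.H17.isFiniteLength_iff_supportDim_le_zero, Module.supportDim]
    have hall : ∀ q : PrimeSpectrum B,
        q ∈ Module.support B
          ((N ⊗[A] M) ⧸ (Ideal.span (Set.range z) • ⊤ : Submodule B (N ⊗[A] M))) →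
          q.asIdeal = IsLocalRing.maximalIdeal B := by
      intro q hq
      rw [Module.support_quotient] at hq
      have hqT : Module.annihilator B (N ⊗[A] M) ≤ q.asIdeal := by
        have := hq.1
        rw [Module.support_eq_zeroLocus] at this
        exact this
      have hzq : ∀ i, z i ∈ q.asIdeal := fun i => hq.2 (Ideal.subset_span ⟨i, rfl⟩)
      let p : PrimeSpectrum A := ⟨q.asIdeal.comap (algebraMap A B), inferInstance⟩
      have hp : p ∈ Module.support A (M ⧸ (Ideal.span (Set.range x) • ⊤ : Submodule A M)) := by
        rw [Module.support_quotient]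
        refine ⟨?_, ?_⟩
        · rw [Module.support_eq_zeroLocus]
          intro a ha
          exact hqT (hannM a ha)
        · rw [PrimeSpectrum.zeroLocus_span]
          rintro _ ⟨i, rfl⟩
          change algebraMap A B (x i) ∈ q.asIdeal
          have := hzq (Fin.castAdd n' i)
          simpa [z, Fin.append_left] using this
      have hpmax := isMaximal_of_mem_support_of_isFiniteLength _ hflA p hp
      have hpm : p.asIdeal = IsLocalRing.maximalIdeal A := IsLocalRing.eq_maximalIdeal hpmax
      have hmBq : mB ≤ q.asIdeal := by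
        rw [hmB, Ideal.map_le_iff_le_comap, ← hpm]
      have hq' : q ∈ Module.support B ((N ⧸ (mB • (⊤ : Submodule B N))) ⧸
          (Ideal.span (Set.range y) • ⊤ : Submodule B (N ⧸ (mB • (⊤ : Submodule B N))))) := by
        rw [Module.support_quotient, Module.support_quotient]
        refine ⟨⟨?_, hmBq⟩, ?_⟩
        · rw [Module.support_eq_zeroLocus]
          exact hannN.trans hqT
        · rw [PrimeSpectrum.zeroLocus_span]
          rintro _ ⟨j, rfl⟩
          have := hzq (Fin.natAdd n j)
          simpa [z, Fin.append_right] using this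
      exact IsLocalRing.eq_maximalIdeal (isMaximal_of_mem_support_of_isFiniteLength _ hflB q hq')
    have hsub : Subsingleton (Module.support B
        ((N ⊗[A] M) ⧸ (Ideal.span (Set.range z) • ⊤ : Submodule B (N ⊗[A] M)))) := by
      refine ⟨fun a b => ?_⟩
      apply Subtype.ext
      apply PrimeSpectrum.ext
      rw [hall a.1 a.2, hall b.1 b.2]
    exact Order.krullDim_nonpos_of_subsingleton
  have key := Groth.Agent.H17.supportDim_le_of_isFiniteLength_quotient (N ⊗[A] M) z hz hfl
  refine key.trans ?_
  have : n + n' ≤ d + e := add_le_add hn hn'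
  exact_mod_cast this

end DimL

end Groth.Agent.H29
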