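import Mathlib
import Groth.Agent.H20.ComplNoeth2
import Groth.Agent.H17.DimParam
import Groth.Agent.H29.DimL4
import Groth.Agent.H29.ComplDim1

set_option autoImplicit false

/-! Dimension of the Jacobson-adic completion of a finite module over a semi-local
Noetherian ring. -/

namespace Groth.Agent.H29.ComplDim

universe u

open TensorProduct

variable (A : Type u) [CommRing A] [IsNoetherianRing A]

theorem exists_liesOver_of_isMaximal (m : Ideal A) (hm : m.IsMaximal) :
    ∃ P : Ideal (AdicCompletion (Ring.jacobson A) A), P.IsPrime ∧ P.LiesOver m := by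
  have hJ : Ring.jacobson A ≤ m := Ring.jacobson_le_of_isMaximal m
  have hP := AdicCompletion.isMaximal_map_of_le (Ring.jacobson A) m hJ
    (IsNoetherian.noetherian _)
  refine ⟨_, hP.isPrime, ⟨?_⟩⟩
  exact hm.eq_of_le (Ideal.comap_ne_top _ hP.ne_top) Ideal.le_comap_map

theorem algebraMap_mem_jacobson {x : A} (hx : x ∈ Ring.jacobson A) :
    algebraMap A (AdicCompletion (Ring.jacobson A) A) x ∈
      Ring.jacobson (AdicCompletion (Ring.jacobson A) A) := by
  have hc := AdicCompletion.isAdicComplete_self (Ring.jacobson A)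
    (IsNoetherian.noetherian (Ring.jacobson A))
  have h1 := IsAdicComplete.le_jacobson_bot _
    (Ideal.mem_map_of_mem (algebraMap A (AdicCompletion (Ring.jacobson A) A)) hx)
  rwa [Ideal.jacobson_bot] at h1

theorem supportDim_tensor_le [Finite (MaximalSpectrum A)] (M : Type u) [AddCommGroup M]
    [Module A M] [Module.Finite A M] :
    Module.supportDim (AdicCompletion (Ring.jacobson A) A)
      (AdicCompletion (Ring.jacobson A) A ⊗[A] M) ≤ Module.supportDim A M := by
  set J := Ring.jacobson A with hJ
  set S := AdicCompletion J A with hS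
  rcases subsingleton_or_nontrivial M with hM | hM
  · rw [Module.supportDim_eq_bot_of_subsingleton]
    exact bot_le
  obtain ⟨d, hd⟩ : ∃ d : ℕ, Module.supportDim A M = d := by
    obtain ⟨k, hk⟩ := DimL.exists_nat_supportDim_le (A := A) M
    refine DimL.exists_nat_eq _ (Module.supportDim_ne_bot_of_nontrivial A M) ?_
    intro htop
    rw [htop] at hk
    have h1 : ((k : ℕ∞) : WithBot ℕ∞) < ((⊤ : ℕ∞) : WithBot ℕ∞) :=
      WithBot.coe_lt_coe.mpr (ENat.natCast_lt_top k)
    exact absurd hk (not_le.mpr h1)
  rw [hd]
  obtain ⟨n, x, hn, hx, hflA⟩ := Groth.Agent.H17.exists_parameters d M hd.le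
  let z : Fin n → S := fun i => algebraMap A S (x i)
  have hz : ∀ i, z i ∈ Ring.jacobson S := fun i => algebraMap_mem_jacobson A (hx i)
  have hannM : ∀ a ∈ Module.annihilator A M,
      algebraMap A S a ∈ Module.annihilator S (S ⊗[A] M) := by
    intro a ha
    rw [Module.mem_annihilator] at ha ⊢
    intro t
    induction t using TensorProduct.induction_on with
    | zero => simp
    | tmul n m =>
      rw [TensorProduct.smul_tmul', algebraMap_smul, TensorProduct.smul_tmul, ha,
        TensorProduct.tmul_zero]
    | add t₁ t₂ h₁ h₂ => rw [smul_add, h₁, h₂, add_zero]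
  have hfl : IsFiniteLength S
      ((S ⊗[A] M) ⧸ (Ideal.span (Set.range z) • ⊤ : Submodule S (S ⊗[A] M))) := by
    rw [Groth.Agent.H17.isFiniteLength_iff_supportDim_le_zero, Module.supportDim,
      Order.krullDim_nonpos_iff_forall_isMax]
    rintro ⟨q, hq⟩ ⟨q', hq'⟩ hle
    change q ≤ q' at hle
    change q' ≤ q
    rw [Module.support_quotient] at hq
    have hqT : Module.annihilator S (S ⊗[A] M) ≤ q.asIdeal := by
      have := hq.1
      rw [Module.support_eq_zeroLocus] at this
      exact this
    have hzq : ∀ i, z i ∈ q.asIdeal := fun i => hq.2 (Ideal.subset_span ⟨i, rfl⟩)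
    let p : PrimeSpectrum A := ⟨q.asIdeal.comap (algebraMap A S), inferInstance⟩
    have hp : p ∈ Module.support A (M ⧸ (Ideal.span (Set.range x) • ⊤ : Submodule A M)) := by
      rw [Module.support_quotient]
      refine ⟨?_, ?_⟩
      · rw [Module.support_eq_zeroLocus]
        intro a ha
        exact hqT (hannM a ha)
      · rw [PrimeSpectrum.zeroLocus_span]
        rintro _ ⟨i, rfl⟩
        exact hzq i
    have hpmax := DimL.isMaximal_of_mem_support_of_isFiniteLength _ hflA p hp
    have hJp : J ≤ p.asIdeal := Ring.jacobson_le_of_isMaximal (m := p.asIdeal)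
    have hPmax := AdicCompletion.isMaximal_map_of_le J p.asIdeal hJp (IsNoetherian.noetherian _)
    have hPq : p.asIdeal.map (algebraMap A S) ≤ q.asIdeal := by
      rw [Ideal.map_le_iff_le_comap]
    have hqeq : p.asIdeal.map (algebraMap A S) = q.asIdeal :=
      hPmax.eq_of_le q.2.ne_top hPq
    have hq'eq : p.asIdeal.map (algebraMap A S) = q'.asIdeal :=
      hPmax.eq_of_le q'.2.ne_top (hPq.trans hle)
    change q'.asIdeal ≤ q.asIdeal
    rw [← hqeq, ← hq'eq]
  have key := Groth.Agent.H17.supportDim_le_of_isFiniteLength_quotient (S ⊗[A] M) z hz hfl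
  refine key.trans ?_
  exact_mod_cast hn

theorem supportDim_adicCompletion_eq [Finite (MaximalSpectrum A)] (M : Type u) [AddCommGroup M]
    [Module A M] [Module.Finite A M] :
    Module.supportDim (AdicCompletion (Ring.jacobson A) A) (AdicCompletion (Ring.jacobson A) M) =
      Module.supportDim A M := by
  rw [← Module.supportDim_eq_of_equiv
    (AdicCompletion.ofTensorProductEquivOfFiniteNoetherian (Ring.jacobson A) M)]
  exact le_antisymm (supportDim_tensor_le A M)
    (supportDim_le_of_flat M (exists_liesOver_of_isMaximal A))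

end Groth.Agent.H29.ComplDim
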