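import Mathlib
import Groth.Prelude.Def_Found
import Groth.Prelude.Def_EGA4b
import Groth.Agent.H72.FlatCM
import Groth.Agent.H72.DepthFlat
import Groth.Agent.H72.CMLocal
import Groth.Agent.H72.CMCatenary
import Groth.Agent.H49.CMLocalize
import Groth.Agent.S0580
import Groth.Agent.S9125

set_option autoImplicit false
set_option linter.unusedSectionVars false
universe u

open IsLocalRing Pointwise

namespace Groth.Agent.H29.ComplCat

/-- If `x` is a regular element of the maximal ideal and `A/(x)` is Cohen–Macaulay, so is `A`. -/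
theorem isCM_of_quotient_regular (A : Type u) [CommRing A] [IsNoetherianRing A] [IsLocalRing A]
    (x : A) (hx : x ∈ maximalIdeal A) (hreg : IsSMulRegular A x)
    (h : LocCoh.IsCohenMacaulayLocalRing (A ⧸ Ideal.span {x})) :
    LocCoh.IsCohenMacaulayLocalRing A := by
  have hne : Ideal.span {x} ≠ ⊤ := by
    intro htop
    have : Ideal.span {x} ≤ maximalIdeal A := (Ideal.span_singleton_le_iff_mem _).mpr hx
    rw [htop] at this
    exact (maximalIdeal.isMaximal A).ne_top (top_le_iff.mp this)
  have hloc : IsLocalRing (A ⧸ Ideal.span {x}) := h.toIsLocalRing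
  rw [Groth.Agent.H72.FlatCM.isCohenMacaulayLocalRing_iff] at h ⊢
  have hdim := ringKrullDim_quotient_span_singleton_succ_eq_ringKrullDim hreg hx
  have hdep := Groth.Agent.H72.DepthFlat.idealDepth_quotSMulTop_add_one (maximalIdeal A) A x hx hreg
  have hspan : x • (⊤ : Submodule A A) = Ideal.span {x} := by
    simp [← Submodule.ideal_span_singleton_smul]
  have e : QuotSMulTop x A ≃ₗ[A] (A ⧸ Ideal.span {x}) := Submodule.quotEquivOfEq _ _ hspan
  have h1 : LocCoh.idealDepth (maximalIdeal A) (QuotSMulTop x A) =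
      LocCoh.depth (A ⧸ Ideal.span {x}) (A ⧸ Ideal.span {x}) := by
    rw [Groth.Agent.H15.idealDepth_congr e (maximalIdeal A)]
    exact Groth.Agent.H72.FlatCM.depth_quotient_eq (Ideal.span {x}) hne
  rw [h1] at hdep
  rw [← hdim, h]
  show _ = ((LocCoh.idealDepth (maximalIdeal A) A : ℕ∞) : WithBot ℕ∞)
  rw [← hdep]
  push_cast
  rfl

/-- Power series over a Cohen–Macaulay local ring form a Cohen–Macaulay local ring. -/
theorem isCM_powerSeries (R : Type u) [CommRing R] (h : LocCoh.IsCohenMacaulayLocalRing R) :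
    LocCoh.IsCohenMacaulayLocalRing (PowerSeries R) := by
  have : IsLocalRing R := h.toIsLocalRing
  have : IsNoetherianRing R := h.toIsNoetherian
  have hker : Ideal.span {(PowerSeries.X : PowerSeries R)} =
      RingHom.ker (PowerSeries.constantCoeff (R := R)) := by
    ext φ
    rw [Ideal.mem_span_singleton, PowerSeries.X_dvd_iff, RingHom.mem_ker]
  apply isCM_of_quotient_regular (PowerSeries R) PowerSeries.X
  · rw [mem_maximalIdeal, mem_nonunits_iff]
    intro hu
    have h0 := hu.map (PowerSeries.constantCoeff (R := R))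
    rw [PowerSeries.constantCoeff_X] at h0
    exact not_isUnit_zero h0
  · intro a b hab
    exact PowerSeries.X_mul_cancel (by simpa [smul_eq_mul] using hab)
  · have e : (PowerSeries R ⧸ Ideal.span {(PowerSeries.X : PowerSeries R)}) ≃+* R :=
      (Ideal.quotEquivOfEq hker).trans
        (RingHom.quotientKerEquivOfSurjective PowerSeries.constantCoeff_surj)
    exact Groth.Agent.H49.isCohenMacaulayLocalRing_of_ringEquiv e.symm h

/-- Power series in finitely many variables over a Cohen–Macaulay local ring form a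
Cohen–Macaulay local ring. -/
theorem isCM_mvPowerSeries (R : Type u) [CommRing R] (h : LocCoh.IsCohenMacaulayLocalRing R) :
    ∀ n : ℕ, LocCoh.IsCohenMacaulayLocalRing (MvPowerSeries (Fin n) R) := by
  intro n
  induction n with
  | zero =>
    exact Groth.Agent.H49.isCohenMacaulayLocalRing_of_ringEquiv
      (MvPowerSeries.isEmptyEquiv (Fin 0) R).toRingEquiv.symm h
  | succ n ih =>
    exact Groth.Agent.H49.isCohenMacaulayLocalRing_of_ringEquiv
      (MvPowerSeries.finSuccEquiv R n).toRingEquiv.symm (isCM_powerSeries _ ih)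

theorem isCM_of_isField (Λ : Type u) [CommRing Λ] (h : IsField Λ) :
    LocCoh.IsCohenMacaulayLocalRing Λ := by
  let _ := h.toField
  have h1 : IsLocalRing Λ := inferInstance
  have h2 : IsNoetherianRing Λ := inferInstance
  exact Groth.Agent.H72.FlatCM.isCohenMacaulayLocalRing_of_ringKrullDim_eq_zero Λ
    (ringKrullDim_eq_zero_of_isField h)

theorem isCM_of_isCohenRing (Λ : Type u) [CommRing Λ] (h : CAlg.IsCohenRing Λ) :
    LocCoh.IsCohenMacaulayLocalRing Λ := by
  obtain ⟨hdom, hdvr, -, p, -, hp⟩ := h
  have hmem : (p : Λ) ∈ maximalIdeal Λ := by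
    rw [hp]
    exact Ideal.mem_span_singleton_self _
  have hne : (p : Λ) ≠ 0 := by
    intro h0
    rw [h0] at hp
    apply IsDiscreteValuationRing.not_a_field Λ
    rw [hp]
    simp
  have hreg : IsSMulRegular Λ (p : Λ) := by
    intro a b hab
    exact mul_left_cancel₀ hne (by simpa [smul_eq_mul] using hab)
  apply isCM_of_quotient_regular Λ (p : Λ) hmem hreg
  apply isCM_of_isField
  rw [← hp]
  exact (Ideal.Quotient.maximal_ideal_iff_isField_quotient _).mp (maximalIdeal.isMaximal Λ)

/-- A complete Noetherian local ring is catenary. -/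
theorem isCatenary_of_isAdicComplete (C : Type u) [CommRing C] [IsNoetherianRing C] [IsLocalRing C]
    [IsAdicComplete (maximalIdeal C) C] : CAlg.IsCatenary C := by
  obtain ⟨Λ, instΛ, n, f, hΛ, hf⟩ :=
    Groth.Agent.S0580.result C (IsNoetherian.noetherian (maximalIdeal C))
  have hCMΛ : LocCoh.IsCohenMacaulayLocalRing Λ :=
    hΛ.elim (isCM_of_isField Λ) (isCM_of_isCohenRing Λ)
  have hT := isCM_mvPowerSeries Λ hCMΛ n
  have : IsNoetherianRing (MvPowerSeries (Fin n) Λ) := hT.toIsNoetherian
  have : IsLocalRing (MvPowerSeries (Fin n) Λ) := hT.toIsLocalRing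
  have hcatT : CAlg.IsCatenary (MvPowerSeries (Fin n) Λ) :=
    Groth.Agent.H72.CMCatenary.isCatenary_of_isCohenMacaulayRing
      (Groth.Agent.H72.CMLocal.isCohenMacaulayRing_of_local _ hT)
  have hq := Groth.Agent.S9125.result _ (RingHom.ker f) hcatT
  exact Groth.Agent.H72.CMCatenary.isCatenary_of_ringEquiv
    (RingHom.quotientKerEquivOfSurjective hf).symm hq

end Groth.Agent.H29.ComplCat
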