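import Groth.Agent.H29.DimL
import Groth.Agent.H17.DimParam

set_option autoImplicit false

namespace Groth.Agent.H29

namespace DimL

universe u

theorem exists_nat_eq (a : WithBot ℕ∞) (h1 : a ≠ ⊥) (h2 : a ≠ ⊤) : ∃ n : ℕ, a = n := by
  obtain ⟨b, rfl⟩ := WithBot.ne_bot_iff_exists.mp h1
  have hb : b ≠ ⊤ := by
    rintro rfl
    exact h2 rfl
  obtain ⟨n, rfl⟩ := ENat.ne_top_iff_exists.mp hb
  exact ⟨n, rfl⟩

variable {A : Type u} [CommRing A] [IsNoetherianRing A]

/-- finite length modules are supported at maximal ideals -/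
theorem isMaximal_of_mem_support_of_isFiniteLength (N : Type u) [AddCommGroup N] [Module A N]
    [Module.Finite A N] (h : IsFiniteLength A N) (p : PrimeSpectrum A)
    (hp : p ∈ Module.support A N) : p.asIdeal.IsMaximal := by
  have h0 := (Groth.Agent.H17.isFiniteLength_iff_supportDim_le_zero N).mp h
  rw [Module.supportDim, Order.krullDim_nonpos_iff_forall_isMax] at h0
  obtain ⟨m, hm, hpm⟩ := Ideal.exists_le_maximal p.asIdeal p.2.ne_top
  have hms : (⟨m, hm.isPrime⟩ : PrimeSpectrum A) ∈ Module.support A N :=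
    Module.mem_support_mono (p := p) hpm hp
  have hmax := h0 ⟨p, hp⟩
  have hle : (⟨⟨m, hm.isPrime⟩, hms⟩ : Module.support A N) ≤ ⟨p, hp⟩ :=
    hmax (show (⟨p, hp⟩ : Module.support A N) ≤ ⟨⟨m, hm.isPrime⟩, hms⟩ from hpm)
  have : p.asIdeal = m := le_antisymm hpm hle
  rw [this]
  exact hm

/-- `dim B ≤ dim A + dim B/mB` for a local homomorphism of Noetherian local rings -/
theorem ringKrullDim_le_add_fibre (A B : Type u) [CommRing A] [CommRing B]
    [IsLocalRing A] [IsLocalRing B] [IsNoetherianRing A] [IsNoetherianRing B] [Algebra A B]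
    [IsLocalHom (algebraMap A B)] :
    ringKrullDim B ≤ ringKrullDim A +
      ringKrullDim (B ⧸ (IsLocalRing.maximalIdeal A).map (algebraMap A B)) := by
  set mB := (IsLocalRing.maximalIdeal A).map (algebraMap A B) with hmB
  have hmB_le : mB ≤ IsLocalRing.maximalIdeal B :=
    ((IsLocalRing.local_hom_TFAE (algebraMap A B)).out 0 2).mp ‹_›
  have hne : Nontrivial (B ⧸ mB) :=
    Ideal.Quotient.nontrivial_iff.mpr (fun h => (IsLocalRing.maximalIdeal.isMaximal B).ne_top
      (top_le_iff.mp (h ▸ hmB_le)))
  obtain ⟨d, hd⟩ := exists_nat_eq (ringKrullDim A) ringKrullDim_ne_bot ringKrullDim_ne_top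
  obtain ⟨e, he⟩ := exists_nat_eq (ringKrullDim (B ⧸ mB))
    (fun h => absurd (h ▸ ringKrullDim_nonneg_of_nontrivial (R := B ⧸ mB)) (by simp))
    (ne_top_of_le_ne_top ringKrullDim_ne_top (ringKrullDim_quotient_le mB))
  rw [hd, he]
  obtain ⟨n, x, hn, hx, hflA⟩ := Groth.Agent.H17.exists_parameters d A
    (by rw [Module.supportDim_self_eq_ringKrullDim, hd])
  obtain ⟨n', y, hn', hy, hflB⟩ := Groth.Agent.H17.exists_parameters e (B ⧸ mB)
    (by rw [Module.supportDim_quotient_eq_ringKrullDim, he])
  rw [IsLocalRing.ringJacobson_eq_maximalIdeal] at hx hy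
  let z : Fin (n + n') → B := Fin.append (fun i => algebraMap A B (x i)) y
  have hz : ∀ i, z i ∈ Ring.jacobson B := by
    rw [IsLocalRing.ringJacobson_eq_maximalIdeal]
    intro i
    refine Fin.addCases (fun i => ?_) (fun j => ?_) i
    · simp only [z, Fin.append_left]
      exact hmB_le (Ideal.mem_map_of_mem _ (hx i))
    · simp only [z, Fin.append_right]
      exact hy j
  have hfl : IsFiniteLength B (B ⧸ (Ideal.span (Set.range z) • ⊤ : Submodule B B)) := by
    rw [Groth.Agent.H17.isFiniteLength_iff_supportDim_le_zero, Module.supportDim]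
    have hall : ∀ q : PrimeSpectrum B,
        q ∈ Module.support B (B ⧸ (Ideal.span (Set.range z) • ⊤ : Submodule B B)) →
          q.asIdeal = IsLocalRing.maximalIdeal B := by
      intro q hq
      rw [Module.support_quotient] at hq
      have hzq : ∀ i, z i ∈ q.asIdeal := fun i => hq.2 (Ideal.subset_span ⟨i, rfl⟩)
      let p : PrimeSpectrum A := ⟨q.asIdeal.comap (algebraMap A B), inferInstance⟩
      have hp : p ∈ Module.support A (A ⧸ (Ideal.span (Set.range x) • ⊤ : Submodule A A)) := by
        rw [Module.support_quotient]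
        refine ⟨?_, ?_⟩
        · rw [Module.support_eq_zeroLocus]
          intro a ha
          have : a = 0 := by
            have := Module.mem_annihilator.mp ha 1
            simpa using this
          rw [this]
          exact Submodule.zero_mem _
        · rw [PrimeSpectrum.zeroLocus_span]
          rintro _ ⟨i, rfl⟩
          change algebraMap A B (x i) ∈ q.asIdeal
          have := hzq (Fin.castAdd n' i)
          simpa [z, Fin.append_left] using this
      have hpmax := isMaximal_of_mem_support_of_isFiniteLength _ hflA p hp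
      have hpm : p.asIdeal = IsLocalRing.maximalIdeal A := IsLocalRing.eq_maximalIdeal hpmax
      have hmBq : mB ≤ q.asIdeal := by
        rw [hmB, Ideal.map_le_iff_le_comap, ← hpm]
      have hq' : q ∈ Module.support B ((B ⧸ mB) ⧸
          (Ideal.span (Set.range y) • ⊤ : Submodule B (B ⧸ mB))) := by
        rw [Module.support_quotient]
        refine ⟨?_, ?_⟩
        · rw [Module.support_eq_zeroLocus, Ideal.annihilator_quotient]
          exact hmBq
        · rw [PrimeSpectrum.zeroLocus_span]
          rintro _ ⟨j, rfl⟩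
          have := hzq (Fin.natAdd n j)
          simpa [z, Fin.append_right] using this
      exact IsLocalRing.eq_maximalIdeal (isMaximal_of_mem_support_of_isFiniteLength _ hflB q hq')
    have hsub : Subsingleton (Module.support B
        (B ⧸ (Ideal.span (Set.range z) • ⊤ : Submodule B B))) := by
      refine ⟨fun a b => ?_⟩
      apply Subtype.ext
      apply PrimeSpectrum.ext
      rw [hall a.1 a.2, hall b.1 b.2]
    exact Order.krullDim_nonpos_of_subsingleton
  have key := Groth.Agent.H17.supportDim_le_of_isFiniteLength_quotient B z hz hfl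
  rw [Module.supportDim_self_eq_ringKrullDim] at key
  refine key.trans ?_
  have : n + n' ≤ d + e := add_le_add hn hn'
  exact_mod_cast this

/-- if `mB` is an ideal of definition, `A` is a domain and `dim A = dim B`, then `A → B` is
injective -/
theorem injective_of_ringKrullDim_eq (A B : Type u) [CommRing A] [CommRing B]
    [IsLocalRing A] [IsLocalRing B] [IsNoetherianRing A] [IsNoetherianRing B] [Algebra A B]
    [IsLocalHom (algebraMap A B)]
    (hdef : ringKrullDim (B ⧸ (IsLocalRing.maximalIdeal A).map (algebraMap A B)) = 0)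
    [IsDomain A] (hdim : ringKrullDim A = ringKrullDim B) :
    Function.Injective (algebraMap A B) := by
  rw [injective_iff_map_eq_zero]
  intro a ha
  by_contra hne
  set I := Ideal.span {a} with hIdef
  have haM : ¬ IsUnit a := by
    intro hu
    have := hu.map (algebraMap A B)
    rw [ha] at this
    exact not_isUnit_zero this
  have hI : I ≠ ⊤ := by
    rw [hIdef, Ne, Ideal.span_singleton_eq_top]
    exact haM
  have : Nontrivial (A ⧸ I) := Ideal.Quotient.nontrivial_iff.mpr hI
  have : IsLocalRing (A ⧸ I) :=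
    IsLocalRing.of_surjective' (Ideal.Quotient.mk I) Ideal.Quotient.mk_surjective
  have hmkloc := IsLocalHom.of_surjective (Ideal.Quotient.mk I) Ideal.Quotient.mk_surjective
  let ψ : A ⧸ I →+* B := Ideal.Quotient.lift I (algebraMap A B) (fun x hx => by
    obtain ⟨c, rfl⟩ := Ideal.mem_span_singleton'.mp hx
    rw [map_mul, ha, mul_zero])
  let _ : Algebra (A ⧸ I) B := ψ.toAlgebra
  have hloc : IsLocalHom (algebraMap (A ⧸ I) B) := ⟨fun y hy => by
    obtain ⟨b, rfl⟩ := Ideal.Quotient.mk_surjective y
    have hb : IsUnit (algebraMap A B b) := hy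
    exact (isUnit_of_map_unit (algebraMap A B) b hb).map _⟩
  have key := ringKrullDim_le_add_fibre (A ⧸ I) B
  have hle : (IsLocalRing.maximalIdeal A).map (algebraMap A B) ≤
      (IsLocalRing.maximalIdeal (A ⧸ I)).map (algebraMap (A ⧸ I) B) := by
    rw [Ideal.map_le_iff_le_comap]
    intro b hb
    rw [Ideal.mem_comap]
    have h1 : Ideal.Quotient.mk I b ∈ IsLocalRing.maximalIdeal (A ⧸ I) := by
      rw [IsLocalRing.mem_maximalIdeal, mem_nonunits_iff]
      intro hu
      exact (IsLocalRing.mem_maximalIdeal b).mp hb (isUnit_of_map_unit (Ideal.Quotient.mk I) b hu)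
    exact Ideal.mem_map_of_mem (algebraMap (A ⧸ I) B) h1
  have h0 : ringKrullDim (B ⧸ (IsLocalRing.maximalIdeal (A ⧸ I)).map (algebraMap (A ⧸ I) B)) ≤ 0 := by
    rw [← hdef]
    exact ringKrullDim_le_of_surjective (Ideal.Quotient.factor hle)
      (Ideal.Quotient.factor_surjective hle)
  have h1 : ringKrullDim (A ⧸ I) + 1 ≤ ringKrullDim A :=
    ringKrullDim_quotient_succ_le_of_nonZeroDivisor (mem_nonZeroDivisors_of_ne_zero hne)
  have h2 : ringKrullDim B ≤ ringKrullDim (A ⧸ I) :=
    key.trans (by simpa using add_le_add_right h0 (ringKrullDim (A ⧸ I)))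
  obtain ⟨n, hn⟩ := exists_nat_eq (ringKrullDim (A ⧸ I)) ringKrullDim_ne_bot ringKrullDim_ne_top
  rw [hdim] at h1
  have h3 := h1.trans h2
  rw [hn] at h3
  have : n + 1 ≤ n := by exact_mod_cast h3
  omega

end DimL

end Groth.Agent.H29
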