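import Groth.Agent.H29.RegFree
import Groth.Agent.S9129
import Groth.Agent.S5771
import Groth.Agent.Lead.RegularLocalization
import Groth.Agent.H20.ComplNoeth2
import Mathlib.RingTheory.Localization.LocalizationLocalization
import Mathlib.RingTheory.AdicCompletion.LocalRing
import Mathlib.RingTheory.AdicCompletion.AsTensorProduct
import Mathlib.RingTheory.RingHom.Flat

set_option autoImplicit false
set_option linter.unusedSectionVars false

namespace Groth.Agent.H29

namespace RegCompl

universe u

open IsLocalRing Groth.Agent.Lead.RLR

/-- flat local hom with regular base and `m_R S = m_S`: the target is regular -/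
theorem isRegularLocalRing_of_flat_of_map_maximalIdeal (R S : Type u) [CommRing R] [CommRing S]
    [IsRegularLocalRing R] [IsLocalRing S] [IsNoetherianRing S] [Algebra R S]
    [IsLocalHom (algebraMap R S)] [Module.Flat R S]
    (hmap : (maximalIdeal R).map (algebraMap R S) = maximalIdeal S) : IsRegularLocalRing S := by
  obtain ⟨d, hd, -⟩ := exists_ringKrullDim_eq R
  have hdef : ringKrullDim (S ⧸ (maximalIdeal R).map (algebraMap R S)) = 0 := by
    rw [hmap]
    exact ringKrullDim_eq_zero_of_isField
      ((Ideal.Quotient.maximal_ideal_iff_isField_quotient _).mp (maximalIdeal.isMaximal S))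
  have hle := (Groth.Agent.S5771.result R S hdef).1
  have hCM : LocCoh.IsCohenMacaulayLocalRing R := by
    refine @LocCoh.IsCohenMacaulayLocalRing.mk R _ inferInstance inferInstance ?_
    rw [Module.supportDim_self_eq_ringKrullDim, hd, RegFree.depth_eq_of_regular R d hd]
    rfl
  have hdim := (Groth.Agent.S9129.result R S (Or.inr hle)).2
  apply IsRegularLocalRing.of_spanFinrank_maximalIdeal_le
  rw [← hdim, ringKrullDim_eq_spanFinrank R, ← hmap]
  have := Ideal.spanFinrank_map_le_of_fg (algebraMap R S) (maximalIdeal R).fg_of_isNoetherianRing
  exact_mod_cast this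

/-- regularity can be checked at maximal ideals -/
theorem isRegularRing_of_maximal (S : Type u) [CommRing S] [IsNoetherianRing S]
    (h : ∀ (n : Ideal S) [n.IsMaximal], IsRegularLocalRing (Localization.AtPrime n)) :
    IsRegularRing S := by
  rw [isRegularRing_iff]
  intro P hP
  obtain ⟨n, hn, hPn⟩ := Ideal.exists_le_maximal P hP.ne_top
  have hreg := h n
  let Sn := Localization.AtPrime n
  let pS := P.map (algebraMap S Sn)
  have disj : Disjoint (n.primeCompl : Set S) (P : Set S) := by
    rw [Set.disjoint_left]
    intro x hx hxP
    exact hx (hPn hxP)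
  have hpS : pS.IsPrime := IsLocalization.isPrime_of_isPrime_disjoint n.primeCompl _ _ hP disj
  have hloc : IsLocalization.AtPrime (Localization.AtPrime pS) P := by
    convert IsLocalization.isLocalization_isLocalization_atPrime_isLocalization n.primeCompl
      (Localization.AtPrime pS) pS
    exact (IsLocalization.under_map_of_isPrime_disjoint n.primeCompl _ hP disj).symm
  have hreg2 : IsRegularLocalRing (Localization.AtPrime pS) :=
    isRegularLocalRing_localization Sn pS
  exact IsRegularLocalRing.of_ringEquiv (IsLocalization.algEquiv P.primeCompl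
    (Localization.AtPrime pS) (Localization.AtPrime P)).toRingEquiv

section

variable {A : Type u} [CommRing A] [IsNoetherianRing A] (J : Ideal A)

/-- a maximal ideal of the completion is extended from its contraction -/
theorem maximal_eq_map (n : Ideal (AdicCompletion J A)) [hn : n.IsMaximal] :
    (n.comap (algebraMap A (AdicCompletion J A))).IsMaximal ∧
      n = (n.comap (algebraMap A (AdicCompletion J A))).map (algebraMap A (AdicCompletion J A)) := by
  have hfg : J.FG := IsNoetherian.noetherian J
  have hc := AdicCompletion.isAdicComplete_self J hfg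
  have hJn : J.map (algebraMap A (AdicCompletion J A)) ≤ n :=
    (IsAdicComplete.le_jacobson_bot (J.map (algebraMap A (AdicCompletion J A)))).trans
      (sInf_le (show n ∈ {K : Ideal (AdicCompletion J A) | ⊥ ≤ K ∧ K.IsMaximal} from ⟨bot_le, hn⟩))
  have hker := AdicCompletion.ker_evalOneₐ_eq_map J hfg
  have hdecomp : ∀ y : AdicCompletion J A, ∃ a : A,
      y - algebraMap A (AdicCompletion J A) a ∈ J.map (algebraMap A (AdicCompletion J A)) := by
    intro y
    obtain ⟨a, ha⟩ := Ideal.Quotient.mk_surjective (AdicCompletion.evalOneₐ J y)
    refine ⟨a, ?_⟩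
    rw [← hker, RingHom.mem_ker, map_sub]
    have : (AdicCompletion.evalOneₐ J).toRingHom (algebraMap A (AdicCompletion J A) a) =
        Ideal.Quotient.mk J a := rfl
    rw [this, ha]
    exact sub_self _
  constructor
  · let f : A →+* (AdicCompletion J A ⧸ n) :=
      (Ideal.Quotient.mk n).comp (algebraMap A (AdicCompletion J A))
    have hf : Function.Surjective f := by
      intro z
      obtain ⟨y, rfl⟩ := Ideal.Quotient.mk_surjective z
      obtain ⟨a, ha⟩ := hdecomp y
      refine ⟨a, ?_⟩
      change Ideal.Quotient.mk n (algebraMap A (AdicCompletion J A) a) = Ideal.Quotient.mk n y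
      rw [eq_comm, Ideal.Quotient.eq]
      exact hJn ha
    have hbot : (⊥ : Ideal (AdicCompletion J A ⧸ n)).IsMaximal :=
      (Ideal.bot_quotient_isMaximal_iff n).mpr hn
    have := Ideal.comap_isMaximal_of_surjective f hf (K := ⊥)
    have heq : Ideal.comap f ⊥ = n.comap (algebraMap A (AdicCompletion J A)) := by
      rw [← Ideal.comap_comap, ← RingHom.ker_eq_comap_bot, Ideal.mk_ker]
    rw [← heq]
    exact this
  · apply le_antisymm
    · intro y hy
      obtain ⟨a, ha⟩ := hdecomp y
      have hJm : J ≤ n.comap (algebraMap A (AdicCompletion J A)) :=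
        Ideal.map_le_iff_le_comap.mp hJn
      have ha' : algebraMap A (AdicCompletion J A) a ∈ n := by
        have : algebraMap A (AdicCompletion J A) a = y - (y - algebraMap A (AdicCompletion J A) a) := by
          ring
        rw [this]
        exact n.sub_mem hy (hJn ha)
      have h1 : algebraMap A (AdicCompletion J A) a ∈
          (n.comap (algebraMap A (AdicCompletion J A))).map (algebraMap A (AdicCompletion J A)) :=
        Ideal.mem_map_of_mem _ ha'
      have h2 : y - algebraMap A (AdicCompletion J A) a ∈
          (n.comap (algebraMap A (AdicCompletion J A))).map (algebraMap A (AdicCompletion J A)) :=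
        Ideal.map_mono hJm ha
      have : y = algebraMap A (AdicCompletion J A) a + (y - algebraMap A (AdicCompletion J A) a) := by
        ring
      rw [this]
      exact Ideal.add_mem _ h1 h2
    · exact Ideal.map_comap_le

end

theorem isRegularRing_adicCompletion (A : Type u) [CommRing A] [IsRegularRing A] (J : Ideal A) :
    IsRegularRing (AdicCompletion J A) := by
  have hN : IsNoetherianRing (AdicCompletion J A) :=
    Groth.Agent.H20.isNoetherianRing_adicCompletion J
  apply isRegularRing_of_maximal
  intro n hn
  obtain ⟨hmmax, hnm⟩ := maximal_eq_map J n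
  have hmprime : (n.comap (algebraMap A (AdicCompletion J A))).IsPrime := hmmax.isPrime
  let φ := Localization.localRingHom (n.comap (algebraMap A (AdicCompletion J A))) n
    (algebraMap A (AdicCompletion J A)) rfl
  let _ : Algebra (Localization.AtPrime (n.comap (algebraMap A (AdicCompletion J A))))
    (Localization.AtPrime n) := φ.toAlgebra
  have hloc : IsLocalHom (algebraMap
      (Localization.AtPrime (n.comap (algebraMap A (AdicCompletion J A))))
      (Localization.AtPrime n)) :=
    Localization.isLocalHom_localRingHom _ n _ rfl
  have hflatA : (algebraMap A (AdicCompletion J A)).Flat :=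
    RingHom.flat_algebraMap_iff.mpr inferInstance
  have hflat : Module.Flat (Localization.AtPrime (n.comap (algebraMap A (AdicCompletion J A))))
      (Localization.AtPrime n) :=
    RingHom.Flat.localRingHom hflatA n _ rfl
  have hmap : (maximalIdeal (Localization.AtPrime (n.comap (algebraMap A (AdicCompletion J A))))).map
      (algebraMap (Localization.AtPrime (n.comap (algebraMap A (AdicCompletion J A))))
        (Localization.AtPrime n)) = maximalIdeal (Localization.AtPrime n) := by
    have hcomp : φ.comp (algebraMap A
        (Localization.AtPrime (n.comap (algebraMap A (AdicCompletion J A))))) =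
        (algebraMap (AdicCompletion J A) (Localization.AtPrime n)).comp
          (algebraMap A (AdicCompletion J A)) :=
      RingHom.ext fun x => Localization.localRingHom_to_map _ n _ rfl x
    rw [← Localization.AtPrime.map_eq_maximalIdeal, ← Localization.AtPrime.map_eq_maximalIdeal,
      Ideal.map_map]
    change Ideal.map (φ.comp _) _ = _
    rw [hcomp, ← Ideal.map_map, ← hnm]
  exact isRegularLocalRing_of_flat_of_map_maximalIdeal _ _ hmap

end RegCompl

end Groth.Agent.H29
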