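import Mathlib
import Groth.Agent.H29.CatFlat

set_option autoImplicit false
set_option linter.unusedSectionVars false
universe u

open Groth.Agent.H24 Groth.Agent.H72.EquidimFlat

namespace Groth.Agent.H29.CatFlat

section Equidim

variable {R : Type u} [CommRing R] [IsNoetherianRing R] [IsLocalRing R]

/-- `R/I` is equidimensional iff all the `R/P`, `P` minimal over `I`, have the same dimension. -/
theorem isEquidim_quotient_iff (I : Ideal R) :
    EGA4.IsEquidim (R ⧸ I) ↔ ∀ P1 ∈ I.minimalPrimes, ∀ P2 ∈ I.minimalPrimes,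
      ringKrullDim (R ⧸ P1) = ringKrullDim (R ⧸ P2) := by
  constructor
  · intro h P1 hP1 P2 hP2
    have h1 := h _ (map_mk_mem_minimalPrimes I P1 hP1)
    have h2 := h _ (map_mk_mem_minimalPrimes I P2 hP2)
    rw [ringKrullDim_quotQuot I P1 hP1.1.2] at h1
    rw [ringKrullDim_quotQuot I P2 hP2.1.2] at h2
    rw [h1, h2]
  · intro h P' hP'
    obtain ⟨Q, hQ, rfl⟩ := exists_eq_map_mk_of_mem_minimalPrimes I P' hP'
    have hQp : Q.IsPrime := hQ.1.1
    have hne : I ≠ ⊤ := fun htop => hQp.ne_top (top_le_iff.mp (htop ▸ hQ.1.2))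
    have : Nontrivial (R ⧸ I) := Ideal.Quotient.nontrivial_iff.mpr hne
    have : IsLocalRing (R ⧸ I) :=
      IsLocalRing.of_surjective' (Ideal.Quotient.mk _) Ideal.Quotient.mk_surjective
    obtain ⟨P0', hP0', hdim⟩ :=
      Groth.Agent.H72.EquidimS2.exists_minimalPrimes_ringKrullDim_quotient_eq (A := R ⧸ I)
    obtain ⟨Q0, hQ0, rfl⟩ := exists_eq_map_mk_of_mem_minimalPrimes I P0' hP0'
    rw [← hdim, ringKrullDim_quotQuot I Q hQ.1.2, ringKrullDim_quotQuot I Q0 hQ0.1.2]
    exact h Q hQ Q0 hQ0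

theorem ringKrullDim_quotient_eq_iff_height_eq (h : HtCond (PrimeSpectrum R)) (P1 P2 : Ideal R)
    [hP1 : P1.IsPrime] [hP2 : P2.IsPrime] :
    ringKrullDim (R ⧸ P1) = ringKrullDim (R ⧸ P2) ↔ P1.height = P2.height := by
  have e1 := height_add_coheight_of_htCond h ⟨P1, hP1⟩
  have e2 := height_add_coheight_of_htCond h ⟨P2, hP2⟩
  have hd : (IsLocalRing.maximalIdeal R).height ≠ ⊤ := Ideal.height_ne_top_of_isPrime
  rw [← coheight_eq_ringKrullDim_quotient ⟨P1, hP1⟩, ← coheight_eq_ringKrullDim_quotient ⟨P2, hP2⟩,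
    WithBot.coe_inj, PrimeSpectrum.height_eq_orderHeight ⟨P1, hP1⟩,
    PrimeSpectrum.height_eq_orderHeight ⟨P2, hP2⟩]
  constructor
  · intro hc
    have hfin : Order.coheight (⟨P2, hP2⟩ : PrimeSpectrum R) ≠ ⊤ := by
      intro htop
      rw [htop, add_top] at e2
      exact hd e2.symm
    rw [hc, ← e2] at e1
    exact ENat.add_left_injective_of_ne_top hfin e1
  · intro hh
    rw [hh, ← e2] at e1
    exact ENat.add_right_injective_of_ne_top (orderHeight_ne_top _) e1

theorem isEquidim_quotient_iff_height (h : HtCond (PrimeSpectrum R)) (I : Ideal R) :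
    EGA4.IsEquidim (R ⧸ I) ↔ ∀ P1 ∈ I.minimalPrimes, ∀ P2 ∈ I.minimalPrimes,
      P1.height = P2.height := by
  rw [isEquidim_quotient_iff]
  constructor
  · intro hh P1 hP1 P2 hP2
    have : P1.IsPrime := hP1.1.1
    have : P2.IsPrime := hP2.1.1
    exact (ringKrullDim_quotient_eq_iff_height_eq h P1 P2).mp (hh P1 hP1 P2 hP2)
  · intro hh P1 hP1 P2 hP2
    have : P1.IsPrime := hP1.1.1
    have : P2.IsPrime := hP2.1.1
    exact (ringKrullDim_quotient_eq_iff_height_eq h P1 P2).mpr (hh P1 hP1 P2 hP2)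

end Equidim

section Transfer

variable {A B : Type u} [CommRing A] [CommRing B] [IsNoetherianRing B] [Algebra A B]
  [Module.Flat A B]

theorem comap_mem_minimalPrimes (a : Ideal A) (P : Ideal B)
    (hP : P ∈ (a.map (algebraMap A B)).minimalPrimes) :
    P.comap (algebraMap A B) ∈ a.minimalPrimes ∧
      P ∈ ((P.comap (algebraMap A B)).map (algebraMap A B)).minimalPrimes := by
  have hPp : P.IsPrime := hP.1.1
  have haP : a ≤ P.comap (algebraMap A B) := Ideal.map_le_iff_le_comap.mp hP.1.2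
  refine ⟨⟨⟨inferInstance, haP⟩, ?_⟩, ⟨⟨hPp, Ideal.map_comap_le⟩, ?_⟩⟩
  · rintro p0 ⟨hp0, hap0⟩ hle
    have : P.LiesOver (P.comap (algebraMap A B)) := ⟨rfl⟩
    obtain ⟨P0, hP0P, hP0, hP0p⟩ := Ideal.exists_ideal_le_liesOver_of_le (p := p0)
      (q := P.comap (algebraMap A B)) P hle
    have h1 : a.map (algebraMap A B) ≤ P0 := by
      rw [Ideal.map_le_iff_le_comap]
      exact hap0.trans (Ideal.LiesOver.over (p := p0) (P := P0)).le
    have h2 : P ≤ P0 := hP.2 ⟨hP0, h1⟩ hP0P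
    have h3 : P0 = P := le_antisymm hP0P h2
    subst h3
    exact (Ideal.LiesOver.over (p := p0) (P := P0)).ge
  · rintro R ⟨hR, hle⟩ hRP
    exact hP.2 ⟨hR, (Ideal.map_mono haP).trans hle⟩ hRP

theorem mem_minimalPrimes_map_of_mem (a p : Ideal A) (hp : p ∈ a.minimalPrimes) (P : Ideal B)
    (hP : P ∈ (p.map (algebraMap A B)).minimalPrimes) :
    P ∈ (a.map (algebraMap A B)).minimalPrimes := by
  have hpp : p.IsPrime := hp.1.1
  have hPp : P.IsPrime := hP.1.1
  have hc := comap_eq_of_mem_minimalPrimes_map p P hP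
  refine ⟨⟨hPp, (Ideal.map_mono hp.1.2).trans hP.1.2⟩, ?_⟩
  rintro R ⟨hR, hle⟩ hRP
  have h1 : a ≤ R.comap (algebraMap A B) := Ideal.map_le_iff_le_comap.mp hle
  have h2 : R.comap (algebraMap A B) ≤ p := by
    rw [← hc]
    exact Ideal.comap_mono hRP
  have h3 : p ≤ R.comap (algebraMap A B) := hp.2 ⟨inferInstance, h1⟩ h2
  exact hP.2 ⟨hR, Ideal.map_le_iff_le_comap.mpr h3⟩ hRP

end Transfer

section Main

variable {A B : Type u} [CommRing A] [CommRing B] [IsNoetherianRing A] [IsNoetherianRing B]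
  [IsLocalRing A] [IsLocalRing B] [Algebra A B] [IsLocalHom (algebraMap A B)] [Module.Flat A B]

theorem isEquidim_quotient_map_iff (hB : HtCond (PrimeSpectrum B)) (a : Ideal A) :
    EGA4.IsEquidim (B ⧸ a.map (algebraMap A B)) ↔ EGA4.IsEquidim (A ⧸ a) := by
  have hA : HtCond (PrimeSpectrum A) := htCond_descent (B := B) hB
  rw [isEquidim_quotient_iff_height hB, isEquidim_quotient_iff_height hA]
  constructor
  · intro h p1 hp1 p2 hp2
    have : p1.IsPrime := hp1.1.1
    have : p2.IsPrime := hp2.1.1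
    obtain ⟨P1, hP1⟩ := exists_minimalPrimes_map (B := B) p1
    obtain ⟨P2, hP2⟩ := exists_minimalPrimes_map (B := B) p2
    rw [← height_eq_of_mem_minimalPrimes_map p1 P1 hP1,
      ← height_eq_of_mem_minimalPrimes_map p2 P2 hP2]
    exact h P1 (mem_minimalPrimes_map_of_mem a p1 hp1 P1 hP1) P2
      (mem_minimalPrimes_map_of_mem a p2 hp2 P2 hP2)
  · intro h P1 hP1 P2 hP2
    obtain ⟨h1, h1'⟩ := comap_mem_minimalPrimes a P1 hP1
    obtain ⟨h2, h2'⟩ := comap_mem_minimalPrimes a P2 hP2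
    have : (P1.comap (algebraMap A B)).IsPrime := h1.1.1
    have : (P2.comap (algebraMap A B)).IsPrime := h2.1.1
    rw [height_eq_of_mem_minimalPrimes_map _ P1 h1', height_eq_of_mem_minimalPrimes_map _ P2 h2']
    exact h _ h1 _ h2

end Main

end Groth.Agent.H29.CatFlat
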