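import Mathlib
import Groth.Prelude.Def_CAlg
import Groth.Agent.H15.Depth
import Groth.Agent.H72.DepthFinite

/-!
# Transfer of depth and support dimension along ring isomorphisms; transitivity of localization

* `depth_eq_of_semilinear`, `supportDim_eq_of_semilinear`: invariance under a ring isomorphism
  `e : R₁ ≃+* R₂` together with an `e`-semilinear additive equivalence of modules.
* `exists_semilinear_localization_localization`: for a submonoid `T` of `B`, a prime `Q` of
  `Localization T` and `q = Q ∩ B`: `(M_T)_Q` and `M_q` are semilinearly isomorphic over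
  `(B_T)_Q ≃ B_q`.
* `depth_localization_localization`, `supportDim_localization_localization`.
-/

set_option autoImplicit false
set_option linter.style.haveILetI false
set_option linter.unusedSectionVars false
universe u

namespace Groth.Agent.H29.LocTrans

open IsLocalRing

section semilinear

variable {R₁ R₂ : Type u} [CommRing R₁] [CommRing R₂]
  {N₁ N₂ : Type u} [AddCommGroup N₁] [Module R₁ N₁] [AddCommGroup N₂] [Module R₂ N₂]

/-- support dimension is invariant under semilinear isomorphisms -/
theorem supportDim_eq_of_semilinear (e : R₁ ≃+* R₂) (φ : N₁ ≃+ N₂)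
    (hφ : ∀ (r : R₁) (x : N₁), φ (r • x) = e r • φ x) :
    Module.supportDim R₁ N₁ = Module.supportDim R₂ N₂ := by
  letI : Module R₁ N₂ := Module.compHom N₂ (e : R₁ →+* R₂)
  have hsmul : ∀ (r : R₁) (y : N₂), r • y = e r • y := fun _ _ => rfl
  let l : N₁ ≃ₗ[R₁] N₂ :=
    { φ with
      map_smul' := fun r x => by
        change φ (r • x) = e r • φ x
        exact hφ r x }
  rw [Module.supportDim_eq_of_equiv l]
  unfold Module.supportDim
  -- the order isomorphism between the supports
  have hmem : ∀ P : PrimeSpectrum R₂, P ∈ Module.support R₂ N₂ ↔
      PrimeSpectrum.comap (e : R₁ →+* R₂) P ∈ Module.support R₁ N₂ := by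
    intro P
    rw [Module.mem_support_iff_exists_annihilator, Module.mem_support_iff_exists_annihilator]
    refine exists_congr fun m => ?_
    constructor
    · intro h r hr
      change e r ∈ P.asIdeal
      refine h ?_
      rw [Submodule.mem_annihilator_span_singleton] at hr ⊢
      rw [← hsmul]
      exact hr
    · intro h r hr
      have h1 : e.symm r ∈ (PrimeSpectrum.comap (e : R₁ →+* R₂) P).asIdeal := by
        refine h ?_
        rw [Submodule.mem_annihilator_span_singleton] at hr ⊢
        rw [hsmul, RingEquiv.apply_symm_apply]
        exact hr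
      change e (e.symm r) ∈ P.asIdeal at h1
      rwa [RingEquiv.apply_symm_apply] at h1
  let o : PrimeSpectrum R₂ ≃o PrimeSpectrum R₁ := (PrimeSpectrum.comapEquiv e).symm
  have ho : ∀ P, o P = PrimeSpectrum.comap (e : R₁ →+* R₂) P := fun _ => rfl
  apply le_antisymm
  · refine Order.krullDim_le_of_strictMono
      (fun P : Module.support R₁ N₂ => (⟨o.symm P.1, by
        rw [hmem, ← ho, o.apply_symm_apply]; exact P.2⟩ : Module.support R₂ N₂)) ?_
    intro P P' h
    exact o.symm.strictMono h
  · refine Order.krullDim_le_of_strictMono
      (fun P : Module.support R₂ N₂ => (⟨o P.1, by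
        rw [ho]; exact (hmem P.1).mp P.2⟩ : Module.support R₁ N₂)) ?_
    intro P P' h
    exact o.strictMono h

/-- depth is invariant under semilinear isomorphisms -/
theorem depth_eq_of_semilinear [IsLocalRing R₁] [IsLocalRing R₂] [IsNoetherianRing R₁]
    [Module.Finite R₂ N₂] (e : R₁ ≃+* R₂) (φ : N₁ ≃+ N₂)
    (hφ : ∀ (r : R₁) (x : N₁), φ (r • x) = e r • φ x) :
    LocCoh.depth R₁ N₁ = LocCoh.depth R₂ N₂ := by
  letI : Algebra R₁ R₂ := (e : R₁ →+* R₂).toAlgebra
  letI : Module R₁ N₂ := Module.compHom N₂ (e : R₁ →+* R₂)
  haveI : IsScalarTower R₁ R₂ N₂ := ⟨fun r s y => by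
    change (e r * s) • y = e r • (s • y)
    rw [mul_smul]⟩
  let l : N₁ ≃ₗ[R₁] N₂ :=
    { φ with
      map_smul' := fun r x => by
        change φ (r • x) = e r • φ x
        exact hφ r x }
  have hmap : (maximalIdeal R₁).map (algebraMap R₁ R₂) = maximalIdeal R₂ := by
    have h1 : (maximalIdeal R₁).map (algebraMap R₁ R₂) = (maximalIdeal R₁).map (e : R₁ →+* R₂) :=
      rfl
    rw [h1]
    exact IsLocalRing.map_ringEquiv_maximalIdeal e
  let l' : R₁ ≃ₗ[R₁] R₂ :=
    { e.toAddEquiv with
      map_smul' := fun r x => by
        change e (r * x) = e r * e x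
        exact map_mul e r x }
  haveI : Module.Finite R₁ R₂ := Module.Finite.of_surjective l'.toLinearMap l'.surjective
  have h2 := Groth.Agent.H72.DepthFinite.idealDepth_eq_idealDepth_map (A := R₁) (B := R₂)
    (maximalIdeal R₁) N₂
  rw [hmap] at h2
  unfold LocCoh.depth
  rw [Groth.Agent.H15.idealDepth_congr l (maximalIdeal R₁), h2]

end semilinear

section transitive

variable {B : Type u} [CommRing B] (T : Submonoid B) (M : Type u) [AddCommGroup M] [Module B M]
  (Q : Ideal (Localization T)) [Q.IsPrime]

/-- the composite `M → M_T → (M_T)_Q` is a localization at `q = Q ∩ B`. -/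
theorem isLocalizedModule_comp :
    IsLocalizedModule (Q.comap (algebraMap B (Localization T))).primeCompl
      (((LocalizedModule.mkLinearMap Q.primeCompl (LocalizedModule T M)).restrictScalars B).comp
        (LocalizedModule.mkLinearMap T M)) := by
  rw [isLocalizedModule_iff_isBaseChange (Q.comap (algebraMap B (Localization T))).primeCompl
    (Localization.AtPrime Q)]
  exact IsBaseChange.comp (IsLocalizedModule.isBaseChange T (Localization T) _)
    (IsLocalizedModule.isBaseChange Q.primeCompl (Localization.AtPrime Q) _)

/-- `(M_T)_Q` and `M_q` are semilinearly isomorphic over `B_q ≃ (B_T)_Q`. -/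
theorem exists_semilinear_localization_localization :
    ∃ φ : LocalizedModule (Q.comap (algebraMap B (Localization T))).primeCompl M ≃+
        LocalizedModule Q.primeCompl (LocalizedModule T M),
      ∀ (r : Localization.AtPrime (Q.comap (algebraMap B (Localization T))))
        (x : LocalizedModule (Q.comap (algebraMap B (Localization T))).primeCompl M),
        φ (r • x) =
          (IsLocalization.localizationLocalizationAtPrimeIsoLocalization T Q).toRingEquiv r •
            φ x := by
  set q := Q.comap (algebraMap B (Localization T)) with hq
  set e := IsLocalization.localizationLocalizationAtPrimeIsoLocalization T Q with he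
  haveI := isLocalizedModule_comp T M Q
  let ψ := IsLocalizedModule.linearEquiv q.primeCompl (LocalizedModule.mkLinearMap q.primeCompl M)
    (((LocalizedModule.mkLinearMap Q.primeCompl (LocalizedModule T M)).restrictScalars B).comp
        (LocalizedModule.mkLinearMap T M))
  letI : Module (Localization.AtPrime q) (LocalizedModule Q.primeCompl (LocalizedModule T M)) :=
    Module.compHom _ (e.toRingEquiv : Localization.AtPrime q →+* Localization.AtPrime Q)
  haveI : IsScalarTower B (Localization.AtPrime q)
      (LocalizedModule Q.primeCompl (LocalizedModule T M)) := ⟨fun b r y => by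
    change e (b • r) • y = b • (e r • y)
    rw [map_smul, smul_assoc]⟩
  let ψ' := LinearEquiv.extendScalarsOfIsLocalization q.primeCompl (Localization.AtPrime q) ψ
  refine ⟨ψ'.toAddEquiv, fun r x => ?_⟩
  exact ψ'.map_smul r x

variable [IsNoetherianRing B] [Module.Finite B M]

/-- depth of `(M_T)_Q` over `(B_T)_Q` equals depth of `M_q` over `B_q`. -/
theorem depth_localization_localization :
    LocCoh.depth (Localization.AtPrime Q)
        (LocalizedModule Q.primeCompl (LocalizedModule T M)) =
      LocCoh.depth (Localization.AtPrime (Q.comap (algebraMap B (Localization T))))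
        (LocalizedModule (Q.comap (algebraMap B (Localization T))).primeCompl M) := by
  obtain ⟨φ, hφ⟩ := exists_semilinear_localization_localization T M Q
  haveI : Module.Finite (Localization T) (LocalizedModule T M) :=
    Module.Finite.of_isLocalizedModule T (LocalizedModule.mkLinearMap T M)
  haveI : Module.Finite (Localization.AtPrime Q)
      (LocalizedModule Q.primeCompl (LocalizedModule T M)) :=
    Module.Finite.of_isLocalizedModule Q.primeCompl
      (LocalizedModule.mkLinearMap Q.primeCompl (LocalizedModule T M))
  haveI : IsNoetherianRing (Localization.AtPrime (Q.comap (algebraMap B (Localization T)))) :=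
    IsLocalization.isNoetherianRing (Q.comap (algebraMap B (Localization T))).primeCompl _
      inferInstance
  exact (depth_eq_of_semilinear _ φ hφ).symm

omit [IsNoetherianRing B] [Module.Finite B M] in
/-- support dimension of `(M_T)_Q` over `(B_T)_Q` equals that of `M_q` over `B_q`. -/
theorem supportDim_localization_localization :
    Module.supportDim (Localization.AtPrime Q)
        (LocalizedModule Q.primeCompl (LocalizedModule T M)) =
      Module.supportDim (Localization.AtPrime (Q.comap (algebraMap B (Localization T))))
        (LocalizedModule (Q.comap (algebraMap B (Localization T))).primeCompl M) := by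
  obtain ⟨φ, hφ⟩ := exists_semilinear_localization_localization T M Q
  exact (supportDim_eq_of_semilinear _ φ hφ).symm

end transitive

end Groth.Agent.H29.LocTrans
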