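import Mathlib
import Groth.Prelude.Def_CAlg
import Groth.Prelude.Def_EGA4b
import Groth.Agent.H29.LocTrans
import Groth.Agent.H72.DepthFlat

/-!
# `(S_k)` at a prime in terms of generizations

* `SkCond k A M q`: the single-prime condition `min k (dim M_q) ≤ depth M_q`.
* `hasSkAt_iff`: `EGA4.HasSkAt k A M p ↔ ∀ q ≤ p prime, SkCond k A M q`.
* `hasSk_iff`: `LocCoh.HasSk k A M ↔ ∀ q prime, SkCond k A M q` (definitional).
* `mem_associatedPrimes_of_depth_eq_zero`: `depth M_q = 0 → q ∈ Ass M`.
* `depth_eq_zero_of_mem_associatedPrimes`: `q ∈ Ass M → depth M_q = 0`.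
* `isOpen_hasSkAt_one`: the `(S_1)`-locus is open.
-/

set_option autoImplicit false
set_option linter.style.haveILetI false
set_option linter.unusedSectionVars false
universe u

namespace Groth.Agent.H29.SkAt

open IsLocalRing

variable (k : ℕ) (A : Type u) [CommRing A] (M : Type u) [AddCommGroup M] [Module A M]

/-- the condition `min k (dim M_q) ≤ depth M_q` at a single prime. -/
def SkCond (q : Ideal A) [q.IsPrime] : Prop :=
  min (k : WithBot ℕ∞)
      (Module.supportDim (Localization.AtPrime q) (LocalizedModule q.primeCompl M)) ≤
    ((LocCoh.depth (Localization.AtPrime q) (LocalizedModule q.primeCompl M) : ℕ∞) : WithBot ℕ∞)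

theorem hasSk_iff : LocCoh.HasSk k A M ↔ ∀ (q : Ideal A) [q.IsPrime], SkCond k A M q :=
  Iff.rfl

theorem skCond_congr {q q' : Ideal A} [q.IsPrime] [q'.IsPrime] (h : q' = q) :
    SkCond k A M q' ↔ SkCond k A M q := by
  subst h
  exact Iff.rfl

variable [IsNoetherianRing A] [Module.Finite A M]

/-- the `(S_k)` condition at a prime `Q` of a localization `A_T` is the condition at `Q ∩ A`. -/
theorem skCond_localization (T : Submonoid A) (Q : Ideal (Localization T)) [Q.IsPrime] :
    SkCond k (Localization T) (LocalizedModule T M) Q ↔
      SkCond k A M (Q.comap (algebraMap A (Localization T))) := by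
  unfold SkCond
  rw [Groth.Agent.H29.LocTrans.depth_localization_localization T M Q,
    Groth.Agent.H29.LocTrans.supportDim_localization_localization T M Q]

/-- `(S_k)` at `p` means the single-prime condition at every generization of `p`. -/
theorem hasSkAt_iff (p : Ideal A) [p.IsPrime] :
    EGA4.HasSkAt k A M p ↔ ∀ (q : Ideal A) [q.IsPrime], q ≤ p → SkCond k A M q := by
  unfold EGA4.HasSkAt
  rw [hasSk_iff]
  constructor
  · intro h q _ hq
    have hdisj : Disjoint (p.primeCompl : Set A) (q : Set A) := by
      rw [Set.disjoint_left]
      intro x hx hxq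
      exact hx (hq hxq)
    haveI hQ : (q.map (algebraMap A (Localization.AtPrime p))).IsPrime :=
      IsLocalization.isPrime_of_isPrime_disjoint p.primeCompl _ q inferInstance hdisj
    have hcomap : (q.map (algebraMap A (Localization.AtPrime p))).comap
        (algebraMap A (Localization.AtPrime p)) = q :=
      IsLocalization.under_map_of_isPrime_disjoint p.primeCompl _ inferInstance hdisj
    have h1 := (skCond_localization k A M p.primeCompl
      (q.map (algebraMap A (Localization.AtPrime p)))).mp
      (h (q.map (algebraMap A (Localization.AtPrime p))))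
    exact (skCond_congr k A M hcomap).mp h1
  · intro h Q _
    rw [skCond_localization k A M p.primeCompl Q]
    apply h
    have hd := ((IsLocalization.isPrime_iff_isPrime_disjoint p.primeCompl
      (Localization.AtPrime p) Q).mp inferInstance).2
    intro x hx
    by_contra hxp
    exact Set.disjoint_left.mp hd hxp hx

/-- an associated prime has depth zero localization -/
theorem depth_eq_zero_of_mem_associatedPrimes (q : Ideal A) [q.IsPrime]
    (hq : q ∈ associatedPrimes A M) :
    LocCoh.depth (Localization.AtPrime q) (LocalizedModule q.primeCompl M) = 0 := by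
  have h1 := Module.associatedPrimes.mem_associatedPrimes_atPrime_of_mem_associatedPrimes hq
  haveI : IsNoetherianRing (Localization.AtPrime q) :=
    IsLocalization.isNoetherianRing q.primeCompl _ inferInstance
  haveI : Module.Finite (Localization.AtPrime q) (LocalizedModule q.primeCompl M) :=
    Module.Finite.of_isLocalizedModule q.primeCompl (LocalizedModule.mkLinearMap q.primeCompl M)
  rw [AssociatedPrimes.mem_iff, isAssociatedPrime_iff] at h1
  obtain ⟨_, x, hx⟩ := h1
  have hx0 : x ≠ 0 := by
    rintro rfl
    have : (1 : Localization.AtPrime q) ∈ maximalIdeal (Localization.AtPrime q) := by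
      rw [hx, Submodule.mem_colon_singleton]
      simp
    exact (Ideal.ne_top_iff_one _).mp (IsLocalRing.maximalIdeal.isMaximal _).ne_top this
  have hkill : ∀ a ∈ maximalIdeal (Localization.AtPrime q), a • x = 0 := by
    intro a ha
    rw [hx, Submodule.mem_colon_singleton] at ha
    simpa using ha
  haveI : Nontrivial (LocalizedModule q.primeCompl M) := ⟨⟨x, 0, hx0⟩⟩
  unfold LocCoh.depth
  exact Groth.Agent.H72.DepthFlat.idealDepth_eq_zero_of_killed _ _
    (Groth.Agent.H72.DepthFlat.smul_top_ne_top_of_nontrivial _) x hx0 hkill

/-- depth zero at `q` forces `q` to be an associated prime -/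
theorem mem_associatedPrimes_of_depth_eq_zero (q : Ideal A) [q.IsPrime]
    (h : LocCoh.depth (Localization.AtPrime q) (LocalizedModule q.primeCompl M) = 0) :
    q ∈ associatedPrimes A M := by
  haveI : IsNoetherianRing (Localization.AtPrime q) :=
    IsLocalization.isNoetherianRing q.primeCompl _ inferInstance
  haveI : Module.Finite (Localization.AtPrime q) (LocalizedModule q.primeCompl M) :=
    Module.Finite.of_isLocalizedModule q.primeCompl (LocalizedModule.mkLinearMap q.primeCompl M)
  obtain ⟨t, ht0, hkill⟩ :=
    Groth.Agent.H72.DepthFlat.exists_killed_of_idealDepth_eq_zero _ _ h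
  have hass : maximalIdeal (Localization.AtPrime q) ∈
      associatedPrimes (Localization.AtPrime q) (LocalizedModule q.primeCompl M) := by
    rw [AssociatedPrimes.mem_iff, isAssociatedPrime_iff]
    refine ⟨inferInstance, t, ?_⟩
    have hle : maximalIdeal (Localization.AtPrime q) ≤
        (⊥ : Submodule (Localization.AtPrime q) (LocalizedModule q.primeCompl M)).colon {t} := by
      intro a ha
      rw [Submodule.mem_colon_singleton]
      simpa using hkill a ha
    have hne : (⊥ : Submodule (Localization.AtPrime q) (LocalizedModule q.primeCompl M)).colon {t}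
        ≠ ⊤ := by
      intro htop
      have h1 : (1 : Localization.AtPrime q) ∈
          (⊥ : Submodule (Localization.AtPrime q) (LocalizedModule q.primeCompl M)).colon {t} := by
        rw [htop]; trivial
      rw [Submodule.mem_colon_singleton] at h1
      exact ht0 (by simpa using h1)
    exact ((IsLocalRing.maximalIdeal.isMaximal _).eq_of_le hne hle)
  have h2 := Module.associatedPrimes.comap_mem_associatedPrimes_of_mem_associatedPrimes_of_isLocalizedModule_of_fg
    q.primeCompl (LocalizedModule.mkLinearMap q.primeCompl M)
    (maximalIdeal (Localization.AtPrime q)) hass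
    ((isNoetherianRing_iff_ideal_fg A).mp inferInstance _)
  have h3 : Ideal.comap (algebraMap A (Localization.AtPrime q))
      (maximalIdeal (Localization.AtPrime q)) = q :=
    IsLocalization.AtPrime.under_maximalIdeal (Localization.AtPrime q) q
  rwa [h3] at h2

/-- the `(S_1)`-locus of a finite module over a Noetherian ring is open -/
theorem isOpen_hasSkAt_one :
    IsOpen {p : PrimeSpectrum A | EGA4.HasSkAt 1 A M p.asIdeal} := by
  classical
  set Bad : Set (PrimeSpectrum A) := {q | ¬ SkCond 1 A M q.asIdeal} with hBad
  have hfin : Bad.Finite := by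
    have hsub : Bad ⊆ PrimeSpectrum.asIdeal ⁻¹' (associatedPrimes A M) := by
      intro q hq
      rw [Set.mem_preimage]
      apply mem_associatedPrimes_of_depth_eq_zero
      by_contra hne
      apply hq
      unfold SkCond
      refine (min_le_left _ _).trans ?_
      have : (1 : ℕ∞) ≤ LocCoh.depth (Localization.AtPrime q.asIdeal)
          (LocalizedModule q.asIdeal.primeCompl M) := Order.one_le_iff_ne_zero.mpr hne
      exact_mod_cast this
    refine Set.Finite.subset ?_ hsub
    exact Set.Finite.preimage (fun x _ y _ h => PrimeSpectrum.ext h) (associatedPrimes.finite A M)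
  have heq : {p : PrimeSpectrum A | EGA4.HasSkAt 1 A M p.asIdeal} =
      (⋃ q ∈ Bad, PrimeSpectrum.zeroLocus (q.asIdeal : Set A))ᶜ := by
    ext p
    rw [Set.mem_ofPred_eq, hasSkAt_iff, Set.mem_compl_iff, Set.mem_iUnion₂]
    constructor
    · rintro h ⟨q, hq, hqp⟩
      rw [PrimeSpectrum.mem_zeroLocus] at hqp
      exact hq (h q.asIdeal hqp)
    · intro h q _ hqp
      by_contra hcon
      exact h ⟨⟨q, inferInstance⟩, hcon, by rw [PrimeSpectrum.mem_zeroLocus]; exact hqp⟩
  rw [heq, isOpen_compl_iff]
  exact hfin.isClosed_biUnion fun q _ => PrimeSpectrum.isClosed_zeroLocus _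

end Groth.Agent.H29.SkAt
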