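import Mathlib
import Groth.Prelude.Def_CAlg
import Groth.Prelude.Def_EGA4b
import Groth.Agent.H70.GrFree.NormalFlat
import Groth.Agent.H72.NormFlatDepth
import Groth.Agent.H15.Depth

/-!
# Normal flatness localizes; depth and dimension of `M_q` for `M` normally flat along a nilpotent
ideal
-/

set_option autoImplicit false
set_option linter.style.haveILetI false
set_option linter.unusedSectionVars false
universe u

open TensorProduct

namespace Groth.Agent.H29.NormFlatLoc

variable {A : Type u} [CommRing A] (I : Ideal A)
  (M : Type u) [AddCommGroup M] [Module A M]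

/-- normal flatness passes to localizations -/
theorem isNormallyFlat_localization (S : Submonoid A) (h : EGA4.IsNormallyFlat I M) :
    EGA4.IsNormallyFlat (I.map (algebraMap A (Localization S))) (LocalizedModule S M) := by
  intro n
  haveI := h n
  exact Groth.Agent.H70.GrFree.flat_quotient_of_isLocalizedModule S (Localization S) I
    (Groth.Agent.H70.GrFree.powMap S (Localization S) (LocalizedModule.mkLinearMap S M) I n)
    inferInstance


/-- `(A/I)_q ≃ A_q / I A_q` -/
noncomputable def quotientLocEquiv (q : Ideal A) [q.IsPrime] :
    LocalizedModule q.primeCompl (A ⧸ I) ≃ₗ[Localization.AtPrime q]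
      (Localization.AtPrime q ⧸ I.map (algebraMap A (Localization.AtPrime q))) :=
  ((IsLocalizedModule.linearEquiv q.primeCompl
      (LocalizedModule.mkLinearMap q.primeCompl (A ⧸ I))
      (Submodule.toLocalizedQuotient' (Localization.AtPrime q) q.primeCompl
        (Algebra.linearMap A (Localization.AtPrime q)) I)).extendScalarsOfIsLocalization
      q.primeCompl (Localization.AtPrime q)).trans
    (Submodule.quotEquivOfEq _ _ (Ideal.localized'_eq_map (Localization.AtPrime q) q.primeCompl I))

variable [IsNoetherianRing A] [Module.Finite A M]

/-- depth and dimension of `M_q` agree with those of `(A/I)_q` -/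
theorem depth_supportDim_eq (hI : IsNilpotent I) (hM : EGA4.IsNormallyFlat I M)
    (q : Ideal A) [q.IsPrime] [Nontrivial (LocalizedModule q.primeCompl M)] :
    LocCoh.depth (Localization.AtPrime q) (LocalizedModule q.primeCompl M) =
        LocCoh.depth (Localization.AtPrime q) (LocalizedModule q.primeCompl (A ⧸ I)) ∧
      Module.supportDim (Localization.AtPrime q) (LocalizedModule q.primeCompl M) =
        Module.supportDim (Localization.AtPrime q) (LocalizedModule q.primeCompl (A ⧸ I)) := by
  haveI : IsNoetherianRing (Localization.AtPrime q) :=
    IsLocalization.isNoetherianRing q.primeCompl _ inferInstance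
  haveI : Module.Finite (Localization.AtPrime q) (LocalizedModule q.primeCompl M) :=
    Module.Finite.of_isLocalizedModule q.primeCompl (LocalizedModule.mkLinearMap q.primeCompl M)
  have hIq : IsNilpotent (I.map (algebraMap A (Localization.AtPrime q))) := by
    obtain ⟨n, hn⟩ := hI
    exact ⟨n, by rw [← Ideal.map_pow, hn]; exact Ideal.map_bot⟩
  have hMq := isNormallyFlat_localization I M q.primeCompl hM
  have h1 := Groth.Agent.H72.NormFlatDepth.depth_eq_of_normallyFlat
    (I.map (algebraMap A (Localization.AtPrime q))) hIq (LocalizedModule q.primeCompl M) hMq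
  have h2 := Groth.Agent.H72.NormFlatDepth.supportDim_eq_of_normallyFlat
    (I.map (algebraMap A (Localization.AtPrime q))) hIq (LocalizedModule q.primeCompl M) hMq
  refine ⟨?_, ?_⟩
  · rw [h1]
    exact (Groth.Agent.H15.idealDepth_congr (quotientLocEquiv I q) _).symm
  · rw [h2, Module.supportDim_eq_of_equiv (quotientLocEquiv I q),
      Module.supportDim_quotient_eq_ringKrullDim]

end Groth.Agent.H29.NormFlatLoc
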