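import Mathlib
import Groth.Agent.H24.SupportLoc

/-!
# Support dimension of a localized module as the Krull dimension of a subset of the support
-/

set_option autoImplicit false
set_option linter.style.haveILetI false
universe u

namespace Groth.Agent.H29.SuppDimLoc

variable {R : Type u} [CommRing R] (M : Type u) [AddCommGroup M] [Module R M]
  (P : Ideal R) [hP : P.IsPrime]

/-- the part of the support below `P` -/
def Below : Set (PrimeSpectrum R) :=
  {x | x ∈ Module.support R M ∧ x ≤ ⟨P, hP⟩}

theorem supportDim_localization_eq :
    Module.supportDim (Localization.AtPrime P) (LocalizedModule P.primeCompl M) =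
      Order.krullDim (Below M P) := by
  unfold Module.supportDim
  let o := IsLocalization.AtPrime.primeSpectrumOrderIso (Localization.AtPrime P) P
  have ho : ∀ Q : PrimeSpectrum (Localization.AtPrime P),
      (o Q).1 = Q.comap (algebraMap R (Localization.AtPrime P)) := fun Q => rfl
  apply le_antisymm
  · refine Order.krullDim_le_of_strictMono
      (fun Q : Module.support (Localization.AtPrime P) (LocalizedModule P.primeCompl M) =>
        (⟨(o Q.1).1, ⟨by
          rw [ho]
          exact (Groth.Agent.H24.mem_support_localizedModule_iff P Q.1).mp Q.2,
          (o Q.1).2⟩⟩ : Below M P)) ?_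
    intro Q Q' h
    exact o.strictMono h
  · refine Order.krullDim_le_of_strictMono
      (fun x : Below M P =>
        (⟨o.symm ⟨x.1, x.2.2⟩, by
          rw [Groth.Agent.H24.mem_support_localizedModule_iff, ← ho, o.apply_symm_apply]
          exact x.2.1⟩ :
          Module.support (Localization.AtPrime P) (LocalizedModule P.primeCompl M))) ?_
    intro x x' h
    exact o.symm.strictMono h

end Groth.Agent.H29.SuppDimLoc
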