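import Mathlib
import Groth.Agent.H29.AB3

set_option autoImplicit false

namespace Groth.Agent.H29

namespace AB

universe u

open CategoryTheory IsLocalRing RingTheory.Sequence Pointwise Groth.Agent.Lead.PdQuot
  Groth.Agent.H29.CML

section general

variable {R : Type u} [CommRing R]

/-- finite powers of a module of projective dimension `< n` have projective dimension `< n` -/
theorem hasProjectiveDimensionLT_pi (N : Type u) [AddCommGroup N] [Module R N] (n : ℕ)
    (h : HasProjectiveDimensionLT (ModuleCat.of R N) n) :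
    ∀ k : ℕ, HasProjectiveDimensionLT (ModuleCat.of R (Fin k → N)) n := by
  intro k
  induction k with
  | zero =>
    have hz : Limits.IsZero (ModuleCat.of R (Fin 0 → N)) :=
      (ModuleCat.isZero_iff_subsingleton).mpr inferInstance
    have := hz.hasProjectiveDimensionLT_zero
    exact hasProjectiveDimensionLT_of_ge _ 0 n (Nat.zero_le _)
  | succ k ih =>
    let i : N →ₗ[R] (Fin (k + 1) → N) := LinearMap.single R (fun _ => N) 0
    let p : (Fin (k + 1) → N) →ₗ[R] (Fin k → N) := LinearMap.funLeft R N Fin.succ
    have hi : Function.Injective i := fun a b hab => by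
      have := congrFun hab 0
      simpa [i] using this
    have hp : Function.Surjective p := LinearMap.funLeft_surjective_of_injective R N Fin.succ
      (Fin.succ_injective k)
    have hex : Function.Exact i p := by
      intro f
      constructor
      · intro hf
        refine ⟨f 0, ?_⟩
        funext j
        refine Fin.cases ?_ (fun j' => ?_) j
        · simp [i]
        · have : f j'.succ = 0 := congrFun hf j'
          simp [i, this, Fin.succ_ne_zero]
      · rintro ⟨a, rfl⟩
        funext j
        simp [i, p, LinearMap.funLeft_apply, Fin.succ_ne_zero]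
    have hS := GlDimL.shortExact_of_exact i p hi hp hex
    exact hS.hasProjectiveDimensionLT_X₂ n h ih

end general

section loc

variable {R : Type u} [CommRing R] [IsLocalRing R] [IsNoetherianRing R]

theorem isLocalRing_quotient' (I : Ideal R) (hI : I ≠ ⊤) : IsLocalRing (R ⧸ I) := by
  have : Nontrivial (R ⧸ I) := Ideal.Quotient.nontrivial_iff.mpr hI
  exact IsLocalRing.of_surjective' (Ideal.Quotient.mk _) Ideal.Quotient.mk_surjective

/-- finite projective dimension is transitive along `R → R/I` -/
theorem hasProjectiveDimensionLT_restrictScalars (I : Ideal R) (hI : I ≠ ⊤) (a : ℕ)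
    (ha : HasProjectiveDimensionLT (ModuleCat.of R (R ⧸ I)) (a + 1)) :
    ∀ (b : ℕ) (E : Type u) [AddCommGroup E] [Module (R ⧸ I) E] [Module R E]
      [IsScalarTower R (R ⧸ I) E] [Module.Finite (R ⧸ I) E],
      HasProjectiveDimensionLT (ModuleCat.of (R ⧸ I) E) (b + 1) →
      HasProjectiveDimensionLT (ModuleCat.of R E) (a + b + 1) := by
  have hloc := isLocalRing_quotient' I hI
  intro b
  induction b with
  | zero =>
    intro E _ _ _ _ _ h
    rw [zero_add, ← projective_iff_hasProjectiveDimensionLT_one] at h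
    have : Module.Projective (R ⧸ I) E := (IsProjective.iff_projective E).mpr h
    have : Module.Free (R ⧸ I) E := Module.free_of_flat_of_isLocalRing
    let bs := Module.finBasis (R ⧸ I) E
    let e : E ≃ₗ[R] (Fin (Module.finrank (R ⧸ I) E) → R ⧸ I) := bs.equivFun.restrictScalars R
    have h1 := hasProjectiveDimensionLT_pi (R ⧸ I) (a + 1) ha (Module.finrank (R ⧸ I) E)
    exact hasProjectiveDimensionLT_of_iso e.toModuleIso.symm (a + 0 + 1)
  | succ b ih =>
    intro E _ _ _ _ _ h
    obtain ⟨m, g, hg⟩ := Module.Finite.exists_fin' (R ⧸ I) E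
    let K := LinearMap.ker g
    have hexact : Function.Exact K.subtype g := LinearMap.exact_subtype_ker_map g
    have hinj : Function.Injective K.subtype := Subtype.val_injective
    have hS := GlDimL.shortExact_of_exact K.subtype g hinj hg hexact
    have hproj : Projective (ModuleCat.of (R ⧸ I) (Fin m → R ⧸ I)) :=
      (IsProjective.iff_projective _).mp inferInstance
    have hK : HasProjectiveDimensionLT (ModuleCat.of (R ⧸ I) K) (b + 1) :=
      (hS.hasProjectiveDimensionLT_X₃_iff b hproj).mp h
    have hK' := ih K hK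
    have hSR := GlDimL.shortExact_of_exact (K.subtype.restrictScalars R) (g.restrictScalars R)
      hinj hg hexact
    have h2 : HasProjectiveDimensionLT (ModuleCat.of R (Fin m → R ⧸ I)) (a + b + 1 + 1) := by
      have := hasProjectiveDimensionLT_pi (R ⧸ I) (a + 1) ha m
      exact hasProjectiveDimensionLT_of_ge _ (a + 1) _ (by omega)
    exact hSR.hasProjectiveDimensionLT_X₃ (a + b + 1) hK' h2

theorem exists_nat_pd {A : Type u} [CommRing A] (X : ModuleCat.{u} A)
    (h : projectiveDimension X ≠ ⊤) (hX : ¬ Limits.IsZero X) :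
    ∃ n : ℕ, projectiveDimension X = n := by
  generalize hp : projectiveDimension X = p at h
  induction p with
  | bot => exact absurd ((projectiveDimension_eq_bot_iff X).mp hp) hX
  | coe p =>
    induction p with
    | top => exact absurd rfl h
    | coe n => exact ⟨n, rfl⟩

/-- `pd_R E = pd_R (R/I) + pd_{R/I} E` when the right hand side is finite -/
theorem pd_eq_add (I : Ideal R) (E : Type u) [AddCommGroup E] [Module (R ⧸ I) E] [Module R E]
    [IsScalarTower R (R ⧸ I) E] [Module.Finite (R ⧸ I) E] [Nontrivial E]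
    (h1 : projectiveDimension (ModuleCat.of R (R ⧸ I)) ≠ ⊤)
    (h2 : projectiveDimension (ModuleCat.of (R ⧸ I) E) ≠ ⊤) :
    projectiveDimension (ModuleCat.of R E) ≠ ⊤ ∧
      projectiveDimension (ModuleCat.of R E) =
        projectiveDimension (ModuleCat.of R (R ⧸ I)) +
          projectiveDimension (ModuleCat.of (R ⧸ I) E) := by
  have hI : I ≠ ⊤ := by
    rintro rfl
    have : Subsingleton (R ⧸ (⊤ : Ideal R)) := Ideal.Quotient.subsingleton_iff.mpr rfl
    have : Subsingleton E := Module.subsingleton (R ⧸ (⊤ : Ideal R)) E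
    exact not_subsingleton E this
  have hnt : Nontrivial (R ⧸ I) := Ideal.Quotient.nontrivial_iff.mpr hI
  have hloc := isLocalRing_quotient' I hI
  have hlochom : IsLocalHom (algebraMap R (R ⧸ I)) :=
    IsLocalHom.of_surjective _ Ideal.Quotient.mk_surjective
  have hfinE : Module.Finite R E := Module.Finite.trans (R ⧸ I) E
  have hz1 : ¬ Limits.IsZero (ModuleCat.of R (R ⧸ I)) := fun h =>
    not_subsingleton (R ⧸ I) ((ModuleCat.isZero_iff_subsingleton).mp h)
  have hz2 : ¬ Limits.IsZero (ModuleCat.of (R ⧸ I) E) := fun h =>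
    not_subsingleton E ((ModuleCat.isZero_iff_subsingleton).mp h)
  have hz3 : ¬ Limits.IsZero (ModuleCat.of R E) := fun h =>
    not_subsingleton E ((ModuleCat.isZero_iff_subsingleton).mp h)
  obtain ⟨a, ha⟩ := exists_nat_pd _ h1 hz1
  obtain ⟨b, hb⟩ := exists_nat_pd _ h2 hz2
  have haLT : HasProjectiveDimensionLT (ModuleCat.of R (R ⧸ I)) (a + 1) :=
    (projectiveDimension_le_iff _ a).mp (le_of_eq ha)
  have hbLT : HasProjectiveDimensionLT (ModuleCat.of (R ⧸ I) E) (b + 1) :=
    (projectiveDimension_le_iff _ b).mp (le_of_eq hb)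
  have hcLT := hasProjectiveDimensionLT_restrictScalars I hI a haLT b E hbLT
  have hcle : projectiveDimension (ModuleCat.of R E) ≤ ((a + b : ℕ) : WithBot ℕ∞) :=
    (projectiveDimension_le_iff _ (a + b)).mpr hcLT
  have h3 : projectiveDimension (ModuleCat.of R E) ≠ ⊤ := by
    intro htop
    rw [htop] at hcle
    have h4 : (((a + b : ℕ) : ℕ∞) : WithBot ℕ∞) < ((⊤ : ℕ∞) : WithBot ℕ∞) :=
      WithBot.coe_lt_coe.mpr (ENat.natCast_lt_top (a + b))
    exact absurd hcle (not_le.mpr h4)
  obtain ⟨c, hc⟩ := exists_nat_pd _ h3 hz3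
  refine ⟨h3, ?_⟩
  have e1 := auslander_buchsbaum (R := R) E c hc
  have e2 := auslander_buchsbaum (R := R) (R ⧸ I) a ha
  have e3 := auslander_buchsbaum (R := R ⧸ I) E b hb
  have d1 : LocCoh.depth R (R ⧸ I) = LocCoh.depth (R ⧸ I) (R ⧸ I) :=
    DepthAB.depth_eq (A := R) (B := R ⧸ I) (R ⧸ I)
  have d2 : LocCoh.depth R E = LocCoh.depth (R ⧸ I) E :=
    DepthAB.depth_eq (A := R) (B := R ⧸ I) E
  obtain ⟨d, hd⟩ := exists_nat_depth_eq (A := R) E
  rw [hd] at e1
  rw [d1, e3, ← d2, hd] at e2
  rw [e1] at e2
  have : c + d = a + (b + d) := by exact_mod_cast e2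
  have hcab : c = a + b := by omega
  rw [hc, ha, hb, hcab]
  rfl

end loc

end AB

end Groth.Agent.H29
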