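import Mathlib
import Groth.Prelude.Def_CAlg
import Groth.Prelude.Def_Flat
import Groth.Agent.H72.FlatCM
import Groth.Agent.H72.DepthFinite
import Groth.Agent.H15.Depth

set_option autoImplicit false
set_option linter.style.haveILetI false
universe u

namespace Groth.Agent.H29.CMLocusFT

open IsLocalRing

section Surj

variable {R S : Type u} [CommRing R] [CommRing S] [Algebra R S]
  (hf : Function.Surjective (algebraMap R S))

include hf

omit hf in
/-- `f(R ∖ f⁻¹ q) = S ∖ q` for surjective `f`. -/
theorem algebraMapSubmonoid_primeCompl (hf : Function.Surjective (algebraMap R S))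
    (q : Ideal S) [q.IsPrime] :
    Algebra.algebraMapSubmonoid S (q.under R).primeCompl = q.primeCompl := by
  ext x
  constructor
  · rintro ⟨r, hr, rfl⟩
    exact hr
  · intro hx
    obtain ⟨r, rfl⟩ := hf x
    exact ⟨r, hx, rfl⟩

/-- For a surjection `R → S`, the localization of `S` as an `R`-module at `q ∩ R` is `S_q`. -/
theorem nonempty_linearEquiv (q : Ideal S) [q.IsPrime]
    [Algebra (Localization.AtPrime (q.under R)) (Localization.AtPrime q)]
    [Localization.AtPrime.IsLiesOverAlgebra (q.under R) q] :
    Nonempty (LocalizedModule (q.under R).primeCompl S ≃ₗ[Localization.AtPrime (q.under R)]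
      Localization.AtPrime q) := by
  haveI : IsLocalization (Algebra.algebraMapSubmonoid S (q.under R).primeCompl)
      (Localization.AtPrime q) := by
    rw [algebraMapSubmonoid_primeCompl hf q]
    infer_instance
  let g : S →ₗ[R] Localization.AtPrime q :=
    (IsScalarTower.toAlgHom R S (Localization.AtPrime q)).toLinearMap
  haveI : IsLocalizedModule (q.under R).primeCompl g := inferInstance
  let e : LocalizedModule (q.under R).primeCompl S ≃ₗ[R] Localization.AtPrime q :=
    IsLocalizedModule.iso (q.under R).primeCompl g
  exact ⟨LinearEquiv.extendScalarsOfIsLocalization (q.under R).primeCompl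
    (Localization.AtPrime (q.under R)) e⟩

/-- The image of the maximal ideal of `R_Q` generates the maximal ideal of `S_q`. -/
theorem map_maximalIdeal_eq (q : Ideal S) [q.IsPrime]
    [Algebra (Localization.AtPrime (q.under R)) (Localization.AtPrime q)]
    [Localization.AtPrime.IsLiesOverAlgebra (q.under R) q] :
    (maximalIdeal (Localization.AtPrime (q.under R))).map
      (algebraMap (Localization.AtPrime (q.under R)) (Localization.AtPrime q)) =
      maximalIdeal (Localization.AtPrime q) := by
  rw [← Localization.AtPrime.map_eq_maximalIdeal, Ideal.map_map,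
    ← IsScalarTower.algebraMap_eq R (Localization.AtPrime (q.under R)) (Localization.AtPrime q),
    IsScalarTower.algebraMap_eq R S (Localization.AtPrime q), ← Ideal.map_map,
    Ideal.under_def, Ideal.map_comap_of_surjective _ hf,
    Localization.AtPrime.map_eq_maximalIdeal]

/-- Depth of `S` localized as an `R`-module at `q ∩ R` is the depth of the local ring `S_q`. -/
theorem depth_localizedModule_eq [IsNoetherianRing R] (q : Ideal S) [q.IsPrime]
    [Algebra (Localization.AtPrime (q.under R)) (Localization.AtPrime q)]
    [Localization.AtPrime.IsLiesOverAlgebra (q.under R) q] :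
    LocCoh.depth (Localization.AtPrime (q.under R))
        (LocalizedModule (q.under R).primeCompl S) =
      LocCoh.depth (Localization.AtPrime q) (Localization.AtPrime q) := by
  obtain ⟨e⟩ := nonempty_linearEquiv hf q
  haveI : Module.Finite R S := Module.Finite.of_surjective (Algebra.linearMap R S) hf
  haveI : Module.Finite (Localization.AtPrime (q.under R))
      (LocalizedModule (q.under R).primeCompl S) :=
    Module.Finite.of_isLocalizedModule (q.under R).primeCompl
      (LocalizedModule.mkLinearMap (q.under R).primeCompl S)
  haveI : Module.Finite (Localization.AtPrime (q.under R)) (Localization.AtPrime q) :=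
    Module.Finite.equiv e
  unfold LocCoh.depth
  rw [Groth.Agent.H15.idealDepth_congr e,
    Groth.Agent.H72.DepthFinite.idealDepth_eq_idealDepth_map
      (A := Localization.AtPrime (q.under R)) (B := Localization.AtPrime q)
      (maximalIdeal (Localization.AtPrime (q.under R))) (Localization.AtPrime q),
    map_maximalIdeal_eq hf q]

end Surj

end Groth.Agent.H29.CMLocusFT
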