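import Mathlib
import Groth.Agent.H29.CMLocusFT
import Groth.Agent.H29.AB3
import Groth.Agent.H29.AB4
import Groth.Agent.H11.FtDim
import Groth.Agent.H11.FtDimBC
import Groth.Agent.H17.PdLocus
import Groth.Agent.H26.CMFlat
import Groth.Agent.Lead.RegularGlDim

set_option autoImplicit false
set_option linter.style.haveILetI false
universe u

namespace Groth.Agent.H29.CMLocusFT

open IsLocalRing CategoryTheory

section KL

variable (k : Type u) [Field k] (N : ℕ) {S : Type u} [CommRing S] [Algebra k S]
  [Algebra.FiniteType k S]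
  [Algebra (MvPolynomial (Fin N) k) S]
  (hf : Function.Surjective (algebraMap (MvPolynomial (Fin N) k) S))

include hf in
/-- Pointwise criterion: `S_q` is Cohen–Macaulay iff `pd_{R_Q} S_Q + localDim_q ≤ N`. -/
theorem isCM_iff (q : PrimeSpectrum S) :
    LocCoh.IsCohenMacaulayLocalRing (Localization.AtPrime q.asIdeal) ↔
      ∃ m : ℕ, m ≤ N ∧
        projectiveDimension (Groth.Agent.H17.PdLocus.locMod (MvPolynomial (Fin N) k) S
          (PrimeSpectrum.comap (algebraMap (MvPolynomial (Fin N) k) S) q)) ≤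
            ((N - m : ℕ) : WithBot ℕ∞) ∧
        FlatMor.localDim (PrimeSpectrum S) q ≤ (m : WithBot ℕ∞) := by
  set R := MvPolynomial (Fin N) k with hR
  set Q : Ideal R := q.asIdeal.under R with hQ
  haveI : q.asIdeal.LiesOver Q := ⟨rfl⟩
  letI := Localization.AtPrime.algebraOfLiesOver Q q.asIdeal
  haveI : IsNoetherianRing S := Algebra.FiniteType.isNoetherianRing k S
  haveI : IsNoetherianRing (Localization.AtPrime q.asIdeal) :=
    IsLocalization.isNoetherianRing q.asIdeal.primeCompl _ inferInstance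
  haveI : IsRegularLocalRing (Localization.AtPrime Q) := inferInstance
  obtain ⟨a, ha⟩ := Groth.Agent.H72.FlatCM.exists_ringKrullDim_eq_natCast (Localization.AtPrime Q)
  obtain ⟨b, hb⟩ := Groth.Agent.H72.FlatCM.exists_ringKrullDim_eq_natCast
    (Localization.AtPrime q.asIdeal)
  -- depth of `A`
  have hCMA := Groth.Agent.H26.CMFlat.isCohenMacaulayLocalRing_of_isRegularLocalRing
    (Localization.AtPrime Q)
  have hdA : ringKrullDim (Localization.AtPrime Q) =
      ((LocCoh.depth (Localization.AtPrime Q) (Localization.AtPrime Q) : ℕ∞) : WithBot ℕ∞) :=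
    (Groth.Agent.H72.FlatCM.isCohenMacaulayLocalRing_iff _).mp hCMA
  -- depth of `B`
  have hdB := Groth.Agent.H72.FlatCM.depth_le_ringKrullDim (Localization.AtPrime q.asIdeal)
  -- the localized module
  obtain ⟨e0⟩ := nonempty_linearEquiv hf q.asIdeal
  haveI : Module.Finite R S := Module.Finite.of_surjective (Algebra.linearMap R S) hf
  haveI : Module.Finite (Localization.AtPrime Q) (LocalizedModule Q.primeCompl S) :=
    Module.Finite.of_isLocalizedModule Q.primeCompl (LocalizedModule.mkLinearMap Q.primeCompl S)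
  haveI : Nontrivial (LocalizedModule Q.primeCompl S) := e0.toEquiv.nontrivial
  have hdL := depth_localizedModule_eq hf q.asIdeal
  -- projective dimension
  have hpdLT := Groth.Agent.Lead.RLR.hasProjectiveDimensionLT (Localization.AtPrime Q) a ha
    (ModuleCat.of (Localization.AtPrime Q) (LocalizedModule Q.primeCompl S))
  have hpd_le : projectiveDimension (ModuleCat.of (Localization.AtPrime Q)
      (LocalizedModule Q.primeCompl S)) ≤ (a : WithBot ℕ∞) :=
    (projectiveDimension_le_iff _ _).mpr hpdLT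
  have hpd_ne_top : projectiveDimension (ModuleCat.of (Localization.AtPrime Q)
      (LocalizedModule Q.primeCompl S)) ≠ ⊤ := by
    intro h
    rw [h, top_le_iff] at hpd_le
    have h1 : ((a : ℕ∞) : WithBot ℕ∞) = ((⊤ : ℕ∞) : WithBot ℕ∞) := hpd_le
    exact ENat.natCast_ne_top a (WithBot.coe_inj.mp h1)
  obtain ⟨e, he⟩ := Groth.Agent.H29.AB.exists_nat_pd _ hpd_ne_top (fun h =>
    not_subsingleton (LocalizedModule Q.primeCompl S) ((ModuleCat.isZero_iff_subsingleton).mp h))
  have hAB := Groth.Agent.H29.AB.auslander_buchsbaum (LocalizedModule Q.primeCompl S) e he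
  -- heights and coheights
  have hR1 := Groth.Agent.H11.FtDim.height_add_coheight_eq k R
    (PrimeSpectrum.comap (algebraMap R S) q)
  have hRdim : ringKrullDim R = (N : WithBot ℕ∞) := by
    rw [MvPolynomial.ringKrullDim_of_isNoetherianRing, ringKrullDim_eq_zero_of_field]
    simp
  have hS1 := Groth.Agent.H11.FtDim.localDim_eq_height_add_coheight (k := k) q
  have hcoh := Groth.Agent.H11.FtDimBC.coheight_comap_of_surjective (algebraMap R S) hf q
  have hhQ : Order.height (PrimeSpectrum.comap (algebraMap R S) q) = (a : ℕ∞) := by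
    have h1 := IsLocalization.AtPrime.ringKrullDim_eq_height Q (Localization.AtPrime Q)
    rw [ha] at h1
    have h2 : Q.height = Order.height (PrimeSpectrum.comap (algebraMap R S) q) :=
      PrimeSpectrum.height_eq_orderHeight (PrimeSpectrum.comap (algebraMap R S) q)
    rw [← h2]
    exact_mod_cast h1.symm
  have hhq : Order.height q = (b : ℕ∞) := by
    have h1 := IsLocalization.AtPrime.ringKrullDim_eq_height q.asIdeal
      (Localization.AtPrime q.asIdeal)
    rw [hb] at h1
    rw [← PrimeSpectrum.height_eq_orderHeight q]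
    exact_mod_cast h1.symm
  rw [hhQ, hcoh, hRdim] at hR1
  rw [hhq] at hS1
  -- the coheight is a natural number
  have hc_ne_top : Order.coheight q ≠ ⊤ := by
    intro h
    rw [h, add_top] at hR1
    have h1 : ((⊤ : ℕ∞) : WithBot ℕ∞) = ((N : ℕ∞) : WithBot ℕ∞) := hR1
    exact ENat.natCast_ne_top N (WithBot.coe_inj.mp h1).symm
  obtain ⟨c, hc⟩ := ENat.ne_top_iff_exists.mp hc_ne_top
  rw [← hc] at hR1 hS1
  have hacN : a + c = N := by exact_mod_cast hR1
  -- depths as natural numbers
  rw [ha] at hdA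
  rw [hb] at hdB
  have hδ_ne_top : LocCoh.depth (Localization.AtPrime q.asIdeal) (Localization.AtPrime q.asIdeal) ≠
      ⊤ := by
    intro h
    rw [h] at hdB
    have h1 : ((⊤ : ℕ∞) : WithBot ℕ∞) ≤ ((b : ℕ∞) : WithBot ℕ∞) := hdB
    exact absurd (WithBot.coe_le_coe.mp h1) (by simp)
  obtain ⟨δ, hδ⟩ := ENat.ne_top_iff_exists.mp hδ_ne_top
  rw [← hδ] at hdB
  have hδb : δ ≤ b := by exact_mod_cast hdB
  rw [hdL, ← hδ] at hAB
  have hdA' : LocCoh.depth (Localization.AtPrime Q) (Localization.AtPrime Q) = (a : ℕ∞) := by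
    have h1 : ((a : ℕ∞) : WithBot ℕ∞) =
      ((LocCoh.depth (Localization.AtPrime Q) (Localization.AtPrime Q) : ℕ∞) : WithBot ℕ∞) := hdA
    exact (WithBot.coe_inj.mp h1).symm
  rw [hdA'] at hAB
  have haeδ : a = e + δ := by exact_mod_cast hAB
  -- the Cohen–Macaulay condition
  rw [Groth.Agent.H72.FlatCM.isCohenMacaulayLocalRing_iff, hb, ← hδ, hS1]
  change _ ↔ ∃ m : ℕ, m ≤ N ∧ projectiveDimension (ModuleCat.of (Localization.AtPrime Q)
      (LocalizedModule Q.primeCompl S)) ≤ ((N - m : ℕ) : WithBot ℕ∞) ∧ _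
  rw [he]
  constructor
  · intro h
    have hbδ : b = δ := by exact_mod_cast h
    refine ⟨b + c, by omega, ?_, ?_⟩
    · have : e ≤ N - (b + c) := by omega
      exact_mod_cast this
    · exact_mod_cast le_refl (b + c)
  · rintro ⟨m, hmN, hem, hbc⟩
    have h1 : e ≤ N - m := by exact_mod_cast hem
    have h2 : b + c ≤ m := by exact_mod_cast hbc
    have h3 : b = δ := by omega
    rw [h3]
    rfl

end KL

section Semicont

variable {X : Type*} [TopologicalSpace X]

/-- Upper semicontinuity of the local dimension. -/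
theorem isOpen_setOf_localDim_le (m : ℕ) :
    IsOpen {x : X | FlatMor.localDim X x ≤ (m : WithBot ℕ∞)} := by
  rw [isOpen_iff_forall_mem_open]
  intro x hx
  have hlt : FlatMor.localDim X x < ((m + 1 : ℕ) : WithBot ℕ∞) :=
    lt_of_le_of_lt hx (by exact_mod_cast Nat.lt_succ_self m)
  unfold FlatMor.localDim at hlt
  obtain ⟨U, hU⟩ := iInf_lt_iff.mp hlt
  have hUle : topologicalKrullDim (U.1 : Set X) ≤ (m : WithBot ℕ∞) := by
    have h1 : ((m + 1 : ℕ) : WithBot ℕ∞) = (m : WithBot ℕ∞) + 1 := by push_cast; rfl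
    rw [h1] at hU
    exact ENat.WithBot.lt_add_one_iff.mp hU
  refine ⟨U.1, ?_, U.1.2, U.2⟩
  intro y hy
  exact (Groth.Agent.H29.localDim_le_dim_of_mem y U.1 hy).trans hUle

end Semicont

section Main

/-- The Cohen–Macaulay locus of a finite type algebra over a field is open. -/
theorem isOpen_CMLocus (k S : Type u) [Field k] [CommRing S] [Algebra k S]
    [Algebra.FiniteType k S] :
    IsOpen {q : PrimeSpectrum S |
      LocCoh.IsCohenMacaulayLocalRing (Localization.AtPrime q.asIdeal)} := by
  obtain ⟨N, f, hf⟩ := Algebra.FiniteType.iff_quotient_mvPolynomial''.mp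
    (inferInstance : Algebra.FiniteType k S)
  letI : Algebra (MvPolynomial (Fin N) k) S := f.toRingHom.toAlgebra
  have hf' : Function.Surjective (algebraMap (MvPolynomial (Fin N) k) S) := hf
  haveI : Module.Finite (MvPolynomial (Fin N) k) S :=
    Module.Finite.of_surjective (Algebra.linearMap (MvPolynomial (Fin N) k) S) hf'
  have hset : {q : PrimeSpectrum S |
      LocCoh.IsCohenMacaulayLocalRing (Localization.AtPrime q.asIdeal)} =
      ⋃ m ∈ Finset.range (N + 1),
        ((PrimeSpectrum.comap (algebraMap (MvPolynomial (Fin N) k) S)) ⁻¹'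
          {Q | projectiveDimension (Groth.Agent.H17.PdLocus.locMod (MvPolynomial (Fin N) k) S Q) ≤
            ((N - m : ℕ) : WithBot ℕ∞)}) ∩
        {q | FlatMor.localDim (PrimeSpectrum S) q ≤ (m : WithBot ℕ∞)} := by
    ext q
    rw [Set.mem_ofPred_eq, isCM_iff k N hf' q]
    simp only [Set.mem_iUnion, Set.mem_inter_iff, Set.mem_preimage, Set.mem_ofPred_eq,
      Finset.mem_range, exists_prop]
    constructor
    · rintro ⟨m, hm, h1, h2⟩
      exact ⟨m, by omega, h1, h2⟩
    · rintro ⟨m, hm, h1, h2⟩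
      exact ⟨m, by omega, h1, h2⟩
  rw [hset]
  refine isOpen_biUnion fun m _ => IsOpen.inter ?_ (isOpen_setOf_localDim_le m)
  exact (Groth.Agent.H17.PdLocus.isOpen_pd_le (MvPolynomial (Fin N) k) (N - m) S).preimage
    (PrimeSpectrum.continuous_comap (algebraMap (MvPolynomial (Fin N) k) S))

end Main

end Groth.Agent.H29.CMLocusFT
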