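import Mathlib
import Groth.Prelude.Def_CAlg
import Groth.Agent.H72.CMLocusReg
import Groth.Agent.H29.NormFlatLoc
import Groth.Agent.H29.SuppDimLoc

/-!
# The codepth loci of a finite module over a regular ring are open

For a finite module `M` over a Noetherian ring `R` and a prime `Q` with `R_Q` regular,
`codepth M_Q = pd M_Q - min {ht P | P minimal over Ann M, P ≤ Q}`; hence `{codepth ≤ n}` is open
when `R` is regular.
-/

set_option autoImplicit false
set_option linter.style.haveILetI false
set_option linter.unusedSectionVars false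
universe u

namespace Groth.Agent.H29.CodepthLocusReg

open IsLocalRing CategoryTheory

section Dim

variable {R : Type u} [CommRing R] (M : Type u) [AddCommGroup M] [Module R M] [Module.Finite R M]
  (Q : Ideal R) [Q.IsPrime]

theorem below_eq : Groth.Agent.H29.SuppDimLoc.Below M Q =
    Groth.Agent.H29.SuppDimLoc.Below (R ⧸ Module.annihilator R M) Q := by
  unfold Groth.Agent.H29.SuppDimLoc.Below
  rw [Module.support_eq_zeroLocus, Module.support_eq_zeroLocus, Ideal.annihilator_quotient]

/-- `dim M_Q = dim R_Q / (Ann M) R_Q` -/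
theorem supportDim_eq_quotient :
    Module.supportDim (Localization.AtPrime Q) (LocalizedModule Q.primeCompl M) =
      ringKrullDim (Localization.AtPrime Q ⧸
        (Module.annihilator R M).map (algebraMap R (Localization.AtPrime Q))) := by
  rw [Groth.Agent.H29.SuppDimLoc.supportDim_localization_eq, below_eq,
    ← Groth.Agent.H29.SuppDimLoc.supportDim_localization_eq,
    Module.supportDim_eq_of_equiv
      (Groth.Agent.H29.NormFlatLoc.quotientLocEquiv (Module.annihilator R M) Q),
    Module.supportDim_quotient_eq_ringKrullDim]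

end Dim

section Pointwise

variable {R : Type u} [CommRing R] [IsNoetherianRing R]
  (M : Type u) [AddCommGroup M] [Module R M] [Module.Finite R M]
  (Q : Ideal R) [Q.IsPrime]

/-- Pointwise criterion for `codepth M_Q ≤ n` when `R_Q` is regular. -/
theorem codepth_le_iff [IsRegularLocalRing (Localization.AtPrime Q)]
    [Nontrivial (LocalizedModule Q.primeCompl M)] (n : ℕ) :
    Module.supportDim (Localization.AtPrime Q) (LocalizedModule Q.primeCompl M) ≤
        ((LocCoh.depth (Localization.AtPrime Q) (LocalizedModule Q.primeCompl M) : ℕ∞) :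
          WithBot ℕ∞) + n ↔
      ∀ P ∈ (Module.annihilator R M).minimalPrimes, P ≤ Q →
        projectiveDimension (ModuleCat.of (Localization.AtPrime Q)
          (LocalizedModule Q.primeCompl M)) ≤ (((P.height + (n : ℕ∞) : ℕ∞)) : WithBot ℕ∞) := by
  haveI : IsNoetherianRing (Localization.AtPrime Q) :=
    IsLocalization.isNoetherianRing Q.primeCompl _ inferInstance
  haveI : Module.Finite (Localization.AtPrime Q) (LocalizedModule Q.primeCompl M) :=
    Module.Finite.of_isLocalizedModule Q.primeCompl (LocalizedModule.mkLinearMap Q.primeCompl M)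
  obtain ⟨a, ha⟩ := Groth.Agent.H72.FlatCM.exists_ringKrullDim_eq_natCast (Localization.AtPrime Q)
  have hCMA := Groth.Agent.H26.CMFlat.isCohenMacaulayLocalRing_of_isRegularLocalRing
    (Localization.AtPrime Q)
  have hdA : ringKrullDim (Localization.AtPrime Q) =
      ((LocCoh.depth (Localization.AtPrime Q) (Localization.AtPrime Q) : ℕ∞) : WithBot ℕ∞) :=
    (Groth.Agent.H72.FlatCM.isCohenMacaulayLocalRing_iff _).mp hCMA
  have hpdLT := Groth.Agent.Lead.RLR.hasProjectiveDimensionLT (Localization.AtPrime Q) a ha
    (ModuleCat.of (Localization.AtPrime Q) (LocalizedModule Q.primeCompl M))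
  have hpd_le : projectiveDimension (ModuleCat.of (Localization.AtPrime Q)
      (LocalizedModule Q.primeCompl M)) ≤ (a : WithBot ℕ∞) :=
    (projectiveDimension_le_iff _ _).mpr hpdLT
  have hpd_ne_top : projectiveDimension (ModuleCat.of (Localization.AtPrime Q)
      (LocalizedModule Q.primeCompl M)) ≠ ⊤ := by
    intro h
    rw [h, top_le_iff] at hpd_le
    have h1 : ((a : ℕ∞) : WithBot ℕ∞) = ((⊤ : ℕ∞) : WithBot ℕ∞) := hpd_le
    exact ENat.natCast_ne_top a (WithBot.coe_inj.mp h1)
  obtain ⟨e, he⟩ := Groth.Agent.H29.AB.exists_nat_pd _ hpd_ne_top (fun h =>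
    not_subsingleton (LocalizedModule Q.primeCompl M) ((ModuleCat.isZero_iff_subsingleton).mp h))
  have hAB := Groth.Agent.H29.AB.auslander_buchsbaum (LocalizedModule Q.primeCompl M) e he
  -- the annihilator
  set K : Ideal (Localization.AtPrime Q) :=
    (Module.annihilator R M).map (algebraMap R (Localization.AtPrime Q)) with hK
  have hdim := supportDim_eq_quotient M Q
  rw [← hK] at hdim
  have hKne : K ≠ ⊤ := by
    intro h
    haveI : Subsingleton (Localization.AtPrime Q ⧸ K) := by
      rw [h]; exact Ideal.Quotient.subsingleton_iff.mpr rfl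
    rw [ringKrullDim_eq_bot_of_subsingleton] at hdim
    exact (Module.supportDim_ne_bot_iff_nontrivial _ _).mpr inferInstance hdim
  haveI : Nontrivial (Localization.AtPrime Q ⧸ K) := Ideal.Quotient.nontrivial_iff.mpr hKne
  haveI : IsLocalRing (Localization.AtPrime Q ⧸ K) :=
    IsLocalRing.of_surjective' (Ideal.Quotient.mk K) Ideal.Quotient.mk_surjective
  obtain ⟨b, hb⟩ := Groth.Agent.H72.FlatCM.exists_ringKrullDim_eq_natCast
    (Localization.AtPrime Q ⧸ K)
  have h1 := Groth.Agent.H72.CMLocal.ringKrullDim_le_quotient_add_height (Localization.AtPrime Q)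
    hCMA K hKne
  have h2 := Groth.Agent.H81.CIGor.height_add_ringKrullDim_quotient_le K hKne
  have hht_ne_top : K.height ≠ ⊤ := Ideal.height_ne_top hKne
  obtain ⟨h, hh⟩ := ENat.ne_top_iff_exists.mp hht_ne_top
  rw [hb, ha, ← hh] at h1 h2
  have habh : a = b + h := by
    have h1' : a ≤ b + h := by exact_mod_cast h1
    have h2' : h + b ≤ a := by exact_mod_cast h2
    omega
  -- depths
  rw [ha] at hdA
  have hdA' : LocCoh.depth (Localization.AtPrime Q) (Localization.AtPrime Q) = (a : ℕ∞) := by
    have h1 : ((a : ℕ∞) : WithBot ℕ∞) =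
      ((LocCoh.depth (Localization.AtPrime Q) (Localization.AtPrime Q) : ℕ∞) : WithBot ℕ∞) := hdA
    exact (WithBot.coe_inj.mp h1).symm
  rw [hdA'] at hAB
  have hδ_ne_top : LocCoh.depth (Localization.AtPrime Q) (LocalizedModule Q.primeCompl M) ≠ ⊤ := by
    intro h'
    rw [h', add_top] at hAB
    exact ENat.natCast_ne_top a hAB
  obtain ⟨δ, hδ⟩ := ENat.ne_top_iff_exists.mp hδ_ne_top
  rw [← hδ] at hAB
  have haeδ : a = e + δ := by exact_mod_cast hAB
  -- reformulation of the right hand side
  have hrhs : (∀ P ∈ (Module.annihilator R M).minimalPrimes, P ≤ Q →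
      projectiveDimension (ModuleCat.of (Localization.AtPrime Q)
        (LocalizedModule Q.primeCompl M)) ≤ (((P.height + (n : ℕ∞) : ℕ∞)) : WithBot ℕ∞)) ↔
      e ≤ h + n := by
    rw [he]
    constructor
    · intro H
      have : ((e : ℕ) : ℕ∞) - (n : ℕ∞) ≤ K.height := by
        rw [Ideal.height_eq_inf_minimalPrimes]
        refine le_iInf₂ (fun P' hP' => ?_)
        have hP'prime : P'.IsPrime := hP'.1.1
        rw [hK, IsLocalization.minimalPrimes_map Q.primeCompl] at hP'
        have hle : P'.under R ≤ Q := by
          have h3 : P' ≤ maximalIdeal (Localization.AtPrime Q) := le_maximalIdeal hP'prime.ne_top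
          have h4 : P'.under R ≤ (maximalIdeal (Localization.AtPrime Q)).under R :=
            Ideal.comap_mono h3
          rwa [IsLocalization.AtPrime.under_maximalIdeal (Localization.AtPrime Q) Q] at h4
        have h5 := H (P'.under R) hP' hle
        rw [IsLocalization.height_under Q.primeCompl P'] at h5
        rw [tsub_le_iff_right]
        exact_mod_cast h5
      rw [← hh, tsub_le_iff_right] at this
      exact_mod_cast this
    · intro hle P hP hPQ
      have hPprime : P.IsPrime := hP.1.1
      have hdisj : Disjoint (Q.primeCompl : Set R) (P : Set R) := by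
        rw [Set.disjoint_left]
        intro x hx hxP
        exact hx (hPQ hxP)
      have h3 := IsLocalization.height_map_of_disjoint (S := Localization.AtPrime Q) Q.primeCompl P
        hdisj
      have h4 : K ≤ P.map (algebraMap R (Localization.AtPrime Q)) := by
        rw [hK]
        exact Ideal.map_mono hP.1.2
      have h5 := Ideal.height_mono h4
      rw [h3, ← hh] at h5
      have h6 : ((e : ℕ) : ℕ∞) ≤ P.height + (n : ℕ∞) :=
        le_trans (by exact_mod_cast hle) (add_le_add_left h5 _)
      exact_mod_cast h6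
  rw [hrhs, hdim, hb, ← hδ]
  constructor
  · intro H
    have hbδ : b ≤ δ + n := by exact_mod_cast H
    omega
  · intro H
    have : b ≤ δ + n := by omega
    exact_mod_cast this

end Pointwise

section Open

variable (R : Type u) [CommRing R] [IsRegularRing R]
  (M : Type u) [AddCommGroup M] [Module R M] [Module.Finite R M]

/-- The locus `codepth M_Q ≤ n` of a finite module over a regular ring is open. -/
theorem isOpen_codepth_le (n : ℕ) :
    IsOpen {Q : PrimeSpectrum R |
      Module.supportDim (Localization.AtPrime Q.asIdeal)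
          (LocalizedModule Q.asIdeal.primeCompl M) ≤
        ((LocCoh.depth (Localization.AtPrime Q.asIdeal)
          (LocalizedModule Q.asIdeal.primeCompl M) : ℕ∞) : WithBot ℕ∞) + n} := by
  classical
  -- outside the support the condition is trivial
  have htriv : ∀ Q : PrimeSpectrum R, Q ∉ Module.support R M →
      Module.supportDim (Localization.AtPrime Q.asIdeal)
          (LocalizedModule Q.asIdeal.primeCompl M) ≤
        ((LocCoh.depth (Localization.AtPrime Q.asIdeal)
          (LocalizedModule Q.asIdeal.primeCompl M) : ℕ∞) : WithBot ℕ∞) + n := by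
    intro Q hQ
    rw [Module.notMem_support_iff] at hQ
    rw [(Module.supportDim_eq_bot_iff_subsingleton _ _).mpr hQ]
    exact bot_le
  rw [isOpen_iff_forall_mem_open]
  intro Q0 hQ0
  by_cases hs : Q0 ∈ Module.support R M
  · haveI hnt0 : Nontrivial (LocalizedModule Q0.asIdeal.primeCompl M) :=
      Module.mem_support_iff.mp hs
    set J := Module.annihilator R M with hJ
    have hfinJ : J.minimalPrimes.Finite := Ideal.finite_minimalPrimes_of_isNoetherianRing R J
    have hJQ0 : J ≤ Q0.asIdeal := Module.annihilator_le_of_mem_support hs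
    obtain ⟨P1, hP1, hP1Q⟩ := Ideal.exists_minimalPrimes_le hJQ0
    have hfin0 : {P ∈ J.minimalPrimes | P ≤ Q0.asIdeal}.Finite :=
      hfinJ.subset (fun P hP => hP.1)
    obtain ⟨P0, hP0, hP0min⟩ := Set.exists_min_image _ (fun P : Ideal R => P.height) hfin0
      ⟨P1, hP1, hP1Q⟩
    have hP0prime : P0.IsPrime := hP0.1.1.1
    obtain ⟨n0, hn0⟩ := ENat.ne_top_iff_exists.mp (Ideal.height_ne_top_of_isPrime (I := P0))
    have hcm0 := (codepth_le_iff M Q0.asIdeal n).mp hQ0
    have hpd0 : projectiveDimension (Groth.Agent.H17.PdLocus.locMod R M Q0) ≤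
        ((n0 + n : ℕ) : WithBot ℕ∞) := by
      have := hcm0 P0 hP0.1 hP0.2
      rw [← hn0] at this
      exact_mod_cast this
    have hU1 : IsOpen {p : PrimeSpectrum R |
        projectiveDimension (Groth.Agent.H17.PdLocus.locMod R M p) ≤
          ((n0 + n : ℕ) : WithBot ℕ∞)} :=
      Groth.Agent.H17.PdLocus.isOpen_pd_le R (n0 + n) M
    have hfin2 : {P ∈ J.minimalPrimes | P.height < (n0 : ℕ∞)}.Finite :=
      hfinJ.subset (fun P hP => hP.1)
    have hU2 : IsOpen (⋂ P ∈ {P ∈ J.minimalPrimes | P.height < (n0 : ℕ∞)},
        (PrimeSpectrum.zeroLocus (P : Set R))ᶜ) := by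
      refine hfin2.isOpen_biInter (fun P _ => ?_)
      exact (PrimeSpectrum.isClosed_zeroLocus _).isOpen_compl
    refine ⟨_, ?_, hU1.inter hU2, ⟨hpd0, ?_⟩⟩
    · rintro Q ⟨hq1, hq2⟩
      rw [Set.mem_ofPred_eq]
      by_cases hsQ : Q ∈ Module.support R M
      · haveI : Nontrivial (LocalizedModule Q.asIdeal.primeCompl M) :=
          Module.mem_support_iff.mp hsQ
        rw [codepth_le_iff M Q.asIdeal n]
        intro P hP hPQ
        have hq1' : projectiveDimension (Groth.Agent.H17.PdLocus.locMod R M Q) ≤
            ((n0 + n : ℕ) : WithBot ℕ∞) := hq1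
        have hnot : ¬ P.height < (n0 : ℕ∞) := by
          intro hlt
          rw [Set.mem_iInter₂] at hq2
          have := hq2 P ⟨hP, hlt⟩
          apply this
          rw [PrimeSpectrum.mem_zeroLocus]
          exact hPQ
        have hle : ((n0 : ℕ) : ℕ∞) ≤ P.height := not_lt.mp hnot
        refine hq1'.trans ?_
        have : (((n0 + n : ℕ) : ℕ∞)) ≤ P.height + (n : ℕ∞) := by
          push_cast
          exact add_le_add hle le_rfl
        exact_mod_cast this
      · exact htriv Q hsQ
    · rw [Set.mem_iInter₂]
      rintro P ⟨hP, hlt⟩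
      rw [Set.mem_compl_iff, PrimeSpectrum.mem_zeroLocus]
      intro hPQ
      have := hP0min P ⟨hP, hPQ⟩
      rw [← hn0] at this
      exact absurd hlt (not_lt.mpr this)
  · refine ⟨(Module.support R M)ᶜ, fun Q hQ => htriv Q hQ,
      (Module.isClosed_support (R := R) (M := M)).isOpen_compl, hs⟩

end Open

end Groth.Agent.H29.CodepthLocusReg
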