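import Mathlib
import Groth.Prelude.Def_CAlg
import Groth.Agent.H15.Depth
import Groth.Agent.H72.DepthFinite

/-!
# Depth of a module finite over the base, computed over an arbitrary algebra

Variant of `H72.DepthFinite.idealDepth_eq_idealDepth_map`: here `B` need not be finite over `A`,
only the `B`-module `M` is finite over `A`.
-/

set_option autoImplicit false
set_option linter.style.haveILetI false
universe u

open RingTheory.Sequence Groth.Agent.H15 Pointwise Groth.Agent.H72.DepthFinite

namespace Groth.Agent.H29.DepthFinMod

variable {A B : Type u} [CommRing A] [CommRing B] [Algebra A B] [IsNoetherianRing A]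
  [IsNoetherianRing B]

theorem le_idealDepth_iff (a : Ideal A) (n : ℕ) :
    ∀ (M : Type u) [AddCommGroup M] [Module B M] [Module A M] [IsScalarTower A B M]
      [Module.Finite A M],
      (n : ℕ∞) ≤ LocCoh.idealDepth a M ↔
        (n : ℕ∞) ≤ LocCoh.idealDepth (a.map (algebraMap A B)) M := by
  induction n with
  | zero => intro M _ _ _ _ _; simp
  | succ n ih =>
    intro M _ _ _ _ _
    haveI finB : Module.Finite B M := Module.Finite.of_restrictScalars_finite A B M
    have finQ : ∀ z : B, Module.Finite A (QuotSMulTop z M) := fun z =>
      Module.Finite.of_surjective ((Submodule.mkQ (z • (⊤ : Submodule B M))).restrictScalars A)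
        (Submodule.mkQ_surjective _)
    by_cases htop : a • (⊤ : Submodule A M) = ⊤
    · rw [idealDepth_eq_top_of_smul_top_eq a M htop, idealDepth_eq_top_of_smul_top_eq _ M
        ((smul_top_map_eq_top_iff M a).mpr htop)]
    · have hB : (a.map (algebraMap A B)) • (⊤ : Submodule B M) ≠ ⊤ :=
        fun h' => htop ((smul_top_map_eq_top_iff M a).mp h')
      constructor
      · intro h
        obtain ⟨rs, hlen, hmem, hreg⟩ := exists_isRegular_of_le_idealDepth a M htop (n + 1) h
        match rs, hlen, hmem, hreg with
        | x :: rs', hlen, hmem, hreg =>
          have hx := (isWeaklyRegular_cons_iff M x rs').mp hreg.toIsWeaklyRegular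
          have h1 := le_idealDepth a (QuotSMulTop x M) hx.2
            (fun r hr => hmem r (List.mem_cons_of_mem _ hr))
          have hlen' : rs'.length = n := by simpa using hlen
          rw [hlen', idealDepth_congr (quotEquiv (B := B) M x) a] at h1
          haveI := finQ (algebraMap A B x)
          have h2 := (ih (QuotSMulTop (algebraMap A B x) M)).mp h1
          exact succ_le_idealDepth_of_quotSMulTop _ M (algebraMap A B x)
            (Ideal.mem_map_of_mem _ (hmem x (by simp)))
            ((isSMulRegular_algebraMap_iff (B := B) M x).mpr hx.1) n h2
      · intro h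
        obtain ⟨x, hxa, hx⟩ := exists_isSMulRegular_of_map a M htop
          (exists_isSMulRegular_of_one_le_idealDepth _ M hB n h)
        have h1 := le_idealDepth_quotSMulTop (a.map (algebraMap A B)) M (algebraMap A B x)
          (Ideal.mem_map_of_mem _ hxa) ((isSMulRegular_algebraMap_iff (B := B) M x).mpr hx) n h
        haveI := finQ (algebraMap A B x)
        have h2 := (ih (QuotSMulTop (algebraMap A B x) M)).mpr h1
        rw [← idealDepth_congr (quotEquiv (B := B) M x) a] at h2
        exact succ_le_idealDepth_of_quotSMulTop a M x hxa hx n h2

/-- depth of a `B`-module finite over `A` w.r.t. an ideal of `A` can be computed over `B`. -/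
theorem idealDepth_eq_idealDepth_map (a : Ideal A) (M : Type u) [AddCommGroup M] [Module B M]
    [Module A M] [IsScalarTower A B M] [Module.Finite A M] :
    LocCoh.idealDepth a M = LocCoh.idealDepth (a.map (algebraMap A B)) M := by
  apply le_antisymm
  · rw [← ENat.forall_natCast_le_iff_le]
    intro n hn
    exact (le_idealDepth_iff a n M).mp hn
  · rw [← ENat.forall_natCast_le_iff_le]
    intro n hn
    exact (le_idealDepth_iff a n M).mpr hn

end Groth.Agent.H29.DepthFinMod
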