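import Mathlib
import Groth.Prelude.Def_CAlg
import Groth.Agent.H29.LocTrans
import Groth.Agent.H29.DepthFinMod
import Groth.Agent.H26.DepthInf
import Groth.Agent.H72.DepthFlat

/-!
# Depth of a module finite over the base: `depth M_p = inf_q depth M_q`
-/

set_option autoImplicit false
set_option linter.style.haveILetI false
set_option linter.unusedSectionVars false
universe u

namespace Groth.Agent.H29.FinRestrictDepth

open IsLocalRing

variable (A : Type u) {B : Type u} [CommRing A] [CommRing B] [Algebra A B]
  [IsNoetherianRing A] [IsNoetherianRing B]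
  (M : Type u) [AddCommGroup M] [Module B M] [Module A M] [IsScalarTower A B M]
  [Module.Finite A M] (p : Ideal A) [p.IsPrime]

/-- depth of `M_p` over `A_p` as an infimum over the primes of `B_p` containing `p B_p`. -/
theorem depth_eq_iInf_localization :
    LocCoh.depth (Localization.AtPrime p) (LocalizedModule p.primeCompl M) =
      ⨅ (Q : PrimeSpectrum (Localization (Algebra.algebraMapSubmonoid B p.primeCompl)))
        (_ : (maximalIdeal (Localization.AtPrime p)).map
          (algebraMap (Localization.AtPrime p)
            (Localization (Algebra.algebraMapSubmonoid B p.primeCompl))) ≤ Q.asIdeal),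
        LocCoh.depth
          (Localization.AtPrime (Q.asIdeal.comap (algebraMap B
            (Localization (Algebra.algebraMapSubmonoid B p.primeCompl)))))
          (LocalizedModule (Q.asIdeal.comap (algebraMap B
            (Localization (Algebra.algebraMapSubmonoid B p.primeCompl)))).primeCompl M) := by
  set T := Algebra.algebraMapSubmonoid B p.primeCompl with hT
  set A' := Localization.AtPrime p with hA'
  set B' := Localization T with hB'
  haveI : IsNoetherianRing A' := IsLocalization.isNoetherianRing p.primeCompl A' inferInstance
  haveI : IsNoetherianRing B' := IsLocalization.isNoetherianRing T B' inferInstance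
  haveI : Module.Finite B M := Module.Finite.of_restrictScalars_finite A B M
  letI : Module A' (LocalizedModule T M) :=
    Module.compHom (LocalizedModule T M) (algebraMap A' B')
  haveI st1 : IsScalarTower A' B' (LocalizedModule T M) := ⟨fun t b x => by
    change (algebraMap A' B' t * b) • x = algebraMap A' B' t • (b • x)
    rw [mul_smul]⟩
  haveI st2 : IsScalarTower A A' (LocalizedModule T M) := ⟨fun r t x => by
    change algebraMap A' B' (r • t) • x = r • (algebraMap A' B' t • x)
    rw [Algebra.smul_def, map_mul, ← IsScalarTower.algebraMap_apply A A' B',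
      IsScalarTower.algebraMap_apply A B B', mul_smul, algebraMap_smul, algebraMap_smul]⟩
  haveI hloc : IsLocalizedModule p.primeCompl
      ((LocalizedModule.mkLinearMap T M).restrictScalars A) :=
    IsLocalizedModule.restrictScalars p.primeCompl _
  let e : LocalizedModule p.primeCompl M ≃ₗ[A'] LocalizedModule T M :=
    LinearEquiv.extendScalarsOfIsLocalization p.primeCompl A'
      (IsLocalizedModule.linearEquiv p.primeCompl (LocalizedModule.mkLinearMap p.primeCompl M)
        ((LocalizedModule.mkLinearMap T M).restrictScalars A))
  haveI : Module.Finite A' (LocalizedModule p.primeCompl M) :=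
    Module.Finite.of_isLocalizedModule p.primeCompl (LocalizedModule.mkLinearMap p.primeCompl M)
  haveI : Module.Finite A' (LocalizedModule T M) := Module.Finite.equiv e
  haveI : Module.Finite B' (LocalizedModule T M) :=
    Module.Finite.of_isLocalizedModule T (LocalizedModule.mkLinearMap T M)
  unfold LocCoh.depth
  rw [Groth.Agent.H15.idealDepth_congr e,
    Groth.Agent.H29.DepthFinMod.idealDepth_eq_idealDepth_map (A := A') (B := B')
      (maximalIdeal A') (LocalizedModule T M),
    Groth.Agent.H26.idealDepth_eq_iInf_depth_localization]
  refine iInf_congr fun Q => iInf_congr fun hQ => ?_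
  exact Groth.Agent.H29.LocTrans.depth_localization_localization T M Q.asIdeal

/-- **Depth formula** for a `B`-module finite over `A`. -/
theorem depth_eq_iInf :
    LocCoh.depth (Localization.AtPrime p) (LocalizedModule p.primeCompl M) =
      ⨅ q ∈ {q : PrimeSpectrum B | q.asIdeal.comap (algebraMap A B) = p ∧
          q ∈ Module.support B M},
        LocCoh.depth (Localization.AtPrime q.asIdeal)
          (LocalizedModule q.asIdeal.primeCompl M) := by
  rw [depth_eq_iInf_localization A (B := B) M p]
  set T := Algebra.algebraMapSubmonoid B p.primeCompl with hT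
  set A' := Localization.AtPrime p with hA'
  set B' := Localization T with hB'
  set J := (maximalIdeal A').map (algebraMap A' B') with hJ
  let G : PrimeSpectrum B → ℕ∞ := fun q =>
    LocCoh.depth (Localization.AtPrime q.asIdeal) (LocalizedModule q.asIdeal.primeCompl M)
  change (⨅ (Q : PrimeSpectrum B') (_ : J ≤ Q.asIdeal),
    G (PrimeSpectrum.comap (algebraMap B B') Q)) = ⨅ q ∈ _, G q
  have hJeq : J = (p.map (algebraMap A B)).map (algebraMap B B') := by
    rw [hJ, ← Localization.AtPrime.map_eq_maximalIdeal, Ideal.map_map, Ideal.map_map,
      ← IsScalarTower.algebraMap_eq, ← IsScalarTower.algebraMap_eq]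
  apply le_antisymm
  · refine le_iInf₂ fun q hq => ?_
    obtain ⟨hq1, hq2⟩ := hq
    haveI : q.asIdeal.LiesOver p := ⟨hq1.symm⟩
    have hdisj : Disjoint (T : Set B) q.asIdeal := Ideal.disjoint_primeCompl_of_liesOver q.asIdeal p
    have hprime : (q.asIdeal.map (algebraMap B B')).IsPrime :=
      IsLocalization.isPrime_of_isPrime_disjoint T B' q.asIdeal q.2 hdisj
    have hcomap : PrimeSpectrum.comap (algebraMap B B') ⟨_, hprime⟩ = q :=
      PrimeSpectrum.ext (IsLocalization.under_map_of_isPrime_disjoint T B' q.2 hdisj)
    refine iInf₂_le_of_le ⟨_, hprime⟩ ?_ (le_of_eq (by rw [hcomap]))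
    rw [hJeq]
    refine Ideal.map_mono ?_
    rw [Ideal.map_le_iff_le_comap, hq1]
  · refine le_iInf₂ fun Q hQ => ?_
    by_cases hsupp : PrimeSpectrum.comap (algebraMap B B') Q ∈ Module.support B M
    · refine iInf₂_le (PrimeSpectrum.comap (algebraMap B B') Q) ⟨?_, hsupp⟩
      have h3 : maximalIdeal A' ≤ Q.asIdeal.comap (algebraMap A' B') :=
        Ideal.map_le_iff_le_comap.mp hQ
      have h4 : Q.asIdeal.comap (algebraMap A' B') = maximalIdeal A' :=
        ((maximalIdeal.isMaximal A').eq_of_le
          (Ideal.IsPrime.ne_top (Ideal.comap_isPrime _ Q.asIdeal)) h3).symm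
      change (Q.asIdeal.comap (algebraMap B B')).comap (algebraMap A B) = p
      rw [Ideal.comap_comap, ← IsScalarTower.algebraMap_eq, IsScalarTower.algebraMap_eq A A' B',
        ← Ideal.comap_comap, h4]
      exact Localization.AtPrime.under_maximalIdeal
    · rw [Module.notMem_support_iff] at hsupp
      have : G (PrimeSpectrum.comap (algebraMap B B') Q) = ⊤ :=
        Groth.Agent.H72.DepthFlat.depth_eq_top_of_subsingleton _
      rw [this]
      exact le_top

end Groth.Agent.H29.FinRestrictDepth
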