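import Mathlib
import Groth.Agent.H29.SuppDimLoc

/-!
# Support dimension of a module finite over the base: `dim M_p = sup_q dim M_q`
-/

set_option autoImplicit false
set_option linter.style.haveILetI false
set_option linter.unusedSectionVars false
universe u

namespace Groth.Agent.H29.FinRestrictDim

open Groth.Agent.H29.SuppDimLoc Polynomial

variable (A : Type u) {B : Type u} [CommRing A] [CommRing B] [Algebra A B]
  (M : Type u) [AddCommGroup M] [Module B M] [Module A M] [IsScalarTower A B M]
  [Module.Finite A M]

/-- Cayley–Hamilton: every element of `B` is integral over `A` modulo the annihilator of `M`. -/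
theorem exists_monic_eval₂_mem_annihilator (b : B) :
    ∃ f : A[X], f.Monic ∧ f.eval₂ (algebraMap A B) b ∈ Module.annihilator B M := by
  let ψ : B →ₐ[A] Module.End A M := Algebra.lsmul A A M
  obtain ⟨f, hf, h0⟩ := LinearMap.exists_monic_and_aeval_eq_zero A (ψ b)
  refine ⟨f, hf, ?_⟩
  rw [Module.mem_annihilator]
  intro m
  rw [Polynomial.aeval_algHom_apply] at h0
  have := LinearMap.congr_fun h0 m
  rw [← Polynomial.aeval_def]
  exact this

theorem annihilator_le_comap :
    Module.annihilator A M ≤ (Module.annihilator B M).comap (algebraMap A B) := by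
  intro a ha
  rw [Ideal.mem_comap, Module.mem_annihilator]
  intro m
  rw [algebraMap_smul]
  exact Module.mem_annihilator.mp ha m

theorem comap_annihilator_le :
    (Module.annihilator B M).comap (algebraMap A B) ≤ Module.annihilator A M := by
  intro a ha
  rw [Ideal.mem_comap, Module.mem_annihilator] at ha
  rw [Module.mem_annihilator]
  intro m
  rw [← algebraMap_smul B a m]
  exact ha m

include A in
theorem finiteB : Module.Finite B M := Module.Finite.of_restrictScalars_finite A B M

theorem comap_mem_support {y : PrimeSpectrum B} (hy : y ∈ Module.support B M) :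
    y.comap (algebraMap A B) ∈ Module.support A M := by
  haveI : Module.Finite B M := finiteB A (B := B) M
  rw [Module.mem_support_iff_of_finite] at hy ⊢
  exact (annihilator_le_comap A M).trans (Ideal.comap_mono hy)

/-- incomparability modulo the annihilator -/
theorem comap_lt_comap {y₁ y₂ : PrimeSpectrum B} (hy₁ : y₁ ∈ Module.support B M)
    (h : y₁ < y₂) : y₁.comap (algebraMap A B) < y₂.comap (algebraMap A B) := by
  have hle : y₁.asIdeal ≤ y₂.asIdeal := h.le
  obtain ⟨r, hr₂, hr₁⟩ : ∃ r ∈ y₂.asIdeal, r ∉ y₁.asIdeal := by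
    by_contra hcon
    push Not at hcon
    exact absurd (le_antisymm hle hcon) (fun heq => h.ne (PrimeSpectrum.ext heq))
  obtain ⟨f, hf, hfr⟩ := exists_monic_eval₂_mem_annihilator A M r
  haveI : Module.Finite B M := finiteB A (B := B) M
  rw [Module.mem_support_iff_of_finite] at hy₁
  have hne : f.map (Ideal.Quotient.mk (y₁.asIdeal.comap (algebraMap A B))) ≠ 0 := by
    haveI : Nontrivial (A ⧸ y₁.asIdeal.comap (algebraMap A B)) :=
      Ideal.Quotient.nontrivial_iff.mpr (Ideal.IsPrime.ne_top inferInstance)
    exact (hf.map _).ne_zero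
  have := Ideal.comap_lt_comap_of_root_mem_sdiff (f := algebraMap A B) hle
    (r := r) ⟨hr₂, hr₁⟩ hne (hy₁ hfr)
  exact this

/-- `≥` direction -/
theorem krullDim_below_le (p : Ideal A) [p.IsPrime] (q : PrimeSpectrum B)
    (hq : q.asIdeal.comap (algebraMap A B) = p) :
    Order.krullDim (Below M q.asIdeal) ≤ Order.krullDim (Below M p) := by
  refine Order.krullDim_le_of_strictMono
    (fun y : Below M q.asIdeal => (⟨y.1.comap (algebraMap A B), ⟨comap_mem_support A M y.2.1, by
      have h1 : y.1.asIdeal ≤ q.asIdeal := y.2.2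
      change y.1.asIdeal.comap (algebraMap A B) ≤ p
      rw [← hq]
      exact Ideal.comap_mono h1⟩⟩ : Below M p)) ?_
  intro y y' h
  exact comap_lt_comap A M y.2.1 h

/-- `B ⧸ ann M` is integral over `A`. -/
theorem isIntegral_quotient_annihilator :
    Algebra.IsIntegral A (B ⧸ Module.annihilator B M) := by
  refine ⟨fun c => ?_⟩
  obtain ⟨b, rfl⟩ := Ideal.Quotient.mk_surjective c
  obtain ⟨f, hf, hfb⟩ := exists_monic_eval₂_mem_annihilator A M b
  refine ⟨f, hf, ?_⟩
  have h1 : algebraMap A (B ⧸ Module.annihilator B M) =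
      (Ideal.Quotient.mk (Module.annihilator B M)).comp (algebraMap A B) := rfl
  rw [h1, ← Polynomial.hom_eval₂]
  exact Ideal.Quotient.eq_zero_iff_mem.mpr hfb

/-- `≤` direction: every chain below `p` lifts to a chain below some `q` over `p`. -/
theorem exists_le_krullDim_below (p : Ideal A) [p.IsPrime] (l : LTSeries (Below M p)) :
    ∃ q : PrimeSpectrum B, q.asIdeal.comap (algebraMap A B) = p ∧ q ∈ Module.support B M ∧
      (l.length : WithBot ℕ∞) ≤ Order.krullDim (Below M q.asIdeal) := by
  haveI : Module.Finite B M := finiteB A (B := B) M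
  set I := Module.annihilator B M with hI
  haveI : Algebra.IsIntegral A (B ⧸ I) := isIntegral_quotient_annihilator A M
  let l₀ : LTSeries (PrimeSpectrum A) := l.map Subtype.val (fun _ _ h => h)
  have hx₀ : Module.annihilator A M ≤ l₀.head.asIdeal := by
    have : l.head.1 ∈ Module.support A M := l.head.2.1
    rw [Module.mem_support_iff_of_finite] at this
    exact this
  have hker : (⊥ : Ideal (B ⧸ I)).comap (algebraMap A (B ⧸ I)) ≤ l₀.head.asIdeal := by
    intro a ha
    refine hx₀ (comap_annihilator_le A (B := B) M ?_)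
    rw [Ideal.mem_comap, Ideal.mem_bot] at ha
    rw [Ideal.mem_comap]
    exact Ideal.Quotient.eq_zero_iff_mem.mp ha
  obtain ⟨P₀, -, hP₀prime, hP₀⟩ :=
    Ideal.exists_ideal_over_prime_of_isIntegral l₀.head.asIdeal (⊥ : Ideal (B ⧸ I)) hker
  haveI : P₀.LiesOver l₀.head.asIdeal := ⟨hP₀.symm⟩
  obtain ⟨L, hlen, hhead, hspec⟩ := Ideal.exists_ltSeries_of_hasGoingUp l₀ P₀
  have hlast : PrimeSpectrum.comap (algebraMap A (B ⧸ I)) L.last = l₀.last := by
    have h1 := congrArg (fun t => t.getLast?) hspec
    simp only [List.getLast?_map, List.getLast?_eq_some_getLast (RelSeries.toList_ne_nil _),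
      RelSeries.getLast_toList, Option.map_some, Option.some.injEq] at h1
    exact h1
  have hlastp : L.last.asIdeal.comap (algebraMap A (B ⧸ I)) ≤ p := by
    have h1 : l₀.last ≤ (⟨p, inferInstance⟩ : PrimeSpectrum A) := l.last.2.2
    have h2 : (PrimeSpectrum.comap (algebraMap A (B ⧸ I)) L.last).asIdeal ≤ p := by
      rw [hlast]
      exact h1
    exact h2
  obtain ⟨Q, hQL, hQprime, hQp⟩ :=
    Ideal.exists_ideal_over_prime_of_isIntegral_of_isPrime p L.last.asIdeal hlastp
  let g : PrimeSpectrum (B ⧸ I) → PrimeSpectrum B := PrimeSpectrum.comap (Ideal.Quotient.mk I)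
  have hg : StrictMono g := by
    apply Monotone.strictMono_of_injective
    · intro Q₁ Q₂ h
      exact Ideal.comap_mono h
    · exact PrimeSpectrum.comap_injective_of_surjective _ Ideal.Quotient.mk_surjective
  have hgI : ∀ Q' : PrimeSpectrum (B ⧸ I), I ≤ (g Q').asIdeal := by
    intro Q' b hb
    change Ideal.Quotient.mk I b ∈ Q'.asIdeal
    rw [Ideal.Quotient.eq_zero_iff_mem.mpr hb]
    exact zero_mem _
  refine ⟨g ⟨Q, hQprime⟩, ?_, ?_, ?_⟩
  · change (Q.comap (Ideal.Quotient.mk I)).comap (algebraMap A B) = p
    rw [Ideal.comap_comap]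
    exact hQp
  · rw [Module.mem_support_iff_of_finite]
    exact hgI _
  · have hmem : ∀ i, g (L i) ∈ Below M (g ⟨Q, hQprime⟩).asIdeal := by
      intro i
      refine ⟨?_, ?_⟩
      · rw [Module.mem_support_iff_of_finite]
        exact hgI _
      · have h1 : L i ≤ L.last := L.strictMono.monotone (Fin.le_last i)
        have h2 : L.last ≤ (⟨Q, hQprime⟩ : PrimeSpectrum (B ⧸ I)) := hQL
        exact hg.monotone (h1.trans h2)
    let L' : LTSeries (Below M (g ⟨Q, hQprime⟩).asIdeal) :=
      { length := L.length
        toFun := fun i => ⟨g (L i), hmem i⟩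
        step := fun i => hg (L.step i) }
    have := Order.LTSeries.length_le_krullDim L'
    have hlen' : L'.length = l.length := by
      change L.length = l.length
      rw [hlen]
      rfl
    rw [hlen'] at this
    exact this

/-- **Dimension formula** for a `B`-module finite over `A`. -/
theorem supportDim_eq_iSup (p : Ideal A) [p.IsPrime] :
    Module.supportDim (Localization.AtPrime p) (LocalizedModule p.primeCompl M) =
      ⨆ q ∈ {q : PrimeSpectrum B | q.asIdeal.comap (algebraMap A B) = p ∧
          q ∈ Module.support B M},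
        Module.supportDim (Localization.AtPrime q.asIdeal)
          (LocalizedModule q.asIdeal.primeCompl M) := by
  rw [supportDim_localization_eq]
  apply le_antisymm
  · unfold Order.krullDim
    refine iSup_le fun l => ?_
    obtain ⟨q, hq1, hq2, hq3⟩ := exists_le_krullDim_below A (B := B) M p l
    refine le_iSup₂_of_le q ⟨hq1, hq2⟩ ?_
    rw [supportDim_localization_eq]
    exact hq3
  · refine iSup₂_le fun q hq => ?_
    rw [supportDim_localization_eq]
    exact krullDim_below_le A M p q hq.1

end Groth.Agent.H29.FinRestrictDim
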