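import Mathlib
import Groth.Prelude.Def_CAlg
import Groth.Agent.H29.CodepthLocusReg
import Groth.Agent.H29.FinRestrictDim
import Groth.Agent.H29.FinRestrictDepth

/-!
# Codepth loci over a quotient of a regular ring are open

For `R → A` surjective and `M` a finite `A`-module, depth and dimension of `M_p` over `A_p` agree
with those of `M_Q` over `R_Q` (`Q` the preimage of `p`); hence `{codepth ≤ n}` is open in `Spec A`
for regular `R`.
-/

set_option autoImplicit false
set_option linter.style.haveILetI false
set_option linter.unusedSectionVars false
universe u

namespace Groth.Agent.H29.CodepthLocusQuot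

open IsLocalRing

section Transfer

variable (R : Type u) {A : Type u} [CommRing R] [CommRing A] [Algebra R A]
  [IsNoetherianRing R] [IsNoetherianRing A]
  (M : Type u) [AddCommGroup M] [Module A M] [Module R M] [IsScalarTower R A M]
  [Module.Finite R M]

include R in
theorem fibre_eq_singleton (hs : Function.Surjective (algebraMap R A)) (p : PrimeSpectrum A)
    (hp : p ∈ Module.support A M) :
    {q : PrimeSpectrum A | q.asIdeal.comap (algebraMap R A) = p.asIdeal.comap (algebraMap R A) ∧
      q ∈ Module.support A M} = {p} := by
  ext q
  simp only [Set.mem_ofPred_eq, Set.mem_singleton_iff]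
  constructor
  · rintro ⟨h1, _⟩
    apply PrimeSpectrum.ext
    exact Ideal.comap_injective_of_surjective (algebraMap R A) hs h1
  · rintro rfl
    exact ⟨rfl, hp⟩

theorem supportDim_eq (hs : Function.Surjective (algebraMap R A)) (p : PrimeSpectrum A)
    (hp : p ∈ Module.support A M) :
    Module.supportDim (Localization.AtPrime (p.asIdeal.comap (algebraMap R A)))
        (LocalizedModule (p.asIdeal.comap (algebraMap R A)).primeCompl M) =
      Module.supportDim (Localization.AtPrime p.asIdeal)
        (LocalizedModule p.asIdeal.primeCompl M) := by
  rw [Groth.Agent.H29.FinRestrictDim.supportDim_eq_iSup R (B := A) M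
    (p.asIdeal.comap (algebraMap R A)), fibre_eq_singleton R M hs p hp, iSup_singleton]

theorem depth_eq (hs : Function.Surjective (algebraMap R A)) (p : PrimeSpectrum A)
    (hp : p ∈ Module.support A M) :
    LocCoh.depth (Localization.AtPrime (p.asIdeal.comap (algebraMap R A)))
        (LocalizedModule (p.asIdeal.comap (algebraMap R A)).primeCompl M) =
      LocCoh.depth (Localization.AtPrime p.asIdeal)
        (LocalizedModule p.asIdeal.primeCompl M) := by
  rw [Groth.Agent.H29.FinRestrictDepth.depth_eq_iInf R (B := A) M
    (p.asIdeal.comap (algebraMap R A)), fibre_eq_singleton R M hs p hp, iInf_singleton]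

end Transfer

section Open

variable (R A : Type u) [CommRing R] [CommRing A] [IsRegularRing R] [Algebra R A]
  (M : Type u) [AddCommGroup M] [Module A M] [Module.Finite A M]

/-- The locus `codepth M_p ≤ n` for a finite module over a quotient of a regular ring is open. -/
theorem isOpen_codepth_le (hs : Function.Surjective (algebraMap R A)) (n : ℕ) :
    IsOpen {p : PrimeSpectrum A |
      Module.supportDim (Localization.AtPrime p.asIdeal)
          (LocalizedModule p.asIdeal.primeCompl M) ≤
        ((LocCoh.depth (Localization.AtPrime p.asIdeal)
          (LocalizedModule p.asIdeal.primeCompl M) : ℕ∞) : WithBot ℕ∞) + n} := by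
  letI : Module R M := Module.compHom M (algebraMap R A)
  haveI : IsScalarTower R A M := IsScalarTower.of_algebraMap_smul (fun _ _ => rfl)
  haveI : Module.Finite R A := Module.Finite.of_surjective (Algebra.linearMap R A) hs
  haveI : Module.Finite R M := Module.Finite.trans A M
  haveI : IsNoetherianRing A := isNoetherianRing_of_surjective R A (algebraMap R A) hs
  have hopen := (Groth.Agent.H29.CodepthLocusReg.isOpen_codepth_le R M n).preimage
    (PrimeSpectrum.continuous_comap (algebraMap R A))
  have hopen2 : IsOpen (Module.support A M)ᶜ :=
    (Module.isClosed_support (R := A) (M := M)).isOpen_compl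
  convert hopen2.union hopen using 1
  ext p
  simp only [Set.mem_ofPred_eq, Set.mem_union, Set.mem_compl_iff, Set.mem_preimage]
  by_cases hp : p ∈ Module.support A M
  · have h1 := supportDim_eq R M hs p hp
    have h2 := depth_eq R M hs p hp
    constructor
    · intro h
      right
      change Module.supportDim (Localization.AtPrime (p.asIdeal.comap (algebraMap R A)))
        (LocalizedModule (p.asIdeal.comap (algebraMap R A)).primeCompl M) ≤
        ((LocCoh.depth (Localization.AtPrime (p.asIdeal.comap (algebraMap R A)))
        (LocalizedModule (p.asIdeal.comap (algebraMap R A)).primeCompl M) : ℕ∞) : WithBot ℕ∞) + n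
      rw [h1, h2]
      exact h
    · rintro (h | h)
      · exact absurd hp h
      · change Module.supportDim (Localization.AtPrime (p.asIdeal.comap (algebraMap R A)))
          (LocalizedModule (p.asIdeal.comap (algebraMap R A)).primeCompl M) ≤
          ((LocCoh.depth (Localization.AtPrime (p.asIdeal.comap (algebraMap R A)))
          (LocalizedModule (p.asIdeal.comap (algebraMap R A)).primeCompl M) : ℕ∞) :
            WithBot ℕ∞) + n at h
        rw [h1, h2] at h
        exact h
  · constructor
    · intro _
      left
      exact hp
    · intro _
      have hp' := hp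
      rw [Module.notMem_support_iff] at hp'
      rw [(Module.supportDim_eq_bot_iff_subsingleton _ _).mpr hp']
      exact bot_le

end Open

end Groth.Agent.H29.CodepthLocusQuot
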