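import Mathlib.RingTheory.KrullDimension.Module
import Mathlib.RingTheory.KrullDimension.NonZeroDivisors
import Mathlib.RingTheory.KrullDimension.Regular
import Mathlib.RingTheory.Ideal.KrullsHeightTheorem
import Mathlib.RingTheory.Spectrum.Maximal.Basic
import Mathlib.RingTheory.Support

set_option autoImplicit false

namespace Groth.Agent.H29

namespace DimL

universe u

variable {A : Type u} [CommRing A]

/-- a semi-local Noetherian ring has finite Krull dimension -/
theorem exists_nat_ringKrullDim_le [IsNoetherianRing A] [Finite (MaximalSpectrum A)] :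
    ∃ n : ℕ, ringKrullDim A ≤ n := by
  obtain ⟨n, hn⟩ := (Set.finite_range
    (fun m : MaximalSpectrum A => m.asIdeal.height.toNat)).bddAbove
  refine ⟨n, (ringKrullDim_le_iff_isMaximal_height_le _).mpr fun m hm => ?_⟩
  have h1 : m.height.toNat ≤ n := hn ⟨(⟨m, hm⟩ : MaximalSpectrum A), rfl⟩
  have h2 : m.height ≠ ⊤ := Ideal.height_ne_top hm.ne_top
  obtain ⟨k, hk⟩ := ENat.ne_top_iff_exists.mp h2
  rw [← hk] at h1 ⊢
  simp only [ENat.toNat_natCast] at h1
  exact_mod_cast h1

theorem exists_nat_supportDim_le [IsNoetherianRing A] [Finite (MaximalSpectrum A)]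
    (M : Type*) [AddCommGroup M] [Module A M] : ∃ n : ℕ, Module.supportDim A M ≤ n := by
  obtain ⟨n, hn⟩ := exists_nat_ringKrullDim_le (A := A)
  exact ⟨n, (Module.supportDim_le_ringKrullDim A M).trans hn⟩

/-- `dim A/p ≤ dim M` for `p ∈ Supp M` -/
theorem ringKrullDim_quotient_le_supportDim (M : Type*) [AddCommGroup M] [Module A M]
    (p : PrimeSpectrum A) (hp : p ∈ Module.support A M) :
    ringKrullDim (A ⧸ p.asIdeal) ≤ Module.supportDim A M := by
  rw [ringKrullDim_quotient, Module.supportDim]
  refine Order.krullDim_le_of_strictMono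
    (fun q => (⟨q.1, Module.mem_support_mono (p := p) q.2 hp⟩ : Module.support A M)) ?_
  intro a b hab
  exact hab

/-- some point of the support realises the dimension -/
theorem exists_mem_support_ringKrullDim_eq (M : Type*) [AddCommGroup M] [Module A M]
    [Nontrivial M] (d : ℕ) (hd : Module.supportDim A M ≤ d) :
    ∃ p : PrimeSpectrum A, p ∈ Module.support A M ∧
      ringKrullDim (A ⧸ p.asIdeal) = Module.supportDim A M := by
  have : Nonempty (Module.support A M) := (Module.nonempty_support_of_nontrivial).to_subtype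
  obtain ⟨e, he⟩ : ∃ e : ℕ, Module.supportDim A M = e := by
    obtain ⟨a, ha⟩ := WithBot.ne_bot_iff_exists.mp (Module.supportDim_ne_bot_of_nontrivial A M)
    have hatop : a ≠ ⊤ := by
      rintro rfl
      rw [← ha] at hd
      exact absurd hd (not_le.mpr (WithBot.coe_lt_coe.mpr (ENat.natCast_lt_top d)))
    obtain ⟨e, rfl⟩ := ENat.ne_top_iff_exists.mp hatop
    exact ⟨e, ha.symm⟩
  obtain ⟨l, hl⟩ := (Order.le_krullDim_iff (α := Module.support A M) (n := e)).mp
    (by rw [← Module.supportDim, he])
  refine ⟨l.head.1, l.head.2, le_antisymm ?_ ?_⟩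
  · exact ringKrullDim_quotient_le_supportDim M l.head.1 l.head.2
  · rw [he, ringKrullDim_quotient]
    let l' : LTSeries (PrimeSpectrum.zeroLocus (l.head.1.asIdeal : Set A)) :=
      { length := l.length
        toFun := fun i => ⟨(l i).1, by
          have : l.head ≤ l i := l.monotone (Fin.zero_le i)
          exact this⟩
        step := fun i => l.step i }
    have := Order.LTSeries.length_le_krullDim l'
    rw [← hl]
    exact this

end DimL

end Groth.Agent.H29
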