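import Mathlib
import Groth.Agent.H31.Support
import Groth.Agent.H29.DimL4

set_option autoImplicit false

/-! The support of `N ⊗[A] M` over `B`. -/

namespace Groth.Agent.H29.SuppTensor

universe u

open TensorProduct

/-- tensor products of vector spaces -/
theorem nontrivial_tensor_field_iff (K : Type*) [Field K] (V W : Type*) [AddCommGroup V]
    [Module K V] [AddCommGroup W] [Module K W] :
    Nontrivial (V ⊗[K] W) ↔ Nontrivial V ∧ Nontrivial W := by
  constructor
  · intro h
    refine ⟨?_, ?_⟩
    · by_contra hV
      rw [not_nontrivial_iff_subsingleton] at hV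
      exact not_subsingleton (V ⊗[K] W) inferInstance
    · by_contra hW
      rw [not_nontrivial_iff_subsingleton] at hW
      exact not_subsingleton (V ⊗[K] W) inferInstance
  · rintro ⟨hV, hW⟩
    exact (Module.FaithfullyFlat.nontrivial_tensorProduct_iff_right K V).mpr hW

theorem support_tensor {A B : Type u} [CommRing A] [CommRing B] [Algebra A B]
    (N : Type u) [AddCommGroup N] [Module B N] [Module A N]
    [IsScalarTower A B N] [Module.Finite B N] (M : Type u) [AddCommGroup M] [Module A M]
    [Module.Finite A M] :
    Module.support B (N ⊗[A] M) =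
      Module.support B N ∩ PrimeSpectrum.comap (algebraMap A B) ⁻¹' Module.support A M := by
  have hfinT : Module.Finite B (N ⊗[A] M) := DimL.finite_tensor N M
  ext Q
  rw [Set.mem_inter_iff, Set.mem_preimage,
    Module.mem_support_iff_nontrivial_residueField_tensorProduct,
    Module.mem_support_iff_nontrivial_residueField_tensorProduct (M := N)]
  let K := Q.asIdeal.ResidueField
  let e1 := AlgebraTensorModule.assoc A B K K N M
  let e2 := AlgebraTensorModule.cancelBaseChange A K K (K ⊗[B] N) M
  rw [← e1.toEquiv.nontrivial_congr, ← e2.toEquiv.nontrivial_congr,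
    nontrivial_tensor_field_iff]
  have h3 : Nontrivial (K ⊗[A] M) ↔
      PrimeSpectrum.comap (algebraMap A B) Q ∈ Module.support A M := by
    apply Groth.Agent.H31.nontrivial_field_tensor_iff
    ext r
    rw [RingHom.mem_ker, IsScalarTower.algebraMap_apply A B K,
      Ideal.algebraMap_residueField_eq_zero]
    rfl
  rw [h3]

end Groth.Agent.H29.SuppTensor
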