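import Mathlib
import Groth.Prelude.Def_EGA4b
import Groth.Agent.H29.SuppTensor
import Groth.Agent.H29.DimL4

set_option autoImplicit false

/-! `dim_B (N ⊗_A M) = dim_A M + dim_B (N / m_A N)` for `N` flat over `A`. -/

namespace Groth.Agent.H29.FlatDim

universe u

open TensorProduct IsLocalRing

theorem krullDim_le_of_subset {X : Type*} [Preorder X] {s t : Set X} (h : s ⊆ t) :
    Order.krullDim s ≤ Order.krullDim t :=
  Order.krullDim_le_of_strictMono (Set.inclusion h) (fun _ _ hab => hab)

theorem withBot_add_one_cancel (a : WithBot ℕ∞) (k : ℕ)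
    (h : a + 1 = (k : WithBot ℕ∞) + 1) : a = k := by
  induction a using WithBot.recBotCoe with
  | bot =>
    exfalso
    rw [WithBot.bot_add] at h
    have : ((k : WithBot ℕ∞) + 1) = (((k + 1 : ℕ) : ℕ∞) : WithBot ℕ∞) := by push_cast; rfl
    rw [this] at h
    exact WithBot.bot_ne_coe h
  | coe a =>
    have h' : (a + 1 : ℕ∞) = (k : ℕ∞) + 1 := by exact_mod_cast h
    have := (ENat.add_left_injective_of_ne_top ENat.one_ne_top) h'
    rw [this]
    rfl

variable {A B : Type u} [CommRing A] [CommRing B] [Algebra A B]

/-- the support of `N ⊗ A/I` is that of `N/IN` -/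
theorem support_tensor_quotient (N : Type u) [AddCommGroup N] [Module B N] [Module A N]
    [IsScalarTower A B N] [Module.Finite B N] (I : Ideal A) :
    Module.support B (N ⊗[A] (A ⧸ I)) =
      Module.support B (N ⧸ (I.map (algebraMap A B) • (⊤ : Submodule B N))) := by
  rw [SuppTensor.support_tensor, Module.support_quotient, Module.support_eq_zeroLocus (R := A),
    Ideal.annihilator_quotient, PrimeSpectrum.preimage_comap_zeroLocus, Ideal.map,
    PrimeSpectrum.zeroLocus_span]

/-- flatness preserves regular elements -/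
theorem isSMulRegular_tensor (N : Type u) [AddCommGroup N] [Module B N] [Module A N]
    [IsScalarTower A B N] [Module.Flat A N] (M : Type u) [AddCommGroup M] [Module A M] {x : A}
    (reg : IsSMulRegular M x) : IsSMulRegular (N ⊗[A] M) (algebraMap A B x) := by
  have hinj : Function.Injective (LinearMap.lTensor N (LinearMap.lsmul A M x)) :=
    Module.Flat.lTensor_preserves_injective_linearMap _ reg
  have heq : ∀ t : N ⊗[A] M, algebraMap A B x • t = LinearMap.lTensor N (LinearMap.lsmul A M x) t := by
    intro t
    induction t using TensorProduct.induction_on with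
    | zero => simp
    | tmul n m =>
      rw [LinearMap.lTensor_tmul, TensorProduct.smul_tmul', algebraMap_smul,
        TensorProduct.smul_tmul]
      rfl
    | add t₁ t₂ h₁ h₂ => rw [smul_add, h₁, h₂, map_add]
  intro t₁ t₂ h
  apply hinj
  rw [← heq, ← heq]
  exact h

variable [IsLocalRing A] [IsLocalRing B] [IsNoetherianRing A] [IsNoetherianRing B]
  [IsLocalHom (algebraMap A B)]

theorem supportDim_tensor_ge_aux (N : Type u) [AddCommGroup N]
    [Module B N] [Module A N] [IsScalarTower A B N] [Module.Finite B N] [Module.Flat A N] :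
    ∀ (r : ℕ) (M : Type u) [AddCommGroup M] [Module A M] [Module.Finite A M],
      Module.supportDim A M = r →
      (r : WithBot ℕ∞) + Module.supportDim B (EGA4.FibMod A B N) ≤
        Module.supportDim B (N ⊗[A] M) := by
  intro r
  induction r with
  | zero =>
    intro M _ _ _ hM
    have hnt : Nontrivial M := by
      rw [← Module.supportDim_ne_bot_iff_nontrivial A, hM]
      exact WithBot.coe_ne_bot
    obtain ⟨p, hp, hpdim⟩ := DimL.exists_mem_support_ringKrullDim_eq M 0 hM.le
    rw [hM] at hpdim
    -- `p` is the maximal ideal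
    have hpm : p.asIdeal = maximalIdeal A := by
      have : Ring.KrullDimLE 0 (A ⧸ p.asIdeal) := by
        rw [Ring.krullDimLE_iff, hpdim]
      have hfield : IsField (A ⧸ p.asIdeal) := Ring.KrullDimLE.isField_of_isDomain
      have hmax : p.asIdeal.IsMaximal := Ideal.Quotient.maximal_of_isField _ hfield
      exact IsLocalRing.eq_maximalIdeal hmax
    have hsub : Module.support B (EGA4.FibMod A B N) ⊆ Module.support B (N ⊗[A] M) := by
      rw [SuppTensor.support_tensor, Module.support_quotient]
      rintro Q ⟨hQ1, hQ2⟩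
      refine ⟨hQ1, ?_⟩
      rw [Set.mem_preimage]
      refine Module.mem_support_mono (p := p) ?_ hp
      change p.asIdeal ≤ _
      rw [hpm]
      intro a ha
      exact hQ2 (Ideal.mem_map_of_mem _ ha)
    rw [Nat.cast_zero, zero_add]
    exact krullDim_le_of_subset hsub
  | succ k ih =>
    intro M _ _ _ hM
    have hnt : Nontrivial M := by
      rw [← Module.supportDim_ne_bot_iff_nontrivial A, hM]
      exact WithBot.coe_ne_bot
    obtain ⟨p, hp, hpdim⟩ := DimL.exists_mem_support_ringKrullDim_eq M (k + 1) hM.le
    rw [hM] at hpdim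
    -- `p` is not the maximal ideal
    have hpm : p.asIdeal ≠ maximalIdeal A := by
      intro h
      have h0 : ringKrullDim (A ⧸ p.asIdeal) = 0 := by
        haveI : p.asIdeal.IsMaximal := h ▸ maximalIdeal.isMaximal A
        letI := Ideal.Quotient.field p.asIdeal
        exact ringKrullDim_eq_zero_of_field _
      rw [h0] at hpdim
      have : (0 : WithBot ℕ∞) = ((k + 1 : ℕ) : WithBot ℕ∞) := hpdim
      have h1 : (0 : ℕ) = k + 1 := by exact_mod_cast this
      omega
    obtain ⟨x, hxm, hxp⟩ : ∃ x ∈ maximalIdeal A, x ∉ p.asIdeal := by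
      by_contra hcon
      push Not at hcon
      exact hpm (le_antisymm (IsLocalRing.le_maximalIdeal p.2.ne_top) hcon)
    -- `M₀ = A/p`
    have hreg : IsSMulRegular (A ⧸ p.asIdeal) x := by
      intro a b hab
      obtain ⟨a, rfl⟩ := Ideal.Quotient.mk_surjective a
      obtain ⟨b, rfl⟩ := Ideal.Quotient.mk_surjective b
      change x • Ideal.Quotient.mk p.asIdeal a = x • Ideal.Quotient.mk p.asIdeal b at hab
      rw [Algebra.smul_def, Algebra.smul_def, Ideal.Quotient.algebraMap_eq, ← map_mul, ← map_mul,
        Ideal.Quotient.eq, ← mul_sub] at hab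
      rw [Ideal.Quotient.eq]
      exact (p.2.mem_or_mem hab).resolve_left hxp
    have hdim0 : Module.supportDim A (A ⧸ p.asIdeal) = ((k + 1 : ℕ) : WithBot ℕ∞) := by
      rw [Module.supportDim_quotient_eq_ringKrullDim, hpdim]
    have hdim1 : Module.supportDim A (QuotSMulTop x (A ⧸ p.asIdeal)) = (k : WithBot ℕ∞) := by
      have h1 := Module.supportDim_quotSMulTop_succ_eq_supportDim hreg hxm
      rw [hdim0] at h1
      have h2 : ((k + 1 : ℕ) : WithBot ℕ∞) = (k : WithBot ℕ∞) + 1 := by push_cast; rfl
      rw [h2] at h1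
      exact withBot_add_one_cancel _ k h1
    have ih1 := ih (QuotSMulTop x (A ⧸ p.asIdeal)) hdim1
    have hx'm : algebraMap A B x ∈ maximalIdeal B := map_nonunit (algebraMap A B) x hxm
    have hreg' : IsSMulRegular (N ⊗[A] (A ⧸ p.asIdeal)) (algebraMap A B x) :=
      isSMulRegular_tensor N (A ⧸ p.asIdeal) hreg
    have hfinT : Module.Finite B (N ⊗[A] (A ⧸ p.asIdeal)) := DimL.finite_tensor N _
    have h2 := Module.supportDim_quotSMulTop_succ_eq_supportDim hreg' hx'm
    have hsupp : Module.support B (N ⊗[A] (QuotSMulTop x (A ⧸ p.asIdeal))) =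
        Module.support B (QuotSMulTop (algebraMap A B x) (N ⊗[A] (A ⧸ p.asIdeal))) := by
      rw [Module.support_quotSMulTop, SuppTensor.support_tensor, SuppTensor.support_tensor,
        Module.support_quotSMulTop, Set.preimage_inter, PrimeSpectrum.preimage_comap_zeroLocus,
        Set.image_singleton, Set.inter_assoc]
    have h3 : Module.supportDim B (N ⊗[A] (QuotSMulTop x (A ⧸ p.asIdeal))) =
        Module.supportDim B (QuotSMulTop (algebraMap A B x) (N ⊗[A] (A ⧸ p.asIdeal))) := by
      unfold Module.supportDim
      rw [hsupp]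
    have hsub : Module.support B (N ⊗[A] (A ⧸ p.asIdeal)) ⊆ Module.support B (N ⊗[A] M) := by
      rw [SuppTensor.support_tensor, SuppTensor.support_tensor]
      rintro Q ⟨hQ1, hQ2⟩
      refine ⟨hQ1, ?_⟩
      rw [Set.mem_preimage] at hQ2 ⊢
      refine Module.mem_support_mono (p := p) ?_ hp
      rw [Module.support_eq_zeroLocus, Ideal.annihilator_quotient] at hQ2
      exact hQ2
    calc ((k + 1 : ℕ) : WithBot ℕ∞) + Module.supportDim B (EGA4.FibMod A B N)
        = ((k : WithBot ℕ∞) + Module.supportDim B (EGA4.FibMod A B N)) + 1 := by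
          push_cast
          rw [add_right_comm]
      _ ≤ Module.supportDim B (N ⊗[A] (QuotSMulTop x (A ⧸ p.asIdeal))) + 1 :=
          add_le_add_left ih1 1
      _ = Module.supportDim B (N ⊗[A] (A ⧸ p.asIdeal)) := by rw [h3, h2]
      _ ≤ Module.supportDim B (N ⊗[A] M) := krullDim_le_of_subset hsub

/-- the dimension formula -/
theorem supportDim_tensor_eq (M : Type u) [AddCommGroup M] [Module A M] [Module.Finite A M]
    [Nontrivial M] (N : Type u) [AddCommGroup N]
    [Module B N] [Module A N] [IsScalarTower A B N] [Module.Finite B N] [Module.Flat A N] :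
    Module.supportDim B (N ⊗[A] M) =
      Module.supportDim A M + Module.supportDim B (EGA4.FibMod A B N) := by
  apply le_antisymm
  · exact DimL.supportDim_tensor_le A B M N
  · obtain ⟨r, hr⟩ := CML.exists_nat_supportDim_eq (A := A) M
    rw [hr]
    exact supportDim_tensor_ge_aux N r M hr

end Groth.Agent.H29.FlatDim
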