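import Mathlib
import Groth.Prelude.Def_EGA4b
import Groth.Agent.H29.FlatDim
import Groth.Agent.H29.DepthAB
import Groth.Agent.H72.DepthFlat

set_option autoImplicit false

/-! `N ⊗_A M` is Cohen–Macaulay iff `M` and the closed fibre `N / m_A N` are. -/

namespace Groth.Agent.H29.FlatCMod

universe u

open TensorProduct IsLocalRing

/-- support dimension over a quotient ring -/
theorem supportDim_quotient_ring {B : Type u} [CommRing B] (I : Ideal B) (F : Type u)
    [AddCommGroup F] [Module B F] [Module (B ⧸ I) F] [IsScalarTower B (B ⧸ I) F]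
    [Module.Finite B F] : Module.supportDim (B ⧸ I) F = Module.supportDim B F := by
  have hfin : Module.Finite (B ⧸ I) F := Module.Finite.of_restrictScalars_finite B (B ⧸ I) F
  have hIann : I ≤ Module.annihilator B F := by
    intro i hi
    rw [Module.mem_annihilator]
    intro x
    rw [← algebraMap_smul (B ⧸ I) i x, Ideal.Quotient.algebraMap_eq,
      Ideal.Quotient.eq_zero_iff_mem.mpr hi, zero_smul]
  have hann : Module.annihilator (B ⧸ I) F =
      (Module.annihilator B F).map (Ideal.Quotient.mk I) := by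
    ext c
    obtain ⟨b, rfl⟩ := Ideal.Quotient.mk_surjective c
    rw [Ideal.mem_quotient_iff_mem_sup, sup_eq_left.mpr hIann, Module.mem_annihilator,
      Module.mem_annihilator]
    refine forall_congr' fun x => ?_
    rw [← Ideal.Quotient.algebraMap_eq, algebraMap_smul]
  rw [Module.supportDim_eq_ringKrullDim_quotient_annihilator,
    Module.supportDim_eq_ringKrullDim_quotient_annihilator, hann,
    ringKrullDim_eq_of_ringEquiv (DoubleQuot.quotQuotEquivQuotSup I (Module.annihilator B F)),
    sup_eq_right.mpr hIann]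

variable {A B : Type u} [CommRing A] [CommRing B] [Algebra A B]
  [IsLocalRing A] [IsLocalRing B] [IsNoetherianRing A] [IsNoetherianRing B]
  [IsLocalHom (algebraMap A B)]

theorem nontrivial_fibMod (N : Type u) [AddCommGroup N]
    [Module B N] [Module.Finite B N] [Nontrivial N] : Nontrivial (EGA4.FibMod A B N) := by
  have hmB_le : EGA4.mB A B ≤ maximalIdeal B :=
    ((IsLocalRing.local_hom_TFAE (algebraMap A B)).out 0 2).mp ‹_›
  rw [Submodule.Quotient.nontrivial_iff]
  intro htop
  have hbot : (⊤ : Submodule B N) = ⊥ :=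
    Submodule.eq_bot_of_le_smul_of_le_jacobson_bot (EGA4.mB A B) ⊤ Module.Finite.fg_top htop.ge
      (hmB_le.trans (IsLocalRing.maximalIdeal_le_jacobson _))
  have : Subsingleton N := (Submodule.subsingleton_iff B).mp (subsingleton_of_bot_eq_top hbot.symm)
  exact not_subsingleton N this

theorem isCM_tensor_iff (M : Type u) [AddCommGroup M] [Module A M] [Module.Finite A M]
    [Nontrivial M] (N : Type u) [AddCommGroup N]
    [Module B N] [Module A N] [IsScalarTower A B N] [Module.Finite B N] [Nontrivial N]
    [Module.Flat A N] :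
    LocCoh.IsCohenMacaulayModule B (N ⊗[A] M) ↔
      (LocCoh.IsCohenMacaulayModule A M ∧
        LocCoh.IsCohenMacaulayModule (EGA4.FibRing A B) (EGA4.FibMod A B N)) := by
  have hFnt : Nontrivial (EGA4.FibMod A B N) := nontrivial_fibMod (A := A) N
  have hdim := FlatDim.supportDim_tensor_eq (A := A) (B := B) M N
  have hdepth := Groth.Agent.H72.DepthFlat.depth_tensor_eq_add_quotient (R := A) (S := B) N M
  have hloc : IsLocalHom (algebraMap B (EGA4.FibRing A B)) :=
    IsLocalHom.of_surjective _ Ideal.Quotient.mk_surjective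
  have hdimF : Module.supportDim (EGA4.FibRing A B) (EGA4.FibMod A B N) =
      Module.supportDim B (EGA4.FibMod A B N) := supportDim_quotient_ring _ _
  have hdepthF : LocCoh.depth B (EGA4.FibMod A B N) =
      LocCoh.depth (EGA4.FibRing A B) (EGA4.FibMod A B N) := DepthAB.depth_eq _
  obtain ⟨a1, ha1⟩ := CML.exists_nat_supportDim_eq (A := A) M
  obtain ⟨a2, ha2⟩ := CML.exists_nat_depth_eq (A := A) M
  obtain ⟨b1, hb1⟩ := CML.exists_nat_supportDim_eq (A := B) (EGA4.FibMod A B N)
  obtain ⟨b2, hb2⟩ := CML.exists_nat_depth_eq (A := B) (EGA4.FibMod A B N)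
  have hle1 := CML.depth_le_supportDim (A := A) M
  have hle2 := CML.depth_le_supportDim (A := B) (EGA4.FibMod A B N)
  rw [ha1, ha2] at hle1
  rw [hb1, hb2] at hle2
  have hle1' : a2 ≤ a1 := by exact_mod_cast hle1
  have hle2' : b2 ≤ b1 := by exact_mod_cast hle2
  unfold LocCoh.IsCohenMacaulayModule
  rw [hdimF, ← hdepthF, hdim, hdepth, ha1, ha2, hb1, hb2]
  constructor
  · intro h
    have h' : a1 + b1 = a2 + b2 := by exact_mod_cast h
    have e1 : a1 = a2 := by omega
    have e2 : b1 = b2 := by omega
    rw [e1, e2]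
    exact ⟨rfl, rfl⟩
  · rintro ⟨h1, h2⟩
    have e1 : a1 = a2 := by exact_mod_cast h1
    have e2 : b1 = b2 := by exact_mod_cast h2
    rw [e1, e2]
    push_cast
    rfl

end Groth.Agent.H29.FlatCMod
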