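import Mathlib
import Groth.Prelude.Def_CAlg
import Groth.Agent.H29.LocTrans

/-!
# Localizing a local ring at its maximal ideal changes nothing

* `exists_semilinear_self`: `A ≃ A_𝔪`, `M ≃ M_𝔪` semilinearly, for `A` local.
* `supportDim_localization_maximalIdeal`, `depth_localization_maximalIdeal`.
-/

set_option autoImplicit false
set_option linter.style.haveILetI false
universe u

namespace Groth.Agent.H29.LocSelf

open IsLocalRing

theorem exists_semilinear_self (A : Type u) [CommRing A] [IsLocalRing A]
    (M : Type u) [AddCommGroup M] [Module A M] :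
    ∃ (e : A ≃+* Localization.AtPrime (maximalIdeal A))
      (φ : M ≃+ LocalizedModule (maximalIdeal A).primeCompl M),
      ∀ (r : A) (x : M), φ (r • x) = e r • φ x := by
  have hS : (maximalIdeal A).primeCompl ≤ IsUnit.submonoid A := by
    intro x hx
    by_contra hnu
    exact hx ((IsLocalRing.mem_maximalIdeal x).mpr hnu)
  haveI : IsLocalization (maximalIdeal A).primeCompl A := IsLocalization.of_le_isUnit hS
  haveI : IsLocalizedModule (maximalIdeal A).primeCompl (LinearMap.id : M →ₗ[A] M) :=
    isLocalizedModule_id (maximalIdeal A).primeCompl M A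
  let l : M ≃ₗ[A] LocalizedModule (maximalIdeal A).primeCompl M :=
    IsLocalizedModule.linearEquiv (maximalIdeal A).primeCompl (LinearMap.id : M →ₗ[A] M)
      (LocalizedModule.mkLinearMap (maximalIdeal A).primeCompl M)
  let e : A ≃ₐ[A] Localization.AtPrime (maximalIdeal A) :=
    IsLocalization.atUnits A (maximalIdeal A).primeCompl hS
  refine ⟨e.toRingEquiv, l.toAddEquiv, fun r x => ?_⟩
  change l (r • x) = e r • l x
  rw [map_smul]
  have : e r = algebraMap A (Localization.AtPrime (maximalIdeal A)) r := by
    have := e.commutes r
    simpa using this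
  rw [this, algebraMap_smul]

theorem supportDim_localization_maximalIdeal (A : Type u) [CommRing A] [IsLocalRing A]
    (M : Type u) [AddCommGroup M] [Module A M] :
    Module.supportDim (Localization.AtPrime (maximalIdeal A))
        (LocalizedModule (maximalIdeal A).primeCompl M) = Module.supportDim A M := by
  obtain ⟨e, φ, hφ⟩ := exists_semilinear_self A M
  exact (Groth.Agent.H29.LocTrans.supportDim_eq_of_semilinear e φ hφ).symm

theorem depth_localization_maximalIdeal (A : Type u) [CommRing A] [IsLocalRing A]
    [IsNoetherianRing A] (M : Type u) [AddCommGroup M] [Module A M] [Module.Finite A M] :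
    LocCoh.depth (Localization.AtPrime (maximalIdeal A))
        (LocalizedModule (maximalIdeal A).primeCompl M) = LocCoh.depth A M := by
  obtain ⟨e, φ, hφ⟩ := exists_semilinear_self A M
  haveI : Module.Finite (Localization.AtPrime (maximalIdeal A))
      (LocalizedModule (maximalIdeal A).primeCompl M) :=
    Module.Finite.of_isLocalizedModule (maximalIdeal A).primeCompl
      (LocalizedModule.mkLinearMap (maximalIdeal A).primeCompl M)
  exact (Groth.Agent.H29.LocTrans.depth_eq_of_semilinear e φ hφ).symm

end Groth.Agent.H29.LocSelf
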