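import Mathlib
import Groth.Prelude.Def_CAlg
import Groth.Prelude.Def_EGA4b
import Groth.Agent.H29.LocTensor
import Groth.Agent.H29.SkFlatBC
import Groth.Agent.H29.DepthAB
import Groth.Agent.H72.FlatCM
import Groth.Agent.H26.DepthInf

/-!
# The depth of `E_q` is at least the depth of the fibre stalk `E_q / pE_q` (for `E` flat over `A`)
-/

set_option autoImplicit false
set_option linter.style.haveILetI false
set_option linter.unusedSectionVars false
universe u

open TensorProduct

namespace Groth.Agent.H29.FibreDepthGe

variable {A B : Type u} [CommRing A] [CommRing B] [Algebra A B]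
  [IsNoetherianRing A] [IsNoetherianRing B]
  (E : Type u) [AddCommGroup E] [Module B E] [Module A E] [IsScalarTower A B E]
  [Module.Finite B E]
  (q : Ideal B) [q.IsPrime]

omit [IsNoetherianRing A] [IsNoetherianRing B] in
theorem map_eq_maximalIdeal
    [IsLocalRing (EGA4.FibLocRing A B q)] :
    q.map (algebraMap B (EGA4.FibLocRing A B q)) =
      IsLocalRing.maximalIdeal (EGA4.FibLocRing A B q) := by
  have hne : (q.comap (algebraMap A B)).map (algebraMap A (Localization.AtPrime q)) ≠ ⊤ := by
    intro htop
    have h := Groth.Agent.H29.SkFlatBC.map_le_maximalIdeal (A := A) q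
    rw [htop] at h
    exact (IsLocalRing.maximalIdeal.isMaximal _).ne_top (top_le_iff.mp h)
  rw [IsScalarTower.algebraMap_eq B (Localization.AtPrime q) (EGA4.FibLocRing A B q),
    ← Ideal.map_map, Localization.AtPrime.map_eq_maximalIdeal]
  exact Groth.Agent.H72.FlatCM.map_mk_maximalIdeal _ hne

/-- the depth of the fibre module over the fibre local ring, and over `B_q` -/
theorem idealDepth_fibre_eq :
    LocCoh.idealDepth (q.map (algebraMap B (EGA4.FibLocRing A B q))) (EGA4.FibLocMod A B q E) =
      LocCoh.depth (Localization.AtPrime q) (EGA4.FibLocMod A B q E) := by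
  haveI : Nontrivial (EGA4.FibLocRing A B q) :=
    Groth.Agent.H29.SkFlatBC.nontrivial_fibLocRing (A := A) q
  haveI : IsLocalRing (EGA4.FibLocRing A B q) := inferInstance
  haveI : IsNoetherianRing (Localization.AtPrime q) :=
    IsLocalization.isNoetherianRing q.primeCompl _ inferInstance
  haveI : Module.Finite (Localization.AtPrime q) (LocalizedModule q.primeCompl E) :=
    Module.Finite.of_isLocalizedModule q.primeCompl (LocalizedModule.mkLinearMap q.primeCompl E)
  haveI : Module.Finite (Localization.AtPrime q) (EGA4.FibLocMod A B q E) := inferInstance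
  haveI : IsLocalHom (algebraMap (Localization.AtPrime q) (EGA4.FibLocRing A B q)) :=
    IsLocalHom.of_surjective _ Ideal.Quotient.mk_surjective
  rw [map_eq_maximalIdeal (A := A) q]
  exact (Groth.Agent.H29.DepthAB.depth_eq (A := Localization.AtPrime q)
    (B := EGA4.FibLocRing A B q) (EGA4.FibLocMod A B q E)).symm

variable [Module.Flat A E]

/-- `depth E_q ≥ depth (E_q / pE_q)` -/
theorem fibre_depth_le :
    LocCoh.idealDepth (q.map (algebraMap B (EGA4.FibLocRing A B q))) (EGA4.FibLocMod A B q E) ≤
      LocCoh.depth (Localization.AtPrime q) (LocalizedModule q.primeCompl E) := by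
  rw [idealDepth_fibre_eq]
  obtain ⟨-, hdepth, -⟩ := Groth.Agent.H29.LocTensor.formulas (A := A) A E q
  -- transfer along `E ⊗ A ≃ E`
  let e0 : E ⊗[A] A ≃ₗ[B] E := TensorProduct.AlgebraTensorModule.rid A B E
  let e1 : LocalizedModule q.primeCompl (E ⊗[A] A) ≃ₗ[Localization.AtPrime q]
      LocalizedModule q.primeCompl E :=
    IsLocalizedModule.mapEquiv q.primeCompl
      (LocalizedModule.mkLinearMap q.primeCompl (E ⊗[A] A))
      (LocalizedModule.mkLinearMap q.primeCompl E) (Localization.AtPrime q) e0
  have h1 : LocCoh.depth (Localization.AtPrime q) (LocalizedModule q.primeCompl (E ⊗[A] A)) =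
      LocCoh.depth (Localization.AtPrime q) (LocalizedModule q.primeCompl E) :=
    Groth.Agent.H15.idealDepth_congr e1 _
  rw [← h1, hdepth]
  exact le_add_self

/-- global form: `depth_J E ≥ n` if all fibre stalks along `V(J)` have depth `≥ n` -/
theorem le_idealDepth_of_fibre (J : Ideal B) (n : ℕ∞)
    (h : ∀ q : PrimeSpectrum B, J ≤ q.asIdeal →
      n ≤ LocCoh.idealDepth (q.asIdeal.map (algebraMap B (EGA4.FibLocRing A B q.asIdeal)))
        (EGA4.FibLocMod A B q.asIdeal E)) :
    n ≤ LocCoh.idealDepth J E := by
  rw [Groth.Agent.H26.idealDepth_eq_iInf_depth_localization]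
  exact le_iInf₂ fun q hq => (h q hq).trans (fibre_depth_le (A := A) E q.asIdeal)

end Groth.Agent.H29.FibreDepthGe
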