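import Mathlib
import Groth.Prelude.Def_CAlg
import Groth.Prelude.Def_EGA4b
import Groth.Agent.H29.FibreDepthGe
import Groth.Agent.H72.DepthCM

/-!
# `depth_J B ≥ n` from the depths of the fibre local rings along `V(J)` (for `B` flat over `A`)
-/

set_option autoImplicit false
set_option linter.style.haveILetI false
set_option linter.unusedSectionVars false
universe u

open TensorProduct

namespace Groth.Agent.H29.FibreDepthGe

variable {A B : Type u} [CommRing A] [CommRing B] [Algebra A B]
  [IsNoetherianRing A] [IsNoetherianRing B] (q : Ideal B) [q.IsPrime]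

/-- the fibre module of `B` itself is the fibre local ring -/
noncomputable def fibLocModSelfEquiv :
    EGA4.FibLocMod A B q B ≃ₗ[Localization.AtPrime q] EGA4.FibLocRing A B q :=
  Submodule.Quotient.equiv _ _ (Groth.Agent.H72.DepthCM.locSelfEquiv q) (by
    set I := (q.comap (algebraMap A B)).map (algebraMap A (Localization.AtPrime q)) with hI
    rw [Submodule.map_smul'', Submodule.map_top, LinearEquiv.range]
    change I • (⊤ : Ideal (Localization.AtPrime q)) = I
    rw [smul_eq_mul, Ideal.mul_top])

theorem idealDepth_fibLocRing_eq :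
    LocCoh.idealDepth (q.map (algebraMap B (EGA4.FibLocRing A B q))) (EGA4.FibLocRing A B q) =
      LocCoh.idealDepth (q.map (algebraMap B (EGA4.FibLocRing A B q)))
        (EGA4.FibLocMod A B q B) := by
  haveI : Nontrivial (EGA4.FibLocRing A B q) :=
    Groth.Agent.H29.SkFlatBC.nontrivial_fibLocRing (A := A) q
  haveI : IsLocalRing (EGA4.FibLocRing A B q) := inferInstance
  haveI : IsNoetherianRing (Localization.AtPrime q) :=
    IsLocalization.isNoetherianRing q.primeCompl _ inferInstance
  haveI : IsLocalHom (algebraMap (Localization.AtPrime q) (EGA4.FibLocRing A B q)) :=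
    IsLocalHom.of_surjective _ Ideal.Quotient.mk_surjective
  rw [idealDepth_fibre_eq (A := A) B q, map_eq_maximalIdeal (A := A) q]
  have h1 : LocCoh.depth (Localization.AtPrime q) (EGA4.FibLocMod A B q B) =
      LocCoh.depth (Localization.AtPrime q) (EGA4.FibLocRing A B q) :=
    Groth.Agent.H15.idealDepth_congr (fibLocModSelfEquiv (A := A) q) _
  rw [h1]
  exact (Groth.Agent.H29.DepthAB.depth_eq (A := Localization.AtPrime q)
    (B := EGA4.FibLocRing A B q) (EGA4.FibLocRing A B q)).symm

/-- `depth_J B ≥ n` if all fibre local rings along `V(J)` have depth `≥ n` -/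
theorem le_idealDepth_self_of_fibre [Module.Flat A B] (J : Ideal B) (n : ℕ∞)
    (h : ∀ q : PrimeSpectrum B, J ≤ q.asIdeal →
      n ≤ LocCoh.idealDepth (q.asIdeal.map (algebraMap B (EGA4.FibLocRing A B q.asIdeal)))
        (EGA4.FibLocRing A B q.asIdeal)) :
    n ≤ LocCoh.idealDepth J B := by
  refine le_idealDepth_of_fibre (A := A) B J n fun q hq => ?_
  rw [← idealDepth_fibLocRing_eq (A := A) q.asIdeal]
  exact h q hq

end Groth.Agent.H29.FibreDepthGe
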