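import Mathlib
import Groth.Agent.H29.AB4
import Groth.Agent.H29.Vasc1
import Groth.Agent.H29.RegFree
import Groth.Agent.Lead.RegularLocalization

set_option autoImplicit false

namespace Groth.Agent.H29

namespace AB

universe u

open CategoryTheory IsLocalRing RingTheory.Sequence Pointwise Groth.Agent.H29.CML

/-- over a regular local ring, associated primes of `M` have height at most `pd M` -/
theorem height_le_of_mem_associatedPrimes (B : Type u) [CommRing B] [IsRegularLocalRing B]
    (M : Type u) [AddCommGroup M] [Module B M] [Module.Finite B M] (p : Ideal B)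
    (hp : p ∈ associatedPrimes B M) (n : ℕ)
    (hn : HasProjectiveDimensionLT (ModuleCat.of B M) (n + 1)) : p.height ≤ n := by
  have hpprime : p.IsPrime := (AssociatedPrimes.mem_iff.mp hp).isPrime
  have hreg : IsRegularLocalRing (Localization.AtPrime p) :=
    Groth.Agent.Lead.RLR.isRegularLocalRing_localization B p
  obtain ⟨-, z, hz⟩ := isAssociatedPrime_iff.mp (AssociatedPrimes.mem_iff.mp hp)
  have hmem : ∀ t : B, t ∈ p ↔ t • z = 0 := by
    intro t
    rw [hz, Submodule.mem_colon_singleton, Submodule.mem_bot]
  have hLT := Vasc.localized_pd p M n hn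
  set w : LocalizedModule p.primeCompl M := LocalizedModule.mk z 1 with hw
  have hw0 : w ≠ 0 := by
    intro h0
    rw [hw, ← LocalizedModule.zero_mk 1, LocalizedModule.mk_eq] at h0
    obtain ⟨u, hu⟩ := h0
    simp only [one_smul, smul_zero] at hu
    exact u.2 ((hmem u.1).mpr hu)
  have hkill : ∀ a ∈ maximalIdeal (Localization.AtPrime p), a • w = 0 := by
    intro a ha
    obtain ⟨t, s, rfl⟩ := IsLocalization.exists_mk'_eq p.primeCompl a
    rw [IsLocalization.AtPrime.mk'_mem_maximal_iff (Localization.AtPrime p) p] at ha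
    have hu : IsUnit (algebraMap B (Localization.AtPrime p) (s : B)) :=
      IsLocalization.map_units (Localization.AtPrime p) s
    rw [← hu.smul_eq_zero, smul_smul, mul_comm, IsLocalization.mk'_spec, algebraMap_smul, hw,
      LocalizedModule.smul'_mk, (hmem t).mp ha, LocalizedModule.zero_mk]
  have hnt : Nontrivial (LocalizedModule p.primeCompl M) := ⟨⟨w, 0, hw0⟩⟩
  have hdepth : LocCoh.depth (Localization.AtPrime p) (LocalizedModule p.primeCompl M) = 0 :=
    depth_eq_zero_of_killed _ w hw0 hkill
  have hle : projectiveDimension (ModuleCat.of (Localization.AtPrime p)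
      (LocalizedModule p.primeCompl M)) ≤ (n : WithBot ℕ∞) :=
    (projectiveDimension_le_iff _ n).mpr hLT
  have hne : projectiveDimension (ModuleCat.of (Localization.AtPrime p)
      (LocalizedModule p.primeCompl M)) ≠ ⊤ := by
    intro htop
    rw [htop] at hle
    have h4 : (((n : ℕ) : ℕ∞) : WithBot ℕ∞) < ((⊤ : ℕ∞) : WithBot ℕ∞) :=
      WithBot.coe_lt_coe.mpr (ENat.natCast_lt_top n)
    exact absurd hle (not_le.mpr h4)
  have hz3 : ¬ Limits.IsZero (ModuleCat.of (Localization.AtPrime p)
      (LocalizedModule p.primeCompl M)) := fun h =>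
    not_subsingleton _ ((ModuleCat.isZero_iff_subsingleton).mp h)
  obtain ⟨e, he⟩ := exists_nat_pd _ hne hz3
  have hab := auslander_buchsbaum (R := Localization.AtPrime p) (LocalizedModule p.primeCompl M) e he
  rw [hdepth, add_zero] at hab
  obtain ⟨d, hd, -⟩ := Groth.Agent.Lead.RLR.exists_ringKrullDim_eq (Localization.AtPrime p)
  have hdd := RegFree.depth_eq_of_regular (Localization.AtPrime p) d hd
  rw [hab] at hdd
  have hed : e = d := by exact_mod_cast hdd
  have hht := IsLocalization.AtPrime.ringKrullDim_eq_height p (Localization.AtPrime p)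
  rw [hd] at hht
  have hen : e ≤ n := by
    rw [he] at hle
    exact_mod_cast hle
  have h5 : p.height = (d : ℕ∞) := by exact_mod_cast hht.symm
  rw [h5, ← hed]
  exact_mod_cast hen

end AB

end Groth.Agent.H29
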