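import Mathlib
import Groth.Agent.H19.FormalNoeth
import Groth.Prelude.Def_MoreMor

/-!
# The transition maps of an adic formal system are finite order thickenings
-/

set_option autoImplicit false
universe u

open AlgebraicGeometry CategoryTheory CategoryTheory.Limits

namespace Groth.Agent.H29.AdicThick

theorem isFiniteOrderThickening_ι (𝔖 : FSch.Sys.{u}) (hF : 𝔖.IsFormal) (hA : 𝔖.IsAdic) (n : ℕ) :
    MoreMor.IsFiniteOrderThickening (𝔖.ι n) := by
  refine ⟨⟨(hF n).1, ⟨(hF n).2⟩⟩, 2, ?_⟩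
  have hp := Groth.Agent.H19.FormalNoeth.ker_toX_pow 𝔖 hF hA (n + 1)
  have e : (n + 1) * 2 = (n + 1 + 1) + n := by ring
  rw [hA n, ← pow_mul, e, pow_add, hp]
  exact Scheme.IdealSheafData.bot_mul _

end Groth.Agent.H29.AdicThick
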