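import Mathlib

/-!
# Associated primes of a tensor product with a flat module, local form (helper29)

For a local homomorphism `A → B` of local rings with `A` Noetherian, a `B`-module `G` flat over `A`
and an `A`-module `E`: the maximal ideal of `B` is "associated" to `G ⊗_A E` (some nonzero element
is killed by it) iff the maximal ideal of `A` is associated to `E` and the maximal ideal of `B` is
associated to the closed fibre `G / 𝔪_A G`.
-/

set_option autoImplicit false
set_option linter.style.haveILetI false
universe u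
open TensorProduct IsLocalRing

namespace Groth.Agent.H29.AssTensor

/-- some nonzero element of `M` is killed by every non-unit of `R`. -/
def HasSocle (R : Type u) [CommRing R] (M : Type u) [AddCommGroup M] [Module R M] : Prop :=
  ∃ m : M, m ≠ 0 ∧ ∀ r : R, ¬ IsUnit r → r • m = 0

theorem isAssociatedPrime_maximalIdeal_iff (R : Type u) [CommRing R] [IsLocalRing R]
    [IsNoetherianRing R] (M : Type u) [AddCommGroup M] [Module R M] :
    IsAssociatedPrime (maximalIdeal R) M ↔ HasSocle R M := by
  rw [isAssociatedPrime_iff]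
  constructor
  · rintro ⟨-, x, hx⟩
    refine ⟨x, ?_, ?_⟩
    · rintro rfl
      have h1 : (1 : R) ∈ maximalIdeal R := by
        rw [hx, Submodule.mem_colon_singleton]
        simp
      exact (maximalIdeal.isMaximal R).ne_top ((Ideal.eq_top_iff_one _).mpr h1)
    · intro r hr
      have h1 : r ∈ maximalIdeal R := (mem_maximalIdeal r).mpr hr
      rw [hx, Submodule.mem_colon_singleton] at h1
      simpa using h1
  · rintro ⟨m, hm0, hm⟩
    refine ⟨inferInstance, m, ?_⟩
    have hle : maximalIdeal R ≤ Submodule.colon (⊥ : Submodule R M) {m} := by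
      intro r hr
      rw [Submodule.mem_colon_singleton]
      rw [hm r ((mem_maximalIdeal r).mp hr)]
      exact Submodule.zero_mem _
    have hne : Submodule.colon (⊥ : Submodule R M) {m} ≠ ⊤ := by
      intro h
      have h1 : (1 : R) ∈ Submodule.colon (⊥ : Submodule R M) {m} := by
        rw [h]; exact Submodule.mem_top
      rw [Submodule.mem_colon_singleton, one_smul, Submodule.mem_bot] at h1
      exact hm0 h1
    exact (maximalIdeal.isMaximal R).eq_of_le hne hle

theorem HasSocle.of_semilinear {R R' M M' : Type u} [CommRing R] [CommRing R'] [AddCommGroup M]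
    [Module R M] [AddCommGroup M'] [Module R' M'] (σ : R ≃+* R') (φ : M ≃+ M')
    (h : ∀ (r : R) (x : M), φ (r • x) = σ r • φ x) (hM : HasSocle R M) : HasSocle R' M' := by
  obtain ⟨m, hm0, hm⟩ := hM
  refine ⟨φ m, fun h0 => hm0 ?_, ?_⟩
  · exact φ.injective (h0.trans (map_zero φ).symm)
  · intro r' hr'
    have hr : ¬ IsUnit (σ.symm r') := by
      intro hu
      apply hr'
      have := hu.map σ
      simpa using this
    have := h (σ.symm r') m
    rw [hm _ hr, map_zero] at this
    simpa using this.symm

theorem HasSocle.of_linearEquiv {R M M' : Type u} [CommRing R] [AddCommGroup M]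
    [Module R M] [AddCommGroup M'] [Module R M'] (φ : M ≃ₗ[R] M') (hM : HasSocle R M) :
    HasSocle R M' :=
  hM.of_semilinear (RingEquiv.refl R) φ.toAddEquiv (fun r x => φ.map_smul r x)

/-- the closed-fibre socle condition on `G`: some element of `G` outside `𝔪_A G` is carried
into `𝔪_A G` by every non-unit of `B`. -/
def FibSocle (A B : Type u) [CommRing A] [CommRing B] [Algebra A B] [IsLocalRing A]
    (G : Type u) [AddCommGroup G] [Module A G] [Module B G] : Prop :=
  ∃ g : G, g ∉ (maximalIdeal A) • (⊤ : Submodule A G) ∧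
    ∀ b : B, ¬ IsUnit b → b • g ∈ (maximalIdeal A) • (⊤ : Submodule A G)

section Core

variable {A B : Type u} [CommRing A] [CommRing B] [Algebra A B] [IsLocalRing A]
  (G : Type u) [AddCommGroup G] [Module A G] [Module B G] [IsScalarTower A B G]
  (E : Type u) [AddCommGroup E] [Module A E]

omit [IsScalarTower A B G] [Algebra A B] [CommRing B] [Module B G] in
theorem tmul_eq_zero_of_mem_smul_top (e : E) (he : ∀ a ∈ maximalIdeal A, a • e = 0) (h : G)
    (hh : h ∈ (maximalIdeal A) • (⊤ : Submodule A G)) : h ⊗ₜ[A] e = 0 := by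
  refine Submodule.smul_induction_on hh ?_ ?_
  · intro a ha g _
    rw [TensorProduct.smul_tmul, he a ha, TensorProduct.tmul_zero]
  · intro x y hx hy
    rw [TensorProduct.add_tmul, hx, hy, add_zero]

theorem hasSocle_tensor_of [Module.Flat A G] (hE : HasSocle A E) (hG : FibSocle A B G) :
    HasSocle B (G ⊗[A] E) := by
  obtain ⟨e, he0, he⟩ := hE
  obtain ⟨g, hg0, hg⟩ := hG
  have he' : ∀ a ∈ maximalIdeal A, a • e = 0 := fun a ha => he a ((mem_maximalIdeal a).mp ha)
  refine ⟨g ⊗ₜ[A] e, ?_, ?_⟩
  · -- nonvanishing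
    have hker : maximalIdeal A ≤ LinearMap.ker (LinearMap.toSpanSingleton A E e) := by
      intro a ha
      rw [LinearMap.mem_ker, LinearMap.toSpanSingleton_apply]
      exact he' a ha
    let ψ : (A ⧸ maximalIdeal A) →ₗ[A] E :=
      Submodule.liftQ (maximalIdeal A) (LinearMap.toSpanSingleton A E e) hker
    have hψ : Function.Injective ψ := by
      rw [← LinearMap.ker_eq_bot, Submodule.eq_bot_iff]
      intro q hq
      obtain ⟨a, rfl⟩ := Submodule.mkQ_surjective _ q
      rw [LinearMap.mem_ker] at hq
      have h1 : a • e = 0 := hq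
      have h2 : a ∈ maximalIdeal A := by
        by_contra hna
        have hu : IsUnit a := by
          by_contra hnu
          exact hna ((mem_maximalIdeal a).mpr hnu)
        obtain ⟨u, rfl⟩ := hu
        apply he0
        have := congrArg (fun t => (↑u⁻¹ : A) • t) h1
        simpa [smul_smul] using this
      exact (Submodule.Quotient.mk_eq_zero _).mpr h2
    have hinj := Module.Flat.lTensor_preserves_injective_linearMap (M := G) ψ hψ
    intro h0
    have h1 : (ψ.lTensor G) (g ⊗ₜ[A] (Submodule.Quotient.mk (1 : A))) = g ⊗ₜ[A] e := by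
      rw [LinearMap.lTensor_tmul]
      congr 1
      change (LinearMap.toSpanSingleton A E e) 1 = e
      rw [LinearMap.toSpanSingleton_apply, one_smul]
    have h2 : g ⊗ₜ[A] (Submodule.Quotient.mk (1 : A) : A ⧸ maximalIdeal A) = 0 := by
      apply hinj
      rw [h1, h0, map_zero]
    have h3 := congrArg (TensorProduct.tensorQuotEquivQuotSMul G (maximalIdeal A)) h2
    rw [map_zero] at h3
    have h4 : TensorProduct.tensorQuotEquivQuotSMul G (maximalIdeal A)
        (g ⊗ₜ[A] (Submodule.Quotient.mk (1 : A) : A ⧸ maximalIdeal A)) =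
        Submodule.Quotient.mk g := by
      have := TensorProduct.tensorQuotEquivQuotSMul_tmul_mk (M := G) (maximalIdeal A) g 1
      rw [one_smul] at this
      exact this
    rw [h4, Submodule.Quotient.mk_eq_zero] at h3
    exact hg0 h3
  · intro b hb
    rw [TensorProduct.smul_tmul']
    exact tmul_eq_zero_of_mem_smul_top G E e he' _ (hg b hb)

omit [IsScalarTower A B G] [Algebra A B] [CommRing B] [Module B G] in
/-- Step A: an element of `G ⊗ E` killed by `𝔪_A` comes from `G ⊗ E[𝔪_A]`. -/
theorem exists_lift_socle [IsNoetherianRing A] [Module.Flat A G] (z : G ⊗[A] E)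
    (hz : ∀ a ∈ maximalIdeal A, a • z = 0) :
    ∃ (E' : Submodule A E) (_ : ∀ a ∈ maximalIdeal A, ∀ e ∈ E', a • e = 0) (z' : G ⊗[A] E'),
      (E'.subtype.lTensor G) z' = z := by
  obtain ⟨r, a, ha⟩ := Submodule.fg_iff_exists_fin_generating_family.mp
    (IsNoetherian.noetherian (maximalIdeal A))
  let φ : E →ₗ[A] (Fin r → E) := LinearMap.pi (fun i => a i • LinearMap.id)
  have hmem : ∀ i, a i ∈ maximalIdeal A := fun i => by
    rw [← ha]
    exact Submodule.subset_span ⟨i, rfl⟩
  have hker : ∀ e ∈ LinearMap.ker φ, ∀ x ∈ maximalIdeal A, x • e = 0 := by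
    intro e he x hx
    rw [← ha] at hx
    refine Submodule.span_induction ?_ ?_ ?_ ?_ hx
    · rintro _ ⟨i, rfl⟩
      rw [LinearMap.mem_ker] at he
      have := congrFun he i
      simpa [φ] using this
    · exact zero_smul _ _
    · intro x y _ _ hx hy
      rw [add_smul, hx, hy, add_zero]
    · intro c x _ hx
      rw [smul_eq_mul, mul_smul, hx, smul_zero]
  refine ⟨LinearMap.ker φ, fun x hx e he => hker e he x hx, ?_⟩
  have hex := Module.Flat.lTensor_exact G (LinearMap.exact_subtype_ker_map φ)
  have hcomp : ∀ (w : G ⊗[A] E) (i : Fin r),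
      TensorProduct.piRight A A G (fun _ : Fin r => E) ((φ.lTensor G) w) i = a i • w := by
    intro w i
    induction w using TensorProduct.induction_on with
    | zero => simp
    | tmul g e =>
      rw [LinearMap.lTensor_tmul, TensorProduct.piRight_apply, TensorProduct.piRightHom_tmul]
      change g ⊗ₜ[A] (a i • e) = a i • (g ⊗ₜ[A] e)
      rw [TensorProduct.tmul_smul]
    | add x y hx hy =>
      rw [map_add, map_add, Pi.add_apply, hx, hy, smul_add]
  have hz0 : (φ.lTensor G) z = 0 := by
    apply (TensorProduct.piRight A A G (fun _ : Fin r => E)).injective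
    rw [map_zero]
    funext i
    rw [hcomp, Pi.zero_apply]
    exact hz _ (hmem i)
  exact (hex z).mp hz0

theorem fibSocle_of_tensor_quot (w : G ⊗[A] (A ⧸ maximalIdeal A)) (hw0 : w ≠ 0)
    (hw : ∀ b : B, ¬ IsUnit b → b • w = 0) : FibSocle A B G := by
  obtain ⟨g, hg⟩ := Submodule.Quotient.mk_surjective _
    (TensorProduct.tensorQuotEquivQuotSMul G (maximalIdeal A) w)
  have hwg : w = g ⊗ₜ[A] (1 : A ⧸ maximalIdeal A) := by
    apply (TensorProduct.tensorQuotEquivQuotSMul G (maximalIdeal A)).injective
    rw [← hg]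
    have := TensorProduct.tensorQuotEquivQuotSMul_tmul_mk (M := G) (maximalIdeal A) g 1
    rw [one_smul] at this
    exact this.symm
  refine ⟨g, ?_, ?_⟩
  · intro hmem
    apply hw0
    apply (TensorProduct.tensorQuotEquivQuotSMul G (maximalIdeal A)).injective
    rw [← hg, map_zero]
    exact (Submodule.Quotient.mk_eq_zero _).mpr hmem
  · intro b hb
    have h1 : (b • g) ⊗ₜ[A] (1 : A ⧸ maximalIdeal A) = 0 := by
      rw [← TensorProduct.smul_tmul', ← hwg]
      exact hw b hb
    have h2 := congrArg (TensorProduct.tensorQuotEquivQuotSMul G (maximalIdeal A)) h1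
    have h3 := TensorProduct.tensorQuotEquivQuotSMul_tmul_mk (M := G) (maximalIdeal A) (b • g) 1
    rw [one_smul] at h3
    rw [map_zero] at h2
    have h4 : (Submodule.Quotient.mk (b • g) : G ⧸ (maximalIdeal A) • (⊤ : Submodule A G)) = 0 := by
      rw [← h3]
      exact h2
    exact (Submodule.Quotient.mk_eq_zero _).mp h4

theorem fibSocle_of_tensor_torsion (E' : Type u) [AddCommGroup E'] [Module A E']
    (hE' : ∀ a ∈ maximalIdeal A, ∀ e : E', a • e = 0) (z' : G ⊗[A] E') (hz0 : z' ≠ 0)
    (hz : ∀ b : B, ¬ IsUnit b → b • z' = 0) : FibSocle A B G := by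
  have htors : Module.IsTorsionBySet A E' (maximalIdeal A : Set A) := fun e a => hE' a.1 a.2 e
  letI := Ideal.Quotient.field (maximalIdeal A)
  letI : Module (A ⧸ maximalIdeal A) E' := htors.module
  haveI : IsScalarTower A (A ⧸ maximalIdeal A) E' := htors.isScalarTower
  let bas := Module.Free.chooseBasis (A ⧸ maximalIdeal A) E'
  let e2 : E' ≃ₗ[A] (Module.Free.ChooseBasisIndex (A ⧸ maximalIdeal A) E' →₀ A ⧸ maximalIdeal A) :=
    bas.repr.restrictScalars A
  let Θ : G ⊗[A] E' ≃ₗ[B]
      (Module.Free.ChooseBasisIndex (A ⧸ maximalIdeal A) E' →₀ G ⊗[A] (A ⧸ maximalIdeal A)) :=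
    (AlgebraTensorModule.congr (LinearEquiv.refl B G) e2) ≪≫ₗ
      TensorProduct.finsuppRight A B G (A ⧸ maximalIdeal A) _
  have h0 : Θ z' ≠ 0 := fun h => hz0 (Θ.injective (h.trans (map_zero Θ).symm))
  obtain ⟨i, hi⟩ := DFunLike.ne_iff.mp h0
  refine fibSocle_of_tensor_quot G (Θ z' i) hi ?_
  intro b hb
  have h1 : b • (Θ z') = 0 := by rw [← map_smul, hz b hb, map_zero]
  have h2 := DFunLike.congr_fun h1 i
  rw [Finsupp.smul_apply] at h2
  exact h2

theorem hasSocle_and_fibSocle_of_tensor [IsLocalRing B] [IsLocalHom (algebraMap A B)]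
    [IsNoetherianRing A] [Module.Flat A G] (h : HasSocle B (G ⊗[A] E)) :
    HasSocle A E ∧ FibSocle A B G := by
  obtain ⟨z, hz0, hz⟩ := h
  have hzA : ∀ a ∈ maximalIdeal A, a • z = 0 := by
    intro a ha
    rw [← algebraMap_smul B a z]
    apply hz
    intro hu
    exact ((mem_maximalIdeal a).mp ha) (isUnit_of_map_unit (algebraMap A B) a hu)
  obtain ⟨E', hE', z', hz'⟩ := exists_lift_socle G E z hzA
  have hinj : Function.Injective (E'.subtype.lTensor G) :=
    Module.Flat.lTensor_preserves_injective_linearMap (M := G) E'.subtype E'.subtype_injective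
  have hz'0 : z' ≠ 0 := by
    rintro rfl
    exact hz0 (hz'.symm.trans (map_zero _))
  have hlin : ∀ (b : B) (w : G ⊗[A] E'),
      (E'.subtype.lTensor G) (b • w) = b • (E'.subtype.lTensor G) w := by
    intro b w
    induction w using TensorProduct.induction_on with
    | zero => simp
    | tmul g e =>
      rw [TensorProduct.smul_tmul', LinearMap.lTensor_tmul, LinearMap.lTensor_tmul,
        TensorProduct.smul_tmul']
    | add x y hx hy => rw [smul_add, map_add, map_add, hx, hy, smul_add]
  have hz'B : ∀ b : B, ¬ IsUnit b → b • z' = 0 := by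
    intro b hb
    apply hinj
    rw [hlin, hz', map_zero]
    exact hz b hb
  refine ⟨?_, fibSocle_of_tensor_torsion G E' (fun a ha e => Subtype.ext (hE' a ha e e.2)) z'
    hz'0 hz'B⟩
  -- `E'` is nonzero
  have hne : ∃ e : E', e ≠ 0 := by
    by_contra hall
    simp only [not_exists, not_not] at hall
    apply hz'0
    have hall' : ∀ w : G ⊗[A] E', w = 0 := by
      intro w
      induction w using TensorProduct.induction_on with
      | zero => rfl
      | tmul g e => rw [hall e, TensorProduct.tmul_zero]
      | add x y hx hy => rw [hx, hy, add_zero]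
    exact hall' z'
  obtain ⟨e, he⟩ := hne
  refine ⟨e.1, fun h0 => he (Subtype.ext h0), ?_⟩
  intro a ha
  exact hE' a ((mem_maximalIdeal a).mpr ha) e.1 e.2

end Core

end Groth.Agent.H29.AssTensor
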