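import Mathlib
import Groth.Prelude.Def_FDesc
import Groth.Prelude.Def_FlatMod2
import Groth.Agent.H5.Stalk.Tensor
import Groth.Agent.H79.PullStalkLength
import Groth.Agent.H49.FibreStalk
import Groth.Agent.H99.ModPair
import Groth.Agent.H29.AssTensorA

/-!
# Associated points of `f^*E ⊗ F` for `F` flat over the base (helper29)

* `isAssPoint_tensor_pullback_iff`: `x ∈ Ass (f^*E ⊗ F) ↔ f x ∈ Ass E ∧ FibSocleAt f F x`.
* `isAssPoint_fibre_iff`: `x' ∈ Ass (F|_{X_y}) ↔ FibSocleAt f F (ι x')`.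
* `isAssPoint_fiberι_iff`: `ι x' ∈ Ass (f^*E ⊗ F) ↔ y ∈ Ass E ∧ x' ∈ Ass (F|_{X_y})`.
-/

set_option autoImplicit false
set_option linter.style.haveILetI false
universe u
open CategoryTheory AlgebraicGeometry TopologicalSpace TensorProduct IsLocalRing

namespace Groth.Agent.H29.AssTensor

section Ring

/-- the socle condition modulo an ideal. -/
def QuotSocle (B : Type u) [CommRing B] (I : Ideal B) (G : Type u) [AddCommGroup G] [Module B G] :
    Prop :=
  ∃ g : G, g ∉ I • (⊤ : Submodule B G) ∧ ∀ b : B, ¬ IsUnit b → b • g ∈ I • (⊤ : Submodule B G)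

theorem hasSocle_quotient_iff {B : Type u} [CommRing B] [IsLocalRing B] (I : Ideal B) (hI : I ≠ ⊤)
    (G : Type u) [AddCommGroup G] [Module B G] :
    HasSocle (B ⧸ I) (G ⧸ I • (⊤ : Submodule B G)) ↔ QuotSocle B I G := by
  haveI : Nontrivial (B ⧸ I) := Ideal.Quotient.nontrivial_iff.mpr hI
  haveI : IsLocalHom (Ideal.Quotient.mk I) :=
    IsLocalHom.of_surjective _ Ideal.Quotient.mk_surjective
  constructor
  · rintro ⟨m, hm0, hm⟩
    obtain ⟨g, rfl⟩ := Submodule.Quotient.mk_surjective _ m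
    refine ⟨g, fun hg => hm0 ((Submodule.Quotient.mk_eq_zero _).mpr hg), ?_⟩
    intro b hb
    have h1 : ¬ IsUnit (Ideal.Quotient.mk I b) := fun hu => hb (isUnit_of_map_unit _ b hu)
    have h2 := hm _ h1
    exact (Submodule.Quotient.mk_eq_zero _).mp h2
  · rintro ⟨g, hg0, hg⟩
    refine ⟨Submodule.Quotient.mk g, fun h0 => hg0 ((Submodule.Quotient.mk_eq_zero _).mp h0), ?_⟩
    intro r hr
    obtain ⟨b, rfl⟩ := Ideal.Quotient.mk_surjective r
    have hb : ¬ IsUnit b := fun hu => hr (hu.map _)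
    exact (Submodule.Quotient.mk_eq_zero _).mpr (hg b hb)

theorem quotSocle_map_iff {A B : Type u} [CommRing A] [CommRing B] [Algebra A B] [IsLocalRing A]
    (G : Type u) [AddCommGroup G] [Module A G] [Module B G] [IsScalarTower A B G] :
    QuotSocle B ((maximalIdeal A).map (algebraMap A B)) G ↔ FibSocle A B G := by
  have key : ∀ g : G, g ∈ ((maximalIdeal A).map (algebraMap A B)) • (⊤ : Submodule B G) ↔
      g ∈ (maximalIdeal A) • (⊤ : Submodule A G) := by
    intro g
    have h := Ideal.smul_restrictScalars (maximalIdeal A) (⊤ : Submodule B G)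
    rw [Submodule.restrictScalars_top] at h
    rw [← h, Submodule.restrictScalars_mem]
  unfold QuotSocle FibSocle
  simp only [key]

end Ring

section Scheme

variable {X Y : Scheme.{u}}

theorem isAssPoint_iff_hasSocle (F : X.Modules) (x : X) [IsNoetherianRing (X.presheaf.stalk x)] :
    Curv2.IsAssPoint F x ↔ HasSocle (X.presheaf.stalk x) (F.presheaf.stalk x) :=
  isAssociatedPrime_maximalIdeal_iff _ _

/-- the fibre socle condition at `x`: some element of `F_x` outside `𝔪_{f x} F_x` is carried into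
`𝔪_{f x} F_x` by the maximal ideal of `O_{X,x}`. -/
def FibSocleAt (f : X ⟶ Y) (F : X.Modules) (x : X) : Prop :=
  QuotSocle (X.presheaf.stalk x) (Groth.Agent.H49.FibreStalk.fibreIdeal f x) (F.presheaf.stalk x)

theorem isAssPoint_tensor_pullback_iff (f : X ⟶ Y) (E : Y.Modules) (F : X.Modules) (x : X)
    [IsNoetherianRing (X.presheaf.stalk x)] [IsNoetherianRing (Y.presheaf.stalk (f x))]
    (hfl : FlatMod.IsFlatOverAt f F x) :
    Curv2.IsAssPoint (CohB1.tensorMod ((Scheme.Modules.pullback f).obj E) F) x ↔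
      Curv2.IsAssPoint E (f x) ∧ FibSocleAt f F x := by
  rw [isAssPoint_iff_hasSocle, isAssPoint_iff_hasSocle]
  letI := (f.stalkMap x).hom.toAlgebra
  letI : Module (Y.presheaf.stalk (f x)) (F.presheaf.stalk x) := FlatMod.moduleStalkOver f F x
  haveI : IsScalarTower (Y.presheaf.stalk (f x)) (X.presheaf.stalk x) (F.presheaf.stalk x) :=
    IsScalarTower.of_algebraMap_smul (fun r m => rfl)
  haveI : IsLocalHom (algebraMap (Y.presheaf.stalk (f x)) (X.presheaf.stalk x)) :=
    inferInstanceAs (IsLocalHom (f.stalkMap x).hom)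
  haveI : Module.Flat (Y.presheaf.stalk (f x)) (F.presheaf.stalk x) := hfl
  let e1 : (CohB1.tensorMod ((Scheme.Modules.pullback f).obj E) F).presheaf.stalk x
      ≃ₗ[X.presheaf.stalk x]
      (((Scheme.Modules.pullback f).obj E).presheaf.stalk x) ⊗[X.presheaf.stalk x]
        (F.presheaf.stalk x) :=
    (Groth.Agent.H5.Stalk.Tensor.stalkTensorIso x ((Scheme.Modules.pullback f).obj E) F).toLinearEquiv
  let e2 := Groth.Agent.H79.PullStalkLength.pullbackStalkEquiv f x E
  let e3 : (((Scheme.Modules.pullback f).obj E).presheaf.stalk x) ⊗[X.presheaf.stalk x]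
        (F.presheaf.stalk x) ≃ₗ[X.presheaf.stalk x]
      (X.presheaf.stalk x ⊗[Y.presheaf.stalk (f x)] E.presheaf.stalk (f x)) ⊗[X.presheaf.stalk x]
        (F.presheaf.stalk x) :=
    TensorProduct.congr e2 (LinearEquiv.refl _ _)
  let e4 := TensorProduct.comm (X.presheaf.stalk x)
    (X.presheaf.stalk x ⊗[Y.presheaf.stalk (f x)] E.presheaf.stalk (f x)) (F.presheaf.stalk x)
  let e5 := TensorProduct.AlgebraTensorModule.cancelBaseChange (Y.presheaf.stalk (f x))
    (X.presheaf.stalk x) (X.presheaf.stalk x) (F.presheaf.stalk x) (E.presheaf.stalk (f x))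
  let e := e1 ≪≫ₗ e3 ≪≫ₗ e4 ≪≫ₗ e5
  have h1 : HasSocle (X.presheaf.stalk x)
      ((CohB1.tensorMod ((Scheme.Modules.pullback f).obj E) F).presheaf.stalk x) ↔
      HasSocle (X.presheaf.stalk x)
        ((F.presheaf.stalk x) ⊗[Y.presheaf.stalk (f x)] (E.presheaf.stalk (f x))) :=
    ⟨HasSocle.of_linearEquiv e, HasSocle.of_linearEquiv e.symm⟩
  rw [h1]
  have h2 : FibSocleAt f F x ↔
      FibSocle (Y.presheaf.stalk (f x)) (X.presheaf.stalk x) (F.presheaf.stalk x) :=
    quotSocle_map_iff (A := Y.presheaf.stalk (f x)) (B := X.presheaf.stalk x) (F.presheaf.stalk x)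
  rw [h2]
  exact ⟨hasSocle_and_fibSocle_of_tensor _ _, fun h => hasSocle_tensor_of _ _ h.1 h.2⟩

open Groth.Agent.H49.FibreStalk in
theorem isAssPoint_fibre_iff (f : X ⟶ Y) (F : X.Modules) (y : Y) (x' : f.fiber y)
    [IsNoetherianRing (X.presheaf.stalk (f.fiberι y x'))] :
    Curv2.IsAssPoint ((Scheme.Modules.pullback (f.fiberι y)).obj F) x' ↔
      FibSocleAt f F (f.fiberι y x') := by
  have hsurj : Function.Surjective ((f.fiberι y).stalkMap x').hom :=
    (f.fiberι y).stalkMap_surjective x'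
  haveI : IsNoetherianRing ((f.fiber y).presheaf.stalk x') :=
    isNoetherianRing_of_surjective _ _ ((f.fiberι y).stalkMap x').hom hsurj
  rw [isAssPoint_iff_hasSocle]
  letI := ((f.fiberι y).stalkMap x').hom.toAlgebra
  let e := Groth.Agent.H79.PullStalkLength.pullbackStalkEquiv (f.fiberι y) x' F
  have hs : Function.Surjective (algebraMap (X.presheaf.stalk (f.fiberι y x'))
      ((f.fiber y).presheaf.stalk x')) := hsurj
  obtain ⟨σ, φ, -, hφ⟩ := Groth.Agent.H99.ModPair.exists_semilinear_quotient _ _ hs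
    (F.presheaf.stalk (f.fiberι y x'))
  have hker : RingHom.ker (algebraMap (X.presheaf.stalk (f.fiberι y x'))
      ((f.fiber y).presheaf.stalk x')) = fibreIdeal f (f.fiberι y x') :=
    ker_stalkMap_fiberι f y x'
  have h1 : HasSocle ((f.fiber y).presheaf.stalk x')
      (((Scheme.Modules.pullback (f.fiberι y)).obj F).presheaf.stalk x') ↔
      HasSocle ((f.fiber y).presheaf.stalk x')
        (((f.fiber y).presheaf.stalk x') ⊗[X.presheaf.stalk (f.fiberι y x')]
          (F.presheaf.stalk (f.fiberι y x'))) :=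
    ⟨HasSocle.of_linearEquiv e, HasSocle.of_linearEquiv e.symm⟩
  rw [h1]
  have h2 : HasSocle ((f.fiber y).presheaf.stalk x')
        (((f.fiber y).presheaf.stalk x') ⊗[X.presheaf.stalk (f.fiberι y x')]
          (F.presheaf.stalk (f.fiberι y x'))) ↔
      HasSocle (X.presheaf.stalk (f.fiberι y x') ⧸ RingHom.ker (algebraMap
          (X.presheaf.stalk (f.fiberι y x')) ((f.fiber y).presheaf.stalk x')))
        (F.presheaf.stalk (f.fiberι y x') ⧸ (RingHom.ker (algebraMap
          (X.presheaf.stalk (f.fiberι y x')) ((f.fiber y).presheaf.stalk x'))) •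
            (⊤ : Submodule (X.presheaf.stalk (f.fiberι y x'))
              (F.presheaf.stalk (f.fiberι y x')))) :=
    ⟨HasSocle.of_semilinear σ.symm φ.symm (Groth.Agent.H99.ModPair.semilinear_symm σ φ hφ),
      HasSocle.of_semilinear σ φ hφ⟩
  rw [h2, hasSocle_quotient_iff _ (by rw [hker]; exact fibreIdeal_ne_top f _), hker]
  rfl

theorem fiberι_apply' (f : X ⟶ Y) (y : Y) (x' : f.fiber y) : f (f.fiberι y x') = y :=
  (f.range_fiberι y).le ⟨x', rfl⟩

/-- **Associated points of `f^*E ⊗ F`** for `F` flat over `Y`: the point `ι x'` of the fibre over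
`y` is associated to `f^*E ⊗ F` iff `y` is associated to `E` and `x'` is associated to the
restriction of `F` to the fibre. -/
theorem isAssPoint_fiberι_iff (f : X ⟶ Y) [IsLocallyNoetherian X] [IsLocallyNoetherian Y]
    (E : Y.Modules) (F : X.Modules) (hfl : FlatMod.IsFlatOver f F) (y : Y) (x' : f.fiber y) :
    Curv2.IsAssPoint (CohB1.tensorMod ((Scheme.Modules.pullback f).obj E) F) (f.fiberι y x') ↔
      Curv2.IsAssPoint E y ∧
        Curv2.IsAssPoint ((Scheme.Modules.pullback (f.fiberι y)).obj F) x' := by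
  have hy : f (f.fiberι y x') = y := fiberι_apply' f y x'
  have h3 : Curv2.IsAssPoint E (f (f.fiberι y x')) ↔ Curv2.IsAssPoint E y := by rw [hy]
  rw [isAssPoint_tensor_pullback_iff f E F _ (hfl _), isAssPoint_fibre_iff, h3]

theorem nontrivial_of_fibSocleAt (f : X ⟶ Y) (F : X.Modules) (x : X) (h : FibSocleAt f F x) :
    Nontrivial (F.presheaf.stalk x) := by
  obtain ⟨g, hg, -⟩ := h
  refine ⟨⟨g, 0, ?_⟩⟩
  rintro rfl
  exact hg (Submodule.zero_mem _)

end Scheme

end Groth.Agent.H29.AssTensor
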