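import Mathlib
import Groth.Prelude.Def_FDesc
import Groth.Prelude.Def_FlatMod2
import Groth.Agent.H79.SuppGenericAss
import Groth.Agent.H71.QCoh.SupportTensor
import Groth.Agent.H99.FibModProp
import Groth.Agent.H29.AssTensorB

/-!
# Going down for supports of flat modules; associated points in fibres (helper29)
-/

set_option autoImplicit false
set_option linter.style.haveILetI false
universe u
open CategoryTheory AlgebraicGeometry TopologicalSpace TensorProduct IsLocalRing

namespace Groth.Agent.H29.AssTensor

/-- **Going down for the support of a flat module**: for a local homomorphism `A → B` with `B`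
Noetherian and a nonzero finite `B`-module `M` flat over `A`, every prime of `A` is the contraction
of a prime in the support of `M`. -/
theorem exists_mem_support_comap_eq {A B : Type u} [CommRing A] [CommRing B] [IsLocalRing A]
    [IsLocalRing B] [Algebra A B] [IsLocalHom (algebraMap A B)] [IsNoetherianRing B]
    (M : Type u) [AddCommGroup M] [Module A M] [Module B M] [IsScalarTower A B M]
    [Module.Finite B M] [Nontrivial M] [Module.Flat A M] (p : PrimeSpectrum A) :
    ∃ q : PrimeSpectrum B, q ∈ Module.support B M ∧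
      PrimeSpectrum.comap (algebraMap A B) q = p := by
  set I : Ideal B := p.asIdeal.map (algebraMap A B) with hI
  have hIle : I ≤ maximalIdeal B := by
    have h02 : (maximalIdeal A).map (algebraMap A B) ≤ maximalIdeal B :=
      ((IsLocalRing.local_hom_TFAE (algebraMap A B)).out 0 2).mp ‹_›
    exact (Ideal.map_mono (IsLocalRing.le_maximalIdeal p.2.ne_top)).trans h02
  have hne : I • (⊤ : Submodule B M) ≠ ⊤ := by
    intro h
    have := Submodule.eq_bot_of_le_smul_of_le_jacobson_bot I (⊤ : Submodule B M)
      Module.Finite.fg_top h.ge (hIle.trans (IsLocalRing.maximalIdeal_le_jacobson ⊥))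
    exact top_ne_bot this
  haveI : Nontrivial (M ⧸ I • (⊤ : Submodule B M)) := Submodule.Quotient.nontrivial_iff.mpr hne
  obtain ⟨q, hq⟩ := associatedPrimes.nonempty B (M ⧸ I • (⊤ : Submodule B M))
  obtain ⟨hqp, n, hn⟩ := (isAssociatedPrime_iff (R := B)).mp hq
  obtain ⟨m, rfl⟩ := Submodule.Quotient.mk_surjective _ n
  have hmem : ∀ b : B, b ∈ q ↔ b • m ∈ I • (⊤ : Submodule B M) := by
    intro b
    rw [hn, Submodule.mem_colon_singleton, Submodule.mem_bot, ← Submodule.Quotient.mk_smul,
      Submodule.Quotient.mk_eq_zero]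
  have hm0 : m ∉ I • (⊤ : Submodule B M) := by
    intro h
    apply hqp.ne_top
    rw [Ideal.eq_top_iff_one, hmem, one_smul]
    exact h
  refine ⟨⟨q, hqp⟩, ?_, ?_⟩
  · rw [Module.mem_support_iff_of_finite]
    intro b hb
    change b ∈ q
    rw [hmem, Module.mem_annihilator.mp hb m]
    exact Submodule.zero_mem _
  · apply PrimeSpectrum.ext
    change q.comap (algebraMap A B) = p.asIdeal
    apply le_antisymm
    · intro a ha
      rw [Ideal.mem_comap, hmem] at ha
      by_contra hap
      apply hm0
      -- `a` is regular on `M / pM`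
      have key : ∀ g : M, g ∈ I • (⊤ : Submodule B M) ↔ g ∈ p.asIdeal • (⊤ : Submodule A M) := by
        intro g
        have h := Ideal.smul_restrictScalars p.asIdeal (⊤ : Submodule B M)
        rw [Submodule.restrictScalars_top] at h
        rw [← h, Submodule.restrictScalars_mem]
      rw [key]
      rw [algebraMap_smul, key] at ha
      -- multiplication by `a` on `A / p` is injective
      let μ : (A ⧸ p.asIdeal) →ₗ[A] (A ⧸ p.asIdeal) := LinearMap.lsmul A _ a
      have hμ : Function.Injective μ := by
        rw [← LinearMap.ker_eq_bot, Submodule.eq_bot_iff]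
        intro c hc
        obtain ⟨c, rfl⟩ := Ideal.Quotient.mk_surjective c
        rw [LinearMap.mem_ker] at hc
        have h1 : Ideal.Quotient.mk p.asIdeal (a * c) = 0 := hc
        rw [Ideal.Quotient.eq_zero_iff_mem] at h1
        rcases p.2.mem_or_mem h1 with h2 | h2
        · exact absurd h2 hap
        · exact Ideal.Quotient.eq_zero_iff_mem.mpr h2
      have hinj := Module.Flat.lTensor_preserves_injective_linearMap (M := M) μ hμ
      have h3 : (μ.lTensor M) (m ⊗ₜ[A] (1 : A ⧸ p.asIdeal)) = 0 := by
        rw [LinearMap.lTensor_tmul]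
        change m ⊗ₜ[A] (a • (1 : A ⧸ p.asIdeal)) = 0
        rw [← TensorProduct.smul_tmul]
        apply (TensorProduct.tensorQuotEquivQuotSMul M p.asIdeal).injective
        rw [map_zero]
        have h4 := TensorProduct.tensorQuotEquivQuotSMul_tmul_mk (M := M) p.asIdeal (a • m) 1
        rw [one_smul] at h4
        rw [show (1 : A ⧸ p.asIdeal) = Ideal.Quotient.mk p.asIdeal 1 from rfl, h4]
        exact (Submodule.Quotient.mk_eq_zero _).mpr ha
      have h5 : m ⊗ₜ[A] (1 : A ⧸ p.asIdeal) = 0 := hinj (h3.trans (map_zero _).symm)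
      have h6 := congrArg (TensorProduct.tensorQuotEquivQuotSMul M p.asIdeal) h5
      have h7 := TensorProduct.tensorQuotEquivQuotSMul_tmul_mk (M := M) p.asIdeal m 1
      rw [one_smul] at h7
      rw [show (1 : A ⧸ p.asIdeal) = Ideal.Quotient.mk p.asIdeal 1 from rfl, h7, map_zero] at h6
      exact (Submodule.Quotient.mk_eq_zero _).mp h6
    · intro a ha
      rw [Ideal.mem_comap, hmem]
      exact Submodule.smul_mem_smul (Ideal.mem_map_of_mem _ ha) Submodule.mem_top


section Scheme

variable {X Y : Scheme.{u}}

/-- **Going down** for the support of a coherent module flat over the base. -/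
theorem exists_generization_support (f : X ⟶ Y) [IsLocallyNoetherian X] (F : X.Modules)
    (hF : Coh.IsCoh F) (x : X) (hx : Nontrivial (F.presheaf.stalk x))
    (hfl : FlatMod.IsFlatOverAt f F x) (y' : Y) (hy' : y' ⤳ f x) :
    ∃ x₁ : X, x₁ ⤳ x ∧ f x₁ = y' ∧ Nontrivial (F.presheaf.stalk x₁) := by
  haveI : F.IsQuasicoherent := hF.1
  have hy'' : y' ∈ Set.range (Y.fromSpecStalk (f x)) := by
    rw [Scheme.range_fromSpecStalk]; exact hy'
  obtain ⟨p, rfl⟩ := hy''
  letI := (f.stalkMap x).hom.toAlgebra
  letI : Module (Y.presheaf.stalk (f x)) (F.presheaf.stalk x) := FlatMod.moduleStalkOver f F x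
  haveI : IsScalarTower (Y.presheaf.stalk (f x)) (X.presheaf.stalk x) (F.presheaf.stalk x) :=
    IsScalarTower.of_algebraMap_smul (fun r m => rfl)
  haveI : IsLocalHom (algebraMap (Y.presheaf.stalk (f x)) (X.presheaf.stalk x)) :=
    inferInstanceAs (IsLocalHom (f.stalkMap x).hom)
  haveI : Module.Flat (Y.presheaf.stalk (f x)) (F.presheaf.stalk x) := hfl
  haveI := Groth.Agent.H13.finite_stalk_of_isCoh F hF x
  obtain ⟨q, hq, rfl⟩ := exists_mem_support_comap_eq (A := Y.presheaf.stalk (f x))
    (B := X.presheaf.stalk x) (F.presheaf.stalk x) p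
  refine ⟨X.fromSpecStalk x q, ?_, ?_,
    (Groth.Agent.H79.SuppGeneric.mem_support_stalk_iff F x q).mp hq⟩
  · have : X.fromSpecStalk x q ∈ Set.range (X.fromSpecStalk x) := ⟨q, rfl⟩
    rw [Scheme.range_fromSpecStalk] at this
    exact this
  · have := Scheme.SpecMap_stalkMap_fromSpecStalk f (x := x)
    have h2 := congrArg (fun g => g.base q) this
    exact h2.symm

/-- the restriction of a coherent module to a fibre is nonzero at the points of the support. -/
theorem nontrivial_fibre_stalk (f : X ⟶ Y) (F : X.Modules) (hF : Coh.IsCoh F) (y : Y)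
    (x' : f.fiber y) (h : Nontrivial (F.presheaf.stalk (f.fiberι y x'))) :
    Nontrivial (((Scheme.Modules.pullback (f.fiberι y)).obj F).presheaf.stalk x') := by
  letI := ((f.fiberι y).stalkMap x').hom.toAlgebra
  let e := Groth.Agent.H79.PullStalkLength.pullbackStalkEquiv (f.fiberι y) x' F
  have hs : Function.Surjective (algebraMap (X.presheaf.stalk (f.fiberι y x'))
      ((f.fiber y).presheaf.stalk x')) := (f.fiberι y).stalkMap_surjective x'
  haveI : Module.Finite (X.presheaf.stalk (f.fiberι y x')) ((f.fiber y).presheaf.stalk x') :=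
    Module.Finite.of_surjective (Algebra.linearMap _ _) hs
  haveI := Groth.Agent.H13.finite_stalk_of_isCoh F hF (f.fiberι y x')
  rw [← not_subsingleton_iff_nontrivial]
  intro hsub
  have h1 : Subsingleton (((f.fiber y).presheaf.stalk x') ⊗[X.presheaf.stalk (f.fiberι y x')]
      (F.presheaf.stalk (f.fiberι y x'))) := e.symm.toEquiv.injective.subsingleton
  rcases (Groth.Agent.H71.QCoh.subsingleton_tensor_iff_of_isLocalRing _ _).mp h1 with h2 | h2
  · exact not_subsingleton _ h2
  · exact not_subsingleton _ h2

/-- every point of the support of the restriction to a fibre is a specialization of an associated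
point of the restriction. -/
theorem exists_isAssPoint_fibre_specializes (f : X ⟶ Y) (F : X.Modules) (hF : Coh.IsCoh F) (y : Y)
    (w₀ : f.fiber y) (h : Nontrivial (F.presheaf.stalk (f.fiberι y w₀))) :
    ∃ w : f.fiber y, Curv2.IsAssPoint ((Scheme.Modules.pullback (f.fiberι y)).obj F) w ∧
      w ⤳ w₀ := by
  have hcoh := Groth.Agent.H99.FibModProp.isCoh_pullback (f.fiberι y) F hF
  haveI : ((Scheme.Modules.pullback (f.fiberι y)).obj F).IsQuasicoherent := hcoh.1
  obtain ⟨w, hw1, hw2, hw3⟩ := Groth.Agent.H79.SuppGeneric.exists_generic_specializes _ hcoh w₀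
    (nontrivial_fibre_stalk f F hF y w₀ h)
  exact ⟨w, Groth.Agent.H79.SuppGeneric.isAssPoint_of_generic _ w hw1 hw3, hw2⟩

end Scheme

end Groth.Agent.H29.AssTensor
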