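import Mathlib
import Groth.Prelude.Def_CAlg
import Groth.Agent.H46.CIField
import Groth.Agent.H14.SerreNormal
import Groth.Agent.H14.SerreLoc
import Groth.Agent.H54.Catenary

/-!
# Complete intersections in a polynomial ring: Cohen–Macaulayness from a height condition,
`(S_k)`, and the graded injectivity into the localization at the vertex (helper29)
-/

set_option autoImplicit false
set_option linter.style.haveILetI false
universe u

namespace Groth.Agent.H29.CINormal

open RingTheory.Sequence IsLocalRing MvPolynomial

section CM

variable (k : Type u) [Field k] (n : ℕ)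

/-- localizations at primes of `k[x]/(f_1..f_c)` with `ht (f_1..f_c) ≥ c` are Cohen–Macaulay -/
theorem isCM_atPrime_of_height (c : ℕ) (f : Fin c → MvPolynomial (Fin n) k)
    (hht : (c : ℕ∞) ≤ (Ideal.span (Set.range f)).height)
    {T : Type u} [CommRing T] (φ : MvPolynomial (Fin n) k →+* T) (hφ : Function.Surjective φ)
    (hker : RingHom.ker φ = Ideal.span (Set.range f)) (p : Ideal T) [hp : p.IsPrime] :
    LocCoh.IsCohenMacaulayLocalRing (Localization.AtPrime p) := by
  have hq' : (p.comap φ).IsPrime := Ideal.comap_isPrime φ p
  have hfq : Ideal.span (Set.range f) ≤ p.comap φ := by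
    rw [← hker]
    intro x hx
    change φ x ∈ p
    rw [show φ x = 0 from hx]
    exact zero_mem _
  have hCM : LocCoh.IsCohenMacaulayLocalRing (Localization.AtPrime (p.comap φ)) :=
    Groth.Agent.H46.CIField.isCM_of_isRegularLocalRing _
  have hmem' : ∀ i, algebraMap (MvPolynomial (Fin n) k) (Localization.AtPrime (p.comap φ)) (f i) ∈
      maximalIdeal (Localization.AtPrime (p.comap φ)) := by
    intro i
    rw [← IsLocalization.AtPrime.map_eq_maximalIdeal (p.comap φ)
      (Localization.AtPrime (p.comap φ))]
    exact Ideal.mem_map_of_mem _ (hfq (Ideal.subset_span (Set.mem_range_self i)))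
  have hreg : IsWeaklyRegular (Localization.AtPrime (p.comap φ))
      (List.ofFn fun i => algebraMap (MvPolynomial (Fin n) k)
        (Localization.AtPrime (p.comap φ)) (f i)) := by
    refine Groth.Agent.H81.CIGor.isWeaklyRegular_ofFn_of_height _ hCM c _ hmem' ?_
    have h1 : Ideal.span (Set.range fun i =>
        algebraMap (MvPolynomial (Fin n) k) (Localization.AtPrime (p.comap φ)) (f i)) =
        (Ideal.span (Set.range f)).map (algebraMap _ (Localization.AtPrime (p.comap φ))) := by
      rw [Ideal.map_span, ← Set.range_comp]
      rfl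
    rw [h1, ← IsLocalization.height_under (p.comap φ).primeCompl]
    exact hht.trans (Ideal.height_mono Ideal.le_comap_map)
  have hmem : ∀ x ∈ (List.ofFn fun i => algebraMap (MvPolynomial (Fin n) k)
      (Localization.AtPrime (p.comap φ)) (f i)),
      x ∈ @maximalIdeal (Localization.AtPrime (p.comap φ)) _ hCM.toIsLocalRing := by
    intro x hx
    rw [List.mem_ofFn] at hx
    obtain ⟨i, rfl⟩ := hx
    exact hmem' i
  have hCM' := Groth.Agent.H46.CIField.isCM_quotient_ofList _ hCM _ hmem hreg
  have hIL : Ideal.ofList (List.ofFn fun i => algebraMap (MvPolynomial (Fin n) k)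
      (Localization.AtPrime (p.comap φ)) (f i)) =
      (RingHom.ker φ).map (algebraMap (MvPolynomial (Fin n) k)
        (Localization.AtPrime (p.comap φ))) := by
    rw [hker, Groth.Agent.H81.CIGor.ofList_ofFn, Ideal.map_span, ← Set.range_comp]
    rfl
  rw [hIL] at hCM'
  exact Groth.Agent.H46.CIField.isCM_atPrime_of_quotient_localization φ hφ p hCM'

end CM

section Sk

/-- a Noetherian ring all of whose local rings are Cohen–Macaulay satisfies `(S_k)` for all `k` -/
theorem hasSk_of_forall_isCM (T : Type u) [CommRing T] [IsNoetherianRing T]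
    (h : ∀ (p : Ideal T) [p.IsPrime], LocCoh.IsCohenMacaulayLocalRing (Localization.AtPrime p))
    (j : ℕ) : LocCoh.HasSk j T T := by
  rw [Groth.Agent.H14.hasSk_self_iff]
  intro p hp
  have h1 := (Groth.Agent.H72.FlatCM.isCohenMacaulayLocalRing_iff (Localization.AtPrime p)).mp
    (h p)
  rw [IsLocalization.AtPrime.ringKrullDim_eq_height p (Localization.AtPrime p)] at h1
  have h2 : p.height = LocCoh.depth (Localization.AtPrime p) (Localization.AtPrime p) := by
    exact_mod_cast h1
  refine (min_le_right _ _).trans (le_of_eq ?_)
  rw [h2]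
  rfl

/-- the height of the maximal ideal of `T_Q` is the height of `Q` -/
theorem maximalIdeal_height_atPrime (T : Type u) [CommRing T] (Q : Ideal T) [Q.IsPrime] :
    (maximalIdeal (Localization.AtPrime Q)).height = Q.height := by
  have h1 : ringKrullDim (Localization.AtPrime Q) = Q.height :=
    IsLocalization.AtPrime.ringKrullDim_eq_height Q _
  rw [← IsLocalRing.maximalIdeal_height_eq_ringKrullDim] at h1
  exact_mod_cast h1

/-- a Noetherian normal local domain of height at most one is regular -/
theorem isRegularLocalRing_atPrime_of_height_le_one (T : Type u) [CommRing T] [IsNoetherianRing T]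
    (Q : Ideal T) [Q.IsPrime] (hdom : IsDomain (Localization.AtPrime Q))
    (hic : IsIntegrallyClosed (Localization.AtPrime Q)) (hht : Q.height ≤ 1) :
    IsRegularLocalRing (Localization.AtPrime Q) := by
  apply Groth.Agent.H14.isRegularLocalRing_of_isIntegrallyClosed_of_dim_le_one
  rw [maximalIdeal_height_atPrime]
  exact hht

end Sk


section Graded

attribute [local instance] MvPolynomial.gradedAlgebra

theorem homogeneousComponent_mem_of_mul_mem {σ : Type*} {k : Type*} [Field k]
    (J : Ideal (MvPolynomial σ k))
    (hJ : J.IsHomogeneous (homogeneousSubmodule σ k)) (s a : MvPolynomial σ k)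
    (hs : constantCoeff s ≠ 0) (hsa : s * a ∈ J) (d : ℕ) : homogeneousComponent d a ∈ J := by
  classical
  induction d using Nat.strong_induction_on with
  | _ d ih =>
    set a' := a - ∑ j ∈ Finset.range d, homogeneousComponent j a with ha'
    have hsum : ∑ j ∈ Finset.range d, homogeneousComponent j a ∈ J :=
      J.sum_mem (fun j hj => ih j (Finset.mem_range.mp hj))
    have h1 : s * a' ∈ J := by
      rw [ha', mul_sub]
      exact J.sub_mem hsa (J.mul_mem_left _ hsum)
    have h2 := homogeneousComponent_mem_of_mem hJ h1 d
    -- `a' ∈ 𝔪^d`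
    have ha'mem : a' ∈ idealOfVars σ k ^ d := by
      rw [mem_pow_idealOfVars_iff']
      intro x hx
      rw [ha', coeff_sub, coeff_sum]
      simp_rw [coeff_homogeneousComponent]
      rw [Finset.sum_ite_eq, if_pos (Finset.mem_range.mpr hx), sub_self]
    -- decompose `s`
    set c := constantCoeff s with hc
    have hsp : s - C c ∈ idealOfVars σ k := by
      have h := (mem_pow_idealOfVars_iff' (σ := σ) (R := k) 1 (s - C c)).mpr (by
        intro x hx
        have hx0 : x = 0 := by
          rw [Nat.lt_one_iff, Finsupp.degree_eq_zero_iff] at hx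
          exact hx
        rw [hx0, coeff_sub, coeff_C, if_pos rfl, hc, constantCoeff_eq, sub_self])
      rwa [pow_one] at h
    have hprod : (s - C c) * a' ∈ idealOfVars σ k ^ (d + 1) := by
      rw [pow_succ']
      exact Ideal.mul_mem_mul hsp ha'mem
    have hzero : homogeneousComponent d ((s - C c) * a') = 0 := by
      apply homogeneousComponent_eq_zero'
      intro x hx hxd
      rw [mem_support_iff] at hx
      exact hx ((mem_pow_idealOfVars_iff' (d + 1) _).mp hprod x (by omega))
    have hcomp : homogeneousComponent d a' = homogeneousComponent d a := by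
      rw [ha', map_sub, map_sum]
      have : ∑ j ∈ Finset.range d, homogeneousComponent d (homogeneousComponent j a) = 0 := by
        apply Finset.sum_eq_zero
        intro j hj
        rw [homogeneousComponent_of_mem (homogeneousComponent_mem j a),
          if_neg (Finset.mem_range.mp hj).ne']
      rw [this, sub_zero]
    have hdecomp : s * a' = C c * a' + (s - C c) * a' := by ring
    rw [hdecomp, map_add, hzero, add_zero, homogeneousComponent_C_mul, hcomp] at h2
    have h3 := J.mul_mem_left (C c⁻¹) h2
    rwa [← mul_assoc, ← C_mul, inv_mul_cancel₀ hs, C_1, one_mul] at h3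

theorem mem_of_mul_mem {σ : Type*} {k : Type*} [Field k]
    (J : Ideal (MvPolynomial σ k))
    (hJ : J.IsHomogeneous (homogeneousSubmodule σ k)) (s a : MvPolynomial σ k)
    (hs : constantCoeff s ≠ 0) (hsa : s * a ∈ J) : a ∈ J :=
  (mem_iff_homogeneousComponent_mem hJ a).mpr
    (fun d => homogeneousComponent_mem_of_mul_mem J hJ s a hs hsa d)

theorem isHomogeneous_span_range {σ : Type*} {k : Type*} [Field k] {ι : Type*}
    (f : ι → MvPolynomial σ k) (d : ι → ℕ) (hf : ∀ i, (f i).IsHomogeneous (d i)) :
    (Ideal.span (Set.range f)).IsHomogeneous (homogeneousSubmodule σ k) := by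
  apply Ideal.homogeneous_span
  rintro _ ⟨i, rfl⟩
  exact ⟨d i, (mem_homogeneousSubmodule _ _).mpr (hf i)⟩


/-- the irrelevant ideal is the kernel of the constant coefficient map -/
theorem idealOfVars_eq_ker (k : Type*) [Field k] (σ : Type*) :
    idealOfVars σ k = RingHom.ker (constantCoeff : MvPolynomial σ k →+* k) := by
  ext p
  have h := mem_pow_idealOfVars_iff' (σ := σ) (R := k) 1 p
  rw [pow_one] at h
  rw [h, RingHom.mem_ker, constantCoeff_eq]
  constructor
  · intro hp
    exact hp 0 (by simp)
  · intro hp x hx
    have : x = 0 := by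
      rw [Nat.lt_one_iff, Finsupp.degree_eq_zero_iff] at hx
      exact hx
    rw [this]
    exact hp

theorem idealOfVars_isMaximal (k : Type*) [Field k] (σ : Type*) :
    (idealOfVars σ k).IsMaximal := by
  rw [idealOfVars_eq_ker]
  exact RingHom.ker_isMaximal_of_surjective _ (fun c => ⟨C c, by simp⟩)

end Graded

end Groth.Agent.H29.CINormal
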