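import Mathlib
import Groth.Agent.H29.CMLocusFT2

set_option autoImplicit false
set_option linter.style.haveILetI false
universe u

namespace Groth.Agent.H29.CMLocusFT

open IsLocalRing CategoryTheory

section KL

variable (k : Type u) [Field k] (N : ℕ) {S : Type u} [CommRing S] [Algebra k S]
  [Algebra.FiniteType k S]
  [Algebra (MvPolynomial (Fin N) k) S]
  (hf : Function.Surjective (algebraMap (MvPolynomial (Fin N) k) S))

include hf in
/-- Numerical data at a point: `pd = e`, `localDim = b + c`, `depth S_q = δ ≤ b = dim S_q`,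
`e + δ + c = N`. -/
theorem exists_numerics (q : PrimeSpectrum S) :
    ∃ e b c δ : ℕ,
      projectiveDimension (Groth.Agent.H17.PdLocus.locMod (MvPolynomial (Fin N) k) S
          (PrimeSpectrum.comap (algebraMap (MvPolynomial (Fin N) k) S) q)) = (e : WithBot ℕ∞) ∧
      FlatMor.localDim (PrimeSpectrum S) q = ((b + c : ℕ) : WithBot ℕ∞) ∧
      Order.height q = (b : ℕ∞) ∧ Order.coheight q = (c : ℕ∞) ∧
      δ ≤ b ∧ e + δ + c = N ∧
      (LocCoh.IsCohenMacaulayLocalRing (Localization.AtPrime q.asIdeal) ↔ b = δ) := by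
  set R := MvPolynomial (Fin N) k with hR
  set Q : Ideal R := q.asIdeal.under R with hQ
  haveI : q.asIdeal.LiesOver Q := ⟨rfl⟩
  letI := Localization.AtPrime.algebraOfLiesOver Q q.asIdeal
  haveI : IsNoetherianRing S := Algebra.FiniteType.isNoetherianRing k S
  haveI : IsNoetherianRing (Localization.AtPrime q.asIdeal) :=
    IsLocalization.isNoetherianRing q.asIdeal.primeCompl _ inferInstance
  haveI : IsRegularLocalRing (Localization.AtPrime Q) := inferInstance
  obtain ⟨a, ha⟩ := Groth.Agent.H72.FlatCM.exists_ringKrullDim_eq_natCast (Localization.AtPrime Q)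
  obtain ⟨b, hb⟩ := Groth.Agent.H72.FlatCM.exists_ringKrullDim_eq_natCast
    (Localization.AtPrime q.asIdeal)
  -- depth of `A`
  have hCMA := Groth.Agent.H26.CMFlat.isCohenMacaulayLocalRing_of_isRegularLocalRing
    (Localization.AtPrime Q)
  have hdA : ringKrullDim (Localization.AtPrime Q) =
      ((LocCoh.depth (Localization.AtPrime Q) (Localization.AtPrime Q) : ℕ∞) : WithBot ℕ∞) :=
    (Groth.Agent.H72.FlatCM.isCohenMacaulayLocalRing_iff _).mp hCMA
  -- depth of `B`
  have hdB := Groth.Agent.H72.FlatCM.depth_le_ringKrullDim (Localization.AtPrime q.asIdeal)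
  -- the localized module
  obtain ⟨e0⟩ := nonempty_linearEquiv hf q.asIdeal
  haveI : Module.Finite R S := Module.Finite.of_surjective (Algebra.linearMap R S) hf
  haveI : Module.Finite (Localization.AtPrime Q) (LocalizedModule Q.primeCompl S) :=
    Module.Finite.of_isLocalizedModule Q.primeCompl (LocalizedModule.mkLinearMap Q.primeCompl S)
  haveI : Nontrivial (LocalizedModule Q.primeCompl S) := e0.toEquiv.nontrivial
  have hdL := depth_localizedModule_eq hf q.asIdeal
  -- projective dimension
  have hpdLT := Groth.Agent.Lead.RLR.hasProjectiveDimensionLT (Localization.AtPrime Q) a ha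
    (ModuleCat.of (Localization.AtPrime Q) (LocalizedModule Q.primeCompl S))
  have hpd_le : projectiveDimension (ModuleCat.of (Localization.AtPrime Q)
      (LocalizedModule Q.primeCompl S)) ≤ (a : WithBot ℕ∞) :=
    (projectiveDimension_le_iff _ _).mpr hpdLT
  have hpd_ne_top : projectiveDimension (ModuleCat.of (Localization.AtPrime Q)
      (LocalizedModule Q.primeCompl S)) ≠ ⊤ := by
    intro h
    rw [h, top_le_iff] at hpd_le
    have h1 : ((a : ℕ∞) : WithBot ℕ∞) = ((⊤ : ℕ∞) : WithBot ℕ∞) := hpd_le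
    exact ENat.natCast_ne_top a (WithBot.coe_inj.mp h1)
  obtain ⟨e, he⟩ := Groth.Agent.H29.AB.exists_nat_pd _ hpd_ne_top (fun h =>
    not_subsingleton (LocalizedModule Q.primeCompl S) ((ModuleCat.isZero_iff_subsingleton).mp h))
  have hAB := Groth.Agent.H29.AB.auslander_buchsbaum (LocalizedModule Q.primeCompl S) e he
  -- heights and coheights
  have hR1 := Groth.Agent.H11.FtDim.height_add_coheight_eq k R
    (PrimeSpectrum.comap (algebraMap R S) q)
  have hRdim : ringKrullDim R = (N : WithBot ℕ∞) := by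
    rw [MvPolynomial.ringKrullDim_of_isNoetherianRing, ringKrullDim_eq_zero_of_field]
    simp
  have hS1 := Groth.Agent.H11.FtDim.localDim_eq_height_add_coheight (k := k) q
  have hcoh := Groth.Agent.H11.FtDimBC.coheight_comap_of_surjective (algebraMap R S) hf q
  have hhQ : Order.height (PrimeSpectrum.comap (algebraMap R S) q) = (a : ℕ∞) := by
    have h1 := IsLocalization.AtPrime.ringKrullDim_eq_height Q (Localization.AtPrime Q)
    rw [ha] at h1
    have h2 : Q.height = Order.height (PrimeSpectrum.comap (algebraMap R S) q) :=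
      PrimeSpectrum.height_eq_orderHeight (PrimeSpectrum.comap (algebraMap R S) q)
    rw [← h2]
    exact_mod_cast h1.symm
  have hhq : Order.height q = (b : ℕ∞) := by
    have h1 := IsLocalization.AtPrime.ringKrullDim_eq_height q.asIdeal
      (Localization.AtPrime q.asIdeal)
    rw [hb] at h1
    rw [← PrimeSpectrum.height_eq_orderHeight q]
    exact_mod_cast h1.symm
  rw [hhQ, hcoh, hRdim] at hR1
  rw [hhq] at hS1
  -- the coheight is a natural number
  have hc_ne_top : Order.coheight q ≠ ⊤ := by
    intro h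
    rw [h, add_top] at hR1
    have h1 : ((⊤ : ℕ∞) : WithBot ℕ∞) = ((N : ℕ∞) : WithBot ℕ∞) := hR1
    exact ENat.natCast_ne_top N (WithBot.coe_inj.mp h1).symm
  obtain ⟨c, hc⟩ := ENat.ne_top_iff_exists.mp hc_ne_top
  rw [← hc] at hR1 hS1
  have hacN : a + c = N := by exact_mod_cast hR1
  -- depths as natural numbers
  rw [ha] at hdA
  rw [hb] at hdB
  have hδ_ne_top : LocCoh.depth (Localization.AtPrime q.asIdeal) (Localization.AtPrime q.asIdeal) ≠
      ⊤ := by
    intro h
    rw [h] at hdB
    have h1 : ((⊤ : ℕ∞) : WithBot ℕ∞) ≤ ((b : ℕ∞) : WithBot ℕ∞) := hdB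
    exact absurd (WithBot.coe_le_coe.mp h1) (by simp)
  obtain ⟨δ, hδ⟩ := ENat.ne_top_iff_exists.mp hδ_ne_top
  rw [← hδ] at hdB
  have hδb : δ ≤ b := by exact_mod_cast hdB
  rw [hdL, ← hδ] at hAB
  have hdA' : LocCoh.depth (Localization.AtPrime Q) (Localization.AtPrime Q) = (a : ℕ∞) := by
    have h1 : ((a : ℕ∞) : WithBot ℕ∞) =
      ((LocCoh.depth (Localization.AtPrime Q) (Localization.AtPrime Q) : ℕ∞) : WithBot ℕ∞) := hdA
    exact (WithBot.coe_inj.mp h1).symm
  rw [hdA'] at hAB
  have haeδ : a = e + δ := by exact_mod_cast hAB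
  refine ⟨e, b, c, δ, he, ?_, hhq, hc.symm, hδb, by omega, ?_⟩
  · rw [hS1]
    push_cast
    rfl
  · rw [Groth.Agent.H72.FlatCM.isCohenMacaulayLocalRing_iff, hb, ← hδ]
    constructor
    · intro h
      exact_mod_cast h
    · intro h
      rw [h]
      rfl

end KL

end Groth.Agent.H29.CMLocusFT
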