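import Mathlib

set_option autoImplicit false
universe u

namespace Groth.Agent.H29.ClopenIdem

open PrimeSpectrum

variable {R : Type u} [CommRing R]

/-- An idempotent whose basic open is empty vanishes. -/
theorem eq_zero_of_basicOpen_eq_bot {e : R} (he : IsIdempotentElem e)
    (h : (basicOpen e : Set (PrimeSpectrum R)) = ∅) : e = 0 := by
  apply basicOpen_injOn_isIdempotentElem he IsIdempotentElem.zero
  apply SetLike.ext'
  rw [h]
  simp

/-- The basic open of the complementary idempotent. -/
theorem basicOpen_one_sub {e : R} (he : IsIdempotentElem e) :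
    (basicOpen (1 - e) : Set (PrimeSpectrum R)) = (basicOpen e : Set (PrimeSpectrum R))ᶜ := by
  have mul : (1 - e) * e = 0 := by rw [sub_mul, one_mul, he.eq, sub_self]
  have add : (1 - e) + e = 1 := by ring
  rw [basicOpen_eq_zeroLocus_of_mul_add (1 - e) e mul add, basicOpen_eq_zeroLocus_compl, compl_compl]

/-- A finite clopen partition of `Spec R` comes from a complete family of orthogonal
idempotents. -/
theorem exists_completeOrthogonalIdempotents {ι : Type*} [Fintype ι]
    (Y : ι → Set (PrimeSpectrum R)) (hY : ∀ i, IsClopen (Y i))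
    (hdisj : ∀ i j, i ≠ j → Disjoint (Y i) (Y j)) (hcov : ⋃ i, Y i = Set.univ) :
    ∃ e : ι → R, CompleteOrthogonalIdempotents e ∧
      ∀ i, Y i = (basicOpen (e i) : Set (PrimeSpectrum R)) := by
  classical
  choose e he heq using fun i => exists_idempotent_basicOpen_eq_of_isClopen (hY i)
  have hortho : OrthogonalIdempotents e := by
    refine ⟨he, ?_⟩
    intro i j hij
    apply eq_zero_of_basicOpen_eq_bot ((he i).mul (he j))
    rw [basicOpen_mul]
    change (basicOpen (e i) : Set (PrimeSpectrum R)) ∩ (basicOpen (e j) : Set _) = ∅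
    rw [← heq i, ← heq j]
    exact (hdisj i j hij).inter_eq
  refine ⟨e, CompleteOrthogonalIdempotents.of_prod_one_sub hortho ?_, heq⟩
  have hidem : IsIdempotentElem (∏ i, (1 - e i)) := by
    unfold IsIdempotentElem
    rw [← Finset.prod_mul_distrib]
    exact Finset.prod_congr rfl fun i _ => (he i).one_sub.eq
  apply eq_zero_of_basicOpen_eq_bot hidem
  rw [Set.eq_empty_iff_forall_notMem]
  intro x hx
  have hxi : x ∈ ⋃ i, Y i := by rw [hcov]; trivial
  obtain ⟨i, hi⟩ := Set.mem_iUnion.mp hxi
  have h1 : x ∈ (basicOpen (1 - e i) : Set (PrimeSpectrum R)) := by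
    have hx' : (∏ i, (1 - e i)) ∉ x.asIdeal := hx
    change (1 - e i) ∉ x.asIdeal
    intro hmem
    apply hx'
    rw [← Finset.mul_prod_erase Finset.univ _ (Finset.mem_univ i)]
    exact Ideal.mul_mem_right _ _ hmem
  rw [basicOpen_one_sub (he i), ← heq i] at h1
  exact h1 hi

end Groth.Agent.H29.ClopenIdem
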