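import Mathlib
import Groth.Agent.H29.CMLocusFT3
import Groth.Agent.H29.ClopenIdem

set_option autoImplicit false
set_option linter.style.haveILetI false
universe u

namespace Groth.Agent.H29.CMDecomp

open IsLocalRing CategoryTheory Groth.Agent.H11.FtDim Groth.Agent.H29.CMLocusFT

section Height

variable {A : Type u} [CommRing A]

/-- If all primes below `P` contain `I`, the height of `P/I` in `A/I` is the height of `P`. -/
theorem height_mapMk_eq (I : Ideal A) (P : PrimeSpectrum A) (h : I ≤ P.asIdeal)
    (hall : ∀ Q : PrimeSpectrum A, Q ≤ P → I ≤ Q.asIdeal) :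
    Order.height (mapMk I P h) = Order.height P := by
  apply le_antisymm (height_mapMk_le I P h)
  apply Order.height_le
  intro c hc
  have h1 := length_le_height_mapMk I c (hall c.head (hc ▸ c.head_le_last))
  have h2 : ∀ (P' : PrimeSpectrum A) (h' : I ≤ P'.asIdeal), P' = P →
      Order.height (mapMk I P' h') = Order.height (mapMk I P h) := by
    rintro _ _ rfl; rfl
  rw [h2 _ _ hc] at h1
  exact h1

end Height

section Main

variable (k S : Type u) [Field k] [CommRing S] [Algebra k S] [Algebra.FiniteType k S]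

/-- S9156. -/
theorem main [LocCoh.IsCohenMacaulayRing S] :
    ∃ (N : ℕ) (T : Fin (N + 1) → Type u) (_ : ∀ d, CommRing (T d)) (_ : ∀ d, Algebra k (T d)),
      Nonempty (S ≃ₐ[k] ((d : Fin (N + 1)) → T d)) ∧
        ∀ (d : Fin (N + 1)) (m : Ideal (T d)), m.IsMaximal → m.height = (d : ℕ) := by
  classical
  obtain ⟨N, f, hf⟩ := Algebra.FiniteType.iff_quotient_mvPolynomial''.mp
    (inferInstance : Algebra.FiniteType k S)
  letI : Algebra (MvPolynomial (Fin N) k) S := f.toRingHom.toAlgebra
  have hf' : Function.Surjective (algebraMap (MvPolynomial (Fin N) k) S) := hf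
  haveI : Module.Finite (MvPolynomial (Fin N) k) S :=
    Module.Finite.of_surjective (Algebra.linearMap (MvPolynomial (Fin N) k) S) hf'
  -- numerical data at each point
  have hnum : ∀ q : PrimeSpectrum S, ∃ e b c : ℕ,
      projectiveDimension (Groth.Agent.H17.PdLocus.locMod (MvPolynomial (Fin N) k) S
          (PrimeSpectrum.comap (algebraMap (MvPolynomial (Fin N) k) S) q)) = (e : WithBot ℕ∞) ∧
      FlatMor.localDim (PrimeSpectrum S) q = ((b + c : ℕ) : WithBot ℕ∞) ∧
      Order.height q = (b : ℕ∞) ∧ Order.coheight q = (c : ℕ∞) ∧ e + b + c = N := by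
    intro q
    obtain ⟨e, b, c, δ, h1, h2, h3, h4, h5, h6, h7⟩ := exists_numerics k N hf' q
    have hCM : LocCoh.IsCohenMacaulayLocalRing (Localization.AtPrime q.asIdeal) :=
      LocCoh.IsCohenMacaulayRing.isCohenMacaulayLocalRing_localization q.asIdeal
    have hbδ : b = δ := h7.mp hCM
    exact ⟨e, b, c, h1, h2, h3, h4, by omega⟩
  -- the sets `localDim ≤ d` are clopen
  have hU : ∀ d : ℕ, IsClopen {q : PrimeSpectrum S |
      FlatMor.localDim (PrimeSpectrum S) q ≤ (d : WithBot ℕ∞)} := by
    intro d
    refine ⟨?_, isOpen_setOf_localDim_le d⟩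
    rw [← isOpen_compl_iff]
    by_cases hdN : d + 1 ≤ N
    · have hset : {q : PrimeSpectrum S |
          FlatMor.localDim (PrimeSpectrum S) q ≤ (d : WithBot ℕ∞)}ᶜ =
          (PrimeSpectrum.comap (algebraMap (MvPolynomial (Fin N) k) S)) ⁻¹'
          {Q | projectiveDimension (Groth.Agent.H17.PdLocus.locMod (MvPolynomial (Fin N) k) S Q) ≤
            ((N - (d + 1) : ℕ) : WithBot ℕ∞)} := by
        ext q
        obtain ⟨e, b, c, h1, h2, -, -, h5⟩ := hnum q
        simp only [Set.mem_compl_iff, Set.mem_ofPred_eq, Set.mem_preimage]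
        rw [h1, h2]
        constructor
        · intro h
          have h' : ¬ (b + c ≤ d) := fun hh => h (by exact_mod_cast hh)
          have : e ≤ N - (d + 1) := by omega
          exact_mod_cast this
        · intro h hh
          have h' : e ≤ N - (d + 1) := by exact_mod_cast h
          have hh' : b + c ≤ d := by exact_mod_cast hh
          omega
      rw [hset]
      exact (Groth.Agent.H17.PdLocus.isOpen_pd_le (MvPolynomial (Fin N) k) (N - (d + 1)) S).preimage
        (PrimeSpectrum.continuous_comap (algebraMap (MvPolynomial (Fin N) k) S))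
    · have hset : {q : PrimeSpectrum S |
          FlatMor.localDim (PrimeSpectrum S) q ≤ (d : WithBot ℕ∞)}ᶜ = ∅ := by
        rw [Set.eq_empty_iff_forall_notMem]
        intro q hq
        obtain ⟨e, b, c, h1, h2, -, -, h5⟩ := hnum q
        apply hq
        change FlatMor.localDim (PrimeSpectrum S) q ≤ (d : WithBot ℕ∞)
        rw [h2]
        have : b + c ≤ d := by omega
        exact_mod_cast this
      rw [hset]
      exact isOpen_empty
  -- the sets `localDim = d` are clopen
  let Y : Fin (N + 1) → Set (PrimeSpectrum S) := fun d =>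
    {q | FlatMor.localDim (PrimeSpectrum S) q = ((d : ℕ) : WithBot ℕ∞)}
  have hY : ∀ d, IsClopen (Y d) := by
    intro d
    rcases Nat.eq_zero_or_pos (d : ℕ) with hd0 | hdpos
    · have hset : Y d = {q : PrimeSpectrum S |
          FlatMor.localDim (PrimeSpectrum S) q ≤ ((d : ℕ) : WithBot ℕ∞)} := by
        ext q
        obtain ⟨e, b, c, h1, h2, -, -, h5⟩ := hnum q
        change FlatMor.localDim (PrimeSpectrum S) q = _ ↔ FlatMor.localDim (PrimeSpectrum S) q ≤ _
        rw [h2, hd0]
        constructor
        · intro h; rw [h]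
        · intro h
          have h' : b + c ≤ 0 := by exact_mod_cast h
          have : b + c = 0 := by omega
          rw [this]
      rw [hset]
      exact hU d
    · have hset : Y d = {q : PrimeSpectrum S |
          FlatMor.localDim (PrimeSpectrum S) q ≤ ((d : ℕ) : WithBot ℕ∞)} ∩
          {q : PrimeSpectrum S |
          FlatMor.localDim (PrimeSpectrum S) q ≤ (((d : ℕ) - 1 : ℕ) : WithBot ℕ∞)}ᶜ := by
        ext q
        obtain ⟨e, b, c, h1, h2, -, -, h5⟩ := hnum q
        change FlatMor.localDim (PrimeSpectrum S) q = _ ↔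
          FlatMor.localDim (PrimeSpectrum S) q ≤ _ ∧ ¬ FlatMor.localDim (PrimeSpectrum S) q ≤ _
        rw [h2]
        constructor
        · intro h
          have h' : b + c = (d : ℕ) := by exact_mod_cast h
          refine ⟨by rw [h], fun hh => ?_⟩
          have hh' : b + c ≤ (d : ℕ) - 1 := by exact_mod_cast hh
          omega
        · rintro ⟨h3, h4⟩
          have h3' : b + c ≤ (d : ℕ) := by exact_mod_cast h3
          have h4' : ¬ b + c ≤ (d : ℕ) - 1 := fun hh => h4 (by exact_mod_cast hh)
          have : b + c = (d : ℕ) := by omega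
          rw [this]
      rw [hset]
      exact (hU d).inter (hU ((d : ℕ) - 1)).compl
  have hdisj : ∀ i j, i ≠ j → Disjoint (Y i) (Y j) := by
    intro i j hij
    rw [Set.disjoint_left]
    intro q hi hj
    have h1 : FlatMor.localDim (PrimeSpectrum S) q = ((i : ℕ) : WithBot ℕ∞) := hi
    have h2 : FlatMor.localDim (PrimeSpectrum S) q = ((j : ℕ) : WithBot ℕ∞) := hj
    rw [h1] at h2
    have : (i : ℕ) = (j : ℕ) := by exact_mod_cast h2
    exact hij (Fin.ext this)
  have hcov : ⋃ i, Y i = Set.univ := by
    rw [Set.eq_univ_iff_forall]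
    intro q
    obtain ⟨e, b, c, h1, h2, -, -, h5⟩ := hnum q
    rw [Set.mem_iUnion]
    exact ⟨⟨b + c, by omega⟩, h2⟩
  obtain ⟨e, hcoi, heq⟩ := Groth.Agent.H29.ClopenIdem.exists_completeOrthogonalIdempotents Y hY
    hdisj hcov
  refine ⟨N, fun d => S ⧸ Ideal.span {1 - e d}, fun d => inferInstance, fun d => inferInstance,
    ?_, ?_⟩
  · let φ : S →ₐ[k] ((d : Fin (N + 1)) → S ⧸ Ideal.span {1 - e d}) :=
      AlgHom.pi (fun d => Ideal.Quotient.mkₐ k (Ideal.span {1 - e d}))
    have hφ : Function.Bijective φ := hcoi.bijective_pi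
    exact ⟨AlgEquiv.ofBijective φ hφ⟩
  · intro d m hm
    haveI : m.IsPrime := hm.isPrime
    set I : Ideal S := Ideal.span {1 - e d} with hI
    let P : PrimeSpectrum S := PrimeSpectrum.comap (Ideal.Quotient.mk I) ⟨m, inferInstance⟩
    have hIP : I ≤ P.asIdeal := le_comap_mk I ⟨m, inferInstance⟩
    have hPmax : P.asIdeal.IsMaximal :=
      Ideal.comap_isMaximal_of_surjective _ Ideal.Quotient.mk_surjective
    have hedP : e d ∉ P.asIdeal := by
      intro h
      have h1 : 1 - e d ∈ P.asIdeal := hIP (Ideal.subset_span rfl)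
      have : (1 : S) ∈ P.asIdeal := by
        have := P.asIdeal.add_mem h1 h
        simpa using this
      exact P.2.ne_top ((Ideal.eq_top_iff_one _).mpr this)
    have hPY : P ∈ Y d := by
      rw [heq d]
      exact hedP
    obtain ⟨e', b, c, h1, h2, h3, h4, h5⟩ := hnum P
    have hc0 : c = 0 := by
      have hmaxP : IsMax P := by
        intro Q hPQ
        have := hPmax.eq_of_le Q.2.ne_top hPQ
        exact le_of_eq (PrimeSpectrum.ext this).symm
      have : Order.coheight P = 0 := Order.coheight_eq_zero.mpr hmaxP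
      rw [this] at h4
      exact_mod_cast h4.symm
    have hbd : b = (d : ℕ) := by
      have h6 : FlatMor.localDim (PrimeSpectrum S) P = ((d : ℕ) : WithBot ℕ∞) := hPY
      rw [h2] at h6
      have : b + c = (d : ℕ) := by exact_mod_cast h6
      omega
    have hall : ∀ Q : PrimeSpectrum S, Q ≤ P → I ≤ Q.asIdeal := by
      intro Q hQP
      rw [hI, Ideal.span_singleton_le_iff_mem]
      have hedQ : e d ∉ Q.asIdeal := fun h => hedP (hQP h)
      have hmul : e d * (1 - e d) ∈ Q.asIdeal := by
        have : e d * (1 - e d) = 0 := by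
          rw [mul_sub, mul_one, (hcoi.idem d).eq, sub_self]
        rw [this]
        exact Q.asIdeal.zero_mem
      exact (Q.2.mem_or_mem hmul).resolve_left hedQ
    have hht := height_mapMk_eq I P hIP hall
    rw [mapMk_comap I ⟨m, inferInstance⟩, h3, hbd] at hht
    rw [PrimeSpectrum.height_eq_orderHeight ⟨m, inferInstance⟩]
    exact hht

end Main

end Groth.Agent.H29.CMDecomp
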