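import Mathlib
import Groth.Prelude.Def_CAlg
import Groth.Agent.H11.FtDim
import Groth.Agent.H29.RelHeight
import Groth.Agent.H29.CM

set_option autoImplicit false
set_option linter.style.haveILetI false
universe u

namespace Groth.Agent.H29.CMEquidim

open IsLocalRing

section Equidim

variable (k : Type u) [Field k] {S : Type u} [CommRing S] [Algebra k S] [Algebra.FiniteType k S]

include k in
/-- In an equidimensional finite type algebra over a field, `ht q + dim S/q = d`. -/
theorem height_add_coheight_eq_of_equidim (d : ℕ)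
    (heq : ∀ p ∈ minimalPrimes S, ringKrullDim (S ⧸ p) = d) (q : PrimeSpectrum S) :
    Order.height q + Order.coheight q = (d : ℕ∞) := by
  have h1 := Groth.Agent.H11.FtDim.localDim_eq_height_add_coheight (k := k) q
  have h2 : FlatMor.localDim (PrimeSpectrum S) q = (d : WithBot ℕ∞) := by
    apply le_antisymm
    · apply Groth.Agent.H11.FtDim.localDim_le (k := k)
      intro p hp _
      exact (heq p hp).le
    · obtain ⟨p, hp, hpq⟩ := Ideal.exists_minimalPrimes_le (bot_le : (⊥ : Ideal S) ≤ q.asIdeal)
      haveI : p.IsPrime := hp.1.1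
      rw [← heq p hp]
      exact Groth.Agent.H11.FtDim.localDim_ge (k := k) q p hpq
  rw [h2] at h1
  have h3 : ((d : ℕ∞) : WithBot ℕ∞) = ((Order.height q + Order.coheight q : ℕ∞) : WithBot ℕ∞) := h1
  exact (WithBot.coe_inj.mp h3).symm

end Equidim

section Loc

variable {R : Type u} [CommRing R]

/-- If every prime between `I` and `s` has height at least `n`, then
`dim (R_s / I R_s) + n ≤ ht s`. -/
theorem ringKrullDim_quotient_localization_add_le (I s : Ideal R) [s.IsPrime] (hIs : I ≤ s) (n h : ℕ)
    (hs : s.height = h)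
    (hn : ∀ P : PrimeSpectrum R, I ≤ P.asIdeal → P.asIdeal ≤ s → (n : ℕ∞) ≤ Order.height P) :
    ringKrullDim (Localization.AtPrime s ⧸ I.map (algebraMap R (Localization.AtPrime s))) +
      (n : WithBot ℕ∞) ≤ (h : WithBot ℕ∞) := by
  set B := Localization.AtPrime s
  set J := I.map (algebraMap R B)
  let φ : R →+* B ⧸ J := (Ideal.Quotient.mk J).comp (algebraMap R B)
  have hinj : Function.Injective (PrimeSpectrum.comap φ) := by
    rw [PrimeSpectrum.comap_comp]
    exact (PrimeSpectrum.localization_comap_injective B s.primeCompl).comp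
      (PrimeSpectrum.comap_injective_of_surjective _ Ideal.Quotient.mk_surjective)
  have hmono : StrictMono (PrimeSpectrum.comap φ) :=
    Monotone.strictMono_of_injective (fun a b hab => Ideal.comap_mono hab) hinj
  have key : ∀ l : LTSeries (PrimeSpectrum (B ⧸ J)), n + l.length ≤ h := by
    intro l
    let l' := l.map (PrimeSpectrum.comap φ) hmono
    have hhead : I ≤ l'.head.asIdeal := by
      intro x hx
      change φ x ∈ l.head.asIdeal
      have : φ x = 0 := by
        change Ideal.Quotient.mk J (algebraMap R B x) = 0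
        exact Ideal.Quotient.eq_zero_iff_mem.mpr (Ideal.mem_map_of_mem _ hx)
      rw [this]
      exact Ideal.zero_mem _
    have hlast : l'.last.asIdeal ≤ s := by
      intro x hx
      by_contra hxs
      have hx' : φ x ∈ l.last.asIdeal := hx
      have hu : IsUnit (algebraMap R B x) :=
        IsLocalization.map_units B (⟨x, hxs⟩ : s.primeCompl)
      exact l.last.2.ne_top (Ideal.eq_top_of_isUnit_mem _ hx' (hu.map (Ideal.Quotient.mk J)))
    have h1 : (n : ℕ∞) ≤ Order.height l'.head :=
      hn l'.head hhead
        (le_trans (show l'.head.asIdeal ≤ l'.last.asIdeal from l'.head_le_last) hlast)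
    have h2 := Groth.Agent.H29.RelHeight.height_head_add_length_le l'
    have h3 : Order.height l'.last ≤ (h : ℕ∞) := by
      rw [← PrimeSpectrum.height_eq_orderHeight, ← hs]
      exact Ideal.height_mono hlast
    have h4 : ((n + l.length : ℕ) : ℕ∞) ≤ (h : ℕ∞) := by
      have hlen : l'.length = l.length := rfl
      calc ((n + l.length : ℕ) : ℕ∞) = (n : ℕ∞) + l'.length := by rw [hlen]; push_cast; rfl
        _ ≤ Order.height l'.head + l'.length := by gcongr
        _ ≤ Order.height l'.last := h2
        _ ≤ h := h3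
    exact_mod_cast h4
  have hnh : n ≤ h := by
    have h1 := hn ⟨s, inferInstance⟩ hIs le_rfl
    rw [← PrimeSpectrum.height_eq_orderHeight] at h1
    change (n : ℕ∞) ≤ s.height at h1
    rw [hs] at h1
    exact_mod_cast h1
  have hdim : ringKrullDim (B ⧸ J) ≤ ((h - n : ℕ) : WithBot ℕ∞) := by
    unfold ringKrullDim Order.krullDim
    refine iSup_le fun l => ?_
    have := key l
    have h5 : l.length ≤ h - n := by omega
    exact_mod_cast h5
  calc ringKrullDim (B ⧸ J) + (n : WithBot ℕ∞) ≤ ((h - n : ℕ) : WithBot ℕ∞) + (n : WithBot ℕ∞) := by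
        gcongr
    _ = (h : WithBot ℕ∞) := by
        have : h - n + n = h := by omega
        exact_mod_cast this

end Loc

section Main

open RingTheory.Sequence Groth.Agent.H29.CML Groth.Agent.H24

variable (k S : Type u) [Field k] [CommRing S] [Algebra k S] [Algebra.FiniteType k S]

include k in
/-- Primes over an ideal of small coheight have large height (equidimensional case). -/
theorem le_height_of_le (d n : ℕ) (heq : ∀ p ∈ minimalPrimes S, ringKrullDim (S ⧸ p) = d)
    (I : Ideal S) (hle : ringKrullDim (S ⧸ I) ≤ ((d - n : ℕ) : WithBot ℕ∞)) (hnd : n ≤ d)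
    (P : PrimeSpectrum S) (hIP : I ≤ P.asIdeal) : (n : ℕ∞) ≤ Order.height P := by
  have h1 := height_add_coheight_eq_of_equidim k d heq P
  have h2 : ringKrullDim (S ⧸ P.asIdeal) ≤ ringKrullDim (S ⧸ I) :=
    ringKrullDim_le_of_surjective (Ideal.Quotient.factor hIP) (Ideal.Quotient.factor_surjective hIP)
  rw [← coheight_eq_ringKrullDim_quotient] at h2
  have h3 : ((Order.coheight P : ℕ∞) : WithBot ℕ∞) ≤ (((d - n : ℕ) : ℕ∞) : WithBot ℕ∞) :=
    h2.trans hle
  have h4 : Order.coheight P ≤ ((d - n : ℕ) : ℕ∞) := WithBot.coe_le_coe.mp h3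
  obtain ⟨c, hc⟩ := ENat.ne_top_iff_exists.mp (ne_top_of_le_ne_top (ENat.natCast_ne_top _) h4)
  rw [← hc] at h1 h4
  have hh_ne_top : Order.height P ≠ ⊤ := by
    intro h
    rw [h, top_add] at h1
    exact ENat.natCast_ne_top d h1.symm
  obtain ⟨a, ha⟩ := ENat.ne_top_iff_exists.mp hh_ne_top
  rw [← ha] at h1 ⊢
  have e1 : a + c = d := by exact_mod_cast h1
  have e2 : c ≤ d - n := by exact_mod_cast h4
  have e3 : n ≤ a := by omega
  exact_mod_cast e3

include k in
/-- S9154. -/
theorem main [LocCoh.IsCohenMacaulayRing S] (d : ℕ)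
    (heq : ∀ p ∈ minimalPrimes S, ringKrullDim (S ⧸ p) = d) (f : List S) (hi : f.length ≤ d)
    (hne : Ideal.ofList f ≠ ⊤)
    (hle : ringKrullDim (S ⧸ Ideal.ofList f) ≤ ((d - f.length : ℕ) : WithBot ℕ∞)) :
    ringKrullDim (S ⧸ Ideal.ofList f) = ((d - f.length : ℕ) : WithBot ℕ∞) ∧
      ∀ (q : Ideal S) [q.IsPrime], Ideal.ofList f ≤ q →
        RingTheory.Sequence.IsRegular (Localization.AtPrime q)
          (f.map (algebraMap S (Localization.AtPrime q))) := by
  classical
  haveI : IsNoetherianRing S := Algebra.FiniteType.isNoetherianRing k S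
  set I := Ideal.ofList f with hI
  set n := f.length with hn
  have hK := le_height_of_le k S d n heq I hle hi
  refine ⟨le_antisymm hle ?_, ?_⟩
  · -- lower bound via Krull's height theorem
    obtain ⟨q, hq⟩ := Ideal.nonempty_minimalPrimes hne
    haveI : q.IsPrime := hq.1.1
    have hht : q.height ≤ (n : ℕ∞) := by
      have hspan : I = Ideal.span (f.toFinset : Set S) := by
        rw [hI, Ideal.ofList, List.coe_toFinset]
      rw [hspan] at hq
      refine (Ideal.height_le_card_of_mem_minimalPrimes_span_finset hq).trans ?_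
      exact_mod_cast List.toFinset_card_le f
    have h1 := height_add_coheight_eq_of_equidim k d heq ⟨q, inferInstance⟩
    rw [← PrimeSpectrum.height_eq_orderHeight] at h1
    change q.height + _ = _ at h1
    have h2 : ringKrullDim (S ⧸ q) ≤ ringKrullDim (S ⧸ I) :=
      ringKrullDim_le_of_surjective (Ideal.Quotient.factor hq.1.2)
        (Ideal.Quotient.factor_surjective hq.1.2)
    refine le_trans ?_ h2
    rw [← coheight_eq_ringKrullDim_quotient ⟨q, inferInstance⟩]
    obtain ⟨a, ha⟩ := ENat.ne_top_iff_exists.mp (ne_top_of_le_ne_top (ENat.natCast_ne_top _) hht)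
    rw [← ha] at h1 hht
    have hc_ne_top : Order.coheight (⟨q, inferInstance⟩ : PrimeSpectrum S) ≠ ⊤ := by
      intro h
      rw [h, add_top] at h1
      exact ENat.natCast_ne_top d h1.symm
    obtain ⟨c, hc⟩ := ENat.ne_top_iff_exists.mp hc_ne_top
    rw [← hc] at h1 ⊢
    have e1 : a + c = d := by exact_mod_cast h1
    have e2 : a ≤ n := by exact_mod_cast hht
    have e3 : d - n ≤ c := by omega
    have e4 : ((d - n : ℕ) : ℕ∞) ≤ (c : ℕ∞) := by exact_mod_cast e3
    exact WithBot.coe_le_coe.mpr e4
  · intro q _ hIq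
    set B := Localization.AtPrime q
    haveI hCMB : LocCoh.IsCohenMacaulayLocalRing B :=
      LocCoh.IsCohenMacaulayRing.isCohenMacaulayLocalRing_localization q
    set xs := f.map (algebraMap S B) with hxs
    have hmem : ∀ x ∈ xs, x ∈ maximalIdeal B := by
      intro x hx
      obtain ⟨y, hy, rfl⟩ := List.mem_map.mp hx
      have hyq : y ∈ q := hIq (Ideal.subset_span hy)
      exact (IsLocalization.AtPrime.to_map_mem_maximal_iff B q y).mpr hyq
    have hofList : Ideal.ofList xs = I.map (algebraMap S B) := by
      rw [hxs, ← Ideal.map_ofList]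
    obtain ⟨b, hb⟩ := ENat.ne_top_iff_exists.mp (Ideal.height_ne_top_of_isPrime (I := q))
    have hdimB : Module.supportDim B B = (b : WithBot ℕ∞) := by
      rw [Module.supportDim_self_eq_ringKrullDim,
        IsLocalization.AtPrime.ringKrullDim_eq_height q B, ← hb]
      rfl
    have hL := ringKrullDim_quotient_localization_add_le I q hIq n b hb.symm
      (fun P hIP _ => hK P hIP)
    have hquot : Module.supportDim B (B ⧸ (Ideal.ofList xs • ⊤ : Submodule B B)) =
        ringKrullDim (B ⧸ I.map (algebraMap S B)) := by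
      have h2 : (Ideal.ofList xs • (⊤ : Submodule B B)) = I.map (algebraMap S B) := by
        rw [smul_eq_mul, Ideal.mul_top, hofList]
      have e2 : (B ⧸ (Ideal.ofList xs • (⊤ : Submodule B B))) ≃ₗ[B]
          (B ⧸ I.map (algebraMap S B)) := Submodule.quotEquivOfEq _ _ h2
      rw [Module.supportDim_eq_of_equiv e2, Module.supportDim_quotient_eq_ringKrullDim]
    obtain ⟨-, hG⟩ := Groth.Agent.H29.DimL.supportDim_le_supportDim_quotient_add_length B xs
      (by
        intro y hy
        rw [IsLocalRing.ringJacobson_eq_maximalIdeal]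
        exact hmem y hy)
    have hlen : xs.length = n := by rw [hxs, List.length_map]
    have hdim : Module.supportDim B (B ⧸ (Ideal.ofList xs • ⊤ : Submodule B B)) + xs.length =
        Module.supportDim B B := by
      apply le_antisymm
      · rw [hquot, hlen, hdimB]
        exact hL
      · exact hG
    have hreg := isWeaklyRegular_of_supportDim_eq xs B hCMB.supportDim_eq_depth hmem hdim
    exact Groth.Agent.H15.isRegular_of_isWeaklyRegular_of_mem (maximalIdeal B) B
      (smul_top_ne_top B) hreg hmem

end Main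

end Groth.Agent.H29.CMEquidim
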