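import Mathlib
import Groth.Agent.H29.CM
import Groth.Agent.H29.DimL
import Groth.Agent.H72.DepthFlat

set_option autoImplicit false

/-! For a Cohen–Macaulay module `M` and a proper ideal `I`:
`dim M = dim M/IM + depth_I M`. -/

namespace Groth.Agent.H29.CMGrade

universe u

open IsLocalRing RingTheory.Sequence Groth.Agent.H15

variable {A : Type u} [CommRing A] [IsLocalRing A] [IsNoetherianRing A]

theorem supportDim_eq_add_idealDepth_aux (I : Ideal A) (hI : I ≠ ⊤) :
    ∀ (n : ℕ) (M : Type u) [AddCommGroup M] [Module A M] [Module.Finite A M],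
      LocCoh.IsCohenMacaulayModule A M → LocCoh.idealDepth I M = n →
      Module.supportDim A M =
        Module.supportDim A (M ⧸ (I • (⊤ : Submodule A M))) + ((n : ℕ∞) : WithBot ℕ∞) := by
  have hIm : I ≤ maximalIdeal A := le_maximalIdeal hI
  intro n
  induction n with
  | zero =>
    intro M _ _ _ hM hn
    obtain ⟨t, ht, hkill⟩ :=
      Groth.Agent.H72.DepthFlat.exists_killed_of_idealDepth_eq_zero I M (by simpa using hn)
    obtain ⟨p, hp, hle⟩ := exists_le_isAssociatedPrime_of_isNoetherianRing A t ht
    have hpass : p ∈ associatedPrimes A M := hp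
    have hIp : I ≤ p := by
      intro a ha
      apply hle
      rw [Submodule.mem_colon_singleton, hkill a ha]
      exact Submodule.zero_mem _
    have hpdim := CML.ringKrullDim_quotient_eq_supportDim_of_isCM M hM p hpass
    have hpsupp : (⟨p, hp.isPrime⟩ : PrimeSpectrum A) ∈
        Module.support A (M ⧸ (I • (⊤ : Submodule A M))) := by
      rw [Module.support_quotient]
      exact ⟨CML.mem_support_of_mem_associatedPrimes M p hpass, hIp⟩
    have h1 := DimL.ringKrullDim_quotient_le_supportDim _ _ hpsupp
    have h2 : Module.supportDim A (M ⧸ (I • (⊤ : Submodule A M))) ≤ Module.supportDim A M :=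
      Module.supportDim_le_of_surjective (Submodule.mkQ _) (Submodule.mkQ_surjective _)
    rw [Nat.cast_zero, WithBot.coe_zero, add_zero]
    exact le_antisymm (hpdim ▸ h1) h2
  | succ n ih =>
    intro M _ _ _ hM hn
    have hMnt := CML.nontrivial_of_isCM M hM
    have hne : I • (⊤ : Submodule A M) ≠ ⊤ := by
      intro h
      have := idealDepth_eq_top_of_smul_top_eq I M h
      rw [this] at hn
      exact ENat.top_ne_natCast _ hn
    obtain ⟨rs, hlen, hmem, hreg⟩ := exists_isRegular_of_le_idealDepth I M hne 1 (by
      rw [hn]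
      exact_mod_cast Nat.succ_le_succ (Nat.zero_le n))
    obtain ⟨x, rfl⟩ : ∃ x, rs = [x] := List.length_eq_one_iff.mp hlen
    have hxI : x ∈ I := hmem x (List.mem_singleton_self x)
    have hxreg : IsSMulRegular M x := by
      have := hreg.1
      rw [isWeaklyRegular_cons_iff] at this
      exact this.1
    have hxm : x ∈ maximalIdeal A := hIm hxI
    have hCM' := CML.isCM_quotSMulTop M hM x hxm hxreg
    have hd' : LocCoh.idealDepth I (QuotSMulTop x M) = n := by
      have h1 := Groth.Agent.H72.DepthFlat.idealDepth_quotSMulTop_add_one I M x hxI hxreg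
      rw [hn] at h1
      have h2 : ((n + 1 : ℕ) : ℕ∞) = (n : ℕ∞) + 1 := by push_cast; rfl
      rw [h2] at h1
      exact (ENat.add_left_injective_of_ne_top ENat.one_ne_top) h1
    have ih1 := ih (QuotSMulTop x M) hCM' hd'
    have hdim := Module.supportDim_quotSMulTop_succ_eq_supportDim hxreg hxm
    have hsupp : Module.support A (QuotSMulTop x M ⧸ (I • (⊤ : Submodule A (QuotSMulTop x M)))) =
        Module.support A (M ⧸ (I • (⊤ : Submodule A M))) := by
      rw [Module.support_quotient, Module.support_quotient, Module.support_quotSMulTop,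
        Set.inter_assoc]
      congr 1
      apply Set.inter_eq_right.mpr
      intro q hq
      rw [PrimeSpectrum.mem_zeroLocus, Set.singleton_subset_iff]
      exact hq hxI
    have hdimq : Module.supportDim A (QuotSMulTop x M ⧸ (I • (⊤ : Submodule A (QuotSMulTop x M)))) =
        Module.supportDim A (M ⧸ (I • (⊤ : Submodule A M))) := by
      unfold Module.supportDim
      rw [hsupp]
    rw [← hdim, ih1, hdimq, add_assoc]
    congr 1

theorem supportDim_eq_add_idealDepth (I : Ideal A) (hI : I ≠ ⊤) (M : Type u) [AddCommGroup M]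
    [Module A M] [Module.Finite A M] (hM : LocCoh.IsCohenMacaulayModule A M) :
    Module.supportDim A M = Module.supportDim A (M ⧸ (I • (⊤ : Submodule A M))) +
      ((LocCoh.idealDepth I M : ℕ∞) : WithBot ℕ∞) := by
  have hIm : I ≤ maximalIdeal A := le_maximalIdeal hI
  have hMnt := CML.nontrivial_of_isCM M hM
  have hne : I • (⊤ : Submodule A M) ≠ ⊤ := fun h =>
    CML.smul_top_ne_top (A := A) M
      (top_le_iff.mp (h.symm.le.trans (Submodule.smul_mono_left hIm)))
  obtain ⟨d, hd⟩ := CML.exists_nat_supportDim_eq (A := A) M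
  have hfin : LocCoh.idealDepth I M ≠ ⊤ := by
    intro htop
    -- a regular sequence of length `d + 1` in `I ≤ m` contradicts `depth ≤ dim`
    obtain ⟨rs, hlen, hmem, hreg⟩ := exists_isRegular_of_le_idealDepth I M hne (d + 1) (by
      rw [htop]; exact le_top)
    have h1 := CML.length_le_supportDim M rs hreg.1 (fun r hr => hIm (hmem r hr))
    rw [hlen, hd] at h1
    have : d + 1 ≤ d := by exact_mod_cast h1
    omega
  obtain ⟨n, hn⟩ := ENat.ne_top_iff_exists.mp hfin
  rw [← hn]
  exact supportDim_eq_add_idealDepth_aux I hI n M hM hn.symm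

end Groth.Agent.H29.CMGrade
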