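import Groth.Prelude.Def_Exal
import Groth.Prelude.Def_Exal2
import Mathlib.RingTheory.Derivation.Basic

set_option autoImplicit false

namespace Groth.Agent.H29

universe u v

namespace ExalL

open Exal

variable {A : Type u} {B L : Type v} [CommRing A] [CommRing B] [Algebra A B] [AddCommGroup L]
  [Module B L]

theorem proj_incl (X : Exal.Ext A B L) (z : L) : X.proj (X.incl z) = 0 :=
  (X.isExtension.exact _).2 ⟨z, rfl⟩

theorem incl_mul_incl (X : Exal.Ext A B L) (z z' : L) : X.incl z * X.incl z' = 0 := by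
  rw [X.isExtension.mul_incl, proj_incl, zero_smul, map_zero]

theorem mul_incl' (X : Exal.Ext A B L) (x : X.E) (z : L) : X.incl z * x = X.incl (X.proj x • z) := by
  rw [mul_comm, X.isExtension.mul_incl]

theorem exists_incl_of_proj_eq (X : Exal.Ext A B L) {x y : X.E} (h : X.proj x = X.proj y) :
    ∃ z, X.incl z = x - y := by
  have : X.proj (x - y) = 0 := by rw [map_sub, h, sub_self]
  exact (X.isExtension.exact _).1 this

theorem incl_smul_of_proj (X : Exal.Ext A B L) (x : X.E) (b : B) (h : X.proj x = b) (z : L) :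
    X.incl (b • z) = x * X.incl z := by
  rw [X.isExtension.mul_incl, h]

theorem incl_smul [Module A L] [IsScalarTower A B L] (X : Exal.Ext A B L) (a : A) (z : L) :
    X.incl (a • z) = a • X.incl z := by
  rw [Algebra.smul_def, X.isExtension.mul_incl, AlgHom.commutes, algebraMap_smul]

theorem incl_kerLift' (X : Exal.Ext A B L) (x : X.E) (hx : X.proj x = 0) :
    X.incl (X.kerLift x hx) = x := X.incl_kerLift x hx

theorem kerLift_incl (X : Exal.Ext A B L) (z : L) (h : X.proj (X.incl z) = 0) :
    X.kerLift (X.incl z) h = z :=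
  X.isExtension.incl_injective (X.incl_kerLift _ h)

theorem kerLift_congr (X : Exal.Ext A B L) {x y : X.E} (hx : X.proj x = 0) (hxy : x = y) :
    X.kerLift x hx = X.kerLift y (hxy ▸ hx) := by
  subst hxy; rfl

theorem kerLift_eq_iff (X : Exal.Ext A B L) (x : X.E) (hx : X.proj x = 0) (z : L) :
    X.kerLift x hx = z ↔ x = X.incl z := by
  constructor
  · rintro rfl; exact (X.incl_kerLift x hx).symm
  · intro h; subst h; exact kerLift_incl X z hx

theorem isTrivial_of_equiv {X Y : Exal.Ext A B L} (e : X.Equiv Y) (h : Y.IsTrivial) : X.IsTrivial := by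
  obtain ⟨s, hs⟩ := h
  refine ⟨(e.symm.toAlgEquiv : Y.E →ₐ[A] X.E).comp s, fun b => ?_⟩
  change X.proj (e.symm.toAlgEquiv (s b)) = b
  rw [e.symm.proj_apply, hs]

section Over
variable (A' : Type*) [CommRing A'] [Algebra A' A] [Algebra A' B] [IsScalarTower A' A B]

/-- an equivalence of `A`-extensions gives an equivalence of the restricted `A'`-extensions -/
def equivRestrict {X Y : Exal.Ext A B L} (e : X.Equiv Y) :
    (X.restrictBase A').Equiv (Y.restrictBase A') where
  toAlgEquiv :=
    { e.toAlgEquiv.toRingEquiv with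
      commutes' := fun a => by
        change e.toAlgEquiv (algebraMap A X.E (algebraMap A' A a)) =
          algebraMap A Y.E (algebraMap A' A a)
        rw [AlgEquiv.commutes] }
  proj_apply := e.proj_apply
  apply_incl := e.apply_incl

theorem isTrivialOver_of_equiv {X Y : Exal.Ext A B L} (e : X.Equiv Y) (h : Y.IsTrivialOver A') :
    X.IsTrivialOver A' :=
  isTrivial_of_equiv (equivRestrict A' e) h

end Over

section Der
attribute [local instance] Exal.opModule Exal.isCentralScalar_opModule

variable {A₀ : Type u} {B₀ C₀ L₀ : Type v} [CommRing A₀] [CommRing B₀] [CommRing C₀]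
    [Algebra A₀ B₀] [Algebra B₀ C₀] [Algebra A₀ C₀] [IsScalarTower A₀ B₀ C₀]
    [AddCommGroup L₀] [Module C₀ L₀] [Module B₀ L₀] [IsScalarTower B₀ C₀ L₀] [Module A₀ L₀]
    [IsScalarTower A₀ B₀ L₀]

/-- the identity, as a ring isomorphism onto Mathlib's `TrivSqZeroExt` -/
noncomputable def toT (D : Derivation A₀ B₀ L₀) :
    (Exal.Ext.ofDerivation (C := C₀) D).E ≃+* TrivSqZeroExt C₀ L₀ := RingEquiv.refl _

theorem toT_algebraMap (D : Derivation A₀ B₀ L₀) (b : B₀) :
    toT (C₀ := C₀) D (algebraMap B₀ _ b) =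
      TrivSqZeroExt.inl (algebraMap B₀ C₀ b) + TrivSqZeroExt.inr (D b) := rfl

theorem fst_toT (D : Derivation A₀ B₀ L₀) (x : (Exal.Ext.ofDerivation (C := C₀) D).E) :
    TrivSqZeroExt.fst (toT D x) = (Exal.Ext.ofDerivation (C := C₀) D).proj x := rfl

theorem toT_incl (D : Derivation A₀ B₀ L₀) (z : L₀) :
    toT D ((Exal.Ext.ofDerivation (C := C₀) D).incl z) = TrivSqZeroExt.inr z := rfl

end Der

end ExalL

end Groth.Agent.H29
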