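import Groth.Prelude.Def_Exal3
import Groth.Agent.H29.Exal
import Mathlib.RingTheory.Smooth.Kaehler

set_option autoImplicit false
set_option linter.unusedSectionVars false

namespace Groth.Agent.H29

universe u v

namespace CharHomL

open Exal TensorProduct KaehlerDifferential

variable (A : Type u) {B C L : Type v} [CommRing A] [CommRing B] [CommRing C] [Algebra A B]
  [Algebra B C] [Algebra A C] [IsScalarTower A B C] [AddCommGroup L] [Module C L]
  (X : Exal.Ext B C L)

theorem algebraMap_eq (e : X.CharCarrier A) : algebraMap (X.CharCarrier A) C e = X.proj e := rfl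

theorem surj : Function.Surjective (algebraMap (X.CharCarrier A) C) :=
  X.isExtension.proj_surjective

theorem mem_ker_iff (e : X.CharCarrier A) :
    e ∈ RingHom.ker (algebraMap (X.CharCarrier A) C) ↔ ∃ z : L, X.inclC A z = e := by
  rw [RingHom.mem_ker, algebraMap_eq]
  exact X.isExtension.exact e

theorem inclC_mem_ker (z : L) : X.inclC A z ∈ RingHom.ker (algebraMap (X.CharCarrier A) C) :=
  (mem_ker_iff A X _).2 ⟨z, rfl⟩

theorem ker_sq : RingHom.ker (algebraMap (X.CharCarrier A) C) ^ 2 = ⊥ := by
  rw [eq_bot_iff, pow_two, Ideal.mul_le]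
  intro x hx y hy
  obtain ⟨z, rfl⟩ := (mem_ker_iff A X x).1 hx
  obtain ⟨z', rfl⟩ := (mem_ker_iff A X y).1 hy
  rw [Ideal.mem_bot]
  exact ExalL.incl_mul_incl X z z'

theorem deltaL_eq (z : L) :
    X.deltaL A z = kerToTensor A (X.CharCarrier A) C ⟨X.inclC A z, inclC_mem_ker A X z⟩ := rfl

/-- the algebra section attached to a trivialisation -/
def sectionOf (s : C →ₐ[A] (X.restrictBase A).E) : C →ₐ[A] X.CharCarrier A :=
  { toFun := s
    map_one' := map_one s
    map_mul' := map_mul s
    map_zero' := map_zero s
    map_add' := map_add s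
    commutes' := s.commutes }

theorem sectionOf_comp (s : C →ₐ[A] (X.restrictBase A).E)
    (hs : ∀ c : C, (X.restrictBase A).proj (s c) = c) :
    (IsScalarTower.toAlgHom A (X.CharCarrier A) C).comp (sectionOf A X s) = AlgHom.id A C := by
  ext c
  exact hs c

theorem exists_section (hX : X.IsTrivialOver A) :
    ∃ g : C →ₐ[A] X.CharCarrier A,
      (IsScalarTower.toAlgHom A (X.CharCarrier A) C).comp g = AlgHom.id A C := by
  obtain ⟨s, hs⟩ := hX
  exact ⟨sectionOf A X s, sectionOf_comp A X s hs⟩

theorem deltaL_injective (hX : X.IsTrivialOver A) : Function.Injective (X.deltaL A) := by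
  obtain ⟨g, hg⟩ := exists_section A X hX
  intro z z' h
  have h1 := retractionOfSectionOfKerSqZero_comp_kerToTensor g (ker_sq A X) hg
  rw [deltaL_eq, deltaL_eq] at h
  have h2 := congrArg (retractionOfSectionOfKerSqZero g (ker_sq A X) hg) h
  rw [← LinearMap.comp_apply, ← LinearMap.comp_apply, h1] at h2
  have h3 : X.inclC A z = X.inclC A z' := congrArg Subtype.val h2
  exact X.isExtension.incl_injective h3

theorem deltaL_smul (c : C) (z : L) : X.deltaL A (c • z) = c • X.deltaL A z := by
  obtain ⟨e, rfl⟩ := surj A X c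
  have h1 : X.inclC A (algebraMap (X.CharCarrier A) C e • z) = e * X.inclC A z :=
    (X.isExtension.mul_incl e z).symm
  change (1 : C) ⊗ₜ[X.CharCarrier A] D A (X.CharCarrier A) (X.inclC A (algebraMap _ C e • z)) =
    algebraMap (X.CharCarrier A) C e • ((1 : C) ⊗ₜ[X.CharCarrier A] D A (X.CharCarrier A) (X.inclC A z))
  rw [h1, Derivation.leibniz, TensorProduct.tmul_add, TensorProduct.tmul_smul,
    TensorProduct.tmul_smul, algebraMap_smul]
  have h2 : X.inclC A z • ((1 : C) ⊗ₜ[X.CharCarrier A] D A (X.CharCarrier A) e) = 0 := by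
    rw [TensorProduct.smul_tmul', Algebra.smul_def, mul_one]
    have : algebraMap (X.CharCarrier A) C (X.inclC A z) = 0 := inclC_mem_ker A X z
    rw [this, TensorProduct.zero_tmul]
  rw [h2, add_zero]

theorem bcm_tmul (c : C) (ω : Ω[B⁄A]) :
    X.baseChangeToMiddle A (c ⊗ₜ[B] ω) =
      c ⊗ₜ[X.CharCarrier A] KaehlerDifferential.map A A B (X.CharCarrier A) ω := rfl

theorem bcm_smul (c : C) (t : C ⊗[B] Ω[B⁄A]) :
    X.baseChangeToMiddle A (c • t) = c • X.baseChangeToMiddle A t := by
  induction t with
  | zero => rw [smul_zero, map_zero, smul_zero]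
  | tmul c' ω => rw [TensorProduct.smul_tmul', bcm_tmul, bcm_tmul, TensorProduct.smul_tmul']
  | add t t' ht ht' => rw [smul_add, map_add, ht, ht', map_add, smul_add]

theorem mapBaseChange_bcm (t : C ⊗[B] Ω[B⁄A]) :
    KaehlerDifferential.mapBaseChange A (X.CharCarrier A) C (X.baseChangeToMiddle A t) =
      KaehlerDifferential.mapBaseChange A B C t := by
  induction t with
  | zero => rw [map_zero, map_zero, map_zero]
  | tmul c ω =>
    rw [bcm_tmul, KaehlerDifferential.mapBaseChange_tmul, KaehlerDifferential.mapBaseChange_tmul]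
    congr 1
    have hspan := KaehlerDifferential.span_range_derivation A B
    have hω : ω ∈ Submodule.span B (Set.range (D A B)) := by rw [hspan]; trivial
    induction hω using Submodule.span_induction with
    | mem x hx =>
      obtain ⟨b, rfl⟩ := hx
      rw [KaehlerDifferential.map_D, KaehlerDifferential.map_D, KaehlerDifferential.map_D,
        ← IsScalarTower.algebraMap_apply]
    | zero => rw [map_zero, map_zero, map_zero]
    | add x y _ _ hx hy => rw [map_add, map_add, map_add, hx, hy]
    | smul b x _ hx =>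
      rw [map_smul (KaehlerDifferential.map A A B (X.CharCarrier A)) b x,
        ← IsScalarTower.algebraMap_smul (X.CharCarrier A) b
          (KaehlerDifferential.map A A B (X.CharCarrier A) x),
        map_smul, hx, map_smul (KaehlerDifferential.map A A B C), IsScalarTower.algebraMap_smul]
  | add t t' ht ht' => rw [map_add, map_add, ht, ht', map_add]

theorem exists_deltaL_eq (y : C ⊗[X.CharCarrier A] Ω[X.CharCarrier A⁄A])
    (hy : KaehlerDifferential.mapBaseChange A (X.CharCarrier A) C y = 0) :
    ∃ w : L, X.deltaL A w = y := by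
  obtain ⟨k, rfl⟩ :=
    (KaehlerDifferential.exact_kerCotangentToTensor_mapBaseChange A (X.CharCarrier A) C
      (surj A X) y).1 hy
  obtain ⟨x, rfl⟩ := Ideal.toCotangent_surjective _ k
  obtain ⟨w, hw⟩ := (mem_ker_iff A X x.1).1 x.2
  refine ⟨w, ?_⟩
  rw [KaehlerDifferential.kerCotangentToTensor_toCotangent, ← hw]
  rfl

theorem exists_deltaL_eq_bcm (z : EGA41.imperfection A B C) :
    ∃ w : L, X.deltaL A w = X.baseChangeToMiddle A (z : C ⊗[B] Ω[B⁄A]) := by
  apply exists_deltaL_eq
  rw [mapBaseChange_bcm]
  exact z.2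

/-- the characteristic homomorphism of an extension trivial over the base -/
noncomputable def charHom (hX : X.IsTrivialOver A) : EGA41.imperfection A B C →ₗ[C] L where
  toFun z := (exists_deltaL_eq_bcm A X z).choose
  map_add' z z' := by
    apply deltaL_injective A X hX
    rw [map_add, (exists_deltaL_eq_bcm A X z).choose_spec, (exists_deltaL_eq_bcm A X z').choose_spec,
      (exists_deltaL_eq_bcm A X (z + z')).choose_spec, Submodule.coe_add, map_add]
  map_smul' c z := by
    apply deltaL_injective A X hX
    rw [RingHom.id_apply, deltaL_smul, (exists_deltaL_eq_bcm A X z).choose_spec,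
      (exists_deltaL_eq_bcm A X (c • z)).choose_spec, Submodule.coe_smul, bcm_smul]

theorem isCharHom_charHom (hX : X.IsTrivialOver A) : X.IsCharHom A (charHom A X hX) :=
  fun z => (exists_deltaL_eq_bcm A X z).choose_spec

theorem isCharHom_unique (hX : X.IsTrivialOver A) (χ χ' : EGA41.imperfection A B C →ₗ[C] L)
    (h : X.IsCharHom A χ) (h' : X.IsCharHom A χ') : χ = χ' := by
  ext z
  apply deltaL_injective A X hX
  rw [h z, h' z]

end CharHomL

end Groth.Agent.H29
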