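import Groth.Agent.H29.CharHom

set_option autoImplicit false
set_option linter.unusedSectionVars false

namespace Groth.Agent.H29

universe u v

namespace CharHomL

open Exal TensorProduct KaehlerDifferential

section Ext

variable (A : Type u) {B C : Type v} [CommRing A] [CommRing B] [CommRing C] [Algebra A B]
  [Algebra B C]

/-- two additive maps out of `C ⊗ Ω` agreeing on the `c ⊗ d b` are equal -/
theorem addHom_ext_tmul_D {M : Type*} [AddCommMonoid M] (φ ψ : C ⊗[B] Ω[B⁄A] →+ M)
    (h : ∀ (c : C) (b : B), φ (c ⊗ₜ[B] D A B b) = ψ (c ⊗ₜ[B] D A B b)) (t : C ⊗[B] Ω[B⁄A]) :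
    φ t = ψ t := by
  have key : ∀ (ω : Ω[B⁄A]) (c : C), φ (c ⊗ₜ[B] ω) = ψ (c ⊗ₜ[B] ω) := by
    intro ω
    have hω : ω ∈ Submodule.span B (Set.range (D A B)) := by
      rw [KaehlerDifferential.span_range_derivation]; trivial
    induction hω using Submodule.span_induction with
    | mem x hx =>
      obtain ⟨b, rfl⟩ := hx
      exact fun c => h c b
    | zero => intro c; rw [TensorProduct.tmul_zero, map_zero, map_zero]
    | add x y _ _ hx hy => intro c; rw [TensorProduct.tmul_add, map_add, map_add, hx, hy]
    | smul b x _ hx => intro c; rw [← TensorProduct.smul_tmul, hx]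
  induction t with
  | zero => rw [map_zero, map_zero]
  | tmul c ω => exact key ω c
  | add t t' ht ht' => rw [map_add, map_add, ht, ht']

end Ext

variable (A : Type u) {B C L : Type v} [CommRing A] [CommRing B] [CommRing C] [Algebra A B]
  [Algebra B C] [Algebra A C] [IsScalarTower A B C] [AddCommGroup L] [Module C L]
  (X : Exal.Ext B C L)
  (g : C →ₐ[A] X.CharCarrier A)
  (hg : (IsScalarTower.toAlgHom A (X.CharCarrier A) C).comp g = AlgHom.id A C)

/-- the retraction attached to a section -/
noncomputable def retr :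
    C ⊗[X.CharCarrier A] Ω[X.CharCarrier A⁄A] →ₗ[X.CharCarrier A]
      RingHom.ker (algebraMap (X.CharCarrier A) C) :=
  retractionOfSectionOfKerSqZero g (ker_sq A X) hg

theorem retr_deltaL (w : L) : (retr A X g hg (X.deltaL A w)).1 = X.inclC A w := by
  have h1 := retractionOfSectionOfKerSqZero_comp_kerToTensor g (ker_sq A X) hg
  rw [deltaL_eq]
  have h2 := LinearMap.congr_fun h1 ⟨X.inclC A w, inclC_mem_ker A X w⟩
  exact congrArg Subtype.val h2

theorem retr_tmul_D (c : C) (e : X.CharCarrier A) :
    (retr A X g hg (c ⊗ₜ[X.CharCarrier A] D A (X.CharCarrier A) e)).1 =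
      g c * e - g c * g (algebraMap (X.CharCarrier A) C e) :=
  retractionOfSectionOfKerSqZero_tmul_D g (ker_sq A X) hg c e

theorem proj_retr (y : C ⊗[X.CharCarrier A] Ω[X.CharCarrier A⁄A]) :
    algebraMap (X.CharCarrier A) C (retr A X g hg y).1 = 0 :=
  (retr A X g hg y).2

include hg in
theorem proj_g (c : C) : algebraMap (X.CharCarrier A) C (g c) = c :=
  AlgHom.congr_fun hg c

/-- `kerLift` on the renamed carrier -/
noncomputable def kerLiftC (e : X.CharCarrier A) (he : algebraMap (X.CharCarrier A) C e = 0) : L :=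
  X.kerLift e he

theorem inclC_kerLiftC (e : X.CharCarrier A) (he : algebraMap (X.CharCarrier A) C e = 0) :
    X.inclC A (kerLiftC A X e he) = e :=
  X.incl_kerLift e he

theorem inclC_injective : Function.Injective (X.inclC A) := X.isExtension.incl_injective

theorem mul_inclC (e : X.CharCarrier A) (z : L) :
    e * X.inclC A z = X.inclC A (algebraMap (X.CharCarrier A) C e • z) :=
  X.isExtension.mul_incl e z

/-- the linear map induced by the derivation attached to a section -/
noncomputable def theta : C ⊗[B] Ω[B⁄A] →ₗ[C] L where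
  toFun t := kerLiftC A X (retr A X g hg (X.baseChangeToMiddle A t)).1 (proj_retr A X g hg _)
  map_add' t t' := by
    apply inclC_injective A X
    rw [inclC_kerLiftC, map_add (X.inclC A), inclC_kerLiftC, inclC_kerLiftC, map_add, map_add]
    rfl
  map_smul' c t := by
    apply inclC_injective A X
    obtain ⟨e, rfl⟩ := surj A X c
    rw [RingHom.id_apply, inclC_kerLiftC, bcm_smul, algebraMap_smul, map_smul,
      ← mul_inclC, inclC_kerLiftC]
    rfl

theorem inclC_theta (t : C ⊗[B] Ω[B⁄A]) :
    X.inclC A (theta A X g hg t) = (retr A X g hg (X.baseChangeToMiddle A t)).1 :=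
  inclC_kerLiftC A X _ (proj_retr A X g hg _)

theorem inclC_theta_tmul_D (c : C) (b : B) :
    X.inclC A (theta A X g hg (c ⊗ₜ[B] D A B b)) =
      g c * (algebraMap B (X.CharCarrier A) b - g (algebraMap B C b)) := by
  rw [inclC_theta, bcm_tmul, KaehlerDifferential.map_D, retr_tmul_D, mul_sub,
    ← IsScalarTower.algebraMap_apply]

theorem isCharHom_iff (χ : EGA41.imperfection A B C →ₗ[C] L) :
    X.IsCharHom A χ ↔ ∀ z : EGA41.imperfection A B C, χ z = theta A X g hg z := by
  constructor
  · intro h z
    apply inclC_injective A X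
    rw [inclC_theta, ← h z, retr_deltaL]
  · intro h z
    obtain ⟨w, hw⟩ := exists_deltaL_eq_bcm A X z
    rw [← hw]
    congr 1
    apply inclC_injective A X
    rw [h z, inclC_theta, ← hw, retr_deltaL]

end CharHomL

end Groth.Agent.H29
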