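import Groth.Agent.H29.CharHom2
import Groth.Prelude.Def_Exal2

set_option autoImplicit false
set_option linter.unusedSectionVars false

namespace Groth.Agent.H29

universe u v

namespace CharHomL

open Exal TensorProduct KaehlerDifferential

section Triv

variable (A : Type u) {B C L : Type v} [CommRing A] [CommRing B] [CommRing C] [Algebra A B]
  [Algebra B C] [Algebra A C] [IsScalarTower A B C] [AddCommGroup L] [Module C L]
  (X : Exal.Ext B C L)

/-- a section on the renamed carrier gives a trivialisation -/
def sectionTo (g : C →ₐ[A] X.CharCarrier A) : C →ₐ[A] (X.restrictBase A).E :=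
  { toFun := g
    map_one' := map_one g
    map_mul' := map_mul g
    map_zero' := map_zero g
    map_add' := map_add g
    commutes' := g.commutes }

theorem isTrivialOver_of_section (g : C →ₐ[A] X.CharCarrier A)
    (hg : (IsScalarTower.toAlgHom A (X.CharCarrier A) C).comp g = AlgHom.id A C) :
    X.IsTrivialOver A :=
  ⟨sectionTo A X g, fun c => AlgHom.congr_fun hg c⟩

end Triv

section OfDer

attribute [local instance] Exal.opModule Exal.isCentralScalar_opModule

variable (A : Type u) {B C L : Type v} [CommRing A] [CommRing B] [CommRing C] [Algebra A B]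
  [Algebra B C] [Algebra A C] [IsScalarTower A B C] [AddCommGroup L] [Module C L]
  [Module B L] [IsScalarTower B C L] [Module A L] [IsScalarTower A B L]
  (D₀ : Derivation A B L)

/-- the identity onto Mathlib's carrier -/
noncomputable def toTC :
    (Exal.Ext.ofDerivation (C := C) D₀).CharCarrier A ≃+* TrivSqZeroExt C L := RingEquiv.refl _

theorem toTC_algebraMap (b : B) :
    toTC A (C := C) D₀ (algebraMap B _ b) =
      TrivSqZeroExt.inl (algebraMap B C b) + TrivSqZeroExt.inr (D₀ b) := rfl

theorem fst_toTC (x : (Exal.Ext.ofDerivation (C := C) D₀).CharCarrier A) :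
    TrivSqZeroExt.fst (toTC A D₀ x) = algebraMap _ C x := rfl

theorem toTC_inclC (z : L) :
    toTC A D₀ ((Exal.Ext.ofDerivation (C := C) D₀).inclC A z) = TrivSqZeroExt.inr z := rfl

/-- the zero section -/
noncomputable def secDer : C →ₐ[A] (Exal.Ext.ofDerivation (C := C) D₀).CharCarrier A :=
  { toFun := fun c => (toTC A D₀).symm (TrivSqZeroExt.inl c)
    map_one' := by rw [TrivSqZeroExt.inl_one, map_one]
    map_mul' := fun c c' => by rw [TrivSqZeroExt.inl_mul, map_mul]
    map_zero' := by rw [TrivSqZeroExt.inl_zero, map_zero]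
    map_add' := fun c c' => by rw [TrivSqZeroExt.inl_add, map_add]
    commutes' := fun a => by
      rw [RingEquiv.symm_apply_eq,
        IsScalarTower.algebraMap_apply A B ((Exal.Ext.ofDerivation (C := C) D₀).CharCarrier A),
        toTC_algebraMap, Derivation.map_algebraMap, TrivSqZeroExt.inr_zero, add_zero,
        ← IsScalarTower.algebraMap_apply] }

theorem toTC_secDer (c : C) : toTC A D₀ (secDer A D₀ c) = TrivSqZeroExt.inl c :=
  RingEquiv.apply_symm_apply _ _

theorem secDer_comp :
    (IsScalarTower.toAlgHom A ((Exal.Ext.ofDerivation (C := C) D₀).CharCarrier A) C).comp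
      (secDer A D₀) = AlgHom.id A C := by
  ext c
  change algebraMap _ C (secDer A D₀ c) = c
  rw [← fst_toTC, toTC_secDer, TrivSqZeroExt.fst_inl]

theorem isTrivialOver_ofDerivation : (Exal.Ext.ofDerivation (C := C) D₀).IsTrivialOver A :=
  isTrivialOver_of_section A _ (secDer A D₀) (secDer_comp A D₀)

theorem theta_ofDerivation (c : C) (b : B) :
    theta A _ (secDer A D₀) (secDer_comp A D₀) (c ⊗ₜ[B] D A B b) = c • D₀ b := by
  apply inclC_injective A (Exal.Ext.ofDerivation (C := C) D₀)
  apply (toTC A D₀).injective
  rw [inclC_theta_tmul_D, map_mul, map_sub, toTC_secDer, toTC_secDer, toTC_algebraMap,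
    toTC_inclC, add_sub_cancel_left, TrivSqZeroExt.inl_mul_inr]

end OfDer

end CharHomL

end Groth.Agent.H29
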