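import Groth.Agent.H29.CharHom3
import Mathlib.Tactic.LinearCombination
import Mathlib.Tactic.Ring

set_option autoImplicit false
set_option linter.unusedSectionVars false

namespace Groth.Agent.H29

universe u v

namespace CharHomL

open Exal TensorProduct KaehlerDifferential

variable (A : Type u) {B C L : Type v} [CommRing A] [CommRing B] [CommRing C] [Algebra A B]
  [Algebra B C] [Algebra A C] [IsScalarTower A B C] [AddCommGroup L] [Module C L]
  (X : Exal.Ext B C L)
  (g : C →ₐ[A] X.CharCarrier A)
  (hg : (IsScalarTower.toAlgHom A (X.CharCarrier A) C).comp g = AlgHom.id A C)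

theorem inclC_mul_inclC (z z' : L) : X.inclC A z * X.inclC A z' = 0 :=
  ExalL.incl_mul_incl X z z'

theorem proj_inclC (z : L) : algebraMap (X.CharCarrier A) C (X.inclC A z) = 0 :=
  inclC_mem_ker A X z

include hg in
theorem proj_sub_g (e : X.CharCarrier A) :
    algebraMap (X.CharCarrier A) C (e - g (algebraMap (X.CharCarrier A) C e)) = 0 := by
  rw [map_sub, proj_g A X g hg, sub_self]

/-- the component along the kernel module attached to a section -/
noncomputable def kap (e : X.CharCarrier A) : L :=
  kerLiftC A X (e - g (algebraMap (X.CharCarrier A) C e)) (proj_sub_g A X g hg e)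

theorem inclC_kap (e : X.CharCarrier A) :
    X.inclC A (kap A X g hg e) = e - g (algebraMap (X.CharCarrier A) C e) :=
  inclC_kerLiftC A X _ _

theorem eq_g_add_inclC_kap (e : X.CharCarrier A) :
    e = g (algebraMap (X.CharCarrier A) C e) + X.inclC A (kap A X g hg e) := by
  rw [inclC_kap]; ring

theorem kap_add (e e' : X.CharCarrier A) :
    kap A X g hg (e + e') = kap A X g hg e + kap A X g hg e' := by
  apply inclC_injective A X
  rw [map_add (X.inclC A), inclC_kap, inclC_kap, inclC_kap, map_add, map_add]
  ring

theorem kap_zero : kap A X g hg 0 = 0 := by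
  apply inclC_injective A X
  rw [inclC_kap, map_zero, map_zero, map_zero, sub_zero]

theorem kap_one : kap A X g hg 1 = 0 := by
  apply inclC_injective A X
  rw [inclC_kap, map_one, map_one, map_zero, sub_self]

theorem kap_mul (e e' : X.CharCarrier A) :
    kap A X g hg (e * e') =
      algebraMap (X.CharCarrier A) C e • kap A X g hg e' +
        algebraMap (X.CharCarrier A) C e' • kap A X g hg e := by
  apply inclC_injective A X
  have h0 := inclC_mul_inclC A X (kap A X g hg e) (kap A X g hg e')
  rw [inclC_kap, inclC_kap] at h0
  rw [map_add (X.inclC A), ← mul_inclC, ← mul_inclC, inclC_kap, inclC_kap, inclC_kap, map_mul,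
    map_mul]
  linear_combination (-1 : X.CharCarrier A) * h0

theorem kap_g_add_inclC (c : C) (z : L) : kap A X g hg (g c + X.inclC A z) = z := by
  apply inclC_injective A X
  rw [inclC_kap, map_add, proj_g A X g hg, proj_inclC, add_zero, add_sub_cancel_left]

theorem kap_algebraMap (b : B) :
    kap A X g hg (algebraMap B (X.CharCarrier A) b) = theta A X g hg ((1 : C) ⊗ₜ[B] D A B b) := by
  apply inclC_injective A X
  rw [inclC_kap, inclC_theta_tmul_D, map_one, one_mul, ← IsScalarTower.algebraMap_apply]

section Modify

variable (φ : Ω[C⁄A] →ₗ[C] L)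

/-- a section modified by a derivation -/
noncomputable def modSection : C →ₐ[A] X.CharCarrier A :=
  { toFun := fun c => g c + X.inclC A (φ (D A C c))
    map_one' := by
      rw [map_one, Derivation.map_one_eq_zero, map_zero, map_zero, add_zero]
    map_mul' := fun c c' => by
      have h1 : g c * X.inclC A (φ (D A C c')) = X.inclC A (c • φ (D A C c')) := by
        rw [mul_inclC, proj_g A X g hg]
      have h2 : g c' * X.inclC A (φ (D A C c)) = X.inclC A (c' • φ (D A C c)) := by
        rw [mul_inclC, proj_g A X g hg]
      have h3 := inclC_mul_inclC A X (φ (D A C c)) (φ (D A C c'))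
      rw [Derivation.leibniz, map_add, map_smul, map_smul, map_add (X.inclC A), ← h1, ← h2,
        map_mul]
      linear_combination (-1 : X.CharCarrier A) * h3
    map_zero' := by rw [map_zero, map_zero, map_zero, map_zero, add_zero]
    map_add' := fun c c' => by
      rw [map_add, map_add, map_add, map_add]
      ring
    commutes' := fun a => by
      rw [Derivation.map_algebraMap, map_zero, map_zero, add_zero, AlgHom.commutes] }

theorem modSection_apply (c : C) :
    modSection A X g hg φ c = g c + X.inclC A (φ (D A C c)) := rfl

theorem modSection_comp :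
    (IsScalarTower.toAlgHom A (X.CharCarrier A) C).comp (modSection A X g hg φ) =
      AlgHom.id A C := by
  ext c
  change algebraMap (X.CharCarrier A) C (modSection A X g hg φ c) = c
  rw [modSection_apply, map_add, proj_g A X g hg, proj_inclC, add_zero]

theorem kap_modSection (e : X.CharCarrier A) :
    kap A X (modSection A X g hg φ) (modSection_comp A X g hg φ) e =
      kap A X g hg e - φ (D A C (algebraMap (X.CharCarrier A) C e)) := by
  apply inclC_injective A X
  rw [inclC_kap, map_sub (X.inclC A), inclC_kap, modSection_apply]
  ring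

end Modify

section Equiv

variable (Y : Exal.Ext B C L)
  (g' : C →ₐ[A] Y.CharCarrier A)
  (hg' : (IsScalarTower.toAlgHom A (Y.CharCarrier A) C).comp g' = AlgHom.id A C)

/-- the comparison map between two split extensions -/
noncomputable def compMap : X.CharCarrier A →+* Y.CharCarrier A where
  toFun e := g' (algebraMap (X.CharCarrier A) C e) + Y.inclC A (kap A X g hg e)
  map_one' := by rw [map_one, map_one, kap_one, map_zero, add_zero]
  map_mul' e e' := by
    have h1 : g' (algebraMap (X.CharCarrier A) C e) * Y.inclC A (kap A X g hg e') =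
        Y.inclC A (algebraMap (X.CharCarrier A) C e • kap A X g hg e') := by
      rw [mul_inclC, proj_g A Y g' hg']
    have h2 : g' (algebraMap (X.CharCarrier A) C e') * Y.inclC A (kap A X g hg e) =
        Y.inclC A (algebraMap (X.CharCarrier A) C e' • kap A X g hg e) := by
      rw [mul_inclC, proj_g A Y g' hg']
    have h3 := inclC_mul_inclC A Y (kap A X g hg e) (kap A X g hg e')
    rw [kap_mul, map_add (Y.inclC A), ← h1, ← h2, map_mul, map_mul]
    linear_combination (-1 : Y.CharCarrier A) * h3
  map_zero' := by rw [map_zero, map_zero, kap_zero, map_zero, add_zero]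
  map_add' e e' := by
    rw [map_add, map_add, kap_add, map_add]
    ring

theorem compMap_apply (e : X.CharCarrier A) :
    compMap A X g hg Y g' hg' e =
      g' (algebraMap (X.CharCarrier A) C e) + Y.inclC A (kap A X g hg e) := rfl

theorem proj_compMap (e : X.CharCarrier A) :
    algebraMap (Y.CharCarrier A) C (compMap A X g hg Y g' hg' e) =
      algebraMap (X.CharCarrier A) C e := by
  rw [compMap_apply, map_add, proj_g A Y g' hg', proj_inclC, add_zero]

theorem kap_compMap (e : X.CharCarrier A) :
    kap A Y g' hg' (compMap A X g hg Y g' hg' e) = kap A X g hg e := by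
  rw [compMap_apply, kap_g_add_inclC]

theorem compMap_compMap (e : X.CharCarrier A) :
    compMap A Y g' hg' X g hg (compMap A X g hg Y g' hg' e) = e := by
  rw [compMap_apply, proj_compMap, kap_compMap]
  exact (eq_g_add_inclC_kap A X g hg e).symm

theorem compMap_inclC (z : L) : compMap A X g hg Y g' hg' (X.inclC A z) = Y.inclC A z := by
  have h : kap A X g hg (X.inclC A z) = z := by
    have := kap_g_add_inclC A X g hg 0 z
    rwa [map_zero, zero_add] at this
  rw [compMap_apply, proj_inclC, map_zero, zero_add, h]

theorem compMap_algebraMap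
    (h : ∀ b : B, theta A X g hg ((1 : C) ⊗ₜ[B] D A B b) =
      theta A Y g' hg' ((1 : C) ⊗ₜ[B] D A B b)) (b : B) :
    compMap A X g hg Y g' hg' (algebraMap B (X.CharCarrier A) b) =
      algebraMap B (Y.CharCarrier A) b := by
  rw [compMap_apply, kap_algebraMap, h b, ← kap_algebraMap, ← IsScalarTower.algebraMap_apply,
    IsScalarTower.algebraMap_apply B (Y.CharCarrier A) C]
  exact (eq_g_add_inclC_kap A Y g' hg' _).symm

/-- two split extensions with the same derivation are equivalent -/
noncomputable def equivOfThetaEq
    (h : ∀ b : B, theta A X g hg ((1 : C) ⊗ₜ[B] D A B b) =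
      theta A Y g' hg' ((1 : C) ⊗ₜ[B] D A B b)) : X.Equiv Y where
  toAlgEquiv :=
    { toFun := compMap A X g hg Y g' hg'
      invFun := compMap A Y g' hg' X g hg
      left_inv := compMap_compMap A X g hg Y g' hg'
      right_inv := compMap_compMap A Y g' hg' X g hg
      map_mul' := map_mul (compMap A X g hg Y g' hg')
      map_add' := map_add (compMap A X g hg Y g' hg')
      commutes' := compMap_algebraMap A X g hg Y g' hg' h }
  proj_apply := proj_compMap A X g hg Y g' hg'
  apply_incl := compMap_inclC A X g hg Y g' hg'

end Equiv

end CharHomL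

end Groth.Agent.H29
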