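import Groth.Agent.H29.CharHom2

set_option autoImplicit false
set_option linter.unusedSectionVars false

namespace Groth.Agent.H29

universe u v

namespace CharHomL

open TensorProduct KaehlerDifferential

section Descend

variable {R A P N : Type*} [CommRing R] [CommRing A] [CommRing P] [Algebra R A] [Algebra R P]
  [Algebra A P] [IsScalarTower R A P] [AddCommGroup N] [Module R N] [Module A N] [Module P N]
  [IsScalarTower A P N]

/-- descend a derivation along a surjective algebra map -/
noncomputable def descendDer (hsurj : Function.Surjective (algebraMap A P)) (d : Derivation R A N)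
    (hd : ∀ x, algebraMap A P x = 0 → d x = 0) : Derivation R P N where
  toFun e := d (Function.surjInv hsurj e)
  map_add' x y := by
    have h : d (Function.surjInv hsurj (x + y) -
        (Function.surjInv hsurj x + Function.surjInv hsurj y)) = 0 :=
      hd _ (by rw [map_sub, map_add, Function.surjInv_eq hsurj, Function.surjInv_eq hsurj,
        Function.surjInv_eq hsurj, sub_self])
    rw [map_sub, map_add, sub_eq_zero] at h
    exact h
  map_smul' r x := by
    have h : d (Function.surjInv hsurj (r • x) - r • Function.surjInv hsurj x) = 0 :=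
      hd _ (by rw [map_sub, Function.surjInv_eq hsurj, Algebra.smul_def r (Function.surjInv hsurj x),
        map_mul, Function.surjInv_eq hsurj, ← IsScalarTower.algebraMap_apply, ← Algebra.smul_def,
        sub_self])
    rw [map_sub, Derivation.map_smul, sub_eq_zero] at h
    exact h
  map_one_eq_zero' := by
    have h : d (Function.surjInv hsurj 1 - 1) = 0 :=
      hd _ (by rw [map_sub, Function.surjInv_eq hsurj, map_one, sub_self])
    rw [map_sub, Derivation.map_one_eq_zero, sub_zero] at h
    exact h
  leibniz' x y := by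
    have h : d (Function.surjInv hsurj (x * y) -
        Function.surjInv hsurj x * Function.surjInv hsurj y) = 0 :=
      hd _ (by rw [map_sub, map_mul, Function.surjInv_eq hsurj, Function.surjInv_eq hsurj,
        Function.surjInv_eq hsurj, sub_self])
    rw [map_sub, Derivation.leibniz, sub_eq_zero] at h
    change d (Function.surjInv hsurj (x * y)) =
      x • d (Function.surjInv hsurj y) + y • d (Function.surjInv hsurj x)
    rw [h, ← algebraMap_smul P (Function.surjInv hsurj x), Function.surjInv_eq hsurj,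
      ← algebraMap_smul P (Function.surjInv hsurj y), Function.surjInv_eq hsurj]

theorem descendDer_algebraMap (hsurj : Function.Surjective (algebraMap A P))
    (d : Derivation R A N) (hd : ∀ x, algebraMap A P x = 0 → d x = 0) (a : A) :
    descendDer hsurj d hd (algebraMap A P a) = d a := by
  have h : d (Function.surjInv hsurj (algebraMap A P a) - a) = 0 :=
    hd _ (by rw [map_sub, Function.surjInv_eq hsurj, sub_self])
  rw [map_sub, sub_eq_zero] at h
  exact h

end Descend

section Beta

variable (Λ : Type u) {B : Type v} (P : Type v) {C : Type v} [CommRing Λ] [CommRing B] [CommRing P]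
  [CommRing C] [Algebra Λ B] [Algebra Λ P] [Algebra B P] [Algebra P C] [Algebra B C] [Algebra Λ C]
  [IsScalarTower Λ B P] [IsScalarTower B P C] [IsScalarTower Λ P C] [IsScalarTower Λ B C]

/-- the map `C ⊗_B Ω_B → C ⊗_P Ω_P` -/
noncomputable def beta : C ⊗[B] Ω[B⁄Λ] →ₗ[B] C ⊗[P] Ω[P⁄Λ] :=
  TensorProduct.lift
    (LinearMap.mk₂ B (fun (c : C) (ω : Ω[B⁄Λ]) =>
        c ⊗ₜ[P] KaehlerDifferential.map Λ Λ B P ω)
      (fun c c' ω => by rw [TensorProduct.add_tmul])
      (fun b c ω => by rw [TensorProduct.smul_tmul'])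
      (fun c ω ω' => by rw [map_add, TensorProduct.tmul_add])
      (fun b c ω => by
        rw [map_smul, ← IsScalarTower.algebraMap_smul P b, ← TensorProduct.smul_tmul,
          IsScalarTower.algebraMap_smul, TensorProduct.smul_tmul']))

theorem beta_tmul (c : C) (ω : Ω[B⁄Λ]) :
    beta Λ P (c ⊗ₜ[B] ω) = c ⊗ₜ[P] KaehlerDifferential.map Λ Λ B P ω := rfl

theorem one_tmul_D_eq_zero (b : B) (hb : b ∈ RingHom.ker (algebraMap B C) ^ 2) :
    (1 : C) ⊗ₜ[B] D Λ B b = 0 := by
  have hb1 : b ∈ RingHom.ker (algebraMap B C) := Ideal.pow_le_self two_ne_zero hb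
  have h4 : Ideal.toCotangent _ ⟨b, hb1⟩ = 0 := (Ideal.toCotangent_eq_zero _ ⟨b, hb1⟩).2 hb
  change KaehlerDifferential.kerCotangentToTensor Λ B C (Ideal.toCotangent _ ⟨b, hb1⟩) = 0
  rw [h4, map_zero]

variable (hsurj : Function.Surjective (algebraMap B P))
  (hker : ∀ b : B, algebraMap B P b = 0 → b ∈ RingHom.ker (algebraMap B C) ^ 2)

/-- the derivation `b ↦ 1 ⊗ d b` -/
noncomputable def d0 : Derivation Λ B (C ⊗[B] Ω[B⁄Λ]) :=
  (TensorProduct.mk B C Ω[B⁄Λ] 1).compDer (D Λ B)

theorem d0_apply (b : B) : d0 Λ (C := C) b = (1 : C) ⊗ₜ[B] D Λ B b := rfl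

/-- the descended derivation -/
noncomputable def d1 : Derivation Λ P (C ⊗[B] Ω[B⁄Λ]) :=
  descendDer hsurj (d0 Λ) (fun b hb => by
    rw [d0_apply]
    exact one_tmul_D_eq_zero Λ b (hker b hb))

theorem d1_algebraMap (b : B) :
    d1 Λ P hsurj hker (algebraMap B P b) = (1 : C) ⊗ₜ[B] D Λ B b :=
  descendDer_algebraMap hsurj _ _ b

/-- the retraction of `beta` -/
noncomputable def gamma : C ⊗[P] Ω[P⁄Λ] →ₗ[C] C ⊗[B] Ω[B⁄Λ] :=
  LinearMap.liftBaseChange C (d1 Λ P hsurj hker).liftKaehlerDifferential

theorem gamma_beta (t : C ⊗[B] Ω[B⁄Λ]) : gamma Λ P hsurj hker (beta Λ P t) = t := by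
  refine addHom_ext_tmul_D Λ
    ((gamma Λ P hsurj hker).toAddMonoidHom.comp (beta Λ P).toAddMonoidHom)
    (AddMonoidHom.id _) (fun c b => ?_) t
  change gamma Λ P hsurj hker (beta Λ P (c ⊗ₜ[B] D Λ B b)) = c ⊗ₜ[B] D Λ B b
  rw [beta_tmul, KaehlerDifferential.map_D]
  unfold gamma
  rw [LinearMap.liftBaseChange_tmul, Derivation.liftKaehlerDifferential_comp_D, d1_algebraMap,
    TensorProduct.smul_tmul', smul_eq_mul, mul_one]

include hsurj hker in
theorem beta_injective : Function.Injective (beta Λ P (B := B) (C := C)) :=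
  Function.LeftInverse.injective (gamma_beta Λ P hsurj hker)

end Beta

end CharHomL

end Groth.Agent.H29
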