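import Groth.Agent.H29.CharHom5
import Groth.Prelude.Def_Exal2

set_option autoImplicit false
set_option linter.unusedSectionVars false

namespace Groth.Agent.H29

universe u v

namespace CharHomL

open Exal TensorProduct KaehlerDifferential

variable (Λ : Type u) {A B : Type v} [CommRing Λ] [CommRing A] [CommRing B] [Algebra Λ A]
  [Algebra Λ B] [Algebra A B] [IsScalarTower Λ A B] (K : Ideal B)

/-- the quotient map as an algebra structure on the renamed carrier -/
@[reducible] noncomputable def algBP :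
    Algebra B (((Exal.Ext.infinitesimal K).restrictBase A).CharCarrier Λ) :=
  (Ideal.Quotient.mk (K ^ 2) :
    B →+* ((Exal.Ext.infinitesimal K).restrictBase A).CharCarrier Λ).toAlgebra

attribute [local instance] algBP

theorem towerΛBP :
    IsScalarTower Λ B (((Exal.Ext.infinitesimal K).restrictBase A).CharCarrier Λ) :=
  IsScalarTower.of_algebraMap_eq (fun l => by
    change Ideal.Quotient.mk (K ^ 2) (algebraMap A B (algebraMap Λ A l)) =
      Ideal.Quotient.mk (K ^ 2) (algebraMap Λ B l)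
    rw [← IsScalarTower.algebraMap_apply Λ A B])

theorem towerBPC :
    IsScalarTower B (((Exal.Ext.infinitesimal K).restrictBase A).CharCarrier Λ) (B ⧸ K) :=
  IsScalarTower.of_algebraMap_eq (fun _ => rfl)

theorem towerABP :
    IsScalarTower A B (((Exal.Ext.infinitesimal K).restrictBase A).CharCarrier Λ) :=
  IsScalarTower.of_algebraMap_eq (fun _ => rfl)

attribute [local instance] towerΛBP towerBPC towerABP

theorem surjBP : Function.Surjective
    (algebraMap B (((Exal.Ext.infinitesimal K).restrictBase A).CharCarrier Λ)) :=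
  Ideal.Quotient.mk_surjective

theorem kerBP (b : B)
    (hb : algebraMap B (((Exal.Ext.infinitesimal K).restrictBase A).CharCarrier Λ) b = 0) :
    b ∈ RingHom.ker (algebraMap B (B ⧸ K)) ^ 2 := by
  have h1 : b ∈ K ^ 2 := Ideal.Quotient.eq_zero_iff_mem.1 hb
  rw [Ideal.Quotient.algebraMap_eq, Ideal.mk_ker]
  exact h1

/-- the map `C ⊗_B Ω_{B/Λ} → C ⊗_P Ω_{P/Λ}` -/
noncomputable def betaK :=
  beta Λ (B := B) (((Exal.Ext.infinitesimal K).restrictBase A).CharCarrier Λ) (C := B ⧸ K)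

theorem betaK_injective : Function.Injective (betaK Λ (A := A) K) :=
  beta_injective Λ _ (surjBP Λ K) (kerBP Λ K)

/-- the map `C ⊗_A Ω_{A/Λ} → C ⊗_B Ω_{B/Λ}` of the statement -/
noncomputable def alphaK (t : (B ⧸ K) ⊗[A] Ω[A⁄Λ]) : (B ⧸ K) ⊗[B] Ω[B⁄Λ] :=
  ((KaehlerDifferential.mapBaseChange Λ A B).baseChange (B ⧸ K))
    ((TensorProduct.AlgebraTensorModule.cancelBaseChange A B (B ⧸ K) (B ⧸ K) Ω[A⁄Λ]).symm t)

theorem alphaK_add (t t' : (B ⧸ K) ⊗[A] Ω[A⁄Λ]) :
    alphaK Λ K (t + t') = alphaK Λ K t + alphaK Λ K t' := by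
  unfold alphaK
  rw [map_add, map_add]

theorem alphaK_zero : alphaK Λ (A := A) K 0 = 0 := by
  unfold alphaK
  rw [map_zero, map_zero]

theorem alphaK_tmul_D (c : B ⧸ K) (a : A) :
    alphaK Λ K (c ⊗ₜ[A] D Λ A a) = c ⊗ₜ[B] D Λ B (algebraMap A B a) := by
  unfold alphaK
  rw [TensorProduct.AlgebraTensorModule.cancelBaseChange_symm_tmul, LinearMap.baseChange_tmul,
    KaehlerDifferential.mapBaseChange_tmul, one_smul, KaehlerDifferential.map_D]

/-- `alphaK` as an additive map -/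
noncomputable def alphaKHom : (B ⧸ K) ⊗[A] Ω[A⁄Λ] →+ (B ⧸ K) ⊗[B] Ω[B⁄Λ] where
  toFun := alphaK Λ K
  map_zero' := alphaK_zero Λ K
  map_add' := alphaK_add Λ K

theorem bcm_eq_beta_alpha (t : (B ⧸ K) ⊗[A] Ω[A⁄Λ]) :
    ((Exal.Ext.infinitesimal K).restrictBase A).baseChangeToMiddle Λ t =
      betaK Λ K (alphaK Λ K t) := by
  refine addHom_ext_tmul_D Λ
    (((Exal.Ext.infinitesimal K).restrictBase A).baseChangeToMiddle Λ).toAddMonoidHom
    ((betaK Λ (A := A) K).toAddMonoidHom.comp (alphaKHom Λ K)) (fun c a => ?_) t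
  change ((Exal.Ext.infinitesimal K).restrictBase A).baseChangeToMiddle Λ (c ⊗ₜ[A] D Λ A a) =
    betaK Λ K (alphaK Λ K (c ⊗ₜ[A] D Λ A a))
  rw [alphaK_tmul_D, bcm_tmul, KaehlerDifferential.map_D]
  unfold betaK
  rw [beta_tmul, KaehlerDifferential.map_D, ← IsScalarTower.algebraMap_apply]

theorem deltaL_eq_beta (x : B) (hx : x ∈ K) :
    ((Exal.Ext.infinitesimal K).restrictBase A).deltaL Λ (K.toCotangent ⟨x, hx⟩) =
      betaK Λ (A := A) K ((1 : B ⧸ K) ⊗ₜ[B] D Λ B x) := by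
  unfold betaK
  rw [beta_tmul, KaehlerDifferential.map_D]
  change (1 : B ⧸ K) ⊗ₜ[((Exal.Ext.infinitesimal K).restrictBase A).CharCarrier Λ]
    D Λ (((Exal.Ext.infinitesimal K).restrictBase A).CharCarrier Λ)
      (K.cotangentToQuotientSquare (K.toCotangent ⟨x, hx⟩)) = _
  rw [Ideal.toCotangent_to_quotient_square]
  rfl

theorem mapBaseChange_alphaK (t : (B ⧸ K) ⊗[A] Ω[A⁄Λ]) :
    KaehlerDifferential.mapBaseChange Λ B (B ⧸ K) (alphaK Λ K t) =
      KaehlerDifferential.mapBaseChange Λ A (B ⧸ K) t := by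
  refine addHom_ext_tmul_D Λ
    ((KaehlerDifferential.mapBaseChange Λ B (B ⧸ K)).toAddMonoidHom.comp (alphaKHom Λ K))
    (KaehlerDifferential.mapBaseChange Λ A (B ⧸ K)).toAddMonoidHom (fun c a => ?_) t
  change KaehlerDifferential.mapBaseChange Λ B (B ⧸ K) (alphaK Λ K (c ⊗ₜ[A] D Λ A a)) =
    KaehlerDifferential.mapBaseChange Λ A (B ⧸ K) (c ⊗ₜ[A] D Λ A a)
  rw [alphaK_tmul_D, KaehlerDifferential.mapBaseChange_tmul,
    KaehlerDifferential.mapBaseChange_tmul, KaehlerDifferential.map_D, KaehlerDifferential.map_D,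
    ← IsScalarTower.algebraMap_apply]

end CharHomL

end Groth.Agent.H29
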