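import Mathlib
import Groth.Agent.H20.GenFibreNowhereDense
import Groth.Agent.H12.Constr

/-!
# Closure commutes with passage to fibres near the generic point (helper29; EGA IV 9.5.3)

For `p : P ⟶ S` of finite type over an integral Noetherian scheme, a closed subset `C` of `P` and a
closed nowhere dense (in `C`) subset `B ⊆ C`, the fibres of `C \ B` are dense in the fibres of `C`
over a neighbourhood of the generic point.  Based on helper20's spreading-out of nowhere density.
-/

set_option autoImplicit false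
universe u

open AlgebraicGeometry CategoryTheory Limits Topology TopologicalSpace

namespace Groth.Agent.H29.ClosureFib

/-- A closed set with empty interior in a Noetherian scheme has nowhere dense trace on the generic
fibre. -/
theorem isNowhereDense_generic_fiber {C S : Scheme.{u}} (q : C ⟶ S) [IrreducibleSpace S]
    [NoetherianSpace C] (B : Set C) (hB : IsClosed B) (hBn : interior B = ∅) :
    IsNowhereDense ((q.fiberι (genericPoint S)) ⁻¹' B) := by
  have hK : IsClosed ((q.fiberι (genericPoint S)) ⁻¹' B) :=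
    hB.preimage (q.fiberι (genericPoint S)).continuous
  rw [IsNowhereDense, hK.closure_eq, Set.eq_empty_iff_forall_notMem]
  intro w hw
  obtain ⟨O', hO'K, hO', hwO'⟩ := mem_interior.mp hw
  obtain ⟨O, hO, rfl⟩ :=
    (q.fiberι (genericPoint S)).isEmbedding.isInducing.isOpen_iff.mp hO'
  set c := q.fiberι (genericPoint S) w with hc
  have hcO : c ∈ O := hwO'
  have hqc : q c = genericPoint S := by
    have : c ∈ Set.range (q.fiberι (genericPoint S)) := ⟨w, rfl⟩
    rw [Scheme.Hom.range_fiberι] at this
    exact this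
  -- generic point of an irreducible component through `c`
  obtain ⟨ξ, hξ⟩ := QuasiSober.sober (isIrreducible_irreducibleComponent (x := c))
    isClosed_irreducibleComponent
  have hξc : ξ ⤳ c := by
    rw [specializes_iff_mem_closure, hξ.def]
    exact mem_irreducibleComponent
  have hξO : ξ ∈ O := hξc.mem_open hO hcO
  have hqξ : q ξ = genericPoint S := by
    have h1 : q ξ ⤳ q c := hξc.map q.continuous
    rw [hqc] at h1
    exact (h1.antisymm (genericPoint_specializes _)).eq
  obtain ⟨w', hw'⟩ : ξ ∈ Set.range (q.fiberι (genericPoint S)) := by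
    rw [Scheme.Hom.range_fiberι]; exact hqξ
  have hξB : ξ ∈ B := by
    have : w' ∈ (q.fiberι (genericPoint S)) ⁻¹' O := by
      change q.fiberι (genericPoint S) w' ∈ O
      rw [hw']; exact hξO
    have := hO'K this
    change q.fiberι (genericPoint S) w' ∈ B at this
    rwa [hw'] at this
  have hcomp : irreducibleComponent c ⊆ B := by
    rw [← hξ.def]
    exact closure_minimal (Set.singleton_subset_iff.mpr hξB) hB
  obtain ⟨o, ho, hone, hosub⟩ :=
    NoetherianSpace.exists_isOpen_nonempty_subset_irreducibleComponent (irreducibleComponent c)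
      (irreducibleComponent_mem_irreducibleComponents c)
  have : o ⊆ interior B := interior_maximal (hosub.trans hcomp) ho
  rw [hBn] at this
  exact hone.ne_empty (Set.subset_empty_iff.mp this)

/-- **Closure commutes with fibres near the generic point.** -/
theorem exists_nhd_closure_fiber {P S : Scheme.{u}} (p : P ⟶ S) [IsIntegral S] [IsNoetherian S]
    [LocallyOfFiniteType p] [QuasiCompact p] (C B : Set P) (hC : IsClosed C) (hB : IsClosed B)
    (hdense : C ⊆ closure (C \ B)) :
    ∃ U : Set S, IsOpen U ∧ genericPoint S ∈ U ∧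
      ∀ s ∈ U, C ∩ p ⁻¹' {s} ⊆ closure ((C \ B) ∩ p ⁻¹' {s}) := by
  have : IsLocallyNoetherian P := LocallyOfFiniteType.isLocallyNoetherian p
  have : CompactSpace P := QuasiCompact.compactSpace_of_compactSpace p
  have : IsNoetherian P := {}
  let I := Scheme.IdealSheafData.vanishingIdeal ⟨C, hC⟩
  let i := I.subschemeι
  have hrange : Set.range i = C := by
    rw [Scheme.IdealSheafData.range_subschemeι, Scheme.IdealSheafData.coe_support_vanishingIdeal]
    rfl
  have : IsLocallyNoetherian I.subscheme := LocallyOfFiniteType.isLocallyNoetherian i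
  have : CompactSpace I.subscheme := QuasiCompact.compactSpace_of_compactSpace i
  have : IsNoetherian I.subscheme := {}
  set B' : Set I.subscheme := i ⁻¹' B with hB'
  have hB'c : IsClosed B' := hB.preimage i.continuous
  have hB'n : interior B' = ∅ := by
    rw [Set.eq_empty_iff_forall_notMem]
    intro c' hc'
    obtain ⟨o, hoB, ho, hc'o⟩ := mem_interior.mp hc'
    obtain ⟨O, hO, rfl⟩ := i.isEmbedding.isInducing.isOpen_iff.mp ho
    have hiC : i c' ∈ C := hrange ▸ ⟨c', rfl⟩
    have h1 : i c' ∈ closure (C \ B) := hdense hiC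
    obtain ⟨z, hzO, hzC, hzB⟩ := mem_closure_iff.mp h1 O hO hc'o
    obtain ⟨z', rfl⟩ : z ∈ Set.range i := hrange ▸ hzC
    exact hzB (hoB hzO)
  have hnd := isNowhereDense_generic_fiber (i ≫ p) B' hB'c hB'n
  obtain ⟨V, hVne, hV⟩ :=
    Groth.Agent.H20.GenFibre.exists_open_isNowhereDense_fiber (i ≫ p) B' hB'c hnd
  have hηV : genericPoint S ∈ V :=
    ((genericPoint_spec S).mem_open_set_iff V.isOpen).mpr (by simpa using hVne)
  refine ⟨V, V.isOpen, hηV, ?_⟩
  rintro s hs c ⟨hcC, hcs⟩
  rw [mem_closure_iff]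
  intro O hO hcO
  obtain ⟨c', rfl⟩ : c ∈ Set.range i := hrange ▸ hcC
  have hqc : (i ≫ p) c' = s := hcs
  obtain ⟨w, hw⟩ : c' ∈ Set.range ((i ≫ p).fiberι s) := by
    rw [Scheme.Hom.range_fiberι]; exact hqc
  have hK := hV s hs
  have hKc : IsClosed (((i ≫ p).fiberι s) ⁻¹' B') :=
    hB'c.preimage ((i ≫ p).fiberι s).continuous
  rw [IsNowhereDense, hKc.closure_eq] at hK
  set O' : Set ((i ≫ p).fiber s) := ((i ≫ p).fiberι s) ⁻¹' (i ⁻¹' O) with hO'
  have hO'o : IsOpen O' := (hO.preimage i.continuous).preimage ((i ≫ p).fiberι s).continuous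
  have hwO' : w ∈ O' := by
    change i ((i ≫ p).fiberι s w) ∈ O
    rw [hw]; exact hcO
  have hnot : ¬ O' ⊆ ((i ≫ p).fiberι s) ⁻¹' B' := by
    intro hsub
    have : w ∈ interior (((i ≫ p).fiberι s) ⁻¹' B') := mem_interior.mpr ⟨O', hsub, hO'o, hwO'⟩
    rw [hK] at this
    exact this
  obtain ⟨w₁, hw₁O, hw₁B⟩ := Set.not_subset.mp hnot
  refine ⟨i ((i ≫ p).fiberι s w₁), hw₁O, ⟨hrange ▸ ⟨_, rfl⟩, hw₁B⟩, ?_⟩
  have : (i ≫ p).fiberι s w₁ ∈ Set.range ((i ≫ p).fiberι s) := ⟨w₁, rfl⟩
  rw [Scheme.Hom.range_fiberι] at this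
  exact this

end Groth.Agent.H29.ClosureFib
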