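import Mathlib
import Groth.Prelude.Def_EGA4Misc
import Groth.Agent.H99.FibrewiseCons

/-!
# Fibres of the diagonal, II (helper29; for S3424)

The fibre `(Δ_f)_s` of the diagonal of `f` is isomorphic, as an arrow, to the diagonal of `f_s`.
-/

set_option autoImplicit false
universe u

open AlgebraicGeometry CategoryTheory Limits

namespace Groth.Agent.H29.DiagFib

/-- Abstract form: the base change of the diagonal of `f` to the fibre is isomorphic to the diagonal
of the base change `fs` of `f`. -/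
theorem exists_arrow_iso_of_isPullback {X Y S T : Scheme.{u}} (f : X ⟶ Y) (g : Y ⟶ S) (m : T ⟶ S)
    {Ys Xs Ps Xs' : Scheme.{u}} {ιY : Ys ⟶ Y} {gs : Ys ⟶ T} {ιX : Xs ⟶ X} {fs : Xs ⟶ Ys}
    {ιP : Ps ⟶ pullback f f} {ps : Ps ⟶ T} {ιX' : Xs' ⟶ X} {Δs : Xs' ⟶ Ps}
    (hY : IsPullback ιY gs g m) (hX : IsPullback ιX fs f ιY)
    (hP : IsPullback ιP ps (pullback.fst f f ≫ f ≫ g) m)
    (hΔ : IsPullback ιX' Δs (pullback.diagonal f) ιP) :
    ∃ (a : Ps ≅ pullback fs fs) (c : Xs' ≅ Xs), Δs ≫ a.hom = c.hom ≫ pullback.diagonal fs := by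
  -- the common map to `Ys`
  have hv : (ιP ≫ pullback.fst f f ≫ f) ≫ g = ps ≫ m := by
    simpa only [Category.assoc] using hP.w
  let v : Ps ⟶ Ys := hY.lift (ιP ≫ pullback.fst f f ≫ f) ps hv
  have hv1 : v ≫ ιY = ιP ≫ pullback.fst f f ≫ f := hY.lift_fst _ _ _
  have hv2 : v ≫ gs = ps := hY.lift_snd _ _ _
  have h1 : (ιP ≫ pullback.fst f f) ≫ f = v ≫ ιY := by rw [hv1, Category.assoc]
  have h2 : (ιP ≫ pullback.snd f f) ≫ f = v ≫ ιY := by
    rw [hv1, Category.assoc, ← pullback.condition]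
  let u1 : Ps ⟶ Xs := hX.lift (ιP ≫ pullback.fst f f) v h1
  let u2 : Ps ⟶ Xs := hX.lift (ιP ≫ pullback.snd f f) v h2
  have hu1a : u1 ≫ ιX = ιP ≫ pullback.fst f f := hX.lift_fst _ _ h1
  have hu1b : u1 ≫ fs = v := hX.lift_snd _ _ h1
  have hu2a : u2 ≫ ιX = ιP ≫ pullback.snd f f := hX.lift_fst _ _ h2
  have hu2b : u2 ≫ fs = v := hX.lift_snd _ _ h2
  let ah : Ps ⟶ pullback fs fs := pullback.lift u1 u2 (hu1b.trans hu2b.symm)
  have hah1 : ah ≫ pullback.fst fs fs = u1 := pullback.lift_fst _ _ _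
  have hah2 : ah ≫ pullback.snd fs fs = u2 := pullback.lift_snd _ _ _
  -- the map of pullbacks
  let μ : pullback fs fs ⟶ pullback f f :=
    pullback.map fs fs f f ιX ιX ιY hX.w.symm hX.w.symm
  have hμ1 : μ ≫ pullback.fst f f = pullback.fst fs fs ≫ ιX := pullback.lift_fst _ _ _
  have hμ2 : μ ≫ pullback.snd f f = pullback.snd fs fs ≫ ιX := pullback.lift_snd _ _ _
  have hai : μ ≫ (pullback.fst f f ≫ f ≫ g) = (pullback.fst fs fs ≫ fs ≫ gs) ≫ m := by
    rw [← Category.assoc, hμ1]
    simp only [Category.assoc]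
    rw [← hY.w, ← Category.assoc fs, ← hX.w]
    simp
  let ai : pullback fs fs ⟶ Ps := hP.lift μ (pullback.fst fs fs ≫ fs ≫ gs) hai
  have hai1 : ai ≫ ιP = μ := hP.lift_fst _ _ hai
  have hai2 : ai ≫ ps = pullback.fst fs fs ≫ fs ≫ gs := hP.lift_snd _ _ hai
  have haiv : ai ≫ v = pullback.fst fs fs ≫ fs := by
    apply hY.hom_ext
    · rw [Category.assoc, hv1, ← Category.assoc, hai1, ← Category.assoc, hμ1]
      simp only [Category.assoc]
      rw [hX.w]
    · rw [Category.assoc, hv2, hai2, Category.assoc]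
  have haiu1 : ai ≫ u1 = pullback.fst fs fs := by
    apply hX.hom_ext
    · rw [Category.assoc, hu1a, ← Category.assoc, hai1, hμ1]
    · rw [Category.assoc, hu1b, haiv]
  have haiu2 : ai ≫ u2 = pullback.snd fs fs := by
    apply hX.hom_ext
    · rw [Category.assoc, hu2a, ← Category.assoc, hai1, hμ2]
    · rw [Category.assoc, hu2b, haiv, pullback.condition]
  have hahai : ah ≫ ai = 𝟙 Ps := by
    apply hP.hom_ext
    · rw [Category.assoc, hai1, Category.id_comp]
      apply pullback.hom_ext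
      · rw [Category.assoc, hμ1, ← Category.assoc, hah1, hu1a]
      · rw [Category.assoc, hμ2, ← Category.assoc, hah2, hu2a]
    · rw [Category.assoc, hai2, ← Category.assoc, hah1, ← Category.assoc, hu1b, hv2,
        Category.id_comp]
  have haiah : ai ≫ ah = 𝟙 (pullback fs fs) := by
    apply pullback.hom_ext
    · rw [Category.assoc, hah1, haiu1, Category.id_comp]
    · rw [Category.assoc, hah2, haiu2, Category.id_comp]
  let a : Ps ≅ pullback fs fs := ⟨ah, ai, hahai, haiah⟩
  -- the iso of sources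
  have hch : ιX' ≫ f = (Δs ≫ v) ≫ ιY := by
    rw [Category.assoc, hv1, ← Category.assoc, ← hΔ.w]
    simp
  let ch : Xs' ⟶ Xs := hX.lift ιX' (Δs ≫ v) hch
  have hch1 : ch ≫ ιX = ιX' := hX.lift_fst _ _ hch
  have hch2 : ch ≫ fs = Δs ≫ v := hX.lift_snd _ _ hch
  have hci : ιX ≫ pullback.diagonal f = (pullback.diagonal fs ≫ ai) ≫ ιP := by
    rw [Category.assoc, hai1]
    apply pullback.hom_ext
    · simp only [Category.assoc, pullback.diagonal_fst, Category.comp_id]
      rw [hμ1, ← Category.assoc, pullback.diagonal_fst, Category.id_comp]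
    · simp only [Category.assoc, pullback.diagonal_snd, Category.comp_id]
      rw [hμ2, ← Category.assoc, pullback.diagonal_snd, Category.id_comp]
  let ci : Xs ⟶ Xs' := hΔ.lift ιX (pullback.diagonal fs ≫ ai) hci
  have hci1 : ci ≫ ιX' = ιX := hΔ.lift_fst _ _ hci
  have hci2 : ci ≫ Δs = pullback.diagonal fs ≫ ai := hΔ.lift_snd _ _ hci
  have hmain : Δs ≫ ah = ch ≫ pullback.diagonal fs := by
    apply pullback.hom_ext
    · rw [Category.assoc, hah1, Category.assoc, pullback.diagonal_fst, Category.comp_id]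
      apply hX.hom_ext
      · rw [Category.assoc, hu1a, ← Category.assoc, ← hΔ.w, hch1]
        simp
      · rw [Category.assoc, hu1b, hch2]
    · rw [Category.assoc, hah2, Category.assoc, pullback.diagonal_snd, Category.comp_id]
      apply hX.hom_ext
      · rw [Category.assoc, hu2a, ← Category.assoc, ← hΔ.w, hch1]
        simp
      · rw [Category.assoc, hu2b, hch2]
  have hchci : ch ≫ ci = 𝟙 Xs' := by
    apply hΔ.hom_ext
    · rw [Category.assoc, hci1, hch1, Category.id_comp]
    · rw [Category.assoc, hci2, ← Category.assoc, ← hmain, Category.assoc, hahai,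
        Category.comp_id, Category.id_comp]
  have hcich : ci ≫ ch = 𝟙 Xs := by
    apply hX.hom_ext
    · rw [Category.assoc, hch1, hci1, Category.id_comp]
    · rw [Category.assoc, hch2, ← Category.assoc, hci2, Category.assoc, haiv,
        ← Category.assoc, pullback.diagonal_fst, Category.id_comp]
  exact ⟨a, ⟨ch, ci, hchci, hcich⟩, hmain⟩

/-- Transfer of an iso-invariant property between the fibre of the diagonal and the diagonal of the
fibre. -/
theorem diagonal_fiberMap_iff (Q : MorphismProperty Scheme.{u}) [Q.RespectsIso]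
    {X Y S : Scheme.{u}} (f : X ⟶ Y) (g : Y ⟶ S) (s : S) :
    Q (pullback.diagonal (MoreMor.fiberMap f g s)) ↔
      Q (MoreMor.fiberMap (pullback.diagonal f) (pullback.fst f f ≫ f ≫ g) s) := by
  obtain ⟨a, c, h⟩ := exists_arrow_iso_of_isPullback f g (S.fromSpecResidueField s)
    (IsPullback.of_hasPullback g _)
    (Groth.Agent.H99.FibrewiseCons.isPullback_fiberMap f g s)
    (IsPullback.of_hasPullback _ _)
    (Groth.Agent.H99.FibrewiseCons.isPullback_fiberMap (pullback.diagonal f) _ s)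
  calc Q (pullback.diagonal (MoreMor.fiberMap f g s))
      ↔ Q (c.hom ≫ pullback.diagonal (MoreMor.fiberMap f g s)) :=
        (Q.cancel_left_of_respectsIso c.hom _).symm
    _ ↔ Q (MoreMor.fiberMap (pullback.diagonal f) (pullback.fst f f ≫ f ≫ g) s ≫ a.hom) :=
        (congrArg (fun φ => Q φ) h.symm).to_iff
    _ ↔ Q (MoreMor.fiberMap (pullback.diagonal f) (pullback.fst f f ≫ f ≫ g) s) :=
        Q.cancel_right_of_respectsIso _ a.hom

end Groth.Agent.H29.DiagFib
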