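import Mathlib
import Groth.Prelude.Def_EGA4Misc
import Groth.Agent.H99.FibrewiseCons

/-!
# Base change of `ConsProp.locusMor` (helper29; for S5880, S5881)
-/

set_option autoImplicit false
set_option backward.isDefEq.respectTransparency.types false
universe u

open AlgebraicGeometry CategoryTheory TopologicalSpace Limits Topology

namespace Groth.Agent.H29.ConsMorA

open Groth.Agent.H99.FibrewiseCons

/-- the canonical map between fibres induced by a commutative square -/
noncomputable def fibMap {X S X' S' : Scheme.{u}} (u : X ⟶ S) (u' : X' ⟶ S') (e : X' ⟶ X) (h : S' ⟶ S)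
    (w : u' ≫ h = e ≫ u) (s' : S') : u'.fiber s' ⟶ u.fiber (h s') :=
  pullback.map u' (S'.fromSpecResidueField s') u (S.fromSpecResidueField (h s')) e
    (Spec.map (h.residueFieldMap s')) h w (by simp)

theorem fibMap_fiberι {X S X' S' : Scheme.{u}} (u : X ⟶ S) (u' : X' ⟶ S') (e : X' ⟶ X) (h : S' ⟶ S)
    (w : u' ≫ h = e ≫ u) (s' : S') :
    fibMap u u' e h w s' ≫ u.fiberι (h s') = u'.fiberι s' ≫ e :=
  pullback.lift_fst _ _ _

theorem fibMap_fiberToSpec {X S X' S' : Scheme.{u}} (u : X ⟶ S) (u' : X' ⟶ S') (e : X' ⟶ X)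
    (h : S' ⟶ S) (w : u' ≫ h = e ≫ u) (s' : S') :
    fibMap u u' e h w s' ≫ u.fiberToSpecResidueField (h s') =
      u'.fiberToSpecResidueField s' ≫ Spec.map (h.residueFieldMap s') :=
  pullback.lift_snd _ _ _

theorem fiber_hom_ext {X S W : Scheme.{u}} (u : X ⟶ S) (s : S) {a b : W ⟶ u.fiber s}
    (h1 : a ≫ u.fiberι s = b ≫ u.fiberι s)
    (h2 : a ≫ u.fiberToSpecResidueField s = b ≫ u.fiberToSpecResidueField s) : a = b :=
  pullback.hom_ext h1 h2

theorem isPullback_fibMap {X S X' S' : Scheme.{u}} {u : X ⟶ S} {u' : X' ⟶ S'} {e : X' ⟶ X}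
    {h : S' ⟶ S} (hpb : IsPullback e u' u h) (s' : S') :
    IsPullback (fibMap u u' e h hpb.w.symm s') (u'.fiberToSpecResidueField s')
      (u.fiberToSpecResidueField (h s')) (Spec.map (h.residueFieldMap s')) :=
  isPullback_fiberToSpecResidueField_of_isPullback hpb s'

theorem fibMap_comp_fiberMap {X Y S X' Y' S' : Scheme.{u}} {f : X ⟶ Y} {g : Y ⟶ S} {f' : X' ⟶ Y'}
    {g' : Y' ⟶ S'} {eX : X' ⟶ X} {eY : Y' ⟶ Y} {h : S' ⟶ S}
    (hY : IsPullback eY g' g h) (hX : IsPullback eX f' f eY) (s' : S')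
    (w1 : (f' ≫ g') ≫ h = eX ≫ f ≫ g) :
    fibMap (f ≫ g) (f' ≫ g') eX h w1 s' ≫ MoreMor.fiberMap f g (h s') =
    MoreMor.fiberMap f' g' s' ≫ fibMap g g' eY h hY.w.symm s' := by
  apply fiber_hom_ext
  · rw [Category.assoc, Category.assoc, fiberMap_fiberι, fibMap_fiberι, ← Category.assoc,
      fibMap_fiberι, ← Category.assoc, fiberMap_fiberι, Category.assoc, Category.assoc, hX.w]
  · rw [Category.assoc, Category.assoc, fiberMap_fiberToSpecResidueField, fibMap_fiberToSpec,
      fibMap_fiberToSpec, ← Category.assoc, fiberMap_fiberToSpecResidueField]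

instance subsingleton_spec_residueField (S : Scheme.{u}) (s : S) :
    Subsingleton ↥(Spec (S.residueField s)) :=
  inferInstanceAs (Subsingleton (PrimeSpectrum (S.residueField s)))

variable {P : ∀ ⦃X Y T : Scheme.{u}⦄, (X ⟶ Y) → (Y ⟶ T) → Prop}

/-- The locus of a field-stable relation on morphisms is compatible with base change. -/
theorem mem_locusMor_base_change (hP : ConsProp.IsFieldStableMor P)
    {X Y S X' Y' S' : Scheme.{u}} {f : X ⟶ Y} {g : Y ⟶ S} {f' : X' ⟶ Y'} {g' : Y' ⟶ S'}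
    {eX : X' ⟶ X} {eY : Y' ⟶ Y} {h : S' ⟶ S}
    [LocallyOfFiniteType g] [QuasiCompact g] [LocallyOfFiniteType (f ≫ g)] [QuasiCompact (f ≫ g)]
    (hY : IsPullback eY g' g h) (hX : IsPullback eX f' f eY) (s' : S') :
    s' ∈ ConsProp.locusMor P f' g' ↔ h s' ∈ ConsProp.locusMor P f g := by
  have hXS : IsPullback eX (f' ≫ g') (f ≫ g) h := hX.paste_vert hY
  have hYs := isPullback_fibMap hY s'
  have hXs := isPullback_fibMap hXS s'
  have hcomm := fibMap_comp_fiberMap hY hX s' hXS.w.symm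
  have hXs' : IsPullback (fibMap (f ≫ g) (f' ≫ g') eX h hXS.w.symm s')
      (MoreMor.fiberMap f' g' s' ≫ g'.fiberToSpecResidueField s')
      (MoreMor.fiberMap f g (h s') ≫ g.fiberToSpecResidueField (h s'))
      (Spec.map (h.residueFieldMap s')) := by
    rw [fiberMap_fiberToSpecResidueField, fiberMap_fiberToSpecResidueField]
    exact hXs
  have hsq : IsPullback (fibMap (f ≫ g) (f' ≫ g') eX h hXS.w.symm s') (MoreMor.fiberMap f' g' s')
      (MoreMor.fiberMap f g (h s')) (fibMap g g' eY h hY.w.symm s') :=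
    IsPullback.of_bot hXs' hcomm hYs
  have : LocallyOfFiniteType (g.fiberToSpecResidueField (h s')) :=
    MorphismProperty.pullback_snd _ _ inferInstance
  have : QuasiCompact (g.fiberToSpecResidueField (h s')) :=
    MorphismProperty.pullback_snd _ _ inferInstance
  have : LocallyOfFiniteType (MoreMor.fiberMap f g (h s') ≫ g.fiberToSpecResidueField (h s')) := by
    rw [fiberMap_fiberToSpecResidueField]
    exact MorphismProperty.pullback_snd _ _ inferInstance
  have : QuasiCompact (MoreMor.fiberMap f g (h s') ≫ g.fiberToSpecResidueField (h s')) := by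
    rw [fiberMap_fiberToSpecResidueField]
    exact MorphismProperty.pullback_snd _ _ inferInstance
  exact (hP (MoreMor.fiberMap f g (h s')) (g.fiberToSpecResidueField (h s'))
    (MoreMor.fiberMap f' g' s') (g'.fiberToSpecResidueField s') _ _
    (Spec.map (h.residueFieldMap s')) hYs hsq).symm

theorem locusMor_base_change (hP : ConsProp.IsFieldStableMor P)
    {X Y S X' Y' S' : Scheme.{u}} {f : X ⟶ Y} {g : Y ⟶ S} {f' : X' ⟶ Y'} {g' : Y' ⟶ S'}
    {eX : X' ⟶ X} {eY : Y' ⟶ Y} {h : S' ⟶ S}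
    [LocallyOfFiniteType g] [QuasiCompact g] [LocallyOfFiniteType (f ≫ g)] [QuasiCompact (f ≫ g)]
    (hY : IsPullback eY g' g h) (hX : IsPullback eX f' f eY) :
    ConsProp.locusMor P f' g' = h.base ⁻¹' ConsProp.locusMor P f g := by
  ext s'
  exact mem_locusMor_base_change hP hY hX s'

end Groth.Agent.H29.ConsMorA
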