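import Mathlib
import Groth.Prelude.Def_EGA4Misc
import Groth.Agent.H24.FGSubAlg
import Groth.Agent.S0591
import Groth.Agent.S9218

/-!
# Noetherian approximation of a pair `X ⟶ Y ⟶ Spec A` (helper29; for S5880, S5881)
-/

set_option autoImplicit false
set_option backward.isDefEq.respectTransparency.types false
universe u

open AlgebraicGeometry CategoryTheory TopologicalSpace Limits Topology

namespace Groth.Agent.H29.ConsMorC

open Groth.Agent.H24.FGSubAlg

variable (A : Type u) [CommRing A]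

instance affineHom_specDiagram (R : Type u) [CommRing R] [Algebra R A] {i j : (Idx R A)ᵒᵖ}
    (a : i ⟶ j) : IsAffineHom ((specDiagram R A).map a) := by
  change IsAffineHom (Spec.map _)
  infer_instance

instance compact_specDiagram (R : Type u) [CommRing R] [Algebra R A] (i : (Idx R A)ᵒᵖ) :
    CompactSpace ((specDiagram R A).obj i) := by
  change CompactSpace (Spec _)
  infer_instance

instance qs_specDiagram (R : Type u) [CommRing R] [Algebra R A] (i : (Idx R A)ᵒᵖ) :
    QuasiSeparatedSpace ((specDiagram R A).obj i) := by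
  change QuasiSeparatedSpace (Spec _)
  infer_instance

instance affine_specDiagram (R : Type u) [CommRing R] [Algebra R A] (i : (Idx R A)ᵒᵖ) :
    IsAffine ((specDiagram R A).obj i) := by
  change IsAffine (Spec _)
  infer_instance

theorem noeth_specDiagram (R : Type u) [CommRing R] [IsNoetherianRing R] [Algebra R A]
    (i : (Idx R A)ᵒᵖ) : IsNoetherian ((specDiagram R A).obj i) := by
  have : IsNoetherianRing i.unop.1 := by
    have : Algebra.FiniteType R i.unop.1 := (Subalgebra.fg_iff_finiteType i.unop.1).mp i.unop.2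
    exact Algebra.FiniteType.isNoetherianRing R i.unop.1
  change IsNoetherian (Spec (CommRingCat.of i.unop.1))
  infer_instance

/-- Abstract version: descent of a pair of morphisms of finite presentation along a cofiltered
limit with affine transition maps and qcqs terms. -/
theorem exists_descent_pair {I : Type u} [SmallCategory I] [IsCofiltered I]
    (D : I ⥤ Scheme.{u}) (c : Limits.Cone D) (hc : Limits.IsLimit c)
    [∀ (i j : I) (f : i ⟶ j), IsAffineHom (D.map f)] [∀ i, CompactSpace (D.obj i)]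
    [∀ i, QuasiSeparatedSpace (D.obj i)] {X Y : Scheme.{u}} (f : X ⟶ Y) (g : Y ⟶ c.pt)
    [LocallyOfFinitePresentation g] [QuasiCompact g] [QuasiSeparated g]
    [LocallyOfFinitePresentation (f ≫ g)] [QuasiCompact (f ≫ g)] [QuasiSeparated (f ≫ g)] :
    ∃ (j : I) (Yj Xj : Scheme.{u}) (gj : Yj ⟶ D.obj j) (fj : Xj ⟶ Yj) (eY : Y ⟶ Yj) (eX : X ⟶ Xj),
      IsPullback eY g gj (c.π.app j) ∧ IsPullback eX f fj eY ∧
      LocallyOfFinitePresentation gj ∧ QuasiCompact gj ∧ QuasiSeparated gj ∧
      LocallyOfFinitePresentation (fj ≫ gj) ∧ QuasiCompact (fj ≫ gj) ∧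
      QuasiSeparated (fj ≫ gj) := by
  obtain ⟨i, Yi, gi, qY, hgi1, hgi2, hgi3, hYi⟩ := Groth.Agent.S0591.result D c hc Y g
  obtain ⟨i', Xi, xi, qX, hxi1, hxi2, hxi3, hXi⟩ := Groth.Agent.S0591.result D c hc X (f ≫ g)
  -- common index
  let k := IsCofiltered.min i i'
  let a : k ⟶ i := IsCofiltered.minToLeft i i'
  let b : k ⟶ i' := IsCofiltered.minToRight i i'
  let yk : pullback gi (D.map a) ⟶ D.obj k := pullback.snd gi (D.map a)
  let xk : pullback xi (D.map b) ⟶ D.obj k := pullback.snd xi (D.map b)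
  have hwY : qY ≫ gi = (g ≫ c.π.app k) ≫ D.map a := by
    rw [Category.assoc, c.w, hYi.w]
  have hwX : qX ≫ xi = ((f ≫ g) ≫ c.π.app k) ≫ D.map b := by
    rw [Category.assoc, c.w, hXi.w]
  let qYk : Y ⟶ pullback gi (D.map a) := pullback.lift qY (g ≫ c.π.app k) hwY
  let qXk : X ⟶ pullback xi (D.map b) := pullback.lift qX ((f ≫ g) ≫ c.π.app k) hwX
  have hYk : IsPullback qYk g yk (c.π.app k) := by
    refine IsPullback.of_right (h₁₂ := pullback.fst gi (D.map a)) (h₂₂ := D.map a) (v₁₃ := gi) ?_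
      (pullback.lift_snd _ _ _) (IsPullback.of_hasPullback gi (D.map a))
    rw [pullback.lift_fst, c.w]
    exact hYi
  have hXk : IsPullback qXk (f ≫ g) xk (c.π.app k) := by
    refine IsPullback.of_right (h₁₂ := pullback.fst xi (D.map b)) (h₂₂ := D.map b) (v₁₃ := xi) ?_
      (pullback.lift_snd _ _ _) (IsPullback.of_hasPullback xi (D.map b))
    rw [pullback.lift_fst, c.w]
    exact hXi
  have : LocallyOfFinitePresentation yk := MorphismProperty.pullback_snd _ _ hgi1
  have : LocallyOfFinitePresentation xk := MorphismProperty.pullback_snd _ _ hxi1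
  have : QuasiCompact yk := MorphismProperty.pullback_snd _ _ hgi2
  have : QuasiCompact xk := MorphismProperty.pullback_snd _ _ hxi2
  have : QuasiSeparated yk := MorphismProperty.pullback_snd _ _ hgi3
  have : QuasiSeparated xk := MorphismProperty.pullback_snd _ _ hxi3
  have : CompactSpace ↥(pullback gi (D.map a)) := QuasiCompact.compactSpace_of_compactSpace yk
  have : CompactSpace ↥(pullback xi (D.map b)) := QuasiCompact.compactSpace_of_compactSpace xk
  have : QuasiSeparatedSpace ↥(pullback gi (D.map a)) :=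
    quasiSeparatedSpace_of_quasiSeparated yk
  have : QuasiSeparatedSpace ↥(pullback xi (D.map b)) :=
    quasiSeparatedSpace_of_quasiSeparated xk
  obtain ⟨j, φ, fj, sX, sY, h1, h2, h3, h4, h5, h6⟩ :=
    Groth.Agent.S9218.result D c hc k xk yk qXk (f ≫ g) hXk qYk g hYk f rfl
  have hYj : IsPullback sY g (pullback.snd yk (D.map φ)) (c.π.app j) := by
    refine IsPullback.of_right (h₁₂ := pullback.fst yk (D.map φ)) (h₂₂ := D.map φ) (v₁₃ := yk) ?_
      h5 (IsPullback.of_hasPullback yk (D.map φ))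
    rw [h4, c.w]
    exact hYk
  have hXj : IsPullback sX (f ≫ g) (pullback.snd xk (D.map φ)) (c.π.app j) := by
    refine IsPullback.of_right (h₁₂ := pullback.fst xk (D.map φ)) (h₂₂ := D.map φ) (v₁₃ := xk) ?_
      h3 (IsPullback.of_hasPullback xk (D.map φ))
    rw [h2, c.w]
    exact hXk
  have hXj' : IsPullback sX (f ≫ g) (fj ≫ pullback.snd yk (D.map φ)) (c.π.app j) := by
    rw [h1]; exact hXj
  have hXY : IsPullback sX f fj sY := IsPullback.of_bot hXj' h6 hYj
  refine ⟨j, pullback yk (D.map φ), pullback xk (D.map φ), pullback.snd yk (D.map φ), fj, sY, sX,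
    hYj, hXY, MorphismProperty.pullback_snd _ _ inferInstance,
    MorphismProperty.pullback_snd _ _ inferInstance,
    MorphismProperty.pullback_snd _ _ inferInstance, ?_, ?_, ?_⟩
  · rw [h1]; exact MorphismProperty.pullback_snd _ _ inferInstance
  · rw [h1]; exact MorphismProperty.pullback_snd _ _ inferInstance
  · rw [h1]; exact MorphismProperty.pullback_snd _ _ inferInstance

/-- Noetherian approximation of a pair `X ⟶ Y ⟶ Spec A` of morphisms of finite presentation. -/
theorem exists_noetherian_descent_pair {X Y : Scheme.{u}} (f : X ⟶ Y)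
    (g : Y ⟶ Spec (CommRingCat.of A))
    [LocallyOfFinitePresentation g] [QuasiCompact g] [QuasiSeparated g]
    [LocallyOfFinitePresentation (f ≫ g)] [QuasiCompact (f ≫ g)] [QuasiSeparated (f ≫ g)] :
    ∃ (S₀ Y₀ X₀ : Scheme.{u}) (g₀ : Y₀ ⟶ S₀) (f₀ : X₀ ⟶ Y₀) (h : Spec (CommRingCat.of A) ⟶ S₀)
      (eY : Y ⟶ Y₀) (eX : X ⟶ X₀),
      IsNoetherian S₀ ∧ IsPullback eY g g₀ h ∧ IsPullback eX f f₀ eY ∧
      LocallyOfFinitePresentation g₀ ∧ QuasiCompact g₀ ∧ QuasiSeparated g₀ ∧
      LocallyOfFinitePresentation (f₀ ≫ g₀) ∧ QuasiCompact (f₀ ≫ g₀) ∧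
      QuasiSeparated (f₀ ≫ g₀) := by
  let _ : Algebra (ULift.{u} ℤ) A :=
    ((Int.castRingHom A).comp (ULift.ringEquiv : ULift.{u} ℤ ≃+* ℤ).toRingHom).toAlgebra
  have : IsNoetherianRing (ULift.{u} ℤ) :=
    isNoetherianRing_of_ringEquiv ℤ (ULift.ringEquiv : ULift.{u} ℤ ≃+* ℤ).symm
  let g' : Y ⟶ (specCone (ULift.{u} ℤ) A).pt := g
  have i1 : LocallyOfFinitePresentation g' := ‹LocallyOfFinitePresentation g›
  have i2 : QuasiCompact g' := ‹QuasiCompact g›
  have i3 : QuasiSeparated g' := ‹QuasiSeparated g›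
  have i4 : LocallyOfFinitePresentation (f ≫ g') := ‹LocallyOfFinitePresentation (f ≫ g)›
  have i5 : QuasiCompact (f ≫ g') := ‹QuasiCompact (f ≫ g)›
  have i6 : QuasiSeparated (f ≫ g') := ‹QuasiSeparated (f ≫ g)›
  obtain ⟨j, Yj, Xj, gj, fj, eY, eX, hY, hX, p1, p2, p3, p4, p5, p6⟩ :=
    exists_descent_pair (specDiagram (ULift.{u} ℤ) A) (specCone (ULift.{u} ℤ) A)
      (isLimitSpecCone (ULift.{u} ℤ) A) f g'
  exact ⟨_, Yj, Xj, gj, fj, (specCone (ULift.{u} ℤ) A).π.app j, eY, eX,
    noeth_specDiagram A (ULift.{u} ℤ) j, hY, hX, p1, p2, p3, p4, p5, p6⟩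

end Groth.Agent.H29.ConsMorC
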