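import Mathlib
import Groth.Prelude.Def_EGA4Misc
import Groth.Prelude.Def_ProCons
import Groth.Agent.H99.FibrewiseCons
import Groth.Agent.H29.ConsMorA

/-!
# `ConsProp.locusMor` over a Noetherian base (helper29; for S5880, S5881)
-/

set_option autoImplicit false
set_option backward.isDefEq.respectTransparency.types false
universe u

open AlgebraicGeometry CategoryTheory TopologicalSpace Limits Topology

namespace Groth.Agent.H29.ConsMorB

open Groth.Agent.H99.FibrewiseCons Groth.Agent.H29.ConsMorA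

variable {P : ∀ ⦃X Y T : Scheme.{u}⦄, (X ⟶ Y) → (Y ⟶ T) → Prop}

/-- Base change of the pair `(f, g)` to the reduced subscheme of an irreducible closed subset. -/
theorem exists_base_change₂ {X Y S : Scheme.{u}} [IsNoetherian S] (f : X ⟶ Y) (g : Y ⟶ S)
    [LocallyOfFiniteType g] [QuasiCompact g] [LocallyOfFiniteType (f ≫ g)] [QuasiCompact (f ≫ g)]
    (Z : Set S) (hZ : IsClosed Z) (hZi : IsIrreducible Z) :
    ∃ (W : Scheme.{u}) (ι : W ⟶ S) (Y' X' : Scheme.{u}) (g' : Y' ⟶ W) (f' : X' ⟶ Y')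
      (eY : Y' ⟶ Y) (eX : X' ⟶ X),
      IsIntegral W ∧ IsNoetherian W ∧ Topology.IsEmbedding ι.base ∧ Set.range ι.base = Z ∧
      IsPullback eY g' g ι ∧ IsPullback eX f' f eY ∧ LocallyOfFiniteType g' ∧ QuasiCompact g' ∧
      LocallyOfFiniteType (f' ≫ g') ∧ QuasiCompact (f' ≫ g') := by
  obtain ⟨W, ι, Y', g', eY, hW1, hW2, hι, hrange, hpb, hg1, hg2⟩ := exists_base_change g Z hZ hZi
  have hX : IsPullback (pullback.fst f eY) (pullback.snd f eY) f eY := IsPullback.of_hasPullback f eY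
  have hXS := hX.paste_vert hpb
  refine ⟨W, ι, Y', pullback f eY, g', pullback.snd f eY, eY, pullback.fst f eY, hW1, hW2, hι,
    hrange, hpb, hX, hg1, hg2, ?_, ?_⟩
  · exact MorphismProperty.of_isPullback (P := @LocallyOfFiniteType) hXS inferInstance
  · exact MorphismProperty.of_isPullback (P := @QuasiCompact) hXS inferInstance

theorem cons_local₂ (hP : ConsProp.IsConsMor P) {X Y S : Scheme.{u}} [IsNoetherian S] (f : X ⟶ Y)
    (g : Y ⟶ S) [LocallyOfFiniteType g] [QuasiCompact g] [LocallyOfFiniteType (f ≫ g)]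
    [QuasiCompact (f ≫ g)] (Z : Set S) (hZ : IsClosed Z) (hZi : IsIrreducible Z) :
    (∃ U : Set S, IsOpen U ∧ (U ∩ Z).Nonempty ∧ U ∩ Z ⊆ ConsProp.locusMor P f g) ∨
      (∃ U : Set S, IsOpen U ∧ (U ∩ Z).Nonempty ∧ U ∩ Z ⊆ (ConsProp.locusMor P f g)ᶜ) := by
  obtain ⟨W, ι, Y', X', g', f', eY, eX, hW1, hW2, hι, hrange, hY, hX, h1, h2, h3, h4⟩ :=
    exists_base_change₂ f g Z hZ hZi
  have hloc := locusMor_base_change hP.1 hY hX
  rcases hP.2 f' g' with h | h
  · left
    apply exists_open_of_interior_nonempty ι hι Z hrange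
    rwa [← hloc]
  · right
    apply exists_open_of_interior_nonempty ι hι Z hrange
    rwa [Set.preimage_compl, ← hloc]

theorem indCons_local₂ (hP : ConsProp.IsIndConsMor P) {X Y S : Scheme.{u}} [IsNoetherian S]
    (f : X ⟶ Y) (g : Y ⟶ S) [LocallyOfFiniteType g] [QuasiCompact g] [LocallyOfFiniteType (f ≫ g)]
    [QuasiCompact (f ≫ g)] (Z : Set S) (hZ : IsClosed Z) (hZi : IsIrreducible Z) (ζ : S)
    (hζ : IsGenericPoint ζ Z) (hζE : ζ ∈ ConsProp.locusMor P f g) :
    ∃ U : Set S, IsOpen U ∧ (U ∩ Z).Nonempty ∧ U ∩ Z ⊆ ConsProp.locusMor P f g := by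
  obtain ⟨W, ι, Y', X', g', f', eY, eX, hW1, hW2, hι, hrange, hY, hX, h1, h2, h3, h4⟩ :=
    exists_base_change₂ f g Z hZ hZi
  have hloc := locusMor_base_change hP.1 hY hX
  apply exists_open_of_interior_nonempty ι hι Z hrange
  rw [← hloc]
  apply hP.2 f' g'
  rw [hloc]
  have hg : IsGenericPoint (ι.base (genericPoint W)) Z := by
    have h1 := (genericPoint_spec W).image ι.continuous
    rwa [Set.image_univ, hrange, hZ.closure_eq] at h1
  have : ι.base (genericPoint W) = ζ := hg.eq hζ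
  change ι.base (genericPoint W) ∈ ConsProp.locusMor P f g
  rw [this]; exact hζE

/-- Over a Noetherian base the locus of a constructible relation on morphisms is constructible. -/
theorem isConstructible_locusMor (hP : ConsProp.IsConsMor P) {X Y S : Scheme.{u}} [IsNoetherian S]
    (f : X ⟶ Y) (g : Y ⟶ S) [LocallyOfFiniteType g] [QuasiCompact g]
    [LocallyOfFiniteType (f ≫ g)] [QuasiCompact (f ≫ g)] :
    IsConstructible (ConsProp.locusMor P f g) := by
  apply Groth.Agent.H12.isConstructible_of_forall_irreducible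
  intro Z hZ hZi
  rcases cons_local₂ hP f g Z hZ hZi with ⟨U, hU, hne, hsub⟩ | ⟨U, hU, hne, hsub⟩
  · right; exact ⟨U, hU, hne, hsub⟩
  · left
    have : IrreducibleSpace ↥Z := Subtype.irreducibleSpace hZi
    have hO : IsOpen (Subtype.val ⁻¹' U : Set Z) := hU.preimage continuous_subtype_val
    have hOne : (Subtype.val ⁻¹' U : Set Z).Nonempty := by
      obtain ⟨y, hyU, hyZ⟩ := hne
      exact ⟨⟨y, hyZ⟩, hyU⟩
    have hd : Dense (Subtype.val ⁻¹' U : Set Z) := hO.dense hOne
    have hsub' : (Subtype.val ⁻¹' (ConsProp.locusMor P f g) : Set Z) ⊆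
        (Subtype.val ⁻¹' U : Set Z)ᶜ := by
      intro z hz hzU
      exact hsub ⟨hzU, z.2⟩ hz
    have hcl : closure (Subtype.val ⁻¹' (ConsProp.locusMor P f g) : Set Z) ⊆
        (Subtype.val ⁻¹' U : Set Z)ᶜ := closure_minimal hsub' hO.isClosed_compl
    rw [IsNowhereDense, Set.eq_empty_iff_forall_notMem]
    intro z hz
    have h1 : z ∈ interior ((Subtype.val ⁻¹' U : Set Z)ᶜ) := interior_mono hcl hz
    rw [interior_compl, hd.closure_eq] at h1
    exact h1 (Set.mem_univ z)

/-- Over a Noetherian base the locus of an ind-constructible relation on morphisms is a union of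
constructible sets. -/
theorem exists_constructible_family_locusMor (hP : ConsProp.IsIndConsMor P) {X Y S : Scheme.{u}}
    [IsNoetherian S] (f : X ⟶ Y) (g : Y ⟶ S) [LocallyOfFiniteType g] [QuasiCompact g]
    [LocallyOfFiniteType (f ≫ g)] [QuasiCompact (f ≫ g)] :
    ∃ 𝒮 : Set (Set S), (∀ T ∈ 𝒮, IsConstructible T) ∧ ConsProp.locusMor P f g = ⋃₀ 𝒮 := by
  refine ⟨{T | IsConstructible T ∧ T ⊆ ConsProp.locusMor P f g}, fun T hT => hT.1, ?_⟩
  apply Set.Subset.antisymm
  · intro s hs
    have hZ : IsClosed (closure ({s} : Set S)) := isClosed_closure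
    have hZi : IsIrreducible (closure ({s} : Set S)) := isIrreducible_singleton.closure
    have hgen : IsGenericPoint s (closure ({s} : Set S)) := rfl
    obtain ⟨U, hU, hne, hsub⟩ := indCons_local₂ hP f g _ hZ hZi s hgen hs
    refine ⟨U ∩ closure {s}, ⟨?_, hsub⟩, ?_⟩
    · exact (Groth.Agent.H12.isConstructible_of_isOpen hU).inter
        (Groth.Agent.H12.isConstructible_of_isClosed hZ)
    · obtain ⟨y, hyU, hyZ⟩ := hne
      refine ⟨?_, subset_closure rfl⟩
      have hsp : s ⤳ y := specializes_iff_mem_closure.mpr hyZ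
      exact hsp.mem_open hU hyU
  · intro s hs
    obtain ⟨T, hT, hsT⟩ := hs
    exact hT.2 hsT

end Groth.Agent.H29.ConsMorB
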