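import Mathlib
import Groth.Prelude.Def_EGA4Misc
import Groth.Prelude.Def_ProCons
import Groth.Agent.H29.ConsMorA
import Groth.Agent.H29.ConsMorB
import Groth.Agent.H29.ConsMorC

/-!
# `ConsProp.locusMor` is locally constructible / ind-constructible (helper29; S5880, S5881)
-/

set_option autoImplicit false
set_option backward.isDefEq.respectTransparency.types false
universe u

open AlgebraicGeometry CategoryTheory TopologicalSpace Limits Topology

namespace Groth.Agent.H29.ConsMorD

open Groth.Agent.H29.ConsMorA Groth.Agent.H29.ConsMorB Groth.Agent.H29.ConsMorC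

variable {P : ∀ ⦃X Y T : Scheme.{u}⦄, (X ⟶ Y) → (Y ⟶ T) → Prop}

/-- A set which is a union of constructible sets. -/
def IsUnionCons {α : Type*} [TopologicalSpace α] (E : Set α) : Prop :=
  ∃ 𝒮 : Set (Set α), (∀ T ∈ 𝒮, IsConstructible T) ∧ E = ⋃₀ 𝒮

theorem IsUnionCons.preimage {X Y : Scheme.{u}} (φ : X ⟶ Y) {E : Set Y} (h : IsUnionCons E) :
    IsUnionCons (φ.base ⁻¹' E) := by
  obtain ⟨𝒮, h𝒮, rfl⟩ := h
  refine ⟨(fun T => φ.base ⁻¹' T) '' 𝒮, ?_, ?_⟩
  · rintro _ ⟨T, hT, rfl⟩
    exact φ.isConstructible_preimage (h𝒮 T hT)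
  · rw [Set.preimage_sUnion, Set.sUnion_image]

/-- The Spec case, constructible version. -/
theorem isConstructible_locusMor_spec (hP : ConsProp.IsConsMor P) (R : CommRingCat.{u})
    {X Y : Scheme.{u}} (f : X ⟶ Y) (g : Y ⟶ Spec R)
    [LocallyOfFinitePresentation g] [QuasiCompact g] [QuasiSeparated g]
    [LocallyOfFinitePresentation (f ≫ g)] [QuasiCompact (f ≫ g)] [QuasiSeparated (f ≫ g)] :
    IsConstructible (ConsProp.locusMor P f g) := by
  obtain ⟨S₀, Y₀, X₀, g₀, f₀, h, eY, eX, hN, hY, hX, p1, p2, p3, p4, p5, p6⟩ :=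
    exists_noetherian_descent_pair R f g
  rw [locusMor_base_change hP.1 hY hX]
  exact h.isConstructible_preimage (isConstructible_locusMor hP f₀ g₀)

/-- The Spec case, ind-constructible version. -/
theorem isUnionCons_locusMor_spec (hP : ConsProp.IsIndConsMor P) (R : CommRingCat.{u})
    {X Y : Scheme.{u}} (f : X ⟶ Y) (g : Y ⟶ Spec R)
    [LocallyOfFinitePresentation g] [QuasiCompact g] [QuasiSeparated g]
    [LocallyOfFinitePresentation (f ≫ g)] [QuasiCompact (f ≫ g)] [QuasiSeparated (f ≫ g)] :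
    IsUnionCons (ConsProp.locusMor P f g) := by
  obtain ⟨S₀, Y₀, X₀, g₀, f₀, h, eY, eX, hN, hY, hX, p1, p2, p3, p4, p5, p6⟩ :=
    exists_noetherian_descent_pair R f g
  rw [locusMor_base_change hP.1 hY hX]
  exact IsUnionCons.preimage h (exists_constructible_family_locusMor hP f₀ g₀)

/-- Transport along an isomorphism of the base. -/
theorem locusMor_comp_iso (hP : ConsProp.IsFieldStableMor P) {X Y S S' : Scheme.{u}} (f : X ⟶ Y)
    (g : Y ⟶ S) (e : S ≅ S') [LocallyOfFiniteType g] [QuasiCompact g]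
    [LocallyOfFiniteType (f ≫ g)] [QuasiCompact (f ≫ g)] :
    ConsProp.locusMor P f g = e.hom.base ⁻¹' ConsProp.locusMor P f (g ≫ e.hom) := by
  have hY : IsPullback (𝟙 Y) g (g ≫ e.hom) e.hom := IsPullback.of_horiz_isIso ⟨by simp⟩
  have hX : IsPullback (𝟙 X) f f (𝟙 Y) := IsPullback.of_horiz_isIso ⟨by simp⟩
  have : LocallyOfFiniteType (f ≫ g ≫ e.hom) := by rw [← Category.assoc]; infer_instance
  have : QuasiCompact (f ≫ g ≫ e.hom) := by rw [← Category.assoc]; infer_instance
  exact locusMor_base_change hP hY hX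

/-- The affine case, constructible version. -/
theorem isConstructible_locusMor_affine (hP : ConsProp.IsConsMor P)
    {X Y S : Scheme.{u}} [IsAffine S] (f : X ⟶ Y) (g : Y ⟶ S)
    [LocallyOfFinitePresentation g] [QuasiCompact g] [QuasiSeparated g]
    [LocallyOfFinitePresentation (f ≫ g)] [QuasiCompact (f ≫ g)] [QuasiSeparated (f ≫ g)] :
    IsConstructible (ConsProp.locusMor P f g) := by
  rw [locusMor_comp_iso hP.1 f g S.isoSpec]
  have : LocallyOfFinitePresentation (f ≫ g ≫ S.isoSpec.hom) := by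
    rw [← Category.assoc]; infer_instance
  have : QuasiCompact (f ≫ g ≫ S.isoSpec.hom) := by rw [← Category.assoc]; infer_instance
  have : QuasiSeparated (f ≫ g ≫ S.isoSpec.hom) := by rw [← Category.assoc]; infer_instance
  exact S.isoSpec.hom.isConstructible_preimage
    (isConstructible_locusMor_spec hP _ f (g ≫ S.isoSpec.hom))

/-- The affine case, ind-constructible version. -/
theorem isUnionCons_locusMor_affine (hP : ConsProp.IsIndConsMor P)
    {X Y S : Scheme.{u}} [IsAffine S] (f : X ⟶ Y) (g : Y ⟶ S)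
    [LocallyOfFinitePresentation g] [QuasiCompact g] [QuasiSeparated g]
    [LocallyOfFinitePresentation (f ≫ g)] [QuasiCompact (f ≫ g)] [QuasiSeparated (f ≫ g)] :
    IsUnionCons (ConsProp.locusMor P f g) := by
  rw [locusMor_comp_iso hP.1 f g S.isoSpec]
  have : LocallyOfFinitePresentation (f ≫ g ≫ S.isoSpec.hom) := by
    rw [← Category.assoc]; infer_instance
  have : QuasiCompact (f ≫ g ≫ S.isoSpec.hom) := by rw [← Category.assoc]; infer_instance
  have : QuasiSeparated (f ≫ g ≫ S.isoSpec.hom) := by rw [← Category.assoc]; infer_instance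
  exact IsUnionCons.preimage S.isoSpec.hom
    (isUnionCons_locusMor_spec hP _ f (g ≫ S.isoSpec.hom))

/-- Restriction of the pair `(f, g)` to an open of the base. -/
theorem exists_restrict {X Y S : Scheme.{u}} (f : X ⟶ Y) (g : Y ⟶ S) (U : S.Opens)
    [LocallyOfFinitePresentation g] [QuasiCompact g] [QuasiSeparated g]
    [LocallyOfFinitePresentation (f ≫ g)] [QuasiCompact (f ≫ g)] [QuasiSeparated (f ≫ g)] :
    ∃ (Y' X' : Scheme.{u}) (g' : Y' ⟶ U.toScheme) (f' : X' ⟶ Y') (eY : Y' ⟶ Y) (eX : X' ⟶ X),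
      IsPullback eY g' g U.ι ∧ IsPullback eX f' f eY ∧
      LocallyOfFinitePresentation g' ∧ QuasiCompact g' ∧ QuasiSeparated g' ∧
      LocallyOfFinitePresentation (f' ≫ g') ∧ QuasiCompact (f' ≫ g') ∧
      QuasiSeparated (f' ≫ g') := by
  have hY : IsPullback (pullback.fst g U.ι) (pullback.snd g U.ι) g U.ι :=
    IsPullback.of_hasPullback g U.ι
  have hX : IsPullback (pullback.fst f (pullback.fst g U.ι)) (pullback.snd f (pullback.fst g U.ι)) f
      (pullback.fst g U.ι) := IsPullback.of_hasPullback f _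
  have hXS := hX.paste_vert hY
  exact ⟨_, _, pullback.snd g U.ι, pullback.snd f (pullback.fst g U.ι), _, _, hY, hX,
    MorphismProperty.pullback_snd _ _ inferInstance,
    MorphismProperty.pullback_snd _ _ inferInstance,
    MorphismProperty.pullback_snd _ _ inferInstance,
    MorphismProperty.of_isPullback (P := @LocallyOfFinitePresentation) hXS inferInstance,
    MorphismProperty.of_isPullback (P := @QuasiCompact) hXS inferInstance,
    MorphismProperty.of_isPullback (P := @QuasiSeparated) hXS inferInstance⟩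

theorem preimage_ι_eq {S : Scheme.{u}} (U : S.Opens) (E : Set S) :
    U.ι.base ⁻¹' E = (Subtype.val ⁻¹' E : Set ↥U) := by
  ext x
  rfl

/-- EGA IV 9.2.3 for relations on morphisms, constructible case. -/
theorem isLocallyConstructible_locusMor (hP : ConsProp.IsConsMor P)
    {X Y S : Scheme.{u}} (f : X ⟶ Y) (g : Y ⟶ S)
    [LocallyOfFinitePresentation g] [QuasiCompact g] [QuasiSeparated g]
    [LocallyOfFinitePresentation (f ≫ g)] [QuasiCompact (f ≫ g)] [QuasiSeparated (f ≫ g)] :
    IsLocallyConstructible (ConsProp.locusMor P f g) := by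
  intro s
  obtain ⟨U, hU, hsU, -⟩ := exists_isAffineOpen_mem_and_subset (x := s) (U := ⊤) trivial
  obtain ⟨Y', X', g', f', eY, eX, hY, hX, p1, p2, p3, p4, p5, p6⟩ := exists_restrict f g U
  have : IsAffine U.toScheme := hU
  have hc := isConstructible_locusMor_affine hP f' g'
  rw [locusMor_base_change hP.1 hY hX, preimage_ι_eq] at hc
  exact ⟨U, U.2.mem_nhds hsU, U.2, hc⟩

/-- EGA IV 9.2.3 for relations on morphisms, ind-constructible case. -/
theorem isIndConstructible_locusMor (hP : ConsProp.IsIndConsMor P)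
    {X Y S : Scheme.{u}} (f : X ⟶ Y) (g : Y ⟶ S)
    [LocallyOfFinitePresentation g] [QuasiCompact g] [QuasiSeparated g]
    [LocallyOfFinitePresentation (f ≫ g)] [QuasiCompact (f ≫ g)] [QuasiSeparated (f ≫ g)] :
    ProCons.IsIndConstructible (ConsProp.locusMor P f g) := by
  intro s
  obtain ⟨U, hU, hsU, -⟩ := exists_isAffineOpen_mem_and_subset (x := s) (U := ⊤) trivial
  obtain ⟨Y', X', g', f', eY, eX, hY, hX, p1, p2, p3, p4, p5, p6⟩ := exists_restrict f g U
  have : IsAffine U.toScheme := hU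
  have hc := isUnionCons_locusMor_affine hP f' g'
  rw [locusMor_base_change hP.1 hY hX, preimage_ι_eq] at hc
  obtain ⟨𝒮, h𝒮, h𝒮E⟩ := hc
  exact ⟨U, U.2, hsU, 𝒮, fun T hT => (h𝒮 T hT).isLocallyConstructible, h𝒮E⟩

end Groth.Agent.H29.ConsMorD
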