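import Mathlib
import Groth.Prelude.Def_EGA4Misc
import Groth.Prelude.Def_W4ega4s0809p4Pair
import Groth.Agent.H29.ConsMorA

/-!
# The relation "after a field extension there is a morphism with property `Q`" (helper29)

Field-stability of this relation (for S5893–S5905).
-/

set_option autoImplicit false
set_option backward.isDefEq.respectTransparency.types false
universe u

open AlgebraicGeometry CategoryTheory TopologicalSpace Limits Topology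

namespace Groth.Agent.H29.RelQ

/-- The relation between two schemes over a one-point base: after base change to some one-point
integral scheme there is a morphism with property `Q`. -/
def Rel (Q : MorphismProperty Scheme.{u}) :
    ∀ ⦃X Y T : Scheme.{u}⦄, (X ⟶ T) → (Y ⟶ T) → Prop :=
  fun X Y T gX gY => ∃ (T' X' Y' : Scheme.{u}) (h : T' ⟶ T) (gX' : X' ⟶ T') (gY' : Y' ⟶ T')
    (eX : X' ⟶ X) (eY : Y' ⟶ Y), IsIntegral T' ∧ Subsingleton ↥T' ∧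
      IsPullback eX gX' gX h ∧ IsPullback eY gY' gY h ∧
        ∃ g : X' ⟶ Y', g ≫ gY' = gX' ∧ Q g

/-- Base change of a morphism over a base. -/
theorem exists_bc_hom {X₁ Y₁ T₁ X₂ Y₂ T₂ : Scheme.{u}} {gX₁ : X₁ ⟶ T₁} {gY₁ : Y₁ ⟶ T₁}
    {gX₂ : X₂ ⟶ T₂} {gY₂ : Y₂ ⟶ T₂} {aX : X₂ ⟶ X₁} {aY : Y₂ ⟶ Y₁} {b : T₂ ⟶ T₁}
    (hX : IsPullback aX gX₂ gX₁ b) (hY : IsPullback aY gY₂ gY₁ b) (g₁ : X₁ ⟶ Y₁)
    (hg : g₁ ≫ gY₁ = gX₁) :
    ∃ g₂ : X₂ ⟶ Y₂, g₂ ≫ gY₂ = gX₂ ∧ IsPullback aX g₂ g₁ aY := by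
  have w : (aX ≫ g₁) ≫ gY₁ = gX₂ ≫ b := by rw [Category.assoc, hg, hX.w]
  refine ⟨hY.lift (aX ≫ g₁) gX₂ w, hY.lift_snd _ _ _, ?_⟩
  refine IsPullback.of_bot ?_ (hY.lift_fst _ _ _).symm hY
  rw [hY.lift_snd, hg]
  exact hX

/-- Refinement of a pullback square through an intermediate pullback square. -/
theorem exists_lift_isPullback {X X₁ X₂ T T₁ T₂ : Scheme.{u}} {gX : X ⟶ T} {gX₁ : X₁ ⟶ T₁}
    {gX₂ : X₂ ⟶ T₂} {aX : X₁ ⟶ X} {h₁ : T₁ ⟶ T} {p : X₂ ⟶ X} {b : T₂ ⟶ T₁}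
    (hX₁ : IsPullback aX gX₁ gX h₁) (hX₂ : IsPullback p gX₂ gX (b ≫ h₁)) :
    ∃ a : X₂ ⟶ X₁, a ≫ aX = p ∧ IsPullback a gX₂ gX₁ b := by
  have w : p ≫ gX = (gX₂ ≫ b) ≫ h₁ := by rw [hX₂.w, Category.assoc]
  refine ⟨hX₁.lift p (gX₂ ≫ b) w, hX₁.lift_fst _ _ _, ?_⟩
  refine IsPullback.of_right (h₁₂ := aX) (h₂₂ := h₁) (v₁₃ := gX) ?_ (hX₁.lift_snd _ _ _) hX₁
  rw [hX₁.lift_fst]
  exact hX₂

theorem surjective_of_onePoint {T T' : Scheme.{u}} [Subsingleton T] [Nonempty T'] (h : T' ⟶ T) :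
    Surjective h :=
  ⟨fun _ => ⟨Classical.arbitrary T', Subsingleton.elim _ _⟩⟩

theorem rel_of_rel_baseChange {Q : MorphismProperty Scheme.{u}}
    {X X' Y Y' T T' : Scheme.{u}} {gX : X ⟶ T} {gY : Y ⟶ T} {gX' : X' ⟶ T'} {gY' : Y' ⟶ T'}
    {eX : X' ⟶ X} {eY : Y' ⟶ Y} {h : T' ⟶ T}
    (hX : IsPullback eX gX' gX h) (hY : IsPullback eY gY' gY h) (H : Rel Q gX' gY') :
    Rel Q gX gY := by
  obtain ⟨T'', X'', Y'', h', gX'', gY'', eX', eY', i1, i2, hX'', hY'', g, hg, hQ⟩ := H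
  exact ⟨T'', X'', Y'', h' ≫ h, gX'', gY'', eX' ≫ eX, eY' ≫ eY, i1, i2, hX''.paste_horiz hX,
    hY''.paste_horiz hY, g, hg, hQ⟩

theorem rel_baseChange_of_rel {Q : MorphismProperty Scheme.{u}} [Q.IsStableUnderBaseChange]
    {X X' Y Y' T T' : Scheme.{u}} {gX : X ⟶ T} {gY : Y ⟶ T} {gX' : X' ⟶ T'} {gY' : Y' ⟶ T'}
    {eX : X' ⟶ X} {eY : Y' ⟶ Y} {h : T' ⟶ T} [Subsingleton T] [IsIntegral T']
    (hX : IsPullback eX gX' gX h) (hY : IsPullback eY gY' gY h) (H : Rel Q gX gY) :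
    Rel Q gX' gY' := by
  obtain ⟨T₁, X₁, Y₁, h₁, gX₁, gY₁, aX, aY, i1, i2, hX₁, hY₁, g₁, hg₁, hQ₁⟩ := H
  have : Surjective h := surjective_of_onePoint h
  have hs : Surjective (pullback.fst h₁ h) := MorphismProperty.pullback_fst _ _ inferInstance
  obtain ⟨z, -⟩ := hs.surj (Classical.arbitrary T₁)
  let Z := pullback h₁ h
  let b₁ : Spec (Z.residueField z) ⟶ T₁ := Z.fromSpecResidueField z ≫ pullback.fst h₁ h
  let b' : Spec (Z.residueField z) ⟶ T' := Z.fromSpecResidueField z ≫ pullback.snd h₁ h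
  have hb : b' ≫ h = b₁ ≫ h₁ := by
    simp only [b', b₁, Category.assoc, pullback.condition]
  have hX₂ : IsPullback (pullback.fst gX' b') (pullback.snd gX' b') gX' b' :=
    IsPullback.of_hasPullback _ _
  have hY₂ : IsPullback (pullback.fst gY' b') (pullback.snd gY' b') gY' b' :=
    IsPullback.of_hasPullback _ _
  have hX₂' : IsPullback (pullback.fst gX' b' ≫ eX) (pullback.snd gX' b') gX (b₁ ≫ h₁) := by
    rw [← hb]; exact hX₂.paste_horiz hX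
  have hY₂' : IsPullback (pullback.fst gY' b' ≫ eY) (pullback.snd gY' b') gY (b₁ ≫ h₁) := by
    rw [← hb]; exact hY₂.paste_horiz hY
  obtain ⟨aX₂, -, hXX⟩ := exists_lift_isPullback hX₁ hX₂'
  obtain ⟨aY₂, -, hYY⟩ := exists_lift_isPullback hY₁ hY₂'
  obtain ⟨g₂, hg₂, hsq⟩ := exists_bc_hom hXX hYY g₁ hg₁
  exact ⟨Spec (Z.residueField z), _, _, b', _, _, _, _, inferInstance,
    Groth.Agent.H29.ConsMorA.subsingleton_spec_residueField Z z, hX₂, hY₂, g₂, hg₂,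
    Q.of_isPullback hsq hQ₁⟩

/-- The relation `Rel Q` is stable under extension of the base field. -/
theorem isFieldStablePair_rel (Q : MorphismProperty Scheme.{u}) [Q.IsStableUnderBaseChange] :
    ConsPropPair.IsFieldStablePair (Rel Q) := by
  intro X X' Y Y' T T' gX gY gX' gY' eX eY h _ _ _ _ _ _ _ _ hX hY
  exact ⟨rel_baseChange_of_rel hX hY, rel_of_rel_baseChange hX hY⟩

end Groth.Agent.H29.RelQ
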