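import Mathlib
import Groth.Prelude.Def_EGA4Misc
import Groth.Prelude.Def_W4ega4s0809p4Pair
import Groth.Agent.H24.FGSubAlg
import Groth.Agent.H29.ConsMorC
import Groth.Agent.H29.RelQA
import Groth.Agent.S9218

/-!
# Spreading out a morphism with property `Q` from an affine scheme over the base (helper29)
-/

set_option autoImplicit false
set_option backward.isDefEq.respectTransparency.types false
universe u

open AlgebraicGeometry CategoryTheory TopologicalSpace Limits Topology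

namespace Groth.Agent.H29.RelQ

open Groth.Agent.H24.FGSubAlg Groth.Agent.H29.ConsMorC

/-- Descent hypothesis on `Q`: if the base change of `f₀` to the limit has `Q`, so has the base
change to some stage. -/
def DescendsAlongLimit (Q : MorphismProperty Scheme.{u}) : Prop :=
  ∀ {I : Type u} [SmallCategory I] [IsCofiltered I] (D : I ⥤ Scheme.{u}) (c : Limits.Cone D)
    (_ : Limits.IsLimit c) [∀ (i j : I) (f : i ⟶ j), IsAffineHom (D.map f)] (i₀ : I)
    [CompactSpace (D.obj i₀)] [QuasiSeparatedSpace (D.obj i₀)] {X₀ Y₀ : Scheme.{u}}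
    (f₀ : X₀ ⟶ Y₀) (g₀ : Y₀ ⟶ D.obj i₀)
    [LocallyOfFinitePresentation g₀] [QuasiCompact g₀] [QuasiSeparated g₀]
    [LocallyOfFinitePresentation (f₀ ≫ g₀)] [QuasiCompact (f₀ ≫ g₀)] [QuasiSeparated (f₀ ≫ g₀)]
    {X Y : Scheme.{u}} (f : X ⟶ Y) (g : Y ⟶ c.pt) (qY : Y ⟶ Y₀) (qX : X ⟶ X₀)
    (_ : IsPullback qY g g₀ (c.π.app i₀)) (_ : IsPullback qX f f₀ qY), Q f →
    ∃ (i : I) (φ : i ⟶ i₀) (Xi Yi : Scheme.{u}) (fi : Xi ⟶ Yi) (gi : Yi ⟶ D.obj i)
      (pY : Yi ⟶ Y₀) (pX : Xi ⟶ X₀),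
      IsPullback pY gi g₀ (D.map φ) ∧ IsPullback pX fi f₀ pY ∧ Q fi

theorem eq_isoSpec_comp_specMap {T' : Scheme.{u}} [IsAffine T'] {A : CommRingCat.{u}}
    (m' : T' ⟶ Spec A) :
    m' = T'.isoSpec.hom ≫ Spec.map ((Scheme.ΓSpecIso A).inv ≫ m'.appTop) := by
  rw [Spec.map_comp, Scheme.isoSpec_hom, ← Scheme.toSpecΓ_naturality_assoc,
    toSpecΓ_SpecMap_ΓSpecIso_inv, Category.comp_id]

/-- Abstract spreading out along a cofiltered limit: a morphism with `Q` between the base changes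
to the limit of two schemes of finite presentation over a stage comes from a later stage. -/
theorem exists_stage_hom {Q : MorphismProperty Scheme.{u}} (hQd : DescendsAlongLimit Q)
    {I : Type u} [SmallCategory I] [IsCofiltered I]
    (D : I ⥤ Scheme.{u}) (c : Limits.Cone D) (hc : Limits.IsLimit c)
    [∀ (i j : I) (f : i ⟶ j), IsAffineHom (D.map f)] [∀ i, CompactSpace (D.obj i)]
    [∀ i, QuasiSeparatedSpace (D.obj i)] (i₀ : I)
    {X₀ Y₀ : Scheme.{u}} (x₀ : X₀ ⟶ D.obj i₀) (y₀ : Y₀ ⟶ D.obj i₀)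
    [LocallyOfFinitePresentation x₀] [QuasiCompact x₀] [QuasiSeparated x₀]
    [LocallyOfFinitePresentation y₀] [QuasiCompact y₀] [QuasiSeparated y₀]
    {X Y : Scheme.{u}} (qX : X ⟶ X₀) (pX : X ⟶ c.pt) (hX : IsPullback qX pX x₀ (c.π.app i₀))
    (qY : Y ⟶ Y₀) (pY : Y ⟶ c.pt) (hY : IsPullback qY pY y₀ (c.π.app i₀))
    (g : X ⟶ Y) (hg : g ≫ pY = pX) (hQ : Q g) :
    ∃ (i : I) (φ : i ⟶ i₀) (Xi Yi : Scheme.{u}) (xi : Xi ⟶ D.obj i) (yi : Yi ⟶ D.obj i)
      (aX : Xi ⟶ X₀) (aY : Yi ⟶ Y₀) (gi : Xi ⟶ Yi),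
      IsPullback aX xi x₀ (D.map φ) ∧ IsPullback aY yi y₀ (D.map φ) ∧ gi ≫ yi = xi ∧ Q gi := by
  have : CompactSpace X₀ := QuasiCompact.compactSpace_of_compactSpace x₀
  have : CompactSpace Y₀ := QuasiCompact.compactSpace_of_compactSpace y₀
  have : QuasiSeparatedSpace X₀ := quasiSeparatedSpace_of_quasiSeparated x₀
  have : QuasiSeparatedSpace Y₀ := quasiSeparatedSpace_of_quasiSeparated y₀
  obtain ⟨j, φ, fj, sX, sY, h1, h2, h3, h4, h5, h6⟩ :=
    Groth.Agent.S9218.result D c hc i₀ x₀ y₀ qX pX hX qY pY hY g hg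
  -- the data at stage `j`
  have hYj : IsPullback sY pY (pullback.snd y₀ (D.map φ)) (c.π.app j) := by
    refine IsPullback.of_right (h₁₂ := pullback.fst y₀ (D.map φ)) (h₂₂ := D.map φ) (v₁₃ := y₀) ?_
      h5 (IsPullback.of_hasPullback y₀ (D.map φ))
    rw [h4, c.w]
    exact hY
  have hXj : IsPullback sX pX (pullback.snd x₀ (D.map φ)) (c.π.app j) := by
    refine IsPullback.of_right (h₁₂ := pullback.fst x₀ (D.map φ)) (h₂₂ := D.map φ) (v₁₃ := x₀) ?_
      h3 (IsPullback.of_hasPullback x₀ (D.map φ))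
    rw [h2, c.w]
    exact hX
  have hXj' : IsPullback sX (g ≫ pY) (fj ≫ pullback.snd y₀ (D.map φ)) (c.π.app j) := by
    rw [h1, hg]; exact hXj
  have hXY : IsPullback sX g fj sY := IsPullback.of_bot hXj' h6 hYj
  have : LocallyOfFinitePresentation (pullback.snd y₀ (D.map φ)) :=
    MorphismProperty.pullback_snd _ _ inferInstance
  have : QuasiCompact (pullback.snd y₀ (D.map φ)) :=
    MorphismProperty.pullback_snd _ _ inferInstance
  have : QuasiSeparated (pullback.snd y₀ (D.map φ)) :=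
    MorphismProperty.pullback_snd _ _ inferInstance
  have : LocallyOfFinitePresentation (fj ≫ pullback.snd y₀ (D.map φ)) := by
    rw [h1]; exact MorphismProperty.pullback_snd _ _ inferInstance
  have : QuasiCompact (fj ≫ pullback.snd y₀ (D.map φ)) := by
    rw [h1]; exact MorphismProperty.pullback_snd _ _ inferInstance
  have : QuasiSeparated (fj ≫ pullback.snd y₀ (D.map φ)) := by
    rw [h1]; exact MorphismProperty.pullback_snd _ _ inferInstance
  obtain ⟨i, ψ, Xi, Yi, fi, gi, bY, bX, hYi, hXi, hQi⟩ :=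
    hQd D c hc j fj (pullback.snd y₀ (D.map φ)) g pY sY sX hYj hXY hQ
  refine ⟨i, ψ ≫ φ, Xi, Yi, fi ≫ gi, gi, bX ≫ pullback.fst x₀ (D.map φ),
    bY ≫ pullback.fst y₀ (D.map φ), fi, ?_, ?_, rfl, hQi⟩
  · rw [D.map_comp]
    have hbig : IsPullback bX (fi ≫ gi) (fj ≫ pullback.snd y₀ (D.map φ)) (D.map ψ) :=
      hXi.paste_vert hYi
    rw [h1] at hbig
    exact hbig.paste_horiz (IsPullback.of_hasPullback x₀ (D.map φ))
  · rw [D.map_comp]
    exact hYi.paste_horiz (IsPullback.of_hasPullback y₀ (D.map φ))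

end Groth.Agent.H29.RelQ
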