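import Mathlib
import Groth.Prelude.Def_EGA4Misc
import Groth.Prelude.Def_W4ega4s0809p4Pair
import Groth.Agent.H24.FGSubAlg
import Groth.Agent.H29.ConsMorA
import Groth.Agent.H29.ConsMorC
import Groth.Agent.H29.RelQA
import Groth.Agent.H29.RelQB
import Groth.Agent.H99.FibrewiseCons

/-!
# `Rel Q` is an ind-constructible property of pairs (helper29; for S5893–S5905)
-/

set_option autoImplicit false
set_option backward.isDefEq.respectTransparency.types false
universe u

open AlgebraicGeometry CategoryTheory TopologicalSpace Limits Topology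

namespace Groth.Agent.H29.RelQ

open Groth.Agent.H24.FGSubAlg Groth.Agent.H29.ConsMorC

/-- Spreading out from `Spec K → Spec A → S`: -/
theorem exists_spread_spec {Q : MorphismProperty Scheme.{u}} (hQd : DescendsAlongLimit Q)
    {X Y S : Scheme.{u}} (u : X ⟶ S) (v : Y ⟶ S)
    [LocallyOfFinitePresentation u] [QuasiCompact u] [QuasiSeparated u]
    [LocallyOfFinitePresentation v] [QuasiCompact v] [QuasiSeparated v]
    (A K : Type u) [CommRing A] [CommRing K] [Algebra A K] (j : Spec (CommRingCat.of A) ⟶ S)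
    [LocallyOfFiniteType j] [QuasiCompact j]
    {X' Y' : Scheme.{u}} (gX' : X' ⟶ Spec (CommRingCat.of K)) (gY' : Y' ⟶ Spec (CommRingCat.of K))
    (eX : X' ⟶ X) (eY : Y' ⟶ Y)
    (hX : IsPullback eX gX' u (Spec.map (CommRingCat.ofHom (algebraMap A K)) ≫ j))
    (hY : IsPullback eY gY' v (Spec.map (CommRingCat.ofHom (algebraMap A K)) ≫ j))
    (g : X' ⟶ Y') (hg : g ≫ gY' = gX') (hQ : Q g) :
    ∃ (W : Scheme.{u}) (ρ : W ⟶ S) (n : Spec (CommRingCat.of K) ⟶ W) (XW YW : Scheme.{u})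
      (uW : XW ⟶ W) (vW : YW ⟶ W) (aX : XW ⟶ X) (aY : YW ⟶ Y) (gW : XW ⟶ YW),
      LocallyOfFiniteType ρ ∧ QuasiCompact ρ ∧
      n ≫ ρ = Spec.map (CommRingCat.ofHom (algebraMap A K)) ≫ j ∧
      IsPullback aX uW u ρ ∧ IsPullback aY vW v ρ ∧ gW ≫ vW = uW ∧ Q gW := by
  let B : (Idx A K)ᵒᵖ → CommRingCat.{u} := fun i => CommRingCat.of i.unop.1
  let π : ∀ i : (Idx A K)ᵒᵖ, Spec (CommRingCat.of K) ⟶ Spec (B i) := fun i => Spec.map (val i.unop)
  let ρ : ∀ i : (Idx A K)ᵒᵖ, Spec (B i) ⟶ S := fun i => Spec.map (str i.unop) ≫ j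
  have hρπ : ∀ i, π i ≫ ρ i = Spec.map (CommRingCat.ofHom (algebraMap A K)) ≫ j := by
    intro i
    change Spec.map (val i.unop) ≫ Spec.map (str i.unop) ≫ j = _
    rw [← Spec.map_comp_assoc, str_val]
  have hρmap : ∀ {i k : (Idx A K)ᵒᵖ} (a : i ⟶ k),
      (Spec.map (incl (leOfHom a.unop)) : Spec (B i) ⟶ Spec (B k)) ≫ ρ k = ρ i := by
    intro i k a
    change Spec.map (incl (leOfHom a.unop)) ≫ Spec.map (str k.unop) ≫ j = Spec.map (str i.unop) ≫ j
    rw [← Spec.map_comp_assoc, str_incl]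
  let i₀ : (Idx A K)ᵒᵖ := Opposite.op ⟨⊥, Subalgebra.fg_bot⟩
  have wX : eX ≫ u = (gX' ≫ π i₀) ≫ ρ i₀ := by rw [hX.w, Category.assoc, hρπ]
  have wY : eY ≫ v = (gY' ≫ π i₀) ≫ ρ i₀ := by rw [hY.w, Category.assoc, hρπ]
  have hX₀ : IsPullback (pullback.lift eX (gX' ≫ π i₀) wX) gX' (pullback.snd u (ρ i₀))
      (π i₀) := by
    refine IsPullback.of_right (h₁₂ := pullback.fst u (ρ i₀)) (h₂₂ := ρ i₀) (v₁₃ := u) ?_
      (pullback.lift_snd _ _ _) (IsPullback.of_hasPullback u (ρ i₀))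
    rw [pullback.lift_fst, hρπ]
    exact hX
  have hY₀ : IsPullback (pullback.lift eY (gY' ≫ π i₀) wY) gY' (pullback.snd v (ρ i₀))
      (π i₀) := by
    refine IsPullback.of_right (h₁₂ := pullback.fst v (ρ i₀)) (h₂₂ := ρ i₀) (v₁₃ := v) ?_
      (pullback.lift_snd _ _ _) (IsPullback.of_hasPullback v (ρ i₀))
    rw [pullback.lift_fst, hρπ]
    exact hY
  let x₀ : pullback u (ρ i₀) ⟶ (specDiagram A K).obj i₀ := pullback.snd u (ρ i₀)
  let y₀ : pullback v (ρ i₀) ⟶ (specDiagram A K).obj i₀ := pullback.snd v (ρ i₀)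
  have : LocallyOfFinitePresentation x₀ :=
    MorphismProperty.pullback_snd (P := @LocallyOfFinitePresentation) u (ρ i₀) inferInstance
  have : QuasiCompact x₀ := MorphismProperty.pullback_snd (P := @QuasiCompact) u (ρ i₀) inferInstance
  have : QuasiSeparated x₀ :=
    MorphismProperty.pullback_snd (P := @QuasiSeparated) u (ρ i₀) inferInstance
  have : LocallyOfFinitePresentation y₀ :=
    MorphismProperty.pullback_snd (P := @LocallyOfFinitePresentation) v (ρ i₀) inferInstance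
  have : QuasiCompact y₀ := MorphismProperty.pullback_snd (P := @QuasiCompact) v (ρ i₀) inferInstance
  have : QuasiSeparated y₀ :=
    MorphismProperty.pullback_snd (P := @QuasiSeparated) v (ρ i₀) inferInstance
  obtain ⟨i, φ, Xi, Yi, xi, yi, aX, aY, gi, hXi, hYi, hgi, hQi⟩ :=
    exists_stage_hom hQd (specDiagram A K) (specCone A K) (isLimitSpecCone A K) i₀
      x₀ y₀
      (pullback.lift eX (gX' ≫ π i₀) wX) gX' hX₀ (pullback.lift eY (gY' ≫ π i₀) wY) gY' hY₀ g hg hQ
  have hft : LocallyOfFiniteType (Spec.map (str i.unop)) := by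
    rw [HasRingHomProperty.Spec_iff (P := @LocallyOfFiniteType)]
    have : Algebra.FiniteType A i.unop.1 := (Subalgebra.fg_iff_finiteType i.unop.1).mp i.unop.2
    exact RingHom.finiteType_algebraMap.mpr this
  have hXi' : IsPullback aX xi (pullback.snd u (ρ i₀))
      (Spec.map (incl (leOfHom φ.unop)) : Spec (B i) ⟶ Spec (B i₀)) := hXi
  have hYi' : IsPullback aY yi (pullback.snd v (ρ i₀))
      (Spec.map (incl (leOfHom φ.unop)) : Spec (B i) ⟶ Spec (B i₀)) := hYi
  refine ⟨Spec (B i), ρ i, π i, Xi, Yi, xi, yi, aX ≫ pullback.fst u (ρ i₀),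
    aY ≫ pullback.fst v (ρ i₀), gi, ?_, ?_, hρπ i, ?_, ?_, hgi, hQi⟩
  · change LocallyOfFiniteType (Spec.map (str i.unop) ≫ j)
    infer_instance
  · change QuasiCompact (Spec.map (str i.unop) ≫ j)
    infer_instance
  · rw [← hρmap φ]
    exact hXi'.paste_horiz (IsPullback.of_hasPullback u (ρ i₀))
  · rw [← hρmap φ]
    exact hYi'.paste_horiz (IsPullback.of_hasPullback v (ρ i₀))



/-- Version of `exists_spread_spec` in terms of objects of `CommRingCat`. -/
theorem exists_spread_spec' {Q : MorphismProperty Scheme.{u}} (hQd : DescendsAlongLimit Q)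
    {X Y S : Scheme.{u}} (u : X ⟶ S) (v : Y ⟶ S)
    [LocallyOfFinitePresentation u] [QuasiCompact u] [QuasiSeparated u]
    [LocallyOfFinitePresentation v] [QuasiCompact v] [QuasiSeparated v]
    (A K : CommRingCat.{u}) (φ : A ⟶ K) (j : Spec A ⟶ S)
    [LocallyOfFiniteType j] [QuasiCompact j]
    {X' Y' : Scheme.{u}} (gX' : X' ⟶ Spec K) (gY' : Y' ⟶ Spec K)
    (eX : X' ⟶ X) (eY : Y' ⟶ Y)
    (hX : IsPullback eX gX' u (Spec.map φ ≫ j))
    (hY : IsPullback eY gY' v (Spec.map φ ≫ j))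
    (g : X' ⟶ Y') (hg : g ≫ gY' = gX') (hQ : Q g) :
    ∃ (W : Scheme.{u}) (ρ : W ⟶ S) (n : Spec K ⟶ W) (XW YW : Scheme.{u})
      (uW : XW ⟶ W) (vW : YW ⟶ W) (aX : XW ⟶ X) (aY : YW ⟶ Y) (gW : XW ⟶ YW),
      LocallyOfFiniteType ρ ∧ QuasiCompact ρ ∧
      n ≫ ρ = Spec.map φ ≫ j ∧
      IsPullback aX uW u ρ ∧ IsPullback aY vW v ρ ∧ gW ≫ vW = uW ∧ Q gW := by
  let _ : Algebra A K := φ.hom.toAlgebra
  exact exists_spread_spec hQd u v A K j gX' gY' eX eY hX hY g hg hQ

open Groth.Agent.H99.FibrewiseCons Groth.Agent.H29.ConsMorA in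
/-- **Main theorem**: for a property `Q` of morphisms which is stable under base change and descends
along cofiltered limits, the relation `Rel Q` is an ind-constructible property of pairs. -/
theorem isIndConsPair_rel (Q : MorphismProperty Scheme.{u}) [Q.IsStableUnderBaseChange]
    (hQd : DescendsAlongLimit Q) : ConsPropPair.IsIndConsPair (Rel Q) := by
  refine ⟨isFieldStablePair_rel Q, ?_⟩
  intro X Y S u v _ _ _ _ _ _ hgen
  obtain ⟨T', X', Y', h, gX', gY', eX, eY, i1, i2, hX', hY', g, hg, hQ⟩ := hgen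
  have : IsLocallyNoetherian X := LocallyOfFiniteType.isLocallyNoetherian u
  have : IsLocallyNoetherian Y := LocallyOfFiniteType.isLocallyNoetherian v
  -- the composite squares over `S`
  let m : T' ⟶ S := h ≫ S.fromSpecResidueField (genericPoint S)
  have hXm : IsPullback (eX ≫ u.fiberι (genericPoint S)) gX' u m :=
    hX'.paste_horiz (IsPullback.of_hasPullback u (S.fromSpecResidueField (genericPoint S)))
  have hYm : IsPullback (eY ≫ v.fiberι (genericPoint S)) gY' v m :=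
    hY'.paste_horiz (IsPullback.of_hasPullback v (S.fromSpecResidueField (genericPoint S)))
  have hmgen : ∀ t : T', m t = (genericPoint S) := by
    intro t
    change (h ≫ S.fromSpecResidueField (genericPoint S)) t = (genericPoint S)
    rw [Scheme.Hom.comp_apply, Scheme.fromSpecResidueField_apply]
  have : IsAffine T' := Groth.Agent.H99.DimCons.isAffine_of_subsingleton T'
  -- an affine open neighbourhood of `(genericPoint S)`
  obtain ⟨U, hU, hgenU, -⟩ := exists_isAffineOpen_mem_and_subset (x := (genericPoint S)) (U := ⊤) trivial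
  have hrange : Set.range m ⊆ Set.range hU.fromSpec := by
    rw [hU.range_fromSpec]
    rintro _ ⟨t, rfl⟩
    rw [hmgen t]; exact hgenU
  let m' : T' ⟶ Spec Γ(S, U) := IsOpenImmersion.lift hU.fromSpec m hrange
  have hm' : m' ≫ hU.fromSpec = m := IsOpenImmersion.lift_fac _ _ _
  let φ : Γ(S, U) ⟶ Γ(T', ⊤) := (Scheme.ΓSpecIso Γ(S, U)).inv ≫ m'.appTop
  have hφ : m' = T'.isoSpec.hom ≫ Spec.map φ := eq_isoSpec_comp_specMap m'
  have hmφ : m = T'.isoSpec.hom ≫ Spec.map φ ≫ hU.fromSpec := by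
    rw [← hm', hφ, Category.assoc]
  -- transport to `Spec K`
  have hX'' : IsPullback (eX ≫ u.fiberι (genericPoint S)) (gX' ≫ T'.isoSpec.hom) u (Spec.map φ ≫ hU.fromSpec) :=
    IsPullback.of_iso hXm (Iso.refl _) (Iso.refl _) T'.isoSpec (Iso.refl _) (by simp) (by simp)
      (by simp) (by simp [hmφ])
  have hY'' : IsPullback (eY ≫ v.fiberι (genericPoint S)) (gY' ≫ T'.isoSpec.hom) v (Spec.map φ ≫ hU.fromSpec) :=
    IsPullback.of_iso hYm (Iso.refl _) (Iso.refl _) T'.isoSpec (Iso.refl _) (by simp) (by simp)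
      (by simp) (by simp [hmφ])
  have hg'' : g ≫ gY' ≫ T'.isoSpec.hom = gX' ≫ T'.isoSpec.hom := by rw [← Category.assoc, hg]
  obtain ⟨W, ρ, n, XW, YW, uW, vW, aX, aY, gW, hρ1, hρ2, hnρ, hXW, hYW, hgW, hQW⟩ :=
    exists_spread_spec' hQd u v Γ(S, U) Γ(T', ⊤) φ hU.fromSpec _ _ _ _ hX'' hY'' g hg'' hQ
  -- the image of `ρ` contains an open neighbourhood of `(genericPoint S)`
  have hgenρ : (genericPoint S) ∈ Set.range ρ := by
    obtain ⟨t⟩ : Nonempty T' := inferInstance
    refine ⟨n (T'.isoSpec.hom t), ?_⟩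
    rw [← Scheme.Hom.comp_apply, hnρ, ← Scheme.Hom.comp_apply, ← hmφ]
    exact hmgen t
  have hcons : IsLocallyConstructible (Set.range ρ) := by
    rw [← Set.image_univ]
    exact ρ.isLocallyConstructible_image IsConstructible.univ.isLocallyConstructible
  obtain ⟨O, hO, hgenO, hOsub⟩ :=
    Groth.Agent.H99.DimCons.exists_isOpen_subset_of_isLocallyConstructible
      (genericPoint_spec S) hcons hgenρ
  refine ⟨(genericPoint S), mem_interior.mpr ⟨O, ?_, hO, hgenO⟩⟩
  intro s hs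
  obtain ⟨w, rfl⟩ := hOsub hs
  have hXW' : IsPullback aX (gW ≫ vW) u ρ := by rw [hgW]; exact hXW
  refine ⟨Spec (W.residueField w), _, _, Spec.map (ρ.residueFieldMap w), _, _, _, _,
    inferInstance, subsingleton_spec_residueField W w, isPullback_fibMap hXW' w,
    isPullback_fibMap hYW w, MoreMor.fiberMap gW vW w, fiberMap_fiberToSpecResidueField gW vW w,
    Q.of_isPullback (isPullback_fiberMap gW vW w) hQW⟩

end Groth.Agent.H29.RelQ
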