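import Mathlib
import Groth.Prelude.Def_EGA4Misc
import Groth.Prelude.Def_ProCons
import Groth.Agent.H24.FGSubAlg
import Groth.Agent.H29.ConsMorA
import Groth.Agent.H29.ConsMorC
import Groth.Agent.H29.ConsMorD
import Groth.Agent.H29.RelQB
import Groth.Agent.H29.RelQC
import Groth.Agent.H17.ConsPropLib
import Groth.Agent.H99.FibrewiseCons

/-!
# Ind-constructible relations on morphisms from descent along limits (helper29; S4802, S4803)
-/

set_option autoImplicit false
set_option backward.isDefEq.respectTransparency.types false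
universe u

open AlgebraicGeometry CategoryTheory TopologicalSpace Limits Topology

namespace Groth.Agent.H29.MorQ

open Groth.Agent.H24.FGSubAlg Groth.Agent.H29.ConsMorC Groth.Agent.H29.RelQ
open Groth.Agent.H99.FibrewiseCons Groth.Agent.H29.ConsMorA

/-- The relation on morphisms: `f` has property `Q`. -/
def RelMor (Q : MorphismProperty Scheme.{u}) :
    ∀ ⦃X Y T : Scheme.{u}⦄, (X ⟶ Y) → (Y ⟶ T) → Prop := fun _ _ _ f _ => Q f

theorem isFieldStableMor_relMor (Q : MorphismProperty Scheme.{u}) [Q.IsStableUnderBaseChange]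
    [Q.DescendsAlong (@Surjective ⊓ @Flat ⊓ @QuasiCompact : MorphismProperty Scheme.{u})] :
    ConsProp.IsFieldStableMor (RelMor Q) := by
  intro X X' Y Y' T T' f g f' g' eX eY h _ _ _ _ _ _ _ _ hY hX
  exact (MorphismProperty.iff_of_isPullback (P := Q) hX.flip
    (Groth.Agent.H17.fpqc_of_isPullback_onePoint hY)).symm

/-- Spreading out `Q` for the base change of `f` from `Spec K → Spec A → S`. -/
theorem exists_spread_mor {Q : MorphismProperty Scheme.{u}} (hQd : DescendsAlongLimit Q)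
    {X Y S : Scheme.{u}} (f : X ⟶ Y) (g : Y ⟶ S)
    [LocallyOfFinitePresentation g] [QuasiCompact g] [QuasiSeparated g]
    [LocallyOfFinitePresentation (f ≫ g)] [QuasiCompact (f ≫ g)] [QuasiSeparated (f ≫ g)]
    (A K : Type u) [CommRing A] [CommRing K] [Algebra A K] (j : Spec (CommRingCat.of A) ⟶ S)
    [LocallyOfFiniteType j] [QuasiCompact j]
    {X' Y' : Scheme.{u}} (f' : X' ⟶ Y') (gY' : Y' ⟶ Spec (CommRingCat.of K))
    (eX : X' ⟶ X) (eY : Y' ⟶ Y)
    (hY : IsPullback eY gY' g (Spec.map (CommRingCat.ofHom (algebraMap A K)) ≫ j))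
    (hX : IsPullback eX f' f eY) (hQ : Q f') :
    ∃ (W : Scheme.{u}) (ρ : W ⟶ S) (n : Spec (CommRingCat.of K) ⟶ W) (XW YW : Scheme.{u})
      (fW : XW ⟶ YW) (gW : YW ⟶ W) (aX : XW ⟶ X) (aY : YW ⟶ Y),
      LocallyOfFiniteType ρ ∧ QuasiCompact ρ ∧
      n ≫ ρ = Spec.map (CommRingCat.ofHom (algebraMap A K)) ≫ j ∧
      IsPullback aY gW g ρ ∧ IsPullback aX fW f aY ∧ Q fW := by
  let B : (Idx A K)ᵒᵖ → CommRingCat.{u} := fun i => CommRingCat.of i.unop.1
  let π : ∀ i : (Idx A K)ᵒᵖ, Spec (CommRingCat.of K) ⟶ Spec (B i) := fun i => Spec.map (val i.unop)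
  let ρ : ∀ i : (Idx A K)ᵒᵖ, Spec (B i) ⟶ S := fun i => Spec.map (str i.unop) ≫ j
  have hρπ : ∀ i, π i ≫ ρ i = Spec.map (CommRingCat.ofHom (algebraMap A K)) ≫ j := by
    intro i
    change Spec.map (val i.unop) ≫ Spec.map (str i.unop) ≫ j = _
    rw [← Spec.map_comp_assoc, str_val]
  have hρmap : ∀ {i k : (Idx A K)ᵒᵖ} (a : i ⟶ k),
      (Spec.map (incl (leOfHom a.unop)) : Spec (B i) ⟶ Spec (B k)) ≫ ρ k = ρ i := by
    intro i k a
    change Spec.map (incl (leOfHom a.unop)) ≫ Spec.map (str k.unop) ≫ j = Spec.map (str i.unop) ≫ j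
    rw [← Spec.map_comp_assoc, str_incl]
  let i₀ : (Idx A K)ᵒᵖ := Opposite.op ⟨⊥, Subalgebra.fg_bot⟩
  have wY : eY ≫ g = (gY' ≫ π i₀) ≫ ρ i₀ := by rw [hY.w, Category.assoc, hρπ]
  have hY₀ : IsPullback (pullback.lift eY (gY' ≫ π i₀) wY) gY' (pullback.snd g (ρ i₀))
      (π i₀) := by
    refine IsPullback.of_right (h₁₂ := pullback.fst g (ρ i₀)) (h₂₂ := ρ i₀) (v₁₃ := g) ?_
      (pullback.lift_snd _ _ _) (IsPullback.of_hasPullback g (ρ i₀))
    rw [pullback.lift_fst, hρπ]
    exact hY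
  have wX : eX ≫ f = (f' ≫ pullback.lift eY (gY' ≫ π i₀) wY) ≫ pullback.fst g (ρ i₀) := by
    rw [hX.w, Category.assoc, pullback.lift_fst]
  have hX₀ : IsPullback (pullback.lift eX (f' ≫ pullback.lift eY (gY' ≫ π i₀) wY) wX) f'
      (pullback.snd f (pullback.fst g (ρ i₀))) (pullback.lift eY (gY' ≫ π i₀) wY) := by
    refine IsPullback.of_right (h₁₂ := pullback.fst f (pullback.fst g (ρ i₀)))
      (h₂₂ := pullback.fst g (ρ i₀)) (v₁₃ := f) ?_
      (pullback.lift_snd _ _ _) (IsPullback.of_hasPullback f (pullback.fst g (ρ i₀)))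
    rw [pullback.lift_fst, pullback.lift_fst]
    exact hX
  let g₀ : pullback g (ρ i₀) ⟶ (specDiagram A K).obj i₀ := pullback.snd g (ρ i₀)
  let f₀ : pullback f (pullback.fst g (ρ i₀)) ⟶ pullback g (ρ i₀) :=
    pullback.snd f (pullback.fst g (ρ i₀))
  have hbig : IsPullback (pullback.fst f (pullback.fst g (ρ i₀))) (f₀ ≫ g₀) (f ≫ g) (ρ i₀) :=
    (IsPullback.of_hasPullback f (pullback.fst g (ρ i₀))).paste_vert
      (IsPullback.of_hasPullback g (ρ i₀))
  have : LocallyOfFinitePresentation g₀ :=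
    MorphismProperty.pullback_snd (P := @LocallyOfFinitePresentation) g (ρ i₀) inferInstance
  have : QuasiCompact g₀ := MorphismProperty.pullback_snd (P := @QuasiCompact) g (ρ i₀) inferInstance
  have : QuasiSeparated g₀ :=
    MorphismProperty.pullback_snd (P := @QuasiSeparated) g (ρ i₀) inferInstance
  have : LocallyOfFinitePresentation (f₀ ≫ g₀) :=
    MorphismProperty.of_isPullback (P := @LocallyOfFinitePresentation) hbig inferInstance
  have : QuasiCompact (f₀ ≫ g₀) :=
    MorphismProperty.of_isPullback (P := @QuasiCompact) hbig inferInstance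
  have : QuasiSeparated (f₀ ≫ g₀) :=
    MorphismProperty.of_isPullback (P := @QuasiSeparated) hbig inferInstance
  obtain ⟨i, φ, Xi, Yi, fi, gi, pY, pX, hYi, hXi, hQi⟩ :=
    hQd (specDiagram A K) (specCone A K) (isLimitSpecCone A K) i₀ f₀ g₀ f' gY'
      (pullback.lift eY (gY' ≫ π i₀) wY)
      (pullback.lift eX (f' ≫ pullback.lift eY (gY' ≫ π i₀) wY) wX) hY₀ hX₀ hQ
  have hft : LocallyOfFiniteType (Spec.map (str i.unop)) := by
    rw [HasRingHomProperty.Spec_iff (P := @LocallyOfFiniteType)]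
    have : Algebra.FiniteType A i.unop.1 := (Subalgebra.fg_iff_finiteType i.unop.1).mp i.unop.2
    exact RingHom.finiteType_algebraMap.mpr this
  have hYi' : IsPullback pY gi (pullback.snd g (ρ i₀))
      (Spec.map (incl (leOfHom φ.unop)) : Spec (B i) ⟶ Spec (B i₀)) := hYi
  refine ⟨Spec (B i), ρ i, π i, Xi, Yi, fi, gi, pX ≫ pullback.fst f (pullback.fst g (ρ i₀)),
    pY ≫ pullback.fst g (ρ i₀), ?_, ?_, hρπ i, ?_, ?_, hQi⟩
  · change LocallyOfFiniteType (Spec.map (str i.unop) ≫ j)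
    infer_instance
  · change QuasiCompact (Spec.map (str i.unop) ≫ j)
    infer_instance
  · rw [← hρmap φ]
    exact hYi'.paste_horiz (IsPullback.of_hasPullback g (ρ i₀))
  · exact hXi.paste_horiz (IsPullback.of_hasPullback f (pullback.fst g (ρ i₀)))

/-- `CommRingCat` version. -/
theorem exists_spread_mor' {Q : MorphismProperty Scheme.{u}} (hQd : DescendsAlongLimit Q)
    {X Y S : Scheme.{u}} (f : X ⟶ Y) (g : Y ⟶ S)
    [LocallyOfFinitePresentation g] [QuasiCompact g] [QuasiSeparated g]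
    [LocallyOfFinitePresentation (f ≫ g)] [QuasiCompact (f ≫ g)] [QuasiSeparated (f ≫ g)]
    (A K : CommRingCat.{u}) (φ : A ⟶ K) (j : Spec A ⟶ S)
    [LocallyOfFiniteType j] [QuasiCompact j]
    {X' Y' : Scheme.{u}} (f' : X' ⟶ Y') (gY' : Y' ⟶ Spec K)
    (eX : X' ⟶ X) (eY : Y' ⟶ Y)
    (hY : IsPullback eY gY' g (Spec.map φ ≫ j))
    (hX : IsPullback eX f' f eY) (hQ : Q f') :
    ∃ (W : Scheme.{u}) (ρ : W ⟶ S) (n : Spec K ⟶ W) (XW YW : Scheme.{u})
      (fW : XW ⟶ YW) (gW : YW ⟶ W) (aX : XW ⟶ X) (aY : YW ⟶ Y),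
      LocallyOfFiniteType ρ ∧ QuasiCompact ρ ∧ n ≫ ρ = Spec.map φ ≫ j ∧
      IsPullback aY gW g ρ ∧ IsPullback aX fW f aY ∧ Q fW := by
  let _ : Algebra A K := φ.hom.toAlgebra
  exact exists_spread_mor hQd f g A K j f' gY' eX eY hY hX hQ

/-- **Main theorem**: if `Q` is stable under base change, descends along fpqc morphisms and along
cofiltered limits, then "`f` has `Q`" is an ind-constructible property of morphisms. -/
theorem isIndConsMor_relMor (Q : MorphismProperty Scheme.{u}) [Q.IsStableUnderBaseChange]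
    [Q.DescendsAlong (@Surjective ⊓ @Flat ⊓ @QuasiCompact : MorphismProperty Scheme.{u})]
    (hQd : DescendsAlongLimit Q) : ConsProp.IsIndConsMor (RelMor Q) := by
  refine ⟨isFieldStableMor_relMor Q, ?_⟩
  intro X Y S f g _ _ _ _ _ _ hgen
  have hQη : Q (MoreMor.fiberMap f g (genericPoint S)) := hgen
  have : IsLocallyNoetherian Y := LocallyOfFiniteType.isLocallyNoetherian g
  have : IsLocallyNoetherian X := LocallyOfFiniteType.isLocallyNoetherian (f ≫ g)
  -- an affine open neighbourhood of the generic point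
  obtain ⟨U, hU, hgenU, -⟩ :=
    exists_isAffineOpen_mem_and_subset (x := genericPoint S) (U := ⊤) trivial
  let m : Spec (S.residueField (genericPoint S)) ⟶ S := S.fromSpecResidueField (genericPoint S)
  have hrange : Set.range m ⊆ Set.range hU.fromSpec := by
    rw [hU.range_fromSpec]
    rintro _ ⟨t, rfl⟩
    change S.fromSpecResidueField (genericPoint S) t ∈ _
    rw [Scheme.fromSpecResidueField_apply]; exact hgenU
  let m' : Spec (S.residueField (genericPoint S)) ⟶ Spec Γ(S, U) :=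
    IsOpenImmersion.lift hU.fromSpec m hrange
  have hm' : m' ≫ hU.fromSpec = m := IsOpenImmersion.lift_fac _ _ _
  obtain ⟨φ, hφ⟩ : ∃ φ : Γ(S, U) ⟶ S.residueField (genericPoint S), Spec.map φ = m' :=
    ⟨Spec.preimage m', Spec.map_preimage m'⟩
  have hmφ : Spec.map φ ≫ hU.fromSpec = m := by rw [hφ, hm']
  have hY' : IsPullback (g.fiberι (genericPoint S)) (g.fiberToSpecResidueField (genericPoint S)) g
      (Spec.map φ ≫ hU.fromSpec) := by
    rw [hmφ]; exact IsPullback.of_hasPullback g (S.fromSpecResidueField (genericPoint S))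
  obtain ⟨W, ρ, n, XW, YW, fW, gW, aX, aY, hρ1, hρ2, hnρ, hYW, hXW, hQW⟩ :=
    exists_spread_mor' hQd f g Γ(S, U) (S.residueField (genericPoint S)) φ hU.fromSpec
      (MoreMor.fiberMap f g (genericPoint S)) _ _ _ hY' (isPullback_fiberMap f g (genericPoint S))
      hQη
  have hgenρ : genericPoint S ∈ Set.range ρ := by
    refine ⟨n (IsLocalRing.closedPoint _), ?_⟩
    rw [← Scheme.Hom.comp_apply, hnρ, hmφ]
    exact Scheme.fromSpecResidueField_apply _ _
  have hcons : IsLocallyConstructible (Set.range ρ) := by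
    rw [← Set.image_univ]
    exact ρ.isLocallyConstructible_image IsConstructible.univ.isLocallyConstructible
  obtain ⟨O, hO, hgenO, hOsub⟩ :=
    Groth.Agent.H99.DimCons.exists_isOpen_subset_of_isLocallyConstructible
      (genericPoint_spec S) hcons hgenρ
  refine ⟨genericPoint S, mem_interior.mpr ⟨O, ?_, hO, hgenO⟩⟩
  intro s hs
  obtain ⟨w, rfl⟩ := hOsub hs
  rw [← mem_locusMor_base_change (isFieldStableMor_relMor Q) hYW hXW w]
  exact Q.of_isPullback (isPullback_fiberMap fW gW w) hQW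

/-- Consequence: the locus where the morphism of fibres has `Q` is ind-constructible. -/
theorem isIndConstructible_setOf_fiberMap (Q : MorphismProperty Scheme.{u})
    [Q.IsStableUnderBaseChange]
    [Q.DescendsAlong (@Surjective ⊓ @Flat ⊓ @QuasiCompact : MorphismProperty Scheme.{u})]
    (hQd : DescendsAlongLimit Q) {X Y S : Scheme.{u}} (f : X ⟶ Y) (g : Y ⟶ S)
    [LocallyOfFinitePresentation g] [QuasiCompact g] [QuasiSeparated g]
    [LocallyOfFinitePresentation (f ≫ g)] [QuasiCompact (f ≫ g)] [QuasiSeparated (f ≫ g)] :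
    ProCons.IsIndConstructible {s : S | Q (MoreMor.fiberMap f g s)} :=
  Groth.Agent.H29.ConsMorD.isIndConstructible_locusMor (isIndConsMor_relMor Q hQd) f g

end Groth.Agent.H29.MorQ
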