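import Mathlib
import Groth.Prelude.Def_EGA4Misc
import Groth.Agent.H99.FibrewiseCons
import Groth.Agent.H99.DimCons
import Groth.Agent.H12.Constr
import Groth.Agent.S0414
import Groth.Agent.S1386

/-!
# Negative side of fibrewise flatness (helper29; for S2584, S2575, S3426)

If the morphism of generic fibres `f_η` is not flat, then `f_s` is not flat for all `s` in a
neighbourhood of the generic point.  (Mathlib `Flat` form; generic flatness `S0414` +
critère de platitude par fibres `S1386` + Chevalley.)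
-/

set_option autoImplicit false
universe u

open AlgebraicGeometry CategoryTheory Limits Topology

namespace Groth.Agent.H29.NegFlat

/-- l.f.t. over a locally Noetherian scheme is l.f.p. -/
theorem lfp_of_lft {X Y : Scheme.{u}} (f : X ⟶ Y)
    [LocallyOfFiniteType f] [IsLocallyNoetherian Y] : LocallyOfFinitePresentation f := by
  rw [HasRingHomProperty.iff_appLE (P := @LocallyOfFinitePresentation)]
  intro U V e
  have : IsNoetherianRing Γ(Y, U.1) := IsLocallyNoetherian.component_noetherian U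
  exact RingHom.FinitePresentation.of_finiteType.mp (f.finiteType_appLE U.2 V.2 e)

/-- Transport along the points of a fibre. -/
theorem forall_fiber_of_forall_asFiber {X S : Scheme.{u}} (h : X ⟶ S)
    {Q : ∀ s : S, h.fiber s → Prop} (H : ∀ x : X, Q (h x) (h.asFiber x)) (s : S)
    (x' : h.fiber s) : Q s x' := by
  have key : ∀ (x : X) (s : S) (_ : h x = s) (x' : h.fiber s), h.fiberι s x' = x → Q s x' := by
    intro x s hs
    subst hs
    intro x' hx'
    have : x' = h.asFiber x := by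
      apply (h.fiberι (h x)).isEmbedding.injective
      rw [hx', Scheme.Hom.fiberι_asFiber]
    rw [this]
    exact H x
  refine key (h.fiberι s x') s ?_ x' rfl
  have : h.fiberι s x' ∈ Set.range (h.fiberι s) := ⟨x', rfl⟩
  rw [Scheme.Hom.range_fiberι] at this
  exact this

/-- Flatness of the stalk maps of a restriction. -/
theorem flat_stalkMap_of_flat_restrict {X S : Scheme.{u}} (h : X ⟶ S) (U : S.Opens)
    [Flat (h ∣_ U)] (x : X) (hx : h x ∈ U) : (h.stalkMap x).hom.Flat := by
  have h1 := Flat.stalkMap (h ∣_ U) ⟨x, hx⟩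
  exact (RingHom.Flat.respectsIso.arrow_mk_iso_iff
    (AlgebraicGeometry.morphismRestrictStalkMap h U ⟨x, hx⟩)).mp h1

theorem exists_nhd_not_flat_fiberMap {X Y S : Scheme.{u}} (f : X ⟶ Y) (g : Y ⟶ S)
    [IsIntegral S] [IsNoetherian S] [LocallyOfFiniteType g] [QuasiCompact g]
    [LocallyOfFiniteType (f ≫ g)] [QuasiCompact (f ≫ g)]
    (hη : ¬ Flat (MoreMor.fiberMap f g (genericPoint S))) :
    ∃ U : Set S, IsOpen U ∧ genericPoint S ∈ U ∧ ∀ s ∈ U, ¬ Flat (MoreMor.fiberMap f g s) := by
  have : LocallyOfFinitePresentation (f ≫ g) := lfp_of_lft (f ≫ g)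
  obtain ⟨hiff, hopen⟩ := Groth.Agent.S1386.result f g
  -- generic flatness
  obtain ⟨U₁, hU₁d, hU₁f, -⟩ := Groth.Agent.S0414.result (f ≫ g)
  have hηU₁ : genericPoint S ∈ U₁ := by
    have hne : (U₁ : Set S).Nonempty := hU₁d.nonempty
    exact ((genericPoint_spec S).mem_open_set_iff U₁.isOpen).mpr (by simpa using hne)
  -- a bad point in the generic fibre
  have hη' : ¬ ∀ x', ((MoreMor.fiberMap f g (genericPoint S)).stalkMap x').hom.Flat :=
    fun hh => hη (Flat.of_stalkMap _ hh)
  push Not at hη'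
  obtain ⟨x', hx'⟩ := hη'
  set G : Set X := {x : X | (g.stalkMap (f x)).hom.Flat ∧ (f.stalkMap x).hom.Flat} with hG
  have hfib : ∀ (s : S) (x' : (f ≫ g).fiber s), (f ≫ g).fiberι s x' ∈ G →
      ((MoreMor.fiberMap f g s).stalkMap x').hom.Flat := by
    intro s x'
    refine forall_fiber_of_forall_asFiber (f ≫ g)
      (Q := fun s x' => (f ≫ g).fiberι s x' ∈ G →
        ((MoreMor.fiberMap f g s).stalkMap x').hom.Flat) ?_ s x'
    intro x hx
    rw [Scheme.Hom.fiberι_asFiber] at hx
    exact ((hiff x).mpr hx).2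
  have hfib' : ∀ (s : S) (x' : (f ≫ g).fiber s),
      ((f ≫ g).stalkMap ((f ≫ g).fiberι s x')).hom.Flat →
      ((MoreMor.fiberMap f g s).stalkMap x').hom.Flat → (f ≫ g).fiberι s x' ∈ G := by
    intro s x'
    refine forall_fiber_of_forall_asFiber (f ≫ g)
      (Q := fun s x' => ((f ≫ g).stalkMap ((f ≫ g).fiberι s x')).hom.Flat →
      ((MoreMor.fiberMap f g s).stalkMap x').hom.Flat → (f ≫ g).fiberι s x' ∈ G) ?_ s x'
    intro x h1 h2
    rw [Scheme.Hom.fiberι_asFiber] at h1 ⊢
    exact (hiff x).mp ⟨h1, h2⟩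
  have hxG : (f ≫ g).fiberι (genericPoint S) x' ∈ Gᶜ := fun hh => hx' (hfib _ _ hh)
  have hxη : (f ≫ g) ((f ≫ g).fiberι (genericPoint S) x') = genericPoint S := by
    have : (f ≫ g).fiberι (genericPoint S) x' ∈ Set.range ((f ≫ g).fiberι (genericPoint S)) :=
      ⟨x', rfl⟩
    rw [Scheme.Hom.range_fiberι] at this
    exact this
  -- Chevalley
  have : IsLocallyNoetherian X := LocallyOfFiniteType.isLocallyNoetherian (f ≫ g)
  have : CompactSpace X := QuasiCompact.compactSpace_of_compactSpace (f ≫ g)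
  have : IsNoetherian X := {}
  have hcons : IsLocallyConstructible ((f ≫ g) '' Gᶜ) :=
    (f ≫ g).isLocallyConstructible_image
      (Groth.Agent.H12.isConstructible_of_isClosed hopen.isClosed_compl).isLocallyConstructible
  obtain ⟨O, hO, hηO, hOsub⟩ :=
    Groth.Agent.H99.DimCons.exists_isOpen_subset_of_isLocallyConstructible
      (genericPoint_spec S) hcons ⟨_, hxG, hxη⟩
  refine ⟨U₁ ∩ O, U₁.isOpen.inter hO, ⟨hηU₁, hηO⟩, ?_⟩
  rintro s ⟨hs1, hs2⟩ hflat
  obtain ⟨z, hzG, hzs⟩ := hOsub hs2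
  obtain ⟨z', rfl⟩ : z ∈ Set.range ((f ≫ g).fiberι s) := by
    rw [Scheme.Hom.range_fiberι]; exact hzs
  apply hzG
  refine hfib' s z' ?_ (Flat.stalkMap _ z')
  exact flat_stalkMap_of_flat_restrict (f ≫ g) U₁ _ (by rw [hzs]; exact hs1)

end Groth.Agent.H29.NegFlat
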