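import Mathlib
import Groth.Prelude.Def_EGA4Misc
import Groth.Agent.H29.ClosureFib
import Groth.Agent.H29.NegFlat
import Groth.Agent.H29.MorQ
import Groth.Agent.H17.FibreSurj
import Groth.Agent.H17.ConsPropLib

/-!
# "The morphism of fibres is dominant" is a constructible relation (helper29; S3425)
-/

set_option autoImplicit false
universe u

open AlgebraicGeometry CategoryTheory Limits Topology TopologicalSpace

namespace Groth.Agent.H29.DominantCons

open Groth.Agent.H29.MorQ Groth.Agent.H29.NegFlat Groth.Agent.H29.ClosureFib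

section topology

variable {T : Type*} [TopologicalSpace T]

/-- In a Noetherian space, a dense constructible set has dense interior. -/
theorem dense_interior_of_dense_constructible [NoetherianSpace T] {E : Set T}
    (hE : IsConstructible E) (hd : Dense E) : Dense (interior E) := by
  rw [dense_iff_inter_open]
  rintro N' hN' ⟨t, ht⟩
  obtain ⟨o', ho', hone, hoZ⟩ :=
    NoetherianSpace.exists_isOpen_nonempty_subset_irreducibleComponent (irreducibleComponent t)
      (irreducibleComponent_mem_irreducibleComponents t)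
  have hZ : IsIrreducible (irreducibleComponent t) := isIrreducible_irreducibleComponent
  obtain ⟨z, hzZ, hzN, hzo⟩ := hZ.isPreirreducible N' o' hN' ho'
    ⟨t, mem_irreducibleComponent, ht⟩ (by
      obtain ⟨a, ha⟩ := hone
      exact ⟨a, hoZ ha, ha⟩)
  set M : Set T := N' ∩ o' with hM
  have hMo : IsOpen M := hN'.inter ho'
  have hMZ : M ⊆ irreducibleComponent t := Set.inter_subset_right.trans hoZ
  have hMirr : IsIrreducible M := ⟨⟨z, hzN, hzo⟩, hZ.isPreirreducible.open_subset hMo hMZ⟩
  have hdM : Dense (Subtype.val ⁻¹' E : Set M) := by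
    rw [Groth.Agent.H12.dense_preimage_val_iff]
    intro x hx
    have h1 : x ∈ M ∩ closure E := ⟨hx, hd x⟩
    have h2 := hMo.inter_closure h1
    rwa [Set.inter_comm] at h2
  obtain ⟨U, hU, ⟨y, hyU, hyM⟩, hsub⟩ := (Groth.Agent.H12.dense_preimage_iff hMirr hE).mp hdM
  refine ⟨y, hyM.1, ?_⟩
  exact mem_interior.mpr ⟨U ∩ M, hsub, hU.inter hMo, hyU, hyM⟩

/-- A constructible set in a Noetherian space contains a dense open part of its closure. -/
theorem exists_closed_diff_subset [NoetherianSpace T] {D : Set T} (hD : IsConstructible D) :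
    ∃ B : Set T, IsClosed B ∧ closure D \ B ⊆ D ∧ closure D ⊆ closure (closure D \ B) := by
  set C := closure D with hC
  have : NoetherianSpace C := Topology.IsEmbedding.subtypeVal.isInducing.noetherianSpace
  have hE' : IsConstructible (Subtype.val ⁻¹' D : Set C) :=
    hD.preimage continuous_subtype_val
      (fun s _ _ => Groth.Agent.H12.isRetrocompact_of_noetherian _)
  have hd : Dense (Subtype.val ⁻¹' D : Set C) := by
    rw [Groth.Agent.H12.dense_preimage_val_iff]
    have : D ∩ C = D := Set.inter_eq_left.mpr subset_closure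
    rw [this]
  have hdi := dense_interior_of_dense_constructible hE' hd
  obtain ⟨O, hO, hOeq⟩ := isOpen_induced_iff.mp (isOpen_interior (s := (Subtype.val ⁻¹' D : Set C)))
  refine ⟨C \ O, isClosed_closure.sdiff hO, ?_, ?_⟩
  · rintro x ⟨hxC, hx⟩
    have hxO : x ∈ O := by
      by_contra h
      exact hx ⟨hxC, h⟩
    have : (⟨x, hxC⟩ : C) ∈ Subtype.val ⁻¹' O := hxO
    rw [hOeq] at this
    have h2 : (⟨x, hxC⟩ : C) ∈ (Subtype.val ⁻¹' D : Set C) := interior_subset this
    exact h2
  · rw [← hOeq, Groth.Agent.H12.dense_preimage_val_iff] at hdi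
    refine hdi.trans (closure_mono ?_)
    rintro x ⟨hxO, hxC⟩
    exact ⟨hxC, fun h => h.2 hxO⟩

end topology

theorem range_fiberMap {X Y S : Scheme.{u}} (f : X ⟶ Y) (g : Y ⟶ S) (s : S) :
    Set.range (MoreMor.fiberMap f g s) = (g.fiberι s) ⁻¹' Set.range f := by
  have hcomm : MoreMor.fiberMap f g s ≫ g.fiberι s = (f ≫ g).fiberι s ≫ f :=
    pullback.lift_fst _ _ _
  have hpt : ∀ x', g.fiberι s (MoreMor.fiberMap f g s x') = f ((f ≫ g).fiberι s x') := by
    intro x'
    rw [← Scheme.Hom.comp_apply, hcomm, Scheme.Hom.comp_apply]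
  ext y'
  constructor
  · rintro ⟨x', rfl⟩
    exact ⟨_, (hpt x').symm⟩
  · rintro ⟨x, hx⟩
    have hy : g (g.fiberι s y') = s := by
      have : g.fiberι s y' ∈ Set.range (g.fiberι s) := ⟨y', rfl⟩
      rw [Scheme.Hom.range_fiberι] at this
      exact this
    have hxs : x ∈ Set.range ((f ≫ g).fiberι s) := by
      rw [Scheme.Hom.range_fiberι]
      change (f ≫ g) x = s
      rw [Scheme.Hom.comp_apply, hx]
      exact hy
    obtain ⟨x', rfl⟩ := hxs
    refine ⟨x', (g.fiberι s).isEmbedding.injective ?_⟩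
    rw [hpt x', hx]

theorem isDominant_fiberMap_iff {X Y S : Scheme.{u}} (f : X ⟶ Y) (g : Y ⟶ S) (s : S) :
    IsDominant (MoreMor.fiberMap f g s) ↔
      g ⁻¹' {s} ⊆ closure (Set.range f ∩ g ⁻¹' {s}) := by
  rw [isDominant_iff, DenseRange, range_fiberMap,
    (g.fiberι s).isEmbedding.isInducing.dense_iff, Set.image_preimage_eq_inter_range,
    Scheme.Hom.range_fiberι]
  constructor
  · intro h y hy
    obtain ⟨y', rfl⟩ : y ∈ Set.range (g.fiberι s) := by
      rw [Scheme.Hom.range_fiberι]; exact hy
    exact h y'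
  · intro h y'
    apply h
    have : g.fiberι s y' ∈ Set.range (g.fiberι s) := ⟨y', rfl⟩
    rw [Scheme.Hom.range_fiberι] at this
    exact this

/-- Dominance is invariant under extension of the base field. -/
theorem isFieldStableMor_isDominant :
    ConsProp.IsFieldStableMor (RelMor (@IsDominant : MorphismProperty Scheme.{u})) := by
  intro X X' Y Y' T T' f g f' g' eX eY h _ _ _ _ _ _ _ _ hY hX
  have hsurj : Surjective eY := (Groth.Agent.H17.fpqc_of_isPullback_onePoint hY).1.1
  have hopen : UniversallyOpen eY :=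
    MorphismProperty.of_isPullback (P := @UniversallyOpen) hY.flip inferInstance
  have hrange : Set.range f' = eY ⁻¹' Set.range f := by
    ext y'
    constructor
    · rintro ⟨x', rfl⟩
      refine ⟨eX x', ?_⟩
      rw [← Scheme.Hom.comp_apply, hX.w, Scheme.Hom.comp_apply]
    · rintro ⟨x, hx⟩
      obtain ⟨z, hz1, hz2⟩ := Scheme.Pullback.exists_preimage_pullback (f := f) (g := eY) x y' hx
      refine ⟨hX.isoPullback.inv z, ?_⟩
      rw [← Scheme.Hom.comp_apply, hX.isoPullback_inv_snd]
      exact hz2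
  change IsDominant f ↔ IsDominant f'
  rw [isDominant_iff, isDominant_iff]
  constructor
  · intro hd
    rw [DenseRange, hrange]
    exact Dense.preimage hd eY.isOpenMap
  · intro hd
    have h1 : DenseRange (eY ∘ f') :=
      DenseRange.comp eY.surjective.denseRange hd eY.continuous
    refine h1.mono ?_
    rintro _ ⟨x', rfl⟩
    refine ⟨eX x', ?_⟩
    change f (eX x') = eY (f' x')
    rw [← Scheme.Hom.comp_apply, hX.w, Scheme.Hom.comp_apply]

/-- "The morphism of fibres is dominant" is a constructible relation. -/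
theorem isConsMor_isDominant :
    ConsProp.IsConsMor (RelMor (@IsDominant : MorphismProperty Scheme.{u})) := by
  refine ⟨isFieldStableMor_isDominant, ?_⟩
  intro X Y S f g _ _ _ _ _ _
  have : IsLocallyNoetherian Y := LocallyOfFiniteType.isLocallyNoetherian g
  have : IsLocallyNoetherian X := LocallyOfFiniteType.isLocallyNoetherian (f ≫ g)
  have : CompactSpace Y := QuasiCompact.compactSpace_of_compactSpace g
  have : CompactSpace X := QuasiCompact.compactSpace_of_compactSpace (f ≫ g)
  have : IsNoetherian X := {}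
  have : IsNoetherian Y := {}
  have : LocallyOfFiniteType f := locallyOfFiniteType_of_comp f g
  have : LocallyOfFinitePresentation f := lfp_of_lft f
  have : LocallyOfFinitePresentation g := lfp_of_lft g
  have hmem : ∀ s, s ∈ ConsProp.locusMor (RelMor (@IsDominant : MorphismProperty Scheme.{u})) f g ↔
      g ⁻¹' {s} ⊆ closure (Set.range f ∩ g ⁻¹' {s}) := fun s => isDominant_fiberMap_iff f g s
  have hD : IsConstructible (Set.range f) := by
    rw [← Set.image_univ]
    exact f.isConstructible_image IsConstructible.univ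
  by_cases hgen : genericPoint S ∈
      ConsProp.locusMor (RelMor (@IsDominant : MorphismProperty Scheme.{u})) f g
  · left
    rw [hmem] at hgen
    obtain ⟨B, hB, hBD, hBdense⟩ := exists_closed_diff_subset hD
    obtain ⟨U₁, hU₁, hηU₁, hU₁s⟩ :=
      exists_nhd_closure_fiber g (closure (Set.range f)) B isClosed_closure hB hBdense
    obtain ⟨V, hVne, hV⟩ := Groth.Agent.H20.GenFibre.exists_open_preimage_subset_closure_fiber g
    have hηV : genericPoint S ∈ V :=
      ((genericPoint_spec S).mem_open_set_iff V.isOpen).mpr (by simpa using hVne)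
    have hcl : closure (g ⁻¹' {genericPoint S}) ⊆ closure (Set.range f) :=
      closure_minimal (hgen.trans (closure_mono Set.inter_subset_left)) isClosed_closure
    refine ⟨genericPoint S, mem_interior.mpr ⟨U₁ ∩ V, ?_, hU₁.inter V.isOpen, hηU₁, hηV⟩⟩
    rintro s ⟨hs1, hs2⟩
    rw [hmem]
    intro y hy
    have hyC : y ∈ closure (Set.range f) := hcl (hV y (by rw [hy]; exact hs2))
    refine closure_mono ?_ (hU₁s s hs1 ⟨hyC, hy⟩)
    rintro z ⟨hz1, hz2⟩
    exact ⟨hBD hz1, hz2⟩
  · right
    rw [hmem, Set.not_subset] at hgen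
    obtain ⟨y₀, hy₀, hy₀c⟩ := hgen
    rw [mem_closure_iff] at hy₀c
    push Not at hy₀c
    obtain ⟨O, hO, hy₀O, hOempty⟩ := hy₀c
    have hA₁ : IsLocallyConstructible (g '' O) :=
      g.isLocallyConstructible_image
        (Groth.Agent.H12.isConstructible_of_isOpen hO).isLocallyConstructible
    have hA₂ : IsLocallyConstructible (g '' (O ∩ Set.range f)) :=
      g.isLocallyConstructible_image
        ((Groth.Agent.H12.isConstructible_of_isOpen hO).inter hD).isLocallyConstructible
    obtain ⟨U₁, hU₁, hηU₁, hU₁s⟩ :=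
      Groth.Agent.H99.DimCons.exists_isOpen_subset_of_isLocallyConstructible
        (genericPoint_spec S) hA₁ ⟨y₀, hy₀O, hy₀⟩
    have hηA₂ : genericPoint S ∉ g '' (O ∩ Set.range f) := by
      rintro ⟨y, ⟨hyO, hyD⟩, hyη⟩
      exact (Set.not_nonempty_iff_eq_empty.mpr hOempty) ⟨y, hyO, hyD, hyη⟩
    obtain ⟨U₂, hU₂, hηU₂, hU₂s⟩ :=
      Groth.Agent.H99.DimCons.exists_isOpen_subset_of_isLocallyConstructible
        (genericPoint_spec S) (Groth.Agent.H17.isLocallyConstructible_compl' hA₂) hηA₂
    refine ⟨genericPoint S, mem_interior.mpr ⟨U₁ ∩ U₂, ?_, hU₁.inter hU₂, hηU₁, hηU₂⟩⟩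
    rintro s ⟨hs1, hs2⟩ hs
    rw [hmem] at hs
    obtain ⟨y, hyO, hys⟩ := hU₁s hs1
    have hyc := hs hys
    rw [mem_closure_iff] at hyc
    obtain ⟨z, hzO, hzD, hzs⟩ := hyc O hO hyO
    exact hU₂s hs2 ⟨z, ⟨hzO, hzD⟩, hzs⟩

end Groth.Agent.H29.DominantCons
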