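import Mathlib
import Groth.Prelude.Def_EGA4Misc
import Groth.Prelude.Def_MoreMor
import Groth.Prelude.Def_W4ega4s0809p4Pair
import Groth.Agent.H29.RelQC
import Groth.Agent.H6.QuasiAffineHom
import Groth.Agent.S2579
import Groth.Agent.S2580
import Groth.Agent.S2581
import Groth.Agent.S2582
import Groth.Agent.S2583
import Groth.Agent.S2589
import Groth.Agent.S2590
import Groth.Agent.S2592
import Groth.Agent.S4805
import Groth.Agent.S9187
import Groth.Agent.S9189
import Groth.Agent.S9190

/-!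
# Instances of `Rel Q` being ind-constructible (helper29; S5893–S5905 except proper)
-/

set_option autoImplicit false
set_option backward.isDefEq.respectTransparency.types false
universe u

open AlgebraicGeometry CategoryTheory TopologicalSpace Limits Topology

namespace Groth.Agent.H29.RelQ

theorem descends_mono : DescendsAlongLimit (MorphismProperty.monomorphisms Scheme.{u}) := by
  intro I _ _ D c hc _ i₀ _ _ X₀ Y₀ f₀ g₀ _ _ _ _ _ _ X Y f g qY qX hY hX hQ
  have : Mono f := hQ
  exact Groth.Agent.S2579.result D c hc i₀ f₀ g₀ f g qY qX hY hX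

theorem descends_isOpenImmersion : DescendsAlongLimit (@IsOpenImmersion : MorphismProperty Scheme.{u}) := by
  intro I _ _ D c hc _ i₀ _ _ X₀ Y₀ f₀ g₀ _ _ _ _ _ _ X Y f g qY qX hY hX hQ
  have : IsOpenImmersion f := hQ
  exact Groth.Agent.S2580.result D c hc i₀ f₀ g₀ f g qY qX hY hX

theorem descends_surjective : DescendsAlongLimit (@Surjective : MorphismProperty Scheme.{u}) := by
  intro I _ _ D c hc _ i₀ _ _ X₀ Y₀ f₀ g₀ _ _ _ _ _ _ X Y f g qY qX hY hX hQ
  have : Surjective f := hQ
  exact Groth.Agent.S2581.result D c hc i₀ f₀ g₀ f g qY qX hY hX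

theorem descends_isAffineHom : DescendsAlongLimit (@IsAffineHom : MorphismProperty Scheme.{u}) := by
  intro I _ _ D c hc _ i₀ _ _ X₀ Y₀ f₀ g₀ _ _ _ _ _ _ X Y f g qY qX hY hX hQ
  have : IsAffineHom f := hQ
  exact Groth.Agent.S2582.result D c hc i₀ f₀ g₀ f g qY qX hY hX

theorem descends_isImmersion : DescendsAlongLimit (@IsImmersion : MorphismProperty Scheme.{u}) := by
  intro I _ _ D c hc _ i₀ _ _ X₀ Y₀ f₀ g₀ _ _ _ _ _ _ X Y f g qY qX hY hX hQ
  have : IsImmersion f := hQ
  exact Groth.Agent.S2589.result D c hc i₀ f₀ g₀ f g qY qX hY hX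

theorem descends_universallyInjective :
    DescendsAlongLimit (@UniversallyInjective : MorphismProperty Scheme.{u}) := by
  intro I _ _ D c hc _ i₀ _ _ X₀ Y₀ f₀ g₀ _ _ _ _ _ _ X Y f g qY qX hY hX hQ
  have : UniversallyInjective f := hQ
  exact Groth.Agent.S2590.result D c hc i₀ f₀ g₀ f g qY qX hY hX

theorem descends_isIso : DescendsAlongLimit (MorphismProperty.isomorphisms Scheme.{u}) := by
  intro I _ _ D c hc _ i₀ _ _ X₀ Y₀ f₀ g₀ _ _ _ _ _ _ X Y f g qY qX hY hX hQ
  have : IsIso f := hQ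
  exact Groth.Agent.S4805.result D c hc i₀ f₀ g₀ f g qY qX hY hX

theorem descends_isFinite : DescendsAlongLimit (@IsFinite : MorphismProperty Scheme.{u}) := by
  intro I _ _ D c hc _ i₀ _ _ X₀ Y₀ f₀ g₀ _ _ _ _ _ _ X Y f g qY qX hY hX hQ
  have : IsFinite f := hQ
  have : CompactSpace Y₀ := QuasiCompact.compactSpace_of_compactSpace g₀
  have : CompactSpace X₀ := QuasiCompact.compactSpace_of_compactSpace (f₀ ≫ g₀)
  have : QuasiSeparatedSpace Y₀ := quasiSeparatedSpace_of_quasiSeparated g₀
  have : QuasiSeparatedSpace X₀ := quasiSeparatedSpace_of_quasiSeparated (f₀ ≫ g₀)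
  have : LocallyOfFiniteType f₀ := locallyOfFiniteType_of_comp f₀ g₀
  exact Groth.Agent.S9187.result D c hc i₀ f₀ g₀ f g qY qX hY hX

theorem descends_isClosedImmersion :
    DescendsAlongLimit (@IsClosedImmersion : MorphismProperty Scheme.{u}) := by
  intro I _ _ D c hc _ i₀ _ _ X₀ Y₀ f₀ g₀ _ _ _ _ _ _ X Y f g qY qX hY hX hQ
  have : IsClosedImmersion f := hQ
  have : CompactSpace Y₀ := QuasiCompact.compactSpace_of_compactSpace g₀
  have : CompactSpace X₀ := QuasiCompact.compactSpace_of_compactSpace (f₀ ≫ g₀)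
  have : QuasiSeparatedSpace Y₀ := quasiSeparatedSpace_of_quasiSeparated g₀
  have : QuasiSeparatedSpace X₀ := quasiSeparatedSpace_of_quasiSeparated (f₀ ≫ g₀)
  have : LocallyOfFiniteType f₀ := locallyOfFiniteType_of_comp f₀ g₀
  exact Groth.Agent.S9189.result D c hc i₀ f₀ g₀ f g qY qX hY hX

theorem descends_isSeparated : DescendsAlongLimit (@IsSeparated : MorphismProperty Scheme.{u}) := by
  intro I _ _ D c hc _ i₀ _ _ X₀ Y₀ f₀ g₀ _ _ _ _ _ _ X Y f g qY qX hY hX hQ
  have : IsSeparated f := hQ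
  have : CompactSpace Y₀ := QuasiCompact.compactSpace_of_compactSpace g₀
  have : CompactSpace X₀ := QuasiCompact.compactSpace_of_compactSpace (f₀ ≫ g₀)
  have : QuasiSeparatedSpace Y₀ := quasiSeparatedSpace_of_quasiSeparated g₀
  have : QuasiSeparatedSpace X₀ := quasiSeparatedSpace_of_quasiSeparated (f₀ ≫ g₀)
  exact Groth.Agent.S9190.result D c hc i₀ f₀ g₀ f g qY qX hY hX

/-- Quasi-finite: locally of finite type, quasi-compact and locally quasi-finite. -/
def QF : MorphismProperty Scheme.{u} :=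
  fun _ _ f => LocallyOfFiniteType f ∧ QuasiCompact f ∧ LocallyQuasiFinite f

instance : (QF : MorphismProperty Scheme.{u}).IsStableUnderBaseChange where
  of_isPullback sq hg :=
    ⟨MorphismProperty.of_isPullback (P := @LocallyOfFiniteType) sq hg.1,
      MorphismProperty.of_isPullback (P := @QuasiCompact) sq hg.2.1,
      MorphismProperty.of_isPullback (P := @LocallyQuasiFinite) sq hg.2.2⟩

theorem descends_QF : DescendsAlongLimit (QF : MorphismProperty Scheme.{u}) := by
  intro I _ _ D c hc _ i₀ _ _ X₀ Y₀ f₀ g₀ _ _ _ _ _ _ X Y f g qY qX hY hX hQ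
  have : LocallyQuasiFinite f := hQ.2.2
  have : CompactSpace X₀ := QuasiCompact.compactSpace_of_compactSpace (f₀ ≫ g₀)
  have : QuasiSeparatedSpace Y₀ := quasiSeparatedSpace_of_quasiSeparated g₀
  have : LocallyOfFiniteType f₀ := locallyOfFiniteType_of_comp f₀ g₀
  have : QuasiCompact f₀ := inferInstance
  obtain ⟨i, φ, Xi, Yi, fi, gi, pY, pX, h1, h2, h3⟩ :=
    Groth.Agent.S2583.result D c hc i₀ f₀ g₀ f g qY qX hY hX
  exact ⟨i, φ, Xi, Yi, fi, gi, pY, pX, h1, h2,
    MorphismProperty.of_isPullback (P := @LocallyOfFiniteType) h2 inferInstance,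
    MorphismProperty.of_isPullback (P := @QuasiCompact) h2 inferInstance, h3⟩

/-- Quasi-affine morphisms in the prelude's sense. -/
def QA : MorphismProperty Scheme.{u} := fun _ _ f => MoreMor.IsQuasiAffineHom f

theorem QA_eq : (QA : MorphismProperty Scheme.{u}) = Groth.Agent.H6.QuasiAffineHom.P := by
  funext X Y f
  exact propext (Groth.Agent.H6.QuasiAffineHom.P_iff f).symm

instance : (QA : MorphismProperty Scheme.{u}).IsStableUnderBaseChange := by
  rw [QA_eq]; infer_instance

theorem descends_QA : DescendsAlongLimit (QA : MorphismProperty Scheme.{u}) := by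
  intro I _ _ D c hc _ i₀ _ _ X₀ Y₀ f₀ g₀ _ _ _ _ _ _ X Y f g qY qX hY hX hQ
  exact Groth.Agent.S2592.result D c hc i₀ f₀ g₀ f g qY qX hY hX hQ

end Groth.Agent.H29.RelQ
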