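import Mathlib
import Groth.Prelude.Def_EGA4Misc
import Groth.Agent.H29.DiagFib2
import Groth.Agent.H29.ClosureFib
import Groth.Agent.H29.DominantCons
import Groth.Agent.H29.MorQ
import Groth.Agent.H29.RelQD
import Groth.Agent.S0081

/-!
# "The morphism of fibres is separated" is a constructible relation (helper29; S3424)
-/

set_option autoImplicit false
universe u

open AlgebraicGeometry CategoryTheory Limits Topology TopologicalSpace

namespace Groth.Agent.H29.SepCons

open Groth.Agent.H29.MorQ Groth.Agent.H29.NegFlat Groth.Agent.H29.ClosureFib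
open Groth.Agent.H29.DiagFib Groth.Agent.H29.DominantCons Groth.Agent.H29.RelQ

/-- Closedness of the trace of a set on a fibre. -/
theorem isClosed_preimage_fiberι_iff {P S : Scheme.{u}} (p : P ⟶ S) (s : S) (Z : Set P) :
    IsClosed ((p.fiberι s) ⁻¹' Z) ↔ closure (Z ∩ p ⁻¹' {s}) ∩ p ⁻¹' {s} ⊆ Z := by
  rw [(p.fiberι s).isEmbedding.isInducing.isClosed_iff]
  constructor
  · rintro ⟨F, hF, hFZ⟩ x ⟨hx1, hx2⟩
    obtain ⟨x', rfl⟩ : x ∈ Set.range (p.fiberι s) := by
      rw [Scheme.Hom.range_fiberι]; exact hx2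
    have hsub : Z ∩ p ⁻¹' {s} ⊆ F := by
      rintro z ⟨hz1, hz2⟩
      obtain ⟨z', rfl⟩ : z ∈ Set.range (p.fiberι s) := by
        rw [Scheme.Hom.range_fiberι]; exact hz2
      have : z' ∈ (p.fiberι s) ⁻¹' Z := hz1
      rw [← hFZ] at this
      exact this
    have hxF : p.fiberι s x' ∈ F := closure_minimal hsub hF hx1
    have : x' ∈ (p.fiberι s) ⁻¹' F := hxF
    rw [hFZ] at this
    exact this
  · intro h
    refine ⟨closure (Z ∩ p ⁻¹' {s}), isClosed_closure, ?_⟩
    ext x'
    have hx's : p.fiberι s x' ∈ p ⁻¹' {s} := by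
      have : p.fiberι s x' ∈ Set.range (p.fiberι s) := ⟨x', rfl⟩
      rw [Scheme.Hom.range_fiberι] at this
      exact this
    constructor
    · intro hx
      exact h ⟨hx, hx's⟩
    · intro hx
      exact subset_closure ⟨hx, hx's⟩

theorem isSeparated_fiberMap_iff {X Y S : Scheme.{u}} (f : X ⟶ Y) (g : Y ⟶ S) (s : S) :
    IsSeparated (MoreMor.fiberMap f g s) ↔
      closure (Set.range (pullback.diagonal f) ∩ (pullback.fst f f ≫ f ≫ g) ⁻¹' {s}) ∩
        (pullback.fst f f ≫ f ≫ g) ⁻¹' {s} ⊆ Set.range (pullback.diagonal f) := by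
  have h1 : IsSeparated (MoreMor.fiberMap f g s) ↔
      IsClosedImmersion (pullback.diagonal (MoreMor.fiberMap f g s)) :=
    ⟨fun h => h.1, fun h => ⟨h⟩⟩
  rw [h1, diagonal_fiberMap_iff (@IsClosedImmersion) f g s, ← isClosed_preimage_fiberι_iff,
    ← range_fiberMap]
  have : IsImmersion (MoreMor.fiberMap (pullback.diagonal f) (pullback.fst f f ≫ f ≫ g) s) :=
    MorphismProperty.of_isPullback (P := @IsImmersion)
      (Groth.Agent.H99.FibrewiseCons.isPullback_fiberMap (pullback.diagonal f) _ s) inferInstance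
  rw [IsClosedImmersion.iff_isPreimmersion]
  exact ⟨fun h => h.2, fun h => ⟨inferInstance, h⟩⟩

/-- "The morphism of fibres is separated" is a constructible relation. -/
theorem isConsMor_isSeparated :
    ConsProp.IsConsMor (RelMor (@IsSeparated : MorphismProperty Scheme.{u})) := by
  have := Groth.Agent.S0081.result.{u}
  refine ⟨isFieldStableMor_relMor _, ?_⟩
  intro X Y S f g _ _ _ _ _ _
  by_cases hgen : genericPoint S ∈
      ConsProp.locusMor (RelMor (@IsSeparated : MorphismProperty Scheme.{u})) f g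
  · exact Or.inl ((isIndConsMor_relMor _ descends_isSeparated).2 f g hgen)
  · right
    have : IsLocallyNoetherian Y := LocallyOfFiniteType.isLocallyNoetherian g
    have : IsLocallyNoetherian X := LocallyOfFiniteType.isLocallyNoetherian (f ≫ g)
    have : CompactSpace X := QuasiCompact.compactSpace_of_compactSpace (f ≫ g)
    have : IsNoetherian X := {}
    have : LocallyOfFiniteType f := locallyOfFiniteType_of_comp f g
    set gP := pullback.fst f f ≫ f ≫ g with hgP
    have : LocallyOfFiniteType gP := by rw [hgP]; infer_instance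
    have : QuasiCompact gP := by rw [hgP]; infer_instance
    have : IsLocallyNoetherian (pullback f f) := LocallyOfFiniteType.isLocallyNoetherian gP
    have : CompactSpace ↥(pullback f f : Scheme.{u}) := QuasiCompact.compactSpace_of_compactSpace gP
    have : IsNoetherian (pullback f f) := {}
    have : LocallyOfFinitePresentation gP := lfp_of_lft gP
    set Z := Set.range (pullback.diagonal f) with hZ
    have hmem : ∀ s, s ∈ ConsProp.locusMor (RelMor (@IsSeparated : MorphismProperty Scheme.{u})) f g ↔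
        closure (Z ∩ gP ⁻¹' {s}) ∩ gP ⁻¹' {s} ⊆ Z := fun s => isSeparated_fiberMap_iff f g s
    rw [hmem, Set.not_subset] at hgen
    obtain ⟨p₀, ⟨hp₀c, hp₀η⟩, hp₀Z⟩ := hgen
    have hZlc : IsLocallyClosed Z := (pullback.diagonal f).isLocallyClosed_range
    set B := closure Z \ Z with hB
    have hBc : IsClosed B := by
      have := hZlc.isOpen_coborder
      rw [coborder] at this
      exact isOpen_compl_iff.mp this
    have hp₀B : p₀ ∈ B := ⟨closure_mono Set.inter_subset_left hp₀c, hp₀Z⟩
    have hdense : closure Z ⊆ closure (closure Z \ B) := by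
      have : closure Z \ B = Z := by
        rw [hB, Set.sdiff_sdiff_right_self]
        exact Set.inter_eq_right.mpr subset_closure
      rw [this]
    obtain ⟨U₂, hU₂, hηU₂, hU₂s⟩ := exists_nhd_closure_fiber gP (closure Z) B isClosed_closure
      hBc hdense
    have hA : IsLocallyConstructible (gP '' B) :=
      gP.isLocallyConstructible_image
        (Groth.Agent.H12.isConstructible_of_isClosed hBc).isLocallyConstructible
    obtain ⟨U₁, hU₁, hηU₁, hU₁s⟩ :=
      Groth.Agent.H99.DimCons.exists_isOpen_subset_of_isLocallyConstructible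
        (genericPoint_spec S) hA ⟨p₀, hp₀B, hp₀η⟩
    refine ⟨genericPoint S, mem_interior.mpr ⟨U₁ ∩ U₂, ?_, hU₁.inter hU₂, hηU₁, hηU₂⟩⟩
    rintro s ⟨hs1, hs2⟩ hs
    rw [hmem] at hs
    obtain ⟨b, hbB, hbs⟩ := hU₁s hs1
    have h1 := hU₂s s hs2 ⟨hbB.1, hbs⟩
    have h2 : closure Z \ B = Z := by
      rw [hB, Set.sdiff_sdiff_right_self]
      exact Set.inter_eq_right.mpr subset_closure
    rw [h2] at h1
    exact hbB.2 (hs ⟨h1, hbs⟩)

end Groth.Agent.H29.SepCons
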