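import Mathlib
import Groth.Prelude.Def_EGA4Misc
import Groth.Agent.H29.SepCons

/-!
# Non-closedness of the trace of a constructible set on the fibres spreads out from the generic
fibre; closedness of the morphisms of fibres (helper29; towards S2576, S2585)
-/

set_option autoImplicit false
universe u

open AlgebraicGeometry CategoryTheory Limits Topology TopologicalSpace

namespace Groth.Agent.H29.ClosedFibNeg

open Groth.Agent.H29.MorQ Groth.Agent.H29.NegFlat Groth.Agent.H29.ClosureFib
open Groth.Agent.H29.DominantCons Groth.Agent.H29.SepCons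

/-- If the trace of a constructible set `Z` on the generic fibre is not closed in the generic fibre,
the same holds on all fibres over a neighbourhood of the generic point. -/
theorem exists_nhd_not_isClosed_fiber {P S : Scheme.{u}} (p : P ⟶ S) [IsIntegral S]
    [IsNoetherian S] [LocallyOfFiniteType p] [QuasiCompact p] (Z : Set P) (hZ : IsConstructible Z)
    (hη : ¬ IsClosed ((p.fiberι (genericPoint S)) ⁻¹' Z)) :
    ∃ U : Set S, IsOpen U ∧ genericPoint S ∈ U ∧ ∀ s ∈ U, ¬ IsClosed ((p.fiberι s) ⁻¹' Z) := by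
  have : IsLocallyNoetherian P := LocallyOfFiniteType.isLocallyNoetherian p
  have : CompactSpace P := QuasiCompact.compactSpace_of_compactSpace p
  have : IsNoetherian P := {}
  have : LocallyOfFinitePresentation p := lfp_of_lft p
  rw [isClosed_preimage_fiberι_iff, Set.not_subset] at hη
  obtain ⟨p₀, ⟨hp₀c, hp₀η⟩, hp₀Z⟩ := hη
  obtain ⟨B, hB, hBZ, hBdense⟩ := exists_closed_diff_subset hZ
  obtain ⟨U₂, hU₂, hηU₂, hU₂s⟩ :=
    exists_nhd_closure_fiber p (closure Z) B isClosed_closure hB hBdense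
  have hAc : IsConstructible (closure Z \ Z) :=
    (Groth.Agent.H12.isConstructible_of_isClosed isClosed_closure).sdiff hZ
  have hA : IsLocallyConstructible (p '' (closure Z \ Z)) :=
    p.isLocallyConstructible_image hAc.isLocallyConstructible
  obtain ⟨U₁, hU₁, hηU₁, hU₁s⟩ :=
    Groth.Agent.H99.DimCons.exists_isOpen_subset_of_isLocallyConstructible
      (genericPoint_spec S) hA ⟨p₀, ⟨closure_mono Set.inter_subset_left hp₀c, hp₀Z⟩, hp₀η⟩
  refine ⟨U₁ ∩ U₂, hU₁.inter hU₂, ⟨hηU₁, hηU₂⟩, ?_⟩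
  rintro s ⟨hs1, hs2⟩ hs
  rw [isClosed_preimage_fiberι_iff] at hs
  obtain ⟨b, hbA, hbs⟩ := hU₁s hs1
  have h1 : b ∈ closure ((closure Z \ B) ∩ p ⁻¹' {s}) := hU₂s s hs2 ⟨hbA.1, hbs⟩
  have h2 : b ∈ closure (Z ∩ p ⁻¹' {s}) :=
    closure_mono (Set.inter_subset_inter_left _ hBZ) h1
  exact hbA.2 (hs ⟨h2, hbs⟩)

/-- The image of the trace of a set on the fibre, under the morphism of fibres. -/
theorem image_fiberMap {X Y S : Scheme.{u}} (f : X ⟶ Y) (g : Y ⟶ S) (s : S) (T : Set X) :
    (MoreMor.fiberMap f g s) '' (((f ≫ g).fiberι s) ⁻¹' T) = (g.fiberι s) ⁻¹' (f '' T) := by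
  have hcomm : MoreMor.fiberMap f g s ≫ g.fiberι s = (f ≫ g).fiberι s ≫ f :=
    pullback.lift_fst _ _ _
  have hpt : ∀ x', g.fiberι s (MoreMor.fiberMap f g s x') = f ((f ≫ g).fiberι s x') := by
    intro x'
    rw [← Scheme.Hom.comp_apply, hcomm, Scheme.Hom.comp_apply]
  ext y'
  constructor
  · rintro ⟨x', hx', rfl⟩
    exact ⟨_, hx', (hpt x').symm⟩
  · rintro ⟨x, hxT, hx⟩
    have hy : g (g.fiberι s y') = s := by
      have : g.fiberι s y' ∈ Set.range (g.fiberι s) := ⟨y', rfl⟩
      rw [Scheme.Hom.range_fiberι] at this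
      exact this
    have hxs : x ∈ Set.range ((f ≫ g).fiberι s) := by
      rw [Scheme.Hom.range_fiberι]
      change (f ≫ g) x = s
      rw [Scheme.Hom.comp_apply, hx]
      exact hy
    obtain ⟨x', rfl⟩ := hxs
    refine ⟨x', hxT, (g.fiberι s).isEmbedding.injective ?_⟩
    rw [hpt x', hx]

/-- If the morphism of fibres over `s` is a closed map, the image of a closed set traces a closed
subset of the fibre. -/
theorem isClosed_of_isClosedMap_fiberMap {X Y S : Scheme.{u}} (f : X ⟶ Y) (g : Y ⟶ S) (s : S)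
    (h : IsClosedMap (MoreMor.fiberMap f g s)) (T : Set X) (hT : IsClosed T) :
    IsClosed ((g.fiberι s) ⁻¹' (f '' T)) := by
  rw [← image_fiberMap]
  exact h _ (hT.preimage ((f ≫ g).fiberι s).continuous)

/-- If the morphism of fibres over `s` is not a closed map, this is witnessed by a closed subset of
the total space. -/
theorem exists_isClosed_of_not_isClosedMap_fiberMap {X Y S : Scheme.{u}} (f : X ⟶ Y) (g : Y ⟶ S)
    (s : S) (h : ¬ IsClosedMap (MoreMor.fiberMap f g s)) :
    ∃ T : Set X, IsClosed T ∧ ¬ IsClosed ((g.fiberι s) ⁻¹' (f '' T)) := by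
  rw [IsClosedMap] at h
  push Not at h
  obtain ⟨T', hT', hT'n⟩ := h
  refine ⟨closure (((f ≫ g).fiberι s) '' T'), isClosed_closure, ?_⟩
  rw [← image_fiberMap,
    ← ((f ≫ g).fiberι s).isEmbedding.isInducing.closure_eq_preimage_closure_image, hT'.closure_eq]
  exact hT'n

/-- **Non-closedness of the morphism of fibres spreads out from the generic fibre.** -/
theorem exists_nhd_not_isClosedMap_fiberMap {X Y S : Scheme.{u}} (f : X ⟶ Y) (g : Y ⟶ S)
    [IsIntegral S] [IsNoetherian S] [LocallyOfFiniteType g] [QuasiCompact g]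
    [LocallyOfFiniteType (f ≫ g)] [QuasiCompact (f ≫ g)]
    (hη : ¬ IsClosedMap (MoreMor.fiberMap f g (genericPoint S))) :
    ∃ U : Set S, IsOpen U ∧ genericPoint S ∈ U ∧
      ∀ s ∈ U, ¬ IsClosedMap (MoreMor.fiberMap f g s) := by
  have : IsLocallyNoetherian Y := LocallyOfFiniteType.isLocallyNoetherian g
  have : IsLocallyNoetherian X := LocallyOfFiniteType.isLocallyNoetherian (f ≫ g)
  have : CompactSpace Y := QuasiCompact.compactSpace_of_compactSpace g
  have : CompactSpace X := QuasiCompact.compactSpace_of_compactSpace (f ≫ g)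
  have : IsNoetherian X := {}
  have : IsNoetherian Y := {}
  have : LocallyOfFiniteType f := locallyOfFiniteType_of_comp f g
  have : LocallyOfFinitePresentation f := lfp_of_lft f
  obtain ⟨T, hT, hTn⟩ := exists_isClosed_of_not_isClosedMap_fiberMap f g _ hη
  have hZ : IsConstructible (f '' T) :=
    f.isConstructible_image (Groth.Agent.H12.isConstructible_of_isClosed hT)
  obtain ⟨U, hU, hηU, hUs⟩ := exists_nhd_not_isClosed_fiber g (f '' T) hZ hTn
  exact ⟨U, hU, hηU, fun s hs h => hUs s hs (isClosed_of_isClosedMap_fiberMap f g s h T hT)⟩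

end Groth.Agent.H29.ClosedFibNeg
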