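import Mathlib
import Groth.Prelude.Def_EGA4Misc
import Groth.Agent.H29.ClosedFibNeg
import Groth.Agent.H22.UCAn

/-!
# Failure of universal closedness of the morphism of fibres spreads out from the generic fibre
(helper29; towards S2576, S2585)
-/

set_option autoImplicit false
universe u

open AlgebraicGeometry CategoryTheory Limits Topology TopologicalSpace

namespace Groth.Agent.H29.UCNeg

open Groth.Agent.H29.MorQ Groth.Agent.H29.NegFlat Groth.Agent.H29.ClosedFibNeg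
open Groth.Agent.H99.FibrewiseCons

/-- The morphism of fibres of a base change `X ×_Y Y' ⟶ Y'` is a base change of the morphism of
fibres of `f`. -/
theorem exists_isPullback_fiberMap_snd {X Y Y' S : Scheme.{u}} (f : X ⟶ Y) (g : Y ⟶ S)
    (π : Y' ⟶ Y) (s : S) :
    ∃ a, IsPullback a (MoreMor.fiberMap (pullback.snd f π) (π ≫ g) s) (MoreMor.fiberMap f g s)
      (MoreMor.fiberMap π g s) := by
  have hL := isPullback_fiberMap (pullback.snd f π) (π ≫ g) s
  have hR : IsPullback (pullback.fst f π) (pullback.snd f π) f π := IsPullback.of_hasPullback f π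
  have hLR := hL.paste_horiz hR
  have hπ := isPullback_fiberMap π g s
  have hF := isPullback_fiberMap f g s
  have hw : ((pullback.snd f π ≫ π ≫ g).fiberι s ≫ pullback.fst f π) ≫ f =
      (MoreMor.fiberMap (pullback.snd f π) (π ≫ g) s ≫ MoreMor.fiberMap π g s) ≫ g.fiberι s := by
    rw [Category.assoc, Category.assoc, ← hπ.w, ← Category.assoc _ _ π, ← hL.w, Category.assoc,
      pullback.condition]
  refine ⟨hF.lift _ _ hw, ?_⟩
  refine IsPullback.of_right ?_ (hF.lift_snd _ _ hw) hF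
  rw [hF.lift_fst, ← hπ.w]
  exact hLR

/-- Universal closedness of the morphism of fibres passes to base changes of `f`. -/
theorem universallyClosed_fiberMap_snd {X Y Y' S : Scheme.{u}} (f : X ⟶ Y) (g : Y ⟶ S)
    (π : Y' ⟶ Y) (s : S) (h : UniversallyClosed (MoreMor.fiberMap f g s)) :
    UniversallyClosed (MoreMor.fiberMap (pullback.snd f π) (π ≫ g) s) := by
  obtain ⟨a, ha⟩ := exists_isPullback_fiberMap_snd f g π s
  exact MorphismProperty.of_isPullback (P := @UniversallyClosed) ha h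

/-- If the morphism of fibres of `X ×_Y 𝔸ⁿ_Y ⟶ 𝔸ⁿ_Y` is closed, so is the base change of the morphism
of fibres of `f` to `𝔸ⁿ` over the fibre of `Y`. -/
theorem isClosedMap_snd_affineSpace {X Y S : Scheme.{u}} (f : X ⟶ Y) (g : Y ⟶ S) (s : S)
    (σ : Type u)
    (h : IsClosedMap (MoreMor.fiberMap (pullback.snd f (𝔸(σ; Y) ↘ Y)) ((𝔸(σ; Y) ↘ Y) ≫ g) s)) :
    IsClosedMap (pullback.snd (MoreMor.fiberMap f g s) (𝔸(σ; g.fiber s) ↘ g.fiber s)) := by
  obtain ⟨a, ha⟩ := exists_isPullback_fiberMap_snd f g (𝔸(σ; Y) ↘ Y) s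
  have hπ := isPullback_fiberMap (𝔸(σ; Y) ↘ Y) g s
  have hAff := AffineSpace.isPullback_map (n := σ) (g.fiberι s)
  let e := hAff.isoIsPullback _ _ hπ
  have he : e.hom ≫ MoreMor.fiberMap (𝔸(σ; Y) ↘ Y) g s = (𝔸(σ; g.fiber s) ↘ g.fiber s) :=
    hAff.isoIsPullback_hom_snd _ _ hπ
  have hw : pullback.fst (MoreMor.fiberMap f g s) (𝔸(σ; g.fiber s) ↘ g.fiber s) ≫
      MoreMor.fiberMap f g s =
      (pullback.snd (MoreMor.fiberMap f g s) (𝔸(σ; g.fiber s) ↘ g.fiber s) ≫ e.hom) ≫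
        MoreMor.fiberMap (𝔸(σ; Y) ↘ Y) g s := by
    rw [Category.assoc, he, pullback.condition]
  have hsq : IsPullback (ha.lift _ _ hw)
      (pullback.snd (MoreMor.fiberMap f g s) (𝔸(σ; g.fiber s) ↘ g.fiber s))
      (MoreMor.fiberMap (pullback.snd f (𝔸(σ; Y) ↘ Y)) ((𝔸(σ; Y) ↘ Y) ≫ g) s) e.hom := by
    refine IsPullback.of_right ?_ (ha.lift_snd _ _ hw) ha
    rw [ha.lift_fst, he]
    exact IsPullback.of_hasPullback _ _
  have hiso : IsIso (ha.lift _ _ hw) := hsq.isIso_fst_of_isIso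
  have heq : pullback.snd (MoreMor.fiberMap f g s) (𝔸(σ; g.fiber s) ↘ g.fiber s) =
      ha.lift _ _ hw ≫
        MoreMor.fiberMap (pullback.snd f (𝔸(σ; Y) ↘ Y)) ((𝔸(σ; Y) ↘ Y) ≫ g) s ≫ e.inv := by
    rw [← Category.assoc, hsq.w, Category.assoc, e.hom_inv_id, Category.comp_id]
  rw [heq]
  intro K hK
  have h1 : IsClosed ((ha.lift _ _ hw) '' K) :=
    (ha.lift _ _ hw).homeomorph.isClosedMap _ hK
  have h2 := h _ h1
  have h3 := e.inv.homeomorph.isClosedMap _ h2
  convert h3 using 1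
  ext y
  simp only [Scheme.Hom.comp_apply, Set.mem_image]
  constructor
  · rintro ⟨k, hk, rfl⟩
    exact ⟨_, ⟨_, ⟨k, hk, rfl⟩, rfl⟩, rfl⟩
  · rintro ⟨_, ⟨_, ⟨k, hk, rfl⟩, rfl⟩, rfl⟩
    exact ⟨k, hk, rfl⟩

end Groth.Agent.H29.UCNeg
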