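import Mathlib
import Groth.Prelude.Def_EGA4Misc
import Groth.Agent.H29.UCNeg

/-!
# Failure of universal closedness of the morphism of fibres spreads out from the generic fibre, II
(helper29; towards S2576, S2585)
-/

set_option autoImplicit false
universe u

open AlgebraicGeometry CategoryTheory Limits Topology TopologicalSpace

namespace Groth.Agent.H29.UCNeg

open Groth.Agent.H29.MorQ Groth.Agent.H29.NegFlat Groth.Agent.H29.ClosedFibNeg
open Groth.Agent.H99.FibrewiseCons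

/-- **Failure of universal closedness of the morphism of fibres spreads out from the generic
fibre.** -/
theorem exists_nhd_not_universallyClosed_fiberMap {X Y S : Scheme.{u}} (f : X ⟶ Y) (g : Y ⟶ S)
    [IsIntegral S] [IsNoetherian S] [LocallyOfFiniteType g] [QuasiCompact g]
    [LocallyOfFiniteType (f ≫ g)] [QuasiCompact (f ≫ g)]
    (hη : ¬ UniversallyClosed (MoreMor.fiberMap f g (genericPoint S))) :
    ∃ U : Set S, IsOpen U ∧ genericPoint S ∈ U ∧
      ∀ s ∈ U, ¬ UniversallyClosed (MoreMor.fiberMap f g s) := by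
  have : IsLocallyNoetherian X := LocallyOfFiniteType.isLocallyNoetherian (f ≫ g)
  have : CompactSpace X := QuasiCompact.compactSpace_of_compactSpace (f ≫ g)
  have : IsNoetherian X := {}
  have hqc : QuasiCompact f := inferInstance
  have hqcη : QuasiCompact (MoreMor.fiberMap f g (genericPoint S)) :=
    MorphismProperty.of_isPullback (P := @QuasiCompact)
      (isPullback_fiberMap f g (genericPoint S)) hqc
  have hex : ∃ n : ℕ, ¬ IsClosedMap (pullback.snd (MoreMor.fiberMap f g (genericPoint S))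
      (𝔸(ULift.{u} (Fin n); g.fiber (genericPoint S)) ↘ g.fiber (genericPoint S))) := by
    by_contra hcon
    push Not at hcon
    exact hη (Groth.Agent.H22.UCAn.universallyClosed_of_affineSpace _ hcon)
  obtain ⟨n, hn⟩ := hex
  let σ : Type u := ULift.{u} (Fin n)
  have hn' : ¬ IsClosedMap (MoreMor.fiberMap (pullback.snd f (𝔸(σ; Y) ↘ Y)) ((𝔸(σ; Y) ↘ Y) ≫ g)
      (genericPoint S)) := fun h => hn (isClosedMap_snd_affineSpace f g _ σ h)
  have : LocallyOfFiniteType ((𝔸(σ; Y) ↘ Y) ≫ g) := inferInstance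
  have : QuasiCompact ((𝔸(σ; Y) ↘ Y) ≫ g) := inferInstance
  have hcomp : pullback.snd f (𝔸(σ; Y) ↘ Y) ≫ (𝔸(σ; Y) ↘ Y) ≫ g =
      pullback.fst f (𝔸(σ; Y) ↘ Y) ≫ f ≫ g := by
    rw [← Category.assoc, ← pullback.condition, Category.assoc]
  have : LocallyOfFiniteType (pullback.snd f (𝔸(σ; Y) ↘ Y) ≫ (𝔸(σ; Y) ↘ Y) ≫ g) := by
    rw [hcomp]; infer_instance
  have : QuasiCompact (pullback.snd f (𝔸(σ; Y) ↘ Y) ≫ (𝔸(σ; Y) ↘ Y) ≫ g) := by
    rw [hcomp]; infer_instance
  obtain ⟨U, hU, hηU, hUs⟩ := exists_nhd_not_isClosedMap_fiberMap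
    (pullback.snd f (𝔸(σ; Y) ↘ Y)) ((𝔸(σ; Y) ↘ Y) ≫ g) hn'
  refine ⟨U, hU, hηU, fun s hs h => hUs s hs ?_⟩
  have := universallyClosed_fiberMap_snd f g (𝔸(σ; Y) ↘ Y) s h
  exact (MoreMor.fiberMap (pullback.snd f (𝔸(σ; Y) ↘ Y)) ((𝔸(σ; Y) ↘ Y) ≫ g) s).isClosedMap

end Groth.Agent.H29.UCNeg
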