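import Mathlib
import Groth.Prelude.Def_EGA4Misc
import Groth.Agent.H99.FibrewiseCons

/-!
# Fibres of the diagonal (helper29; for S2584, S2575, S3426)

`f_s` is a monomorphism iff the fibre `(Δ_f)_s` of the diagonal of `f` is an isomorphism.
-/

set_option autoImplicit false
universe u

open AlgebraicGeometry CategoryTheory Limits

namespace Groth.Agent.H29.DiagFib

/-- Abstract form: `f_s` is a monomorphism iff the base change of the diagonal of `f` to the fibre
is an isomorphism. -/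
theorem mono_iff_isIso_of_isPullback {X Y S T : Scheme.{u}} (f : X ⟶ Y) (g : Y ⟶ S) (m : T ⟶ S)
    {Ys Xs Ps Xs' : Scheme.{u}} {ιY : Ys ⟶ Y} {gs : Ys ⟶ T} {ιX : Xs ⟶ X} {fs : Xs ⟶ Ys}
    {ιP : Ps ⟶ pullback f f} {ps : Ps ⟶ T} {ιX' : Xs' ⟶ X} {Δs : Xs' ⟶ Ps}
    (hY : IsPullback ιY gs g m) (hX : IsPullback ιX fs f ιY)
    (hP : IsPullback ιP ps (pullback.fst f f ≫ f ≫ g) m)
    (hΔ : IsPullback ιX' Δs (pullback.diagonal f) ιP) : Mono fs ↔ IsIso Δs := by
  constructor
  · intro hmono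
    -- the common map to `Ys`
    have hv : (ιP ≫ pullback.fst f f ≫ f) ≫ g = ps ≫ m := by
      simpa only [Category.assoc] using hP.w
    let v : Ps ⟶ Ys := hY.lift (ιP ≫ pullback.fst f f ≫ f) ps hv
    have hv1 : v ≫ ιY = ιP ≫ pullback.fst f f ≫ f := hY.lift_fst _ _ _
    have h1 : (ιP ≫ pullback.fst f f) ≫ f = v ≫ ιY := by rw [hv1, Category.assoc]
    have h2 : (ιP ≫ pullback.snd f f) ≫ f = v ≫ ιY := by
      rw [hv1, Category.assoc, ← pullback.condition]
    let u1 : Ps ⟶ Xs := hX.lift (ιP ≫ pullback.fst f f) v h1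
    let u2 : Ps ⟶ Xs := hX.lift (ιP ≫ pullback.snd f f) v h2
    have hu : u1 = u2 := by
      rw [← cancel_mono fs]
      exact (hX.lift_snd _ _ h1).trans (hX.lift_snd _ _ h2).symm
    have hpr : ιP ≫ pullback.fst f f = ιP ≫ pullback.snd f f := by
      have e1 : u1 ≫ ιX = ιP ≫ pullback.fst f f := hX.lift_fst _ _ h1
      have e2 : u2 ≫ ιX = ιP ≫ pullback.snd f f := hX.lift_fst _ _ h2
      rw [← e1, ← e2, hu]
    have hr : (ιP ≫ pullback.fst f f) ≫ pullback.diagonal f = 𝟙 Ps ≫ ιP := by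
      apply pullback.hom_ext
      · simp
      · simp [hpr]
    let r : Ps ⟶ Xs' := hΔ.lift (ιP ≫ pullback.fst f f) (𝟙 Ps) hr
    have hr2 : r ≫ Δs = 𝟙 Ps := hΔ.lift_snd _ _ hr
    have hr1 : r ≫ ιX' = ιP ≫ pullback.fst f f := hΔ.lift_fst _ _ hr
    have hr3 : Δs ≫ r = 𝟙 Xs' := by
      apply hΔ.hom_ext
      · rw [Category.assoc, hr1, ← Category.assoc, ← hΔ.w]
        simp
      · rw [Category.assoc, hr2]; simp
    exact ⟨r, hr3, hr2⟩
  · intro hiso
    constructor
    intro W a b hab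
    have hc : (a ≫ ιX) ≫ f = (b ≫ ιX) ≫ f := by
      rw [Category.assoc, Category.assoc, hX.w, ← Category.assoc, ← Category.assoc, hab]
    let t : W ⟶ pullback f f := pullback.lift (a ≫ ιX) (b ≫ ιX) hc
    have ht : t ≫ (pullback.fst f f ≫ f ≫ g) = (a ≫ fs ≫ gs) ≫ m := by
      rw [← Category.assoc, pullback.lift_fst]
      simp only [Category.assoc]
      rw [← hY.w, ← Category.assoc fs, ← hX.w]
      simp
    let ts : W ⟶ Ps := hP.lift t (a ≫ fs ≫ gs) ht
    have hts : ts ≫ ιP = t := hP.lift_fst _ _ ht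
    let c : W ⟶ Xs' := ts ≫ inv Δs
    have hct : (c ≫ ιX') ≫ pullback.diagonal f = t := by
      rw [Category.assoc, hΔ.w, ← Category.assoc]
      simp only [c, Category.assoc, IsIso.inv_hom_id, Category.comp_id]
      exact hts
    have ha : a ≫ ιX = c ≫ ιX' := by
      have : t ≫ pullback.fst f f = a ≫ ιX := pullback.lift_fst _ _ _
      rw [← this, ← hct]; simp
    have hb : b ≫ ιX = c ≫ ιX' := by
      have : t ≫ pullback.snd f f = b ≫ ιX := pullback.lift_snd _ _ _
      rw [← this, ← hct]; simp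
    exact hX.hom_ext (ha.trans hb.symm) hab

/-- `f_s` is a monomorphism iff the fibre of the diagonal of `f` over `s` is an isomorphism. -/
theorem mono_fiberMap_iff {X Y S : Scheme.{u}} (f : X ⟶ Y) (g : Y ⟶ S) (s : S) :
    Mono (MoreMor.fiberMap f g s) ↔
      IsIso (MoreMor.fiberMap (pullback.diagonal f) (pullback.fst f f ≫ f ≫ g) s) :=
  mono_iff_isIso_of_isPullback f g (S.fromSpecResidueField s)
    (IsPullback.of_hasPullback g _)
    (Groth.Agent.H99.FibrewiseCons.isPullback_fiberMap f g s)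
    (IsPullback.of_hasPullback _ _)
    (Groth.Agent.H99.FibrewiseCons.isPullback_fiberMap (pullback.diagonal f) _ s)

end Groth.Agent.H29.DiagFib
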