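import Mathlib
import Groth.Prelude.Def_EGA4Misc
import Groth.Agent.H29.DiagFib
import Groth.Agent.H29.NegFlat
import Groth.Agent.H29.MorQ
import Groth.Agent.H29.RelQD
import Groth.Agent.H17.FibreSurj

/-!
# "The morphism of fibres is an open immersion" is a constructible relation (helper29; S2584, S2575)

`f_s` is an open immersion iff `f_s` is flat and a monomorphism, iff `f_s` is flat and the fibre
`(Δ_f)_s` of the diagonal is flat and surjective.  The negative sides come from `NegFlat` and the
constructibility of the surjectivity locus (helper17), the positive side from `MorQ`.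
-/

set_option autoImplicit false
universe u

open AlgebraicGeometry CategoryTheory Limits Topology

namespace Groth.Agent.H29.OpenImmCons

open Groth.Agent.H29.MorQ Groth.Agent.H29.RelQ Groth.Agent.H29.NegFlat Groth.Agent.H29.DiagFib
open Groth.Agent.H99.FibrewiseCons

theorem exists_nhd_not_surjective_fiberMap {X Y S : Scheme.{u}} (f : X ⟶ Y) (g : Y ⟶ S)
    [IsIntegral S] [IsNoetherian S] [LocallyOfFiniteType g] [QuasiCompact g]
    [LocallyOfFiniteType (f ≫ g)] [QuasiCompact (f ≫ g)]
    (hη : ¬ Surjective (MoreMor.fiberMap f g (genericPoint S))) :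
    ∃ U : Set S, IsOpen U ∧ genericPoint S ∈ U ∧
      ∀ s ∈ U, ¬ Surjective (MoreMor.fiberMap f g s) := by
  have : IsLocallyNoetherian Y := LocallyOfFiniteType.isLocallyNoetherian g
  have : IsLocallyNoetherian X := LocallyOfFiniteType.isLocallyNoetherian (f ≫ g)
  have : CompactSpace Y := QuasiCompact.compactSpace_of_compactSpace g
  have : CompactSpace X := QuasiCompact.compactSpace_of_compactSpace (f ≫ g)
  have : IsNoetherian X := {}
  have : IsNoetherian Y := {}
  have : LocallyOfFinitePresentation g := lfp_of_lft g
  have : LocallyOfFinitePresentation (f ≫ g) := lfp_of_lft (f ≫ g)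
  have : QuasiSeparated g := ⟨inferInstance⟩
  have : QuasiSeparated (f ≫ g) := ⟨inferInstance⟩
  have hc := Groth.Agent.H17.isLocallyConstructible_setOf_fibreMap_surjective f g
  have hc' := Groth.Agent.H17.isLocallyConstructible_compl' hc
  obtain ⟨O, hO, hηO, hOsub⟩ :=
    Groth.Agent.H99.DimCons.exists_isOpen_subset_of_isLocallyConstructible
      (genericPoint_spec S) hc' (show genericPoint S ∈ _ from fun h => hη ⟨h⟩)
  exact ⟨O, hO, hηO, fun s hs hsurj => hOsub hs hsurj.1⟩

/-- Negative side for open immersions. -/
theorem exists_nhd_not_isOpenImmersion_fiberMap {X Y S : Scheme.{u}} (f : X ⟶ Y) (g : Y ⟶ S)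
    [IsIntegral S] [IsNoetherian S] [LocallyOfFiniteType g] [QuasiCompact g]
    [LocallyOfFiniteType (f ≫ g)] [QuasiCompact (f ≫ g)]
    (hη : ¬ IsOpenImmersion (MoreMor.fiberMap f g (genericPoint S))) :
    ∃ U : Set S, IsOpen U ∧ genericPoint S ∈ U ∧
      ∀ s ∈ U, ¬ IsOpenImmersion (MoreMor.fiberMap f g s) := by
  have : IsLocallyNoetherian Y := LocallyOfFiniteType.isLocallyNoetherian g
  have : IsLocallyNoetherian X := LocallyOfFiniteType.isLocallyNoetherian (f ≫ g)
  have : CompactSpace X := QuasiCompact.compactSpace_of_compactSpace (f ≫ g)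
  have : IsNoetherian X := {}
  have : LocallyOfFiniteType f := locallyOfFiniteType_of_comp f g
  have hflp : LocallyOfFinitePresentation f := lfp_of_lft f
  have hΔ : pullback.diagonal f ≫ pullback.fst f f ≫ f ≫ g = f ≫ g := by simp
  have : LocallyOfFiniteType (pullback.diagonal f ≫ pullback.fst f f ≫ f ≫ g) := by
    rw [hΔ]; infer_instance
  have : QuasiCompact (pullback.diagonal f ≫ pullback.fst f f ≫ f ≫ g) := by
    rw [hΔ]; infer_instance
  have hmonoΔ : ∀ s, Mono (MoreMor.fiberMap (pullback.diagonal f) (pullback.fst f f ≫ f ≫ g) s) :=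
    fun s => (MorphismProperty.monomorphisms Scheme.{u}).of_isPullback
      (isPullback_fiberMap (pullback.diagonal f) (pullback.fst f f ≫ f ≫ g) s)
      (MorphismProperty.monomorphisms.infer_property _)
  have hqcΔ : ∀ s,
      QuasiCompact (MoreMor.fiberMap (pullback.diagonal f) (pullback.fst f f ≫ f ≫ g) s) :=
    fun s => MorphismProperty.of_isPullback (P := @QuasiCompact)
      (isPullback_fiberMap (pullback.diagonal f) (pullback.fst f f ≫ f ≫ g) s) inferInstance
  by_cases hfl : Flat (MoreMor.fiberMap f g (genericPoint S))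
  · by_cases hmono : Mono (MoreMor.fiberMap f g (genericPoint S))
    · exfalso
      apply hη
      have : LocallyOfFinitePresentation (MoreMor.fiberMap f g (genericPoint S)) :=
        MorphismProperty.of_isPullback (P := @LocallyOfFinitePresentation)
          (isPullback_fiberMap f g (genericPoint S)) hflp
      exact IsOpenImmersion.of_flat_of_mono _
    · rw [mono_fiberMap_iff] at hmono
      by_cases hfl2 : Flat (MoreMor.fiberMap (pullback.diagonal f) (pullback.fst f f ≫ f ≫ g)
          (genericPoint S))
      · by_cases hsurj : Surjective (MoreMor.fiberMap (pullback.diagonal f)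
            (pullback.fst f f ≫ f ≫ g) (genericPoint S))
        · exfalso
          apply hmono
          have := hmonoΔ (genericPoint S)
          have := hqcΔ (genericPoint S)
          exact Flat.isIso_of_surjective_of_mono _
        · obtain ⟨U, hU, hηU, hUs⟩ := exists_nhd_not_surjective_fiberMap
            (pullback.diagonal f) (pullback.fst f f ≫ f ≫ g) hsurj
          refine ⟨U, hU, hηU, fun s hs hoi => hUs s hs ?_⟩
          have h1 : Mono (MoreMor.fiberMap f g s) := inferInstance
          have h2 := (mono_fiberMap_iff f g s).mp h1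
          infer_instance
      · obtain ⟨U, hU, hηU, hUs⟩ := exists_nhd_not_flat_fiberMap
          (pullback.diagonal f) (pullback.fst f f ≫ f ≫ g) hfl2
        refine ⟨U, hU, hηU, fun s hs hoi => hUs s hs ?_⟩
        have h1 : Mono (MoreMor.fiberMap f g s) := inferInstance
        have h2 := (mono_fiberMap_iff f g s).mp h1
        infer_instance
  · obtain ⟨U, hU, hηU, hUs⟩ := exists_nhd_not_flat_fiberMap f g hfl
    exact ⟨U, hU, hηU, fun s hs hoi => hUs s hs inferInstance⟩

/-- "The morphism of fibres is an open immersion" is a constructible relation. -/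
theorem isConsMor_isOpenImmersion :
    ConsProp.IsConsMor (RelMor (@IsOpenImmersion : MorphismProperty Scheme.{u})) := by
  refine ⟨isFieldStableMor_relMor _, ?_⟩
  intro X Y S f g _ _ _ _ _ _
  by_cases hgen : genericPoint S ∈
      ConsProp.locusMor (RelMor (@IsOpenImmersion : MorphismProperty Scheme.{u})) f g
  · exact Or.inl ((isIndConsMor_relMor _ descends_isOpenImmersion).2 f g hgen)
  · right
    obtain ⟨U, hU, hηU, hUs⟩ := exists_nhd_not_isOpenImmersion_fiberMap f g hgen
    exact ⟨genericPoint S, mem_interior.mpr ⟨U, fun s hs => hUs s hs, hU, hηU⟩⟩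

end Groth.Agent.H29.OpenImmCons
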