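import Mathlib
import Groth.Prelude.Def_EGA4Misc
import Groth.Agent.H29.UCNeg2
import Groth.Agent.S3426
import Groth.Agent.S3445
import Groth.Agent.S0083
import Groth.Agent.S0084

/-!
# "The morphism of fibres is a closed immersion / finite" are constructible relations
(helper29; S2576, S2585)
-/

set_option autoImplicit false
universe u

open AlgebraicGeometry CategoryTheory Limits Topology TopologicalSpace

namespace Groth.Agent.H29.ClosedImmCons

open Groth.Agent.H29.MorQ Groth.Agent.H29.NegFlat Groth.Agent.H29.ClosedFibNeg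
open Groth.Agent.H99.FibrewiseCons Groth.Agent.H29.UCNeg Groth.Agent.H29.RelQ

/-- Over an irreducible base, the complement of a locally constructible set not containing the
generic point contains an open neighbourhood of the generic point. -/
theorem exists_nhd_not_mem {S : Scheme.{u}} [IsIntegral S] (E : Set S)
    (hE : IsLocallyConstructible E) (hη : genericPoint S ∉ E) :
    ∃ U : Set S, IsOpen U ∧ genericPoint S ∈ U ∧ ∀ s ∈ U, s ∉ E := by
  obtain ⟨U, hU, hηU, hUs⟩ :=
    Groth.Agent.H99.DimCons.exists_isOpen_subset_of_isLocallyConstructible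
      (genericPoint_spec S) (Groth.Agent.H17.isLocallyConstructible_compl' hE) hη
  exact ⟨U, hU, hηU, fun s hs => hUs hs⟩

section

variable {X Y S : Scheme.{u}} (f : X ⟶ Y) (g : Y ⟶ S) [IsIntegral S] [IsNoetherian S]
  [LocallyOfFiniteType g] [QuasiCompact g] [LocallyOfFiniteType (f ≫ g)] [QuasiCompact (f ≫ g)]

include f g in
theorem exists_nhd_not_mono_fiberMap
    (hη : ¬ Mono (MoreMor.fiberMap f g (genericPoint S))) :
    ∃ U : Set S, IsOpen U ∧ genericPoint S ∈ U ∧ ∀ s ∈ U, ¬ Mono (MoreMor.fiberMap f g s) := by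
  have : IsLocallyNoetherian Y := LocallyOfFiniteType.isLocallyNoetherian g
  have : IsLocallyNoetherian X := LocallyOfFiniteType.isLocallyNoetherian (f ≫ g)
  have : LocallyOfFinitePresentation g := lfp_of_lft g
  have : LocallyOfFinitePresentation (f ≫ g) := lfp_of_lft (f ≫ g)
  exact exists_nhd_not_mem _ (Groth.Agent.S3426.result f g) hη

include f g in
theorem exists_nhd_not_locallyQuasiFinite_fiberMap
    (hη : ¬ LocallyQuasiFinite (MoreMor.fiberMap f g (genericPoint S))) :
    ∃ U : Set S, IsOpen U ∧ genericPoint S ∈ U ∧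
      ∀ s ∈ U, ¬ LocallyQuasiFinite (MoreMor.fiberMap f g s) := by
  have : IsLocallyNoetherian Y := LocallyOfFiniteType.isLocallyNoetherian g
  have : IsLocallyNoetherian X := LocallyOfFiniteType.isLocallyNoetherian (f ≫ g)
  have : LocallyOfFinitePresentation g := lfp_of_lft g
  have : LocallyOfFinitePresentation (f ≫ g) := lfp_of_lft (f ≫ g)
  exact exists_nhd_not_mem _ (Groth.Agent.S3445.result f g) hη

include f g in
/-- The negative half of the dichotomy of a constructible relation on morphisms. -/
theorem exists_nhd_not_mem_of_isConsMor {P : ∀ ⦃X Y T : Scheme.{u}⦄, (X ⟶ Y) → (Y ⟶ T) → Prop}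
    (hP : ConsProp.IsConsMor P) (hη : genericPoint S ∉ ConsProp.locusMor P f g) :
    ∃ U : Set S, IsOpen U ∧ genericPoint S ∈ U ∧ ∀ s ∈ U, s ∉ ConsProp.locusMor P f g := by
  rcases hP.2 f g with h | h
  · exfalso
    obtain ⟨s, hs⟩ := h
    obtain ⟨O, hO, hOo, hsO⟩ := mem_interior.mp hs
    exact hη (hO (((genericPoint_spec S).mem_open_set_iff hOo).mpr ⟨s, trivial, hsO⟩))
  · obtain ⟨s, hs⟩ := h
    obtain ⟨O, hO, hOo, hsO⟩ := mem_interior.mp hs
    exact ⟨O, hOo, ((genericPoint_spec S).mem_open_set_iff hOo).mpr ⟨s, trivial, hsO⟩,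
      fun t ht => hO ht⟩

include f g in
theorem exists_nhd_not_isSeparated_fiberMap
    (hη : ¬ IsSeparated (MoreMor.fiberMap f g (genericPoint S))) :
    ∃ U : Set S, IsOpen U ∧ genericPoint S ∈ U ∧
      ∀ s ∈ U, ¬ IsSeparated (MoreMor.fiberMap f g s) :=
  exists_nhd_not_mem_of_isConsMor f g Groth.Agent.H29.SepCons.isConsMor_isSeparated hη

include f g in
/-- Failure of properness of the morphism of fibres spreads out from the generic fibre. -/
theorem exists_nhd_not_isProper_fiberMap
    (hη : ¬ IsProper (MoreMor.fiberMap f g (genericPoint S))) :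
    ∃ U : Set S, IsOpen U ∧ genericPoint S ∈ U ∧
      ∀ s ∈ U, ¬ IsProper (MoreMor.fiberMap f g s) := by
  have hlft : LocallyOfFiniteType f := locallyOfFiniteType_of_comp f g
  have hlftη : LocallyOfFiniteType (MoreMor.fiberMap f g (genericPoint S)) :=
    MorphismProperty.of_isPullback (P := @LocallyOfFiniteType)
      (isPullback_fiberMap f g (genericPoint S)) hlft
  by_cases h1 : IsSeparated (MoreMor.fiberMap f g (genericPoint S))
  · by_cases h2 : UniversallyClosed (MoreMor.fiberMap f g (genericPoint S))
    · exact absurd (IsProper.mk) hη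
    · obtain ⟨U, hU, hηU, hUs⟩ := exists_nhd_not_universallyClosed_fiberMap f g h2
      exact ⟨U, hU, hηU, fun s hs h => hUs s hs inferInstance⟩
  · obtain ⟨U, hU, hηU, hUs⟩ := exists_nhd_not_isSeparated_fiberMap f g h1
    exact ⟨U, hU, hηU, fun s hs h => hUs s hs inferInstance⟩

end

/-- "The morphism of fibres is a closed immersion" is a constructible relation. -/
theorem isConsMor_isClosedImmersion :
    ConsProp.IsConsMor (RelMor (@IsClosedImmersion : MorphismProperty Scheme.{u})) := by
  have := Groth.Agent.S0083.result.{u}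
  refine ⟨isFieldStableMor_relMor _, ?_⟩
  intro X Y S f g _ _ _ _ _ _
  by_cases hgen : genericPoint S ∈
      ConsProp.locusMor (RelMor (@IsClosedImmersion : MorphismProperty Scheme.{u})) f g
  · exact Or.inl ((isIndConsMor_relMor _ descends_isClosedImmersion).2 f g hgen)
  · right
    have hgen' : ¬ IsClosedImmersion (MoreMor.fiberMap f g (genericPoint S)) := hgen
    rw [IsClosedImmersion.iff_isProper_and_mono, not_and_or] at hgen'
    rcases hgen' with h | h
    · obtain ⟨U, hU, hηU, hUs⟩ := exists_nhd_not_isProper_fiberMap f g h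
      refine ⟨genericPoint S, mem_interior.mpr ⟨U, fun s hs hs' => hUs s hs ?_, hU, hηU⟩⟩
      have : IsClosedImmersion (MoreMor.fiberMap f g s) := hs'
      infer_instance
    · obtain ⟨U, hU, hηU, hUs⟩ := exists_nhd_not_mono_fiberMap f g h
      refine ⟨genericPoint S, mem_interior.mpr ⟨U, fun s hs hs' => hUs s hs ?_, hU, hηU⟩⟩
      have : IsClosedImmersion (MoreMor.fiberMap f g s) := hs'
      infer_instance

/-- "The morphism of fibres is finite" is a constructible relation. -/
theorem isConsMor_isFinite :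
    ConsProp.IsConsMor (RelMor (@IsFinite : MorphismProperty Scheme.{u})) := by
  have := Groth.Agent.S0084.result.{u}
  refine ⟨isFieldStableMor_relMor _, ?_⟩
  intro X Y S f g _ _ _ _ _ _
  by_cases hgen : genericPoint S ∈
      ConsProp.locusMor (RelMor (@IsFinite : MorphismProperty Scheme.{u})) f g
  · exact Or.inl ((isIndConsMor_relMor _ descends_isFinite).2 f g hgen)
  · right
    have hgen' : ¬ IsFinite (MoreMor.fiberMap f g (genericPoint S)) := hgen
    rw [IsFinite.iff_isProper_and_locallyQuasiFinite, not_and_or] at hgen'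
    rcases hgen' with h | h
    · obtain ⟨U, hU, hηU, hUs⟩ := exists_nhd_not_isProper_fiberMap f g h
      refine ⟨genericPoint S, mem_interior.mpr ⟨U, fun s hs hs' => hUs s hs ?_, hU, hηU⟩⟩
      have : IsFinite (MoreMor.fiberMap f g s) := hs'
      infer_instance
    · obtain ⟨U, hU, hηU, hUs⟩ := exists_nhd_not_locallyQuasiFinite_fiberMap f g h
      refine ⟨genericPoint S, mem_interior.mpr ⟨U, fun s hs hs' => hUs s hs ?_, hU, hηU⟩⟩
      have : IsFinite (MoreMor.fiberMap f g s) := hs'
      infer_instance

end Groth.Agent.H29.ClosedImmCons
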