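import Groth.Agent.H29.ComplNearIso
import Groth.Prelude.Def_CohB1
import Mathlib.RingTheory.AdicCompletion.Basic

/-!
# Morphisms out of a proper scheme over a complete ring are determined by the thickenings
-/

set_option autoImplicit false
universe u

open CategoryTheory CategoryTheory.Limits AlgebraicGeometry

namespace Groth.Agent.H29.ComplUniq

open Groth.Agent.H20 in
theorem specIdeal_pow (A : Type u) [CommRing A] (I : Ideal A) (n : ℕ) :
    specIdeal A (I ^ (n + 1)) = specIdeal A I ^ (n + 1) := by
  induction n with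
  | zero => rw [zero_add, pow_one, pow_one]
  | succ n ih => rw [pow_succ, specIdeal_mul, ih, ← pow_succ]

/-- For a closed map `f : X → Spec A` and an ideal `I` in the Jacobson radical, every open
containing `f⁻¹(V(I))` is everything. -/
theorem eq_univ_of_isOpen_of_preimage_zeroLocus_subset {A : Type u} [CommRing A] (I : Ideal A)
    (hI : I ≤ (⊥ : Ideal A).jacobson) {X : Scheme.{u}} (f : X ⟶ Spec (CommRingCat.of A))
    (hf : IsClosedMap f.base) (W : Set X) (hW : IsOpen W)
    (h : f.base ⁻¹' (PrimeSpectrum.zeroLocus (I : Set A)) ⊆ W) : W = Set.univ := by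
  by_contra hne
  obtain ⟨x, hx⟩ : ∃ x, x ∉ W := by
    by_contra hall
    push Not at hall
    exact hne (Set.eq_univ_of_forall hall)
  have hC : IsClosed (f.base '' Wᶜ) := hf _ hW.isClosed_compl
  let p : PrimeSpectrum A := f.base x
  obtain ⟨m, hm, hpm⟩ := Ideal.exists_le_maximal p.asIdeal p.2.ne_top
  let q : PrimeSpectrum A := ⟨m, hm.isPrime⟩
  have hspec : p ⤳ q := (PrimeSpectrum.le_iff_specializes p q).mp hpm
  have hq : q ∈ f.base '' Wᶜ := hC.stableUnderSpecialization hspec ⟨x, hx, rfl⟩
  obtain ⟨x', hx', hfx'⟩ := hq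
  apply hx'
  apply h
  have hgoal : q ∈ PrimeSpectrum.zeroLocus (I : Set A) := by
    rw [PrimeSpectrum.mem_zeroLocus]
    intro a ha
    have := hI ha
    rw [Ideal.jacobson, Submodule.mem_sInf] at this
    exact this m ⟨bot_le, hm⟩
  rw [Set.mem_preimage]
  exact hfx' ▸ hgoal

open Groth.Agent.H20 in
theorem support_specIdeal (A : Type u) [CommRing A] (I : Ideal A) :
    ((specIdeal A I).support : Set (Spec (CommRingCat.of A))) =
      PrimeSpectrum.zeroLocus (I : Set A) := by
  have hcl : IsClosedImmersion (Spec.map (CommRingCat.ofHom (Ideal.Quotient.mk I))) :=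
    IsClosedImmersion.spec_of_surjective _ Ideal.Quotient.mk_surjective
  rw [specIdeal, Scheme.Hom.support_ker,
    (Spec.map (CommRingCat.ofHom (Ideal.Quotient.mk I))).isClosedEmbedding.isClosed_range.closure_eq]
  have := range_comap_of_surjective _ (Ideal.Quotient.mk I)
    Ideal.Quotient.mk_surjective
  rw [Ideal.mk_ker] at this
  exact this

theorem eq_of_thick_eq (A : Type u) [CommRing A] [IsNoetherianRing A]
    (I : Ideal A) [IsAdicComplete I A] {X Y : Scheme.{u}} (f : X ⟶ Spec (CommRingCat.of A))
    (h : Y ⟶ Spec (CommRingCat.of A)) [IsProper f] (φ ψ : X ⟶ Y)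
    (hφ : φ ≫ h = f) (hψ : ψ ≫ h = f)
    (e : ∀ n : ℕ, CohB1.thickι f I n ≫ φ = CohB1.thickι f I n ≫ ψ) : φ = ψ := by
  let 𝓚 : X.IdealSheafData := (Groth.Agent.H20.specIdeal A I).comap f
  have hker : ∀ n, (CohB1.thickι f I n).ker = 𝓚 ^ (n + 1) := by
    intro n
    have hcl : IsClosedImmersion (CohB1.specQuot I n) :=
      IsClosedImmersion.spec_of_surjective _ Ideal.Quotient.mk_surjective
    have h1 : (CohB1.specQuot I n).ker = Groth.Agent.H20.specIdeal A I ^ (n + 1) :=
      specIdeal_pow A I n
    refine (Scheme.IdealSheafData.ker_fst_of_isClosedImmersion (CohB1.specQuot I n) f).trans ?_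
    rw [h1, Groth.Agent.H20.comap_pow]
  have hsuppK : (𝓚.support : Set X) = f.base ⁻¹' (PrimeSpectrum.zeroLocus (I : Set A)) := by
    show (((Groth.Agent.H20.specIdeal A I).comap f).support : Set X) = _
    rw [Scheme.IdealSheafData.support_comap, ← support_specIdeal]
    rfl
  have htop : ∀ W : Set X, IsOpen W → (𝓚.support : Set X) ⊆ W → W = Set.univ := by
    intro W hW hsub
    exact eq_univ_of_isOpen_of_preimage_zeroLocus_subset I (IsAdicComplete.le_jacobson_bot I) f
      f.isClosedMap W hW (hsuppK ▸ hsub)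
  -- the equaliser
  let d : X ⟶ pullback h h := pullback.lift φ ψ (hφ.trans hψ.symm)
  let i : pullback d (pullback.diagonal h) ⟶ X := pullback.fst d (pullback.diagonal h)
  have hi : IsImmersion i := MorphismProperty.pullback_fst _ _ inferInstance
  have hiφψ : i ≫ φ = i ≫ ψ := by
    have hc := pullback.condition (f := d) (g := pullback.diagonal h)
    have h1 := congr($hc ≫ pullback.fst h h)
    have h2 := congr($hc ≫ pullback.snd h h)
    simp only [Category.assoc, d, pullback.lift_fst, pullback.lift_snd,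
      pullback.diagonal_fst, pullback.diagonal_snd, Category.comp_id] at h1 h2
    exact h1.trans h2.symm
  have hlift : ∀ n, ∃ l : CohB1.thick f I n ⟶ pullback d (pullback.diagonal h),
      l ≫ i = CohB1.thickι f I n := by
    intro n
    refine ⟨pullback.lift (CohB1.thickι f I n) (CohB1.thickι f I n ≫ φ) ?_,
      pullback.lift_fst _ _ _⟩
    apply pullback.hom_ext
    · rw [Category.assoc, Category.assoc, pullback.diagonal_fst, Category.comp_id]
      show CohB1.thickι f I n ≫ pullback.lift φ ψ _ ≫ pullback.fst h h = _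
      rw [pullback.lift_fst]
    · rw [Category.assoc, Category.assoc, pullback.diagonal_snd, Category.comp_id]
      show CohB1.thickι f I n ≫ pullback.lift φ ψ _ ≫ pullback.snd h h = _
      rw [pullback.lift_snd, e n]
  have hsupp : (𝓚.support : Set X) ⊆ Set.range i := by
    obtain ⟨l, hl⟩ := hlift 0
    have h0 : (𝓚.support : Set X) = Set.range (CohB1.thickι f I 0) := by
      have hcl : IsClosedImmersion (CohB1.specQuot I 0) :=
        IsClosedImmersion.spec_of_surjective _ Ideal.Quotient.mk_surjective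
      have hcl' : IsClosedImmersion (CohB1.thickι f I 0) :=
        MorphismProperty.pullback_fst _ _ hcl
      rw [← Scheme.IdealSheafData.support_pow_succ 𝓚 0, ← hker 0, Scheme.Hom.support_ker,
        (CohB1.thickι f I 0).isClosedEmbedding.isClosed_range.closure_eq]
    rw [h0, ← hl]
    rintro _ ⟨z, rfl⟩
    exact ⟨l z, rfl⟩
  have hcl : IsClosedImmersion i := by
    apply IsClosedImmersion.of_isPreimmersion
    obtain ⟨U, Z, hU, hZ, hUZ⟩ := hi.isLocallyClosed_range
    have hUtop : U = Set.univ := htop U hU (hsupp.trans (hUZ ▸ Set.inter_subset_left))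
    rw [hUZ, hUtop, Set.univ_inter]
    exact hZ
  have hk : ∀ n, i.ker ≤ 𝓚 ^ (n + 1) := by
    intro n
    obtain ⟨l, hl⟩ := hlift n
    rw [← hker n, ← hl]
    exact Scheme.Hom.le_ker_comp _ _
  have hNS : IsLocallyNoetherian (Spec (CommRingCat.of A)) := inferInstance
  have hN : IsLocallyNoetherian X := LocallyOfFiniteType.isLocallyNoetherian f
  have hiso : IsIso i := by
    let W : Set X := {y | ∃ U : X.Opens, y ∈ U ∧ IsIso (i ∣_ U)}
    have hW : IsOpen W := by
      rw [isOpen_iff_forall_mem_open]
      rintro y ⟨U, hyU, hU⟩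
      exact ⟨U, fun y' hy' => ⟨U, hy', hU⟩, U.isOpen, hyU⟩
    have hWs : (𝓚.support : Set X) ⊆ W := fun y hy =>
      ComplNearIso.exists_nhd_isIso i 𝓚 hk y hy ⊤ trivial
        (IsZariskiLocalAtTarget.restrict hcl ⊤)
    have hWtop := htop W hW hWs
    apply IsZariskiLocalAtTarget.of_forall_exists_morphismRestrict
      (P := MorphismProperty.isomorphisms Scheme.{u})
    intro y
    have hy : y ∈ W := hWtop ▸ Set.mem_univ y
    exact hy
  exact (cancel_epi i).mp hiφψ

end Groth.Agent.H29.ComplUniq
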