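import Mathlib
import Groth.Prelude.Def_EGA4Misc
import Groth.Prelude.Def_ProCons
import Groth.Agent.H29.ConsMorA
import Groth.Agent.H29.ConsMorD
import Groth.Agent.H24.LimitTop
import Groth.Agent.S4787

/-!
# `ConsProp.locusMor` along a cofiltered limit (helper29; for S5891)
-/

set_option autoImplicit false
set_option backward.isDefEq.respectTransparency.types false
universe u

open AlgebraicGeometry CategoryTheory TopologicalSpace Limits Topology

namespace Groth.Agent.H29.ConsMorE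

open Groth.Agent.H29.ConsMorA Groth.Agent.H29.ConsMorD

variable {P : ∀ ⦃X Y T : Scheme.{u}⦄, (X ⟶ Y) → (Y ⟶ T) → Prop}

/-- Two stages of base change of a pair `(f₀, g₀)`: the locus at the finer stage is the preimage of
the locus at the coarser stage. -/
theorem locusMor_stage_compat (hP : ConsProp.IsFieldStableMor P)
    {X₀ Y₀ S₀ Xj Yj Sj Xk Yk Sk : Scheme.{u}} {f₀ : X₀ ⟶ Y₀} {g₀ : Y₀ ⟶ S₀}
    {fj : Xj ⟶ Yj} {gj : Yj ⟶ Sj} {pY : Yj ⟶ Y₀} {pX : Xj ⟶ X₀} {a : Sj ⟶ S₀}
    {fk : Xk ⟶ Yk} {gk : Yk ⟶ Sk} {pY' : Yk ⟶ Y₀} {pX' : Xk ⟶ X₀} {b : Sk ⟶ Sj}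
    [LocallyOfFiniteType gj] [QuasiCompact gj] [LocallyOfFiniteType (fj ≫ gj)]
    [QuasiCompact (fj ≫ gj)]
    (hYj : IsPullback pY gj g₀ a) (hXj : IsPullback pX fj f₀ pY)
    (hYk : IsPullback pY' gk g₀ (b ≫ a)) (hXk : IsPullback pX' fk f₀ pY') :
    ConsProp.locusMor P fk gk = b.base ⁻¹' ConsProp.locusMor P fj gj := by
  have w1 : pY' ≫ g₀ = (gk ≫ b) ≫ a := by rw [hYk.w, Category.assoc]
  have hY : IsPullback (hYj.lift pY' (gk ≫ b) w1) gk gj b := by
    refine IsPullback.of_right (h₁₂ := pY) (h₂₂ := a) (v₁₃ := g₀) ?_ (hYj.lift_snd _ _ _) hYj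
    rw [hYj.lift_fst]
    exact hYk
  have w2 : pX' ≫ f₀ = (fk ≫ hYj.lift pY' (gk ≫ b) w1) ≫ pY := by
    rw [hXk.w, Category.assoc, hYj.lift_fst]
  have hX : IsPullback (hXj.lift pX' (fk ≫ hYj.lift pY' (gk ≫ b) w1) w2) fk fj
      (hYj.lift pY' (gk ≫ b) w1) := by
    refine IsPullback.of_right (h₁₂ := pX) (h₂₂ := pY) (v₁₃ := f₀) ?_ (hXj.lift_snd _ _ _) hXj
    rw [hXj.lift_fst, hYj.lift_fst]
    exact hXk
  exact locusMor_base_change hP hY hX

theorem isProConstructible_univ {α : Type*} [TopologicalSpace α] :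
    ProCons.IsProConstructible (Set.univ : Set α) := by
  intro x
  refine ⟨Set.univ, isOpen_univ, trivial, ∅, fun T hT => absurd hT (Set.notMem_empty T), ?_⟩
  simp

/-- EGA IV 9.3.3-type statement for relations on morphisms. -/
theorem forall_locusMor_iff_eventually (hP : ConsProp.IsIndConsMor P)
    {I : Type u} [SmallCategory I] [IsCofiltered I]
    (D : I ⥤ Scheme.{u}) (c : Limits.Cone D) (hc : Limits.IsLimit c)
    [∀ (i j : I) (a : i ⟶ j), IsAffineHom (D.map a)] (i₀ : I) [CompactSpace ↥(D.obj i₀)]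
    {X₀ Y₀ : Scheme.{u}} (f₀ : X₀ ⟶ Y₀) (g₀ : Y₀ ⟶ D.obj i₀)
    [LocallyOfFinitePresentation g₀] [QuasiCompact g₀] [QuasiSeparated g₀]
    [LocallyOfFinitePresentation (f₀ ≫ g₀)] [QuasiCompact (f₀ ≫ g₀)] [QuasiSeparated (f₀ ≫ g₀)]
    {X Y : Scheme.{u}} (f : X ⟶ Y) (g : Y ⟶ c.pt) (qY : Y ⟶ Y₀) (qX : X ⟶ X₀)
    (hY : IsPullback qY g g₀ (c.π.app i₀)) (hX : IsPullback qX f f₀ qY) :
    (∀ s : ↥c.pt, s ∈ ConsProp.locusMor P f g) ↔
      ∃ (j : I) (φ : j ⟶ i₀) (Xj Yj : Scheme.{u}) (fj : Xj ⟶ Yj) (gj : Yj ⟶ D.obj j)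
        (pY : Yj ⟶ Y₀) (pX : Xj ⟶ X₀), IsPullback pY gj g₀ (D.map φ) ∧ IsPullback pX fj f₀ pY ∧
          ∀ t : ↥(D.obj j), t ∈ ConsProp.locusMor P fj gj := by
  constructor
  · intro hall
    -- the system restricted to `Over i₀`
    let D' : Over i₀ ⥤ Scheme.{u} := Over.forget i₀ ⋙ D
    let c' : Cone D' := c.whisker (Over.forget i₀)
    have hc' : IsLimit c' := Groth.Agent.H24.isLimitOverCone D c hc i₀
    have haff' : ∀ (j k : Over i₀) (f : j ⟶ k), IsAffineHom (D'.map f) := fun j k f =>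
      Groth.Agent.H24.isAffineHom_over D i₀ f
    let i₀' : Over i₀ := Over.mk (𝟙 i₀)
    have : CompactSpace ↥(D'.obj i₀') := ‹CompactSpace ↥(D.obj i₀)›
    -- the base changes at each stage
    let Yk : Over i₀ → Scheme.{u} := fun k => pullback g₀ (D.map k.hom)
    let gk : ∀ k : Over i₀, Yk k ⟶ D.obj k.left := fun k => pullback.snd g₀ (D.map k.hom)
    let pYk : ∀ k : Over i₀, Yk k ⟶ Y₀ := fun k => pullback.fst g₀ (D.map k.hom)
    let Xk : Over i₀ → Scheme.{u} := fun k => pullback f₀ (pYk k)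
    let fk : ∀ k : Over i₀, Xk k ⟶ Yk k := fun k => pullback.snd f₀ (pYk k)
    let pXk : ∀ k : Over i₀, Xk k ⟶ X₀ := fun k => pullback.fst f₀ (pYk k)
    have hYk : ∀ k : Over i₀, IsPullback (pYk k) (gk k) g₀ (D.map k.hom) := fun k =>
      IsPullback.of_hasPullback _ _
    have hXk : ∀ k : Over i₀, IsPullback (pXk k) (fk k) f₀ (pYk k) := fun k =>
      IsPullback.of_hasPullback _ _
    have i1 : ∀ k, LocallyOfFinitePresentation (gk k) := fun k =>
      MorphismProperty.pullback_snd _ _ inferInstance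
    have i2 : ∀ k, QuasiCompact (gk k) := fun k => MorphismProperty.pullback_snd _ _ inferInstance
    have i3 : ∀ k, QuasiSeparated (gk k) := fun k =>
      MorphismProperty.pullback_snd _ _ inferInstance
    have i4 : ∀ k, LocallyOfFinitePresentation (fk k ≫ gk k) := fun k =>
      MorphismProperty.of_isPullback (P := @LocallyOfFinitePresentation)
        ((hXk k).paste_vert (hYk k)) inferInstance
    have i5 : ∀ k, QuasiCompact (fk k ≫ gk k) := fun k =>
      MorphismProperty.of_isPullback (P := @QuasiCompact) ((hXk k).paste_vert (hYk k)) inferInstance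
    have i6 : ∀ k, QuasiSeparated (fk k ≫ gk k) := fun k =>
      MorphismProperty.of_isPullback (P := @QuasiSeparated) ((hXk k).paste_vert (hYk k))
        inferInstance
    let E : ∀ k : Over i₀, Set (D'.obj k) := fun _ => Set.univ
    let F : ∀ k : Over i₀, Set (D'.obj k) := fun k => ConsProp.locusMor P (fk k) (gk k)
    have hE : ∀ k, ProCons.IsProConstructible (E k) := fun k => isProConstructible_univ
    have hF : ∀ k, ProCons.IsIndConstructible (F k) := fun k =>
      isIndConstructible_locusMor hP (fk k) (gk k)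
    have hEm : ∀ (k l : Over i₀) (φ : k ⟶ l), E k ⊆ ⇑(D'.map φ) ⁻¹' E l := fun k l φ x _ => trivial
    have hFm : ∀ (k l : Over i₀) (φ : k ⟶ l), ⇑(D'.map φ) ⁻¹' F l ⊆ F k := by
      intro k l φ
      have hYk' : IsPullback (pYk k) (gk k) g₀ (D.map φ.left ≫ D.map l.hom) := by
        rw [← D.map_comp, Over.w φ]
        exact hYk k
      have := locusMor_stage_compat hP.1 (hYk l) (hXk l) hYk' (hXk k)
      change ⇑(D.map φ.left) ⁻¹' ConsProp.locusMor P (fk l) (gk l) ⊆
        ConsProp.locusMor P (fk k) (gk k)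
      rw [this]
    have hsub : (⋂ k, ⇑(c'.π.app k) ⁻¹' E k : Set c'.pt) ⊆
        (⋃ k, ⇑(c'.π.app k) ⁻¹' F k : Set c'.pt) := by
      intro s _
      refine Set.mem_iUnion.mpr ⟨i₀', ?_⟩
      have hY' : IsPullback qY g g₀ (c.π.app i₀ ≫ D.map i₀'.hom) := by
        have e : c.π.app i₀ ≫ D.map i₀'.hom = c.π.app i₀ := by
          change c.π.app i₀ ≫ D.map (𝟙 i₀) = _
          rw [D.map_id]
          exact Category.comp_id _
        rw [e]
        exact hY
      have := locusMor_stage_compat hP.1 (hYk i₀') (hXk i₀') hY' hX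
      change (c.π.app i₀) s ∈ ConsProp.locusMor P (fk i₀') (gk i₀')
      have h2 : s ∈ ⇑(c.π.app i₀) ⁻¹' ConsProp.locusMor P (fk i₀') (gk i₀') := by
        rw [← this]; exact hall s
      exact h2
    obtain ⟨k, -, hk⟩ := (Groth.Agent.S4787.result D' c' hc' i₀' E F hE hF hEm hFm).mp hsub
    have hkk := hk k (𝟙 k)
    exact ⟨k.left, k.hom, Xk k, Yk k, fk k, gk k, pYk k, pXk k, hYk k, hXk k,
      fun t => hkk (Set.mem_univ t)⟩
  · rintro ⟨j, φ, Xj, Yj, fj, gj, pY, pX, hYj, hXj, hall⟩ s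
    have hY' : IsPullback qY g g₀ (c.π.app j ≫ D.map φ) := by
      rw [c.w]; exact hY
    have i1 : LocallyOfFinitePresentation gj :=
      MorphismProperty.of_isPullback (P := @LocallyOfFinitePresentation) hYj inferInstance
    have i2 : QuasiCompact gj := MorphismProperty.of_isPullback (P := @QuasiCompact) hYj inferInstance
    have i4 : LocallyOfFinitePresentation (fj ≫ gj) :=
      MorphismProperty.of_isPullback (P := @LocallyOfFinitePresentation)
        (hXj.paste_vert hYj) inferInstance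
    have i5 : QuasiCompact (fj ≫ gj) :=
      MorphismProperty.of_isPullback (P := @QuasiCompact) (hXj.paste_vert hYj) inferInstance
    have := locusMor_stage_compat hP.1 hYj hXj hY' hX
    rw [this]
    exact hall _

end Groth.Agent.H29.ConsMorE
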