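import Mathlib
import Groth.Prelude.Def_EGA4Misc
import Groth.Prelude.Def_ProCons
import Groth.Prelude.Def_W4ega4s0809p4Pair
import Groth.Agent.H29.ConsMorA
import Groth.Agent.H29.ConsMorB
import Groth.Agent.H29.ConsMorC
import Groth.Agent.H29.ConsMorD

/-!
# `ConsPropPair.locusPair` is locally constructible / ind-constructible (helper29; S5906, S5907)
-/

set_option autoImplicit false
set_option backward.isDefEq.respectTransparency.types false
universe u

open AlgebraicGeometry CategoryTheory TopologicalSpace Limits Topology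

namespace Groth.Agent.H29.ConsPairA

open Groth.Agent.H99.FibrewiseCons
open Groth.Agent.H29.ConsMorA Groth.Agent.H29.ConsMorB Groth.Agent.H29.ConsMorC
open Groth.Agent.H29.ConsMorD

variable {P : ∀ ⦃X Y T : Scheme.{u}⦄, (X ⟶ T) → (Y ⟶ T) → Prop}

theorem mem_locusPair_base_change (hP : ConsPropPair.IsFieldStablePair P)
    {X Y S X' Y' S' : Scheme.{u}} {u : X ⟶ S} {v : Y ⟶ S} {u' : X' ⟶ S'} {v' : Y' ⟶ S'}
    {eX : X' ⟶ X} {eY : Y' ⟶ Y} {h : S' ⟶ S}
    [LocallyOfFiniteType u] [QuasiCompact u] [LocallyOfFiniteType v] [QuasiCompact v]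
    (hX : IsPullback eX u' u h) (hY : IsPullback eY v' v h) (s' : S') :
    s' ∈ ConsPropPair.locusPair P u' v' ↔ h s' ∈ ConsPropPair.locusPair P u v := by
  have hXs := isPullback_fibMap hX s'
  have hYs := isPullback_fibMap hY s'
  have : LocallyOfFiniteType (u.fiberToSpecResidueField (h s')) :=
    MorphismProperty.pullback_snd _ _ inferInstance
  have : QuasiCompact (u.fiberToSpecResidueField (h s')) :=
    MorphismProperty.pullback_snd _ _ inferInstance
  have : LocallyOfFiniteType (v.fiberToSpecResidueField (h s')) :=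
    MorphismProperty.pullback_snd _ _ inferInstance
  have : QuasiCompact (v.fiberToSpecResidueField (h s')) :=
    MorphismProperty.pullback_snd _ _ inferInstance
  exact (hP (u.fiberToSpecResidueField (h s')) (v.fiberToSpecResidueField (h s'))
    (u'.fiberToSpecResidueField s') (v'.fiberToSpecResidueField s') _ _
    (Spec.map (h.residueFieldMap s')) hXs hYs).symm

theorem locusPair_base_change (hP : ConsPropPair.IsFieldStablePair P)
    {X Y S X' Y' S' : Scheme.{u}} {u : X ⟶ S} {v : Y ⟶ S} {u' : X' ⟶ S'} {v' : Y' ⟶ S'}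
    {eX : X' ⟶ X} {eY : Y' ⟶ Y} {h : S' ⟶ S}
    [LocallyOfFiniteType u] [QuasiCompact u] [LocallyOfFiniteType v] [QuasiCompact v]
    (hX : IsPullback eX u' u h) (hY : IsPullback eY v' v h) :
    ConsPropPair.locusPair P u' v' = h.base ⁻¹' ConsPropPair.locusPair P u v := by
  ext s'
  exact mem_locusPair_base_change hP hX hY s'

/-- The integral closed subscheme of a Noetherian scheme on an irreducible closed subset. -/
theorem exists_integral_subscheme {S : Scheme.{u}} [IsNoetherian S] (Z : Set S) (hZ : IsClosed Z)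
    (hZi : IsIrreducible Z) :
    ∃ (W : Scheme.{u}) (ι : W ⟶ S), IsIntegral W ∧ IsNoetherian W ∧
      Topology.IsEmbedding ι.base ∧ Set.range ι.base = Z := by
  obtain ⟨W, ι, X', u, e, hW1, hW2, hι, hrange, -, -, -⟩ := exists_base_change (𝟙 S) Z hZ hZi
  exact ⟨W, ι, hW1, hW2, hι, hrange⟩

theorem cons_localPair (hP : ConsPropPair.IsConsPair P) {X Y S : Scheme.{u}} [IsNoetherian S]
    (u : X ⟶ S) (v : Y ⟶ S) [LocallyOfFiniteType u] [QuasiCompact u] [LocallyOfFiniteType v]
    [QuasiCompact v] (Z : Set S) (hZ : IsClosed Z) (hZi : IsIrreducible Z) :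
    (∃ U : Set S, IsOpen U ∧ (U ∩ Z).Nonempty ∧ U ∩ Z ⊆ ConsPropPair.locusPair P u v) ∨
      (∃ U : Set S, IsOpen U ∧ (U ∩ Z).Nonempty ∧ U ∩ Z ⊆ (ConsPropPair.locusPair P u v)ᶜ) := by
  obtain ⟨W, ι, hW1, hW2, hι, hrange⟩ := exists_integral_subscheme Z hZ hZi
  have hX : IsPullback (pullback.fst u ι) (pullback.snd u ι) u ι := IsPullback.of_hasPullback u ι
  have hY : IsPullback (pullback.fst v ι) (pullback.snd v ι) v ι := IsPullback.of_hasPullback v ι
  have hloc := locusPair_base_change hP.1 hX hY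
  rcases hP.2 (pullback.snd u ι) (pullback.snd v ι) with h | h
  · left
    apply exists_open_of_interior_nonempty ι hι Z hrange
    rwa [← hloc]
  · right
    apply exists_open_of_interior_nonempty ι hι Z hrange
    rwa [Set.preimage_compl, ← hloc]

theorem indCons_localPair (hP : ConsPropPair.IsIndConsPair P) {X Y S : Scheme.{u}}
    [IsNoetherian S] (u : X ⟶ S) (v : Y ⟶ S) [LocallyOfFiniteType u] [QuasiCompact u]
    [LocallyOfFiniteType v] [QuasiCompact v] (Z : Set S) (hZ : IsClosed Z)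
    (hZi : IsIrreducible Z) (ζ : S) (hζ : IsGenericPoint ζ Z)
    (hζE : ζ ∈ ConsPropPair.locusPair P u v) :
    ∃ U : Set S, IsOpen U ∧ (U ∩ Z).Nonempty ∧ U ∩ Z ⊆ ConsPropPair.locusPair P u v := by
  obtain ⟨W, ι, hW1, hW2, hι, hrange⟩ := exists_integral_subscheme Z hZ hZi
  have hX : IsPullback (pullback.fst u ι) (pullback.snd u ι) u ι := IsPullback.of_hasPullback u ι
  have hY : IsPullback (pullback.fst v ι) (pullback.snd v ι) v ι := IsPullback.of_hasPullback v ι
  have hloc := locusPair_base_change hP.1 hX hY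
  apply exists_open_of_interior_nonempty ι hι Z hrange
  rw [← hloc]
  apply hP.2 (pullback.snd u ι) (pullback.snd v ι)
  rw [hloc]
  have hg : IsGenericPoint (ι.base (genericPoint W)) Z := by
    have h1 := (genericPoint_spec W).image ι.continuous
    rwa [Set.image_univ, hrange, hZ.closure_eq] at h1
  have : ι.base (genericPoint W) = ζ := hg.eq hζ
  change ι.base (genericPoint W) ∈ ConsPropPair.locusPair P u v
  rw [this]; exact hζE

theorem isConstructible_locusPair (hP : ConsPropPair.IsConsPair P) {X Y S : Scheme.{u}}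
    [IsNoetherian S] (u : X ⟶ S) (v : Y ⟶ S) [LocallyOfFiniteType u] [QuasiCompact u]
    [LocallyOfFiniteType v] [QuasiCompact v] :
    IsConstructible (ConsPropPair.locusPair P u v) := by
  apply Groth.Agent.H12.isConstructible_of_forall_irreducible
  intro Z hZ hZi
  rcases cons_localPair hP u v Z hZ hZi with ⟨U, hU, hne, hsub⟩ | ⟨U, hU, hne, hsub⟩
  · right; exact ⟨U, hU, hne, hsub⟩
  · left
    have : IrreducibleSpace ↥Z := Subtype.irreducibleSpace hZi
    have hO : IsOpen (Subtype.val ⁻¹' U : Set Z) := hU.preimage continuous_subtype_val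
    have hOne : (Subtype.val ⁻¹' U : Set Z).Nonempty := by
      obtain ⟨y, hyU, hyZ⟩ := hne
      exact ⟨⟨y, hyZ⟩, hyU⟩
    have hd : Dense (Subtype.val ⁻¹' U : Set Z) := hO.dense hOne
    have hsub' : (Subtype.val ⁻¹' (ConsPropPair.locusPair P u v) : Set Z) ⊆
        (Subtype.val ⁻¹' U : Set Z)ᶜ := by
      intro z hz hzU
      exact hsub ⟨hzU, z.2⟩ hz
    have hcl : closure (Subtype.val ⁻¹' (ConsPropPair.locusPair P u v) : Set Z) ⊆
        (Subtype.val ⁻¹' U : Set Z)ᶜ := closure_minimal hsub' hO.isClosed_compl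
    rw [IsNowhereDense, Set.eq_empty_iff_forall_notMem]
    intro z hz
    have h1 : z ∈ interior ((Subtype.val ⁻¹' U : Set Z)ᶜ) := interior_mono hcl hz
    rw [interior_compl, hd.closure_eq] at h1
    exact h1 (Set.mem_univ z)

theorem isUnionCons_locusPair_noeth (hP : ConsPropPair.IsIndConsPair P) {X Y S : Scheme.{u}}
    [IsNoetherian S] (u : X ⟶ S) (v : Y ⟶ S) [LocallyOfFiniteType u] [QuasiCompact u]
    [LocallyOfFiniteType v] [QuasiCompact v] :
    IsUnionCons (ConsPropPair.locusPair P u v) := by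
  refine ⟨{T | IsConstructible T ∧ T ⊆ ConsPropPair.locusPair P u v}, fun T hT => hT.1, ?_⟩
  apply Set.Subset.antisymm
  · intro s hs
    have hZ : IsClosed (closure ({s} : Set S)) := isClosed_closure
    have hZi : IsIrreducible (closure ({s} : Set S)) := isIrreducible_singleton.closure
    have hgen : IsGenericPoint s (closure ({s} : Set S)) := rfl
    obtain ⟨U, hU, hne, hsub⟩ := indCons_localPair hP u v _ hZ hZi s hgen hs
    refine ⟨U ∩ closure {s}, ⟨?_, hsub⟩, ?_⟩
    · exact (Groth.Agent.H12.isConstructible_of_isOpen hU).inter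
        (Groth.Agent.H12.isConstructible_of_isClosed hZ)
    · obtain ⟨y, hyU, hyZ⟩ := hne
      refine ⟨?_, subset_closure rfl⟩
      have hsp : s ⤳ y := specializes_iff_mem_closure.mpr hyZ
      exact hsp.mem_open hU hyU
  · intro s hs
    obtain ⟨T, hT, hsT⟩ := hs
    exact hT.2 hsT

/-- Descent of two morphisms of finite presentation along a cofiltered limit, to a common stage. -/
theorem exists_descent_two {I : Type u} [SmallCategory I] [IsCofiltered I]
    (D : I ⥤ Scheme.{u}) (c : Limits.Cone D) (hc : Limits.IsLimit c)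
    [∀ (i j : I) (f : i ⟶ j), IsAffineHom (D.map f)] [∀ i, CompactSpace (D.obj i)]
    [∀ i, QuasiSeparatedSpace (D.obj i)] {X Y : Scheme.{u}} (u : X ⟶ c.pt) (v : Y ⟶ c.pt)
    [LocallyOfFinitePresentation u] [QuasiCompact u] [QuasiSeparated u]
    [LocallyOfFinitePresentation v] [QuasiCompact v] [QuasiSeparated v] :
    ∃ (j : I) (Xj Yj : Scheme.{u}) (uj : Xj ⟶ D.obj j) (vj : Yj ⟶ D.obj j) (eX : X ⟶ Xj)
      (eY : Y ⟶ Yj),
      IsPullback eX u uj (c.π.app j) ∧ IsPullback eY v vj (c.π.app j) ∧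
      LocallyOfFinitePresentation uj ∧ QuasiCompact uj ∧ QuasiSeparated uj ∧
      LocallyOfFinitePresentation vj ∧ QuasiCompact vj ∧ QuasiSeparated vj := by
  obtain ⟨i, Xi, ui, qX, hu1, hu2, hu3, hXi⟩ := Groth.Agent.S0591.result D c hc X u
  obtain ⟨i', Yi, vi, qY, hv1, hv2, hv3, hYi⟩ := Groth.Agent.S0591.result D c hc Y v
  let k := IsCofiltered.min i i'
  let a : k ⟶ i := IsCofiltered.minToLeft i i'
  let b : k ⟶ i' := IsCofiltered.minToRight i i'
  have hwX : qX ≫ ui = (u ≫ c.π.app k) ≫ D.map a := by rw [Category.assoc, c.w, hXi.w]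
  have hwY : qY ≫ vi = (v ≫ c.π.app k) ≫ D.map b := by rw [Category.assoc, c.w, hYi.w]
  have hXk : IsPullback (pullback.lift qX (u ≫ c.π.app k) hwX) u (pullback.snd ui (D.map a))
      (c.π.app k) := by
    refine IsPullback.of_right (h₁₂ := pullback.fst ui (D.map a)) (h₂₂ := D.map a) (v₁₃ := ui) ?_
      (pullback.lift_snd _ _ _) (IsPullback.of_hasPullback ui (D.map a))
    rw [pullback.lift_fst, c.w]
    exact hXi
  have hYk : IsPullback (pullback.lift qY (v ≫ c.π.app k) hwY) v (pullback.snd vi (D.map b))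
      (c.π.app k) := by
    refine IsPullback.of_right (h₁₂ := pullback.fst vi (D.map b)) (h₂₂ := D.map b) (v₁₃ := vi) ?_
      (pullback.lift_snd _ _ _) (IsPullback.of_hasPullback vi (D.map b))
    rw [pullback.lift_fst, c.w]
    exact hYi
  exact ⟨k, _, _, pullback.snd ui (D.map a), pullback.snd vi (D.map b), _, _, hXk, hYk,
    MorphismProperty.pullback_snd _ _ hu1, MorphismProperty.pullback_snd _ _ hu2,
    MorphismProperty.pullback_snd _ _ hu3, MorphismProperty.pullback_snd _ _ hv1,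
    MorphismProperty.pullback_snd _ _ hv2, MorphismProperty.pullback_snd _ _ hv3⟩

theorem exists_noetherian_descent_two (R : CommRingCat.{u}) {X Y : Scheme.{u}} (u : X ⟶ Spec R)
    (v : Y ⟶ Spec R)
    [LocallyOfFinitePresentation u] [QuasiCompact u] [QuasiSeparated u]
    [LocallyOfFinitePresentation v] [QuasiCompact v] [QuasiSeparated v] :
    ∃ (S₀ X₀ Y₀ : Scheme.{u}) (u₀ : X₀ ⟶ S₀) (v₀ : Y₀ ⟶ S₀) (h : Spec R ⟶ S₀)
      (eX : X ⟶ X₀) (eY : Y ⟶ Y₀),
      IsNoetherian S₀ ∧ IsPullback eX u u₀ h ∧ IsPullback eY v v₀ h ∧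
      LocallyOfFinitePresentation u₀ ∧ QuasiCompact u₀ ∧ QuasiSeparated u₀ ∧
      LocallyOfFinitePresentation v₀ ∧ QuasiCompact v₀ ∧ QuasiSeparated v₀ := by
  let _ : Algebra (ULift.{u} ℤ) R :=
    ((Int.castRingHom R).comp (ULift.ringEquiv : ULift.{u} ℤ ≃+* ℤ).toRingHom).toAlgebra
  have : IsNoetherianRing (ULift.{u} ℤ) :=
    isNoetherianRing_of_ringEquiv ℤ (ULift.ringEquiv : ULift.{u} ℤ ≃+* ℤ).symm
  let u' : X ⟶ (Groth.Agent.H24.FGSubAlg.specCone (ULift.{u} ℤ) R).pt := u
  let v' : Y ⟶ (Groth.Agent.H24.FGSubAlg.specCone (ULift.{u} ℤ) R).pt := v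
  have i1 : LocallyOfFinitePresentation u' := ‹LocallyOfFinitePresentation u›
  have i2 : QuasiCompact u' := ‹QuasiCompact u›
  have i3 : QuasiSeparated u' := ‹QuasiSeparated u›
  have i4 : LocallyOfFinitePresentation v' := ‹LocallyOfFinitePresentation v›
  have i5 : QuasiCompact v' := ‹QuasiCompact v›
  have i6 : QuasiSeparated v' := ‹QuasiSeparated v›
  obtain ⟨j, Xj, Yj, uj, vj, eX, eY, hX, hY, p1, p2, p3, p4, p5, p6⟩ :=
    exists_descent_two (Groth.Agent.H24.FGSubAlg.specDiagram (ULift.{u} ℤ) R)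
      (Groth.Agent.H24.FGSubAlg.specCone (ULift.{u} ℤ) R)
      (Groth.Agent.H24.FGSubAlg.isLimitSpecCone (ULift.{u} ℤ) R) u' v'
  exact ⟨_, Xj, Yj, uj, vj, (Groth.Agent.H24.FGSubAlg.specCone (ULift.{u} ℤ) R).π.app j, eX, eY,
    noeth_specDiagram R (ULift.{u} ℤ) j, hX, hY, p1, p2, p3, p4, p5, p6⟩

theorem isConstructible_locusPair_spec (hP : ConsPropPair.IsConsPair P) (R : CommRingCat.{u})
    {X Y : Scheme.{u}} (u : X ⟶ Spec R) (v : Y ⟶ Spec R)
    [LocallyOfFinitePresentation u] [QuasiCompact u] [QuasiSeparated u]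
    [LocallyOfFinitePresentation v] [QuasiCompact v] [QuasiSeparated v] :
    IsConstructible (ConsPropPair.locusPair P u v) := by
  obtain ⟨S₀, X₀, Y₀, u₀, v₀, h, eX, eY, hN, hX, hY, p1, p2, p3, p4, p5, p6⟩ :=
    exists_noetherian_descent_two R u v
  rw [locusPair_base_change hP.1 hX hY]
  exact h.isConstructible_preimage (isConstructible_locusPair hP u₀ v₀)

theorem isUnionCons_locusPair_spec (hP : ConsPropPair.IsIndConsPair P) (R : CommRingCat.{u})
    {X Y : Scheme.{u}} (u : X ⟶ Spec R) (v : Y ⟶ Spec R)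
    [LocallyOfFinitePresentation u] [QuasiCompact u] [QuasiSeparated u]
    [LocallyOfFinitePresentation v] [QuasiCompact v] [QuasiSeparated v] :
    IsUnionCons (ConsPropPair.locusPair P u v) := by
  obtain ⟨S₀, X₀, Y₀, u₀, v₀, h, eX, eY, hN, hX, hY, p1, p2, p3, p4, p5, p6⟩ :=
    exists_noetherian_descent_two R u v
  rw [locusPair_base_change hP.1 hX hY]
  exact IsUnionCons.preimage h (isUnionCons_locusPair_noeth hP u₀ v₀)

theorem locusPair_comp_iso (hP : ConsPropPair.IsFieldStablePair P) {X Y S S' : Scheme.{u}}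
    (u : X ⟶ S) (v : Y ⟶ S) (e : S ≅ S') [LocallyOfFiniteType u] [QuasiCompact u]
    [LocallyOfFiniteType v] [QuasiCompact v] :
    ConsPropPair.locusPair P u v =
      e.hom.base ⁻¹' ConsPropPair.locusPair P (u ≫ e.hom) (v ≫ e.hom) := by
  have hX : IsPullback (𝟙 X) u (u ≫ e.hom) e.hom := IsPullback.of_horiz_isIso ⟨by simp⟩
  have hY : IsPullback (𝟙 Y) v (v ≫ e.hom) e.hom := IsPullback.of_horiz_isIso ⟨by simp⟩
  exact locusPair_base_change hP hX hY

theorem isConstructible_locusPair_affine (hP : ConsPropPair.IsConsPair P)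
    {X Y S : Scheme.{u}} [IsAffine S] (u : X ⟶ S) (v : Y ⟶ S)
    [LocallyOfFinitePresentation u] [QuasiCompact u] [QuasiSeparated u]
    [LocallyOfFinitePresentation v] [QuasiCompact v] [QuasiSeparated v] :
    IsConstructible (ConsPropPair.locusPair P u v) := by
  rw [locusPair_comp_iso hP.1 u v S.isoSpec]
  exact S.isoSpec.hom.isConstructible_preimage
    (isConstructible_locusPair_spec hP _ (u ≫ S.isoSpec.hom) (v ≫ S.isoSpec.hom))

theorem isUnionCons_locusPair_affine (hP : ConsPropPair.IsIndConsPair P)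
    {X Y S : Scheme.{u}} [IsAffine S] (u : X ⟶ S) (v : Y ⟶ S)
    [LocallyOfFinitePresentation u] [QuasiCompact u] [QuasiSeparated u]
    [LocallyOfFinitePresentation v] [QuasiCompact v] [QuasiSeparated v] :
    IsUnionCons (ConsPropPair.locusPair P u v) := by
  rw [locusPair_comp_iso hP.1 u v S.isoSpec]
  exact IsUnionCons.preimage S.isoSpec.hom
    (isUnionCons_locusPair_spec hP _ (u ≫ S.isoSpec.hom) (v ≫ S.isoSpec.hom))

theorem isLocallyConstructible_locusPair (hP : ConsPropPair.IsConsPair P)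
    {X Y S : Scheme.{u}} (u : X ⟶ S) (v : Y ⟶ S)
    [LocallyOfFinitePresentation u] [QuasiCompact u] [QuasiSeparated u]
    [LocallyOfFinitePresentation v] [QuasiCompact v] [QuasiSeparated v] :
    IsLocallyConstructible (ConsPropPair.locusPair P u v) := by
  intro s
  obtain ⟨U, hU, hsU, -⟩ := exists_isAffineOpen_mem_and_subset (x := s) (U := ⊤) trivial
  have hX : IsPullback (pullback.fst u U.ι) (pullback.snd u U.ι) u U.ι :=
    IsPullback.of_hasPullback u U.ι
  have hY : IsPullback (pullback.fst v U.ι) (pullback.snd v U.ι) v U.ι :=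
    IsPullback.of_hasPullback v U.ι
  have : IsAffine U.toScheme := hU
  have hc := isConstructible_locusPair_affine hP (pullback.snd u U.ι) (pullback.snd v U.ι)
  rw [locusPair_base_change hP.1 hX hY, preimage_ι_eq] at hc
  exact ⟨U, U.2.mem_nhds hsU, U.2, hc⟩

theorem isIndConstructible_locusPair (hP : ConsPropPair.IsIndConsPair P)
    {X Y S : Scheme.{u}} (u : X ⟶ S) (v : Y ⟶ S)
    [LocallyOfFinitePresentation u] [QuasiCompact u] [QuasiSeparated u]
    [LocallyOfFinitePresentation v] [QuasiCompact v] [QuasiSeparated v] :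
    ProCons.IsIndConstructible (ConsPropPair.locusPair P u v) := by
  intro s
  obtain ⟨U, hU, hsU, -⟩ := exists_isAffineOpen_mem_and_subset (x := s) (U := ⊤) trivial
  have hX : IsPullback (pullback.fst u U.ι) (pullback.snd u U.ι) u U.ι :=
    IsPullback.of_hasPullback u U.ι
  have hY : IsPullback (pullback.fst v U.ι) (pullback.snd v U.ι) v U.ι :=
    IsPullback.of_hasPullback v U.ι
  have : IsAffine U.toScheme := hU
  have hc := isUnionCons_locusPair_affine hP (pullback.snd u U.ι) (pullback.snd v U.ι)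
  rw [locusPair_base_change hP.1 hX hY, preimage_ι_eq] at hc
  obtain ⟨𝒮, h𝒮, h𝒮E⟩ := hc
  exact ⟨U, U.2, hsU, 𝒮, fun T hT => (h𝒮 T hT).isLocallyConstructible, h𝒮E⟩

end Groth.Agent.H29.ConsPairA
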