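import Mathlib
import Groth.Prelude.Def_EGA4Misc
import Groth.Prelude.Def_ProCons
import Groth.Prelude.Def_W4ega4s0809p4Pair
import Groth.Agent.H29.ConsPairA
import Groth.Agent.H29.ConsMorE
import Groth.Agent.H24.LimitTop
import Groth.Agent.S4787

/-!
# `ConsPropPair.locusPair` along a cofiltered limit (helper29; for S5908)
-/

set_option autoImplicit false
set_option backward.isDefEq.respectTransparency.types false
universe u

open AlgebraicGeometry CategoryTheory TopologicalSpace Limits Topology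

namespace Groth.Agent.H29.ConsPairB

open Groth.Agent.H29.ConsPairA Groth.Agent.H29.ConsMorE

variable {P : ∀ ⦃X Y T : Scheme.{u}⦄, (X ⟶ T) → (Y ⟶ T) → Prop}

theorem locusPair_stage_compat (hP : ConsPropPair.IsFieldStablePair P)
    {X₀ Y₀ S₀ Xj Yj Sj Xk Yk Sk : Scheme.{u}} {u₀ : X₀ ⟶ S₀} {v₀ : Y₀ ⟶ S₀}
    {uj : Xj ⟶ Sj} {vj : Yj ⟶ Sj} {pX : Xj ⟶ X₀} {pY : Yj ⟶ Y₀} {a : Sj ⟶ S₀}
    {uk : Xk ⟶ Sk} {vk : Yk ⟶ Sk} {pX' : Xk ⟶ X₀} {pY' : Yk ⟶ Y₀} {b : Sk ⟶ Sj}
    [LocallyOfFiniteType uj] [QuasiCompact uj] [LocallyOfFiniteType vj] [QuasiCompact vj]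
    (hXj : IsPullback pX uj u₀ a) (hYj : IsPullback pY vj v₀ a)
    (hXk : IsPullback pX' uk u₀ (b ≫ a)) (hYk : IsPullback pY' vk v₀ (b ≫ a)) :
    ConsPropPair.locusPair P uk vk = b.base ⁻¹' ConsPropPair.locusPair P uj vj := by
  have w1 : pX' ≫ u₀ = (uk ≫ b) ≫ a := by rw [hXk.w, Category.assoc]
  have hX : IsPullback (hXj.lift pX' (uk ≫ b) w1) uk uj b := by
    refine IsPullback.of_right (h₁₂ := pX) (h₂₂ := a) (v₁₃ := u₀) ?_ (hXj.lift_snd _ _ _) hXj
    rw [hXj.lift_fst]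
    exact hXk
  have w2 : pY' ≫ v₀ = (vk ≫ b) ≫ a := by rw [hYk.w, Category.assoc]
  have hY : IsPullback (hYj.lift pY' (vk ≫ b) w2) vk vj b := by
    refine IsPullback.of_right (h₁₂ := pY) (h₂₂ := a) (v₁₃ := v₀) ?_ (hYj.lift_snd _ _ _) hYj
    rw [hYj.lift_fst]
    exact hYk
  exact locusPair_base_change hP hX hY

theorem forall_locusPair_iff_eventually (hP : ConsPropPair.IsIndConsPair P)
    {I : Type u} [SmallCategory I] [IsCofiltered I]
    (D : I ⥤ Scheme.{u}) (c : Limits.Cone D) (hc : Limits.IsLimit c)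
    [∀ (i j : I) (a : i ⟶ j), IsAffineHom (D.map a)] (i₀ : I) [CompactSpace ↥(D.obj i₀)]
    {X₀ Y₀ : Scheme.{u}} (u₀ : X₀ ⟶ D.obj i₀) (v₀ : Y₀ ⟶ D.obj i₀)
    [LocallyOfFinitePresentation u₀] [QuasiCompact u₀] [QuasiSeparated u₀]
    [LocallyOfFinitePresentation v₀] [QuasiCompact v₀] [QuasiSeparated v₀]
    {X Y : Scheme.{u}} (u : X ⟶ c.pt) (v : Y ⟶ c.pt) (qX : X ⟶ X₀) (qY : Y ⟶ Y₀)
    (hX : IsPullback qX u u₀ (c.π.app i₀)) (hY : IsPullback qY v v₀ (c.π.app i₀)) :
    (∀ s : ↥c.pt, s ∈ ConsPropPair.locusPair P u v) ↔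
      ∃ (j : I) (φ : j ⟶ i₀) (Xj Yj : Scheme.{u}) (uj : Xj ⟶ D.obj j) (vj : Yj ⟶ D.obj j)
        (pX : Xj ⟶ X₀) (pY : Yj ⟶ Y₀), IsPullback pX uj u₀ (D.map φ) ∧
          IsPullback pY vj v₀ (D.map φ) ∧
          ∀ t : ↥(D.obj j), t ∈ ConsPropPair.locusPair P uj vj := by
  constructor
  · intro hall
    let D' : Over i₀ ⥤ Scheme.{u} := Over.forget i₀ ⋙ D
    let c' : Cone D' := c.whisker (Over.forget i₀)
    have hc' : IsLimit c' := Groth.Agent.H24.isLimitOverCone D c hc i₀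
    have haff' : ∀ (j k : Over i₀) (f : j ⟶ k), IsAffineHom (D'.map f) := fun j k f =>
      Groth.Agent.H24.isAffineHom_over D i₀ f
    let i₀' : Over i₀ := Over.mk (𝟙 i₀)
    have : CompactSpace ↥(D'.obj i₀') := ‹CompactSpace ↥(D.obj i₀)›
    let Xk : Over i₀ → Scheme.{u} := fun k => pullback u₀ (D.map k.hom)
    let uk : ∀ k : Over i₀, Xk k ⟶ D.obj k.left := fun k => pullback.snd u₀ (D.map k.hom)
    let pXk : ∀ k : Over i₀, Xk k ⟶ X₀ := fun k => pullback.fst u₀ (D.map k.hom)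
    let Yk : Over i₀ → Scheme.{u} := fun k => pullback v₀ (D.map k.hom)
    let vk : ∀ k : Over i₀, Yk k ⟶ D.obj k.left := fun k => pullback.snd v₀ (D.map k.hom)
    let pYk : ∀ k : Over i₀, Yk k ⟶ Y₀ := fun k => pullback.fst v₀ (D.map k.hom)
    have hXk : ∀ k : Over i₀, IsPullback (pXk k) (uk k) u₀ (D.map k.hom) := fun k =>
      IsPullback.of_hasPullback _ _
    have hYk : ∀ k : Over i₀, IsPullback (pYk k) (vk k) v₀ (D.map k.hom) := fun k =>
      IsPullback.of_hasPullback _ _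
    have i1 : ∀ k, LocallyOfFinitePresentation (uk k) := fun k =>
      MorphismProperty.pullback_snd _ _ inferInstance
    have i2 : ∀ k, QuasiCompact (uk k) := fun k => MorphismProperty.pullback_snd _ _ inferInstance
    have i3 : ∀ k, QuasiSeparated (uk k) := fun k =>
      MorphismProperty.pullback_snd _ _ inferInstance
    have i4 : ∀ k, LocallyOfFinitePresentation (vk k) := fun k =>
      MorphismProperty.pullback_snd _ _ inferInstance
    have i5 : ∀ k, QuasiCompact (vk k) := fun k => MorphismProperty.pullback_snd _ _ inferInstance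
    have i6 : ∀ k, QuasiSeparated (vk k) := fun k =>
      MorphismProperty.pullback_snd _ _ inferInstance
    let E : ∀ k : Over i₀, Set (D'.obj k) := fun _ => Set.univ
    let F : ∀ k : Over i₀, Set (D'.obj k) := fun k => ConsPropPair.locusPair P (uk k) (vk k)
    have hE : ∀ k, ProCons.IsProConstructible (E k) := fun k => isProConstructible_univ
    have hF : ∀ k, ProCons.IsIndConstructible (F k) := fun k =>
      isIndConstructible_locusPair hP (uk k) (vk k)
    have hEm : ∀ (k l : Over i₀) (φ : k ⟶ l), E k ⊆ ⇑(D'.map φ) ⁻¹' E l := fun k l φ x _ => trivial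
    have hFm : ∀ (k l : Over i₀) (φ : k ⟶ l), ⇑(D'.map φ) ⁻¹' F l ⊆ F k := by
      intro k l φ
      have hXk' : IsPullback (pXk k) (uk k) u₀ (D.map φ.left ≫ D.map l.hom) := by
        rw [← D.map_comp, Over.w φ]
        exact hXk k
      have hYk' : IsPullback (pYk k) (vk k) v₀ (D.map φ.left ≫ D.map l.hom) := by
        rw [← D.map_comp, Over.w φ]
        exact hYk k
      have := locusPair_stage_compat hP.1 (hXk l) (hYk l) hXk' hYk'
      change ⇑(D.map φ.left) ⁻¹' ConsPropPair.locusPair P (uk l) (vk l) ⊆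
        ConsPropPair.locusPair P (uk k) (vk k)
      rw [this]
    have hsub : (⋂ k, ⇑(c'.π.app k) ⁻¹' E k : Set c'.pt) ⊆
        (⋃ k, ⇑(c'.π.app k) ⁻¹' F k : Set c'.pt) := by
      intro s _
      refine Set.mem_iUnion.mpr ⟨i₀', ?_⟩
      have e : c.π.app i₀ ≫ D.map i₀'.hom = c.π.app i₀ := by
        change c.π.app i₀ ≫ D.map (𝟙 i₀) = _
        rw [D.map_id]
        exact Category.comp_id _
      have hX' : IsPullback qX u u₀ (c.π.app i₀ ≫ D.map i₀'.hom) := by
        rw [e]; exact hX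
      have hY' : IsPullback qY v v₀ (c.π.app i₀ ≫ D.map i₀'.hom) := by
        rw [e]; exact hY
      have := locusPair_stage_compat hP.1 (hXk i₀') (hYk i₀') hX' hY'
      change (c.π.app i₀) s ∈ ConsPropPair.locusPair P (uk i₀') (vk i₀')
      have h2 : s ∈ ⇑(c.π.app i₀) ⁻¹' ConsPropPair.locusPair P (uk i₀') (vk i₀') := by
        rw [← this]; exact hall s
      exact h2
    obtain ⟨k, -, hk⟩ := (Groth.Agent.S4787.result D' c' hc' i₀' E F hE hF hEm hFm).mp hsub
    have hkk := hk k (𝟙 k)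
    exact ⟨k.left, k.hom, Xk k, Yk k, uk k, vk k, pXk k, pYk k, hXk k, hYk k,
      fun t => hkk (Set.mem_univ t)⟩
  · rintro ⟨j, φ, Xj, Yj, uj, vj, pX, pY, hXj, hYj, hall⟩ s
    have hX' : IsPullback qX u u₀ (c.π.app j ≫ D.map φ) := by
      rw [c.w]; exact hX
    have hY' : IsPullback qY v v₀ (c.π.app j ≫ D.map φ) := by
      rw [c.w]; exact hY
    have i1 : LocallyOfFinitePresentation uj :=
      MorphismProperty.of_isPullback (P := @LocallyOfFinitePresentation) hXj inferInstance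
    have i2 : QuasiCompact uj := MorphismProperty.of_isPullback (P := @QuasiCompact) hXj inferInstance
    have i4 : LocallyOfFinitePresentation vj :=
      MorphismProperty.of_isPullback (P := @LocallyOfFinitePresentation) hYj inferInstance
    have i5 : QuasiCompact vj := MorphismProperty.of_isPullback (P := @QuasiCompact) hYj inferInstance
    have := locusPair_stage_compat hP.1 hXj hYj hX' hY'
    rw [this]
    exact hall _

end Groth.Agent.H29.ConsPairB
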