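import Mathlib
import Groth.Prelude.Def_CAlg

/-!
# Spreading out regular sequences on a finite module from `A_q` to some `A_g`

* `quotSMulTopLocEquiv S x`: `M_S / (x/1) M_S ≃ (M / x M)_S`.
* `exists_isSMulRegular_away`: `x/1` regular on `M_q` ⟹ `x/1` regular on `M_g` for all multiples
  `g` of some `g₀ ∉ q`.
* `exists_isWeaklyRegular_away`: the same for sequences.
* `exists_list_of_isWeaklyRegular`: a weakly regular sequence on `M_q` in the maximal ideal can be
  replaced by one of the same length coming from elements of `q`.
-/

set_option autoImplicit false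
set_option linter.style.haveILetI false
set_option linter.unusedSectionVars false
universe u

namespace Groth.Agent.H29.SpreadReg

open RingTheory.Sequence IsLocalRing
open scoped Pointwise

variable {A : Type u} [CommRing A]

/-- The quotient of the localization by `x/1` is the localization of the quotient. -/
noncomputable def quotSMulTopLocEquiv (M : Type u) [AddCommGroup M] [Module A M] (S : Submonoid A)
    (x : A) :
    QuotSMulTop (algebraMap A (Localization S) x) (LocalizedModule S M)
      ≃ₗ[Localization S] LocalizedModule S (QuotSMulTop x M) :=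
  have hf : IsBaseChange (Localization S) (LocalizedModule.mkLinearMap S M) :=
    IsLocalizedModule.isBaseChange S (Localization S) _
  have hf' : IsBaseChange (Localization S)
      (LocalizedModule.mkLinearMap S (QuotSMulTop x M)) :=
    IsLocalizedModule.isBaseChange S (Localization S) _
  ((QuotSMulTop.algebraMapTensorEquivTensorQuotSMulTop x M (Localization S)).symm ≪≫ₗ
      QuotSMulTop.congr (algebraMap A (Localization S) x) hf.equiv).symm ≪≫ₗ hf'.equiv

section Spread

variable [IsNoetherianRing A] (q : Ideal A) [q.IsPrime]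

/-- a regular element on `M_q` is regular on `M_g` for all multiples `g` of some `g₀ ∉ q` -/
theorem exists_isSMulRegular_away (M : Type u) [AddCommGroup M] [Module A M] [Module.Finite A M]
    (x : A) (h : IsSMulRegular (LocalizedModule q.primeCompl M)
      (algebraMap A (Localization.AtPrime q) x)) :
    ∃ g₀ : A, g₀ ∉ q ∧ ∀ g : A, g₀ ∣ g →
      IsSMulRegular (LocalizedModule (Submonoid.powers g) M)
        (algebraMap A (Localization.Away g) x) := by
  classical
  set K : Submodule A M := LinearMap.ker (LinearMap.lsmul A M x) with hK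
  have hKmem : ∀ m : M, m ∈ K ↔ x • m = 0 := by
    intro m
    rw [hK, LinearMap.mem_ker, LinearMap.lsmul_apply]
  -- every element of `K` is killed by something outside `q`
  have hkill : ∀ m ∈ K, ∃ s : A, s ∉ q ∧ s • m = 0 := by
    intro m hm
    have h0 : algebraMap A (Localization.AtPrime q) x •
        (LocalizedModule.mkLinearMap q.primeCompl M m) = 0 := by
      rw [algebraMap_smul, ← map_smul, (hKmem m).mp hm, map_zero]
    have h1 : LocalizedModule.mkLinearMap q.primeCompl M m = 0 := by
      apply h
      change algebraMap A (Localization.AtPrime q) x •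
        (LocalizedModule.mkLinearMap q.primeCompl M m) =
        algebraMap A (Localization.AtPrime q) x • (0 : LocalizedModule q.primeCompl M)
      rw [h0, smul_zero]
    obtain ⟨c, hc⟩ := (IsLocalizedModule.eq_zero_iff q.primeCompl
      (LocalizedModule.mkLinearMap q.primeCompl M)).mp h1
    exact ⟨c.1, c.2, hc⟩
  -- a common killer
  have hKfg : K.FG := IsNoetherian.noetherian K
  obtain ⟨t, ht⟩ := hKfg
  choose! s hs using hkill
  have htK : ∀ m ∈ t, m ∈ K := fun m hm => ht ▸ Submodule.subset_span hm
  refine ⟨∏ m ∈ t, s m, ?_, ?_⟩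
  · intro hmem
    obtain ⟨m, hm, hsm⟩ := (Ideal.IsPrime.prod_mem_iff (hp := inferInstance)).mp hmem
    exact (hs m (htK m hm)).1 hsm
  · intro g hg
    have hgK : ∀ m ∈ K, g • m = 0 := by
      intro m hm
      rw [← ht] at hm
      refine Submodule.span_induction ?_ ?_ ?_ ?_ hm
      · intro y hy
        obtain ⟨c, rfl⟩ := hg
        obtain ⟨d, hd⟩ := Finset.dvd_prod_of_mem s hy
        rw [hd, mul_comm (s y) d, mul_assoc, mul_comm, mul_smul, mul_smul]
        rw [smul_comm (s y) c, smul_comm (s y) d, (hs y (htK y hy)).2, smul_zero, smul_zero]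
      · exact smul_zero _
      · intro y z _ _ hy hz
        rw [smul_add, hy, hz, add_zero]
      · intro a y _ hy
        rw [smul_comm, hy, smul_zero]
    rw [isSMulRegular_iff_right_eq_zero_of_smul]
    intro y hy
    obtain ⟨⟨m, u⟩, rfl⟩ := IsLocalizedModule.mk'_surjective (Submonoid.powers g)
      (LocalizedModule.mkLinearMap (Submonoid.powers g) M) y
    simp only [Function.uncurry_apply_pair] at hy ⊢
    rw [algebraMap_smul, ← IsLocalizedModule.mk'_smul, IsLocalizedModule.mk'_eq_zero'] at hy
    obtain ⟨c, hc⟩ := hy
    rw [IsLocalizedModule.mk'_eq_zero']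
    have hcm : (c : A) • m ∈ K := by
      rw [hKmem, smul_comm]
      exact hc
    have := hgK _ hcm
    refine ⟨⟨g, Submonoid.mem_powers g⟩ * c, ?_⟩
    rw [Submonoid.smul_def, Submonoid.coe_mul, mul_smul]
    exact this

/-- a weakly regular sequence on `M_q` coming from `A` is weakly regular on `M_g` for all
multiples `g` of some `g₀ ∉ q` -/
theorem exists_isWeaklyRegular_away (xs : List A) : ∀ (M : Type u) [AddCommGroup M] [Module A M]
    [Module.Finite A M],
    IsWeaklyRegular (LocalizedModule q.primeCompl M)
      (xs.map (algebraMap A (Localization.AtPrime q))) →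
    ∃ g₀ : A, g₀ ∉ q ∧ ∀ g : A, g₀ ∣ g →
      IsWeaklyRegular (LocalizedModule (Submonoid.powers g) M)
        (xs.map (algebraMap A (Localization.Away g))) := by
  induction xs with
  | nil =>
    intro M _ _ _ _
    exact ⟨1, fun h1 => (Ideal.IsPrime.ne_top inferInstance) ((Ideal.eq_top_iff_one q).mpr h1),
      fun g _ => IsWeaklyRegular.nil _ _⟩
  | cons x xs ih =>
    intro M _ _ _ h
    rw [List.map_cons, isWeaklyRegular_cons_iff] at h
    obtain ⟨g₁, hg₁, H₁⟩ := exists_isSMulRegular_away q M x h.1
    have h2 : IsWeaklyRegular (LocalizedModule q.primeCompl (QuotSMulTop x M))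
        (xs.map (algebraMap A (Localization.AtPrime q))) :=
      ((quotSMulTopLocEquiv M q.primeCompl x).isWeaklyRegular_congr _).mp h.2
    obtain ⟨g₂, hg₂, H₂⟩ := ih (QuotSMulTop x M) h2
    refine ⟨g₁ * g₂, fun hmem => ?_, fun g hg => ?_⟩
    · rcases (Ideal.IsPrime.mem_or_mem inferInstance hmem) with h' | h'
      · exact hg₁ h'
      · exact hg₂ h'
    · rw [List.map_cons, isWeaklyRegular_cons_iff]
      refine ⟨H₁ g (dvd_trans (dvd_mul_right _ _) hg), ?_⟩
      exact ((quotSMulTopLocEquiv M (Submonoid.powers g) x).isWeaklyRegular_congr _).mpr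
        (H₂ g (dvd_trans (dvd_mul_left _ _) hg))

end Spread

section Choose

variable (q : Ideal A) [q.IsPrime]

/-- multiplying by a unit does not change `x • ⊤` -/
theorem smul_top_eq_of_isUnit {B : Type u} [CommRing B] (E : Type u) [AddCommGroup E] [Module B E]
    (t u : B) (hu : IsUnit u) :
    ((t * u) • (⊤ : Submodule B E)) = t • (⊤ : Submodule B E) := by
  obtain ⟨v, rfl⟩ := hu
  ext y
  rw [Submodule.mem_smul_pointwise_iff_exists, Submodule.mem_smul_pointwise_iff_exists]
  constructor
  · rintro ⟨z, _, rfl⟩
    exact ⟨(v : B) • z, trivial, by rw [mul_smul]⟩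
  · rintro ⟨z, _, rfl⟩
    refine ⟨((v⁻¹ : Bˣ) : B) • z, trivial, ?_⟩
    rw [mul_smul, ← mul_smul (v : B), Units.mul_inv, one_smul]

/-- a weakly regular sequence on `M_q` inside the maximal ideal can be replaced by one of the same
length whose terms are images of elements of `q` -/
theorem exists_list_of_isWeaklyRegular (ts : List (Localization.AtPrime q)) :
    ∀ (M : Type u) [AddCommGroup M] [Module A M],
    IsWeaklyRegular (LocalizedModule q.primeCompl M) ts →
    (∀ t ∈ ts, t ∈ maximalIdeal (Localization.AtPrime q)) →
    ∃ xs : List A, xs.length = ts.length ∧ (∀ x ∈ xs, x ∈ q) ∧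
      IsWeaklyRegular (LocalizedModule q.primeCompl M)
        (xs.map (algebraMap A (Localization.AtPrime q))) := by
  induction ts with
  | nil =>
    intro M _ _ _ _
    exact ⟨[], rfl, by simp, IsWeaklyRegular.nil _ _⟩
  | cons t ts ih =>
    intro M _ _ h hmem
    rw [isWeaklyRegular_cons_iff] at h
    obtain ⟨a, s, hts⟩ := IsLocalization.exists_mk'_eq q.primeCompl t
    have hspec : t * algebraMap A (Localization.AtPrime q) s =
        algebraMap A (Localization.AtPrime q) a := by
      rw [← hts]
      exact IsLocalization.mk'_spec _ a s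
    have hu : IsUnit (algebraMap A (Localization.AtPrime q) (s : A)) :=
      IsLocalization.map_units _ s
    have hreg : IsSMulRegular (LocalizedModule q.primeCompl M)
        (algebraMap A (Localization.AtPrime q) a) := by
      rw [← hspec]
      exact h.1.mul (hu.isSMulRegular _)
    have heq : (algebraMap A (Localization.AtPrime q) a) •
        (⊤ : Submodule (Localization.AtPrime q) (LocalizedModule q.primeCompl M)) =
        t • (⊤ : Submodule (Localization.AtPrime q) (LocalizedModule q.primeCompl M)) := by
      rw [← hspec]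
      exact smul_top_eq_of_isUnit _ t _ hu
    have h2 : IsWeaklyRegular (QuotSMulTop (algebraMap A (Localization.AtPrime q) a)
        (LocalizedModule q.primeCompl M)) ts :=
      ((Submodule.quotEquivOfEq _ _ heq).isWeaklyRegular_congr ts).mpr h.2
    have h3 : IsWeaklyRegular (LocalizedModule q.primeCompl (QuotSMulTop a M)) ts :=
      ((quotSMulTopLocEquiv M q.primeCompl a).isWeaklyRegular_congr ts).mp h2
    obtain ⟨xs, hlen, hxs, hwr⟩ := ih (QuotSMulTop a M) h3
      (fun t' ht' => hmem t' (List.mem_cons_of_mem _ ht'))
    have haq : a ∈ q := by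
      rw [← IsLocalization.AtPrime.to_map_mem_maximal_iff (Localization.AtPrime q) q a, ← hspec]
      exact Ideal.mul_mem_right _ _ (hmem t List.mem_cons_self)
    refine ⟨a :: xs, by simp [hlen], ?_, ?_⟩
    · intro x hx
      rcases List.mem_cons.mp hx with rfl | hx'
      · exact haq
      · exact hxs x hx'
    · rw [List.map_cons, isWeaklyRegular_cons_iff]
      exact ⟨hreg, ((quotSMulTopLocEquiv M q.primeCompl a).isWeaklyRegular_congr _).mpr hwr⟩

end Choose

end Groth.Agent.H29.SpreadReg
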