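import Mathlib
import Groth.Agent.H9.RegSpread
import Groth.Agent.H29.SpreadReg
import Groth.Agent.H29.SkEmbedded
import Groth.Agent.H29.SkAt

/-!
# Semicontinuity of depth along `V(p)` (helper29)
-/

set_option autoImplicit false
set_option linter.style.haveILetI false

namespace Groth.Agent.H29.DepthSemicont

open RingTheory.Sequence IsLocalRing

universe u

variable (R : Type u) [CommRing R] [IsNoetherianRing R] (M : Type u) [AddCommGroup M] [Module R M]
  [Module.Finite R M]

/-- depth at `q` of `M` and of `M/(xs)M` for a sequence `xs ⊆ q` regular on `M_q` -/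
theorem depth_quot_add_length (xs : List R) (q : Ideal R) [q.IsPrime] (hxs : ∀ x ∈ xs, x ∈ q)
    (hreg : IsWeaklyRegular (LocalizedModule q.primeCompl M) xs) :
    LocCoh.depth (Localization.AtPrime q)
        (LocalizedModule q.primeCompl (M ⧸ (Ideal.ofList xs • (⊤ : Submodule R M)))) + xs.length =
      LocCoh.depth (Localization.AtPrime q) (LocalizedModule q.primeCompl M) := by
  haveI : IsNoetherianRing (Localization.AtPrime q) :=
    IsLocalization.isNoetherianRing q.primeCompl _ inferInstance
  haveI : Module.Finite (Localization.AtPrime q) (LocalizedModule q.primeCompl M) :=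
    Module.Finite.of_isLocalizedModule q.primeCompl (LocalizedModule.mkLinearMap q.primeCompl M)
  have hreg' : IsWeaklyRegular (LocalizedModule q.primeCompl M)
      (xs.map (algebraMap R (Localization.AtPrime q))) :=
    (isWeaklyRegular_map_algebraMap_iff (Localization.AtPrime q) _ xs).mpr hreg
  have hmem : ∀ r ∈ xs.map (algebraMap R (Localization.AtPrime q)),
      r ∈ maximalIdeal (Localization.AtPrime q) := by
    intro r hr
    obtain ⟨x, hx, rfl⟩ := List.mem_map.mp hr
    rw [← Localization.AtPrime.map_eq_maximalIdeal]
    exact Ideal.mem_map_of_mem _ (hxs x hx)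
  have h1 := Groth.Agent.H29.SkEmbedded.depth_quotient_ofList_add_length
    (xs.map (algebraMap R (Localization.AtPrime q))) (LocalizedModule q.primeCompl M) hreg' hmem
  rw [List.length_map] at h1
  rw [← h1]
  congr 1
  unfold LocCoh.depth
  have e1 : LocalizedModule q.primeCompl (M ⧸ (Ideal.ofList xs • (⊤ : Submodule R M)))
      ≃ₗ[Localization.AtPrime q]
      (LocalizedModule q.primeCompl M ⧸
        ((Ideal.ofList xs).map (algebraMap R (Localization.AtPrime q)) •
          (⊤ : Submodule (Localization.AtPrime q) (LocalizedModule q.primeCompl M)))) :=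
    Groth.Agent.H29.SkEmbedded.quotLocEquiv M q.primeCompl (Ideal.ofList xs)
  have e2 : (LocalizedModule q.primeCompl M ⧸
        ((Ideal.ofList xs).map (algebraMap R (Localization.AtPrime q)) •
          (⊤ : Submodule (Localization.AtPrime q) (LocalizedModule q.primeCompl M))))
      ≃ₗ[Localization.AtPrime q]
      (LocalizedModule q.primeCompl M ⧸
        (Ideal.ofList (xs.map (algebraMap R (Localization.AtPrime q))) •
          (⊤ : Submodule (Localization.AtPrime q) (LocalizedModule q.primeCompl M)))) :=
    Submodule.quotEquivOfEq _ _ (by rw [Ideal.map_ofList])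
  exact Groth.Agent.H15.idealDepth_congr (e1.trans e2) _

/-- **Semicontinuity of depth along `V(p)`**. -/
theorem depth_semicontinuous (p : Ideal R) [p.IsPrime] (e : ℕ)
    (he : LocCoh.depth (Localization.AtPrime p) (LocalizedModule p.primeCompl M) = e) :
    ∃ f : R, f ∉ p ∧
      (∀ (q : Ideal R) [q.IsPrime], p ≤ q → f ∉ q →
        (e : ℕ∞) ≤ LocCoh.depth (Localization.AtPrime q) (LocalizedModule q.primeCompl M)) ∧
      {q : PrimeSpectrum R | p ≤ q.asIdeal ∧ f ∉ q.asIdeal ∧
        LocCoh.depth (Localization.AtPrime q.asIdeal)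
          (LocalizedModule q.asIdeal.primeCompl M) = e}.Finite := by
  haveI : IsNoetherianRing (Localization.AtPrime p) :=
    IsLocalization.isNoetherianRing p.primeCompl _ inferInstance
  haveI : Module.Finite (Localization.AtPrime p) (LocalizedModule p.primeCompl M) :=
    Module.Finite.of_isLocalizedModule p.primeCompl (LocalizedModule.mkLinearMap p.primeCompl M)
  -- a regular sequence of length `e` on `M_p`
  have hne : maximalIdeal (Localization.AtPrime p) •
      (⊤ : Submodule (Localization.AtPrime p) (LocalizedModule p.primeCompl M)) ≠ ⊤ := by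
    intro htop
    unfold LocCoh.depth LocCoh.idealDepth at he
    rw [if_pos htop] at he
    exact ENat.top_ne_natCast e he
  obtain ⟨ts, hlen, hmem, hts⟩ := Groth.Agent.H15.exists_isRegular_of_le_idealDepth
    (I := maximalIdeal (Localization.AtPrime p)) (M := LocalizedModule p.primeCompl M) hne e
    (by unfold LocCoh.depth at he; rw [he])
  obtain ⟨xs, hxlen, hxp, hxreg⟩ :=
    Groth.Agent.H29.SpreadReg.exists_list_of_isWeaklyRegular p ts M hts.toIsWeaklyRegular hmem
  have hxreg' : IsWeaklyRegular (LocalizedModule p.primeCompl M) xs :=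
    (isWeaklyRegular_map_algebraMap_iff (Localization.AtPrime p) _ xs).mp hxreg
  obtain ⟨f, hfp, hf⟩ := Groth.Agent.H9.isWeaklyRegular_localizedModule_spread xs p M hxreg'
  have hlen' : xs.length = e := hxlen.trans hlen
  set N := M ⧸ (Ideal.ofList xs • (⊤ : Submodule R M)) with hN
  have hkey : ∀ (q : Ideal R) [q.IsPrime], p ≤ q → f ∉ q →
      LocCoh.depth (Localization.AtPrime q) (LocalizedModule q.primeCompl N) + (e : ℕ∞) =
        LocCoh.depth (Localization.AtPrime q) (LocalizedModule q.primeCompl M) := by
    intro q _ hpq hfq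
    have := depth_quot_add_length R M xs q (fun x hx => hpq (hxp x hx)) (hf q hfq)
    rw [hlen'] at this
    exact this
  refine ⟨f, hfp, ?_, ?_⟩
  · intro q _ hpq hfq
    rw [← hkey q hpq hfq]
    exact le_add_self
  · have hfin : (associatedPrimes R N).Finite := associatedPrimes.finite R N
    have hfin' : {q : PrimeSpectrum R | q.asIdeal ∈ associatedPrimes R N}.Finite :=
      hfin.preimage (fun a _ b _ hab => PrimeSpectrum.ext hab)
    refine hfin'.subset ?_
    rintro q ⟨hpq, hfq, hd⟩
    have h1 := hkey q.asIdeal hpq hfq
    rw [hd] at h1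
    have h2 : LocCoh.depth (Localization.AtPrime q.asIdeal)
        (LocalizedModule q.asIdeal.primeCompl N) = 0 := by
      have h3 : LocCoh.depth (Localization.AtPrime q.asIdeal)
          (LocalizedModule q.asIdeal.primeCompl N) + (e : ℕ∞) = 0 + (e : ℕ∞) := by
        rw [h1, zero_add]
      exact ENat.add_left_injective_of_ne_top (ENat.natCast_ne_top e) h3
    exact Groth.Agent.H29.SkAt.mem_associatedPrimes_of_depth_eq_zero (A := R) (M := N) q.asIdeal h2

end Groth.Agent.H29.DepthSemicont
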