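import Groth.Agent.H29.Exal
import Mathlib.RingTheory.Ideal.Quotient.Operations

set_option autoImplicit false

namespace Groth.Agent.H29

universe u v

namespace ExalL

open Exal

/-- two surjective algebra maps with the same kernel have isomorphic targets -/
noncomputable def algEquivOfKerEq {R T E E' : Type*} [CommRing R] [CommRing T] [CommRing E]
    [CommRing E'] [Algebra R T] [Algebra R E] [Algebra R E']
    (f : T →ₐ[R] E) (g : T →ₐ[R] E') (hf : Function.Surjective f) (hg : Function.Surjective g)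
    (h : RingHom.ker f = RingHom.ker g) : E ≃ₐ[R] E' :=
  (Ideal.quotientKerAlgEquivOfSurjective hf).symm.trans
    ((Ideal.quotientEquivAlgOfEq R h).trans (Ideal.quotientKerAlgEquivOfSurjective hg))

theorem algEquivOfKerEq_apply {R T E E' : Type*} [CommRing R] [CommRing T] [CommRing E]
    [CommRing E'] [Algebra R T] [Algebra R E] [Algebra R E']
    (f : T →ₐ[R] E) (g : T →ₐ[R] E') (hf : Function.Surjective f) (hg : Function.Surjective g)
    (h : RingHom.ker f = RingHom.ker g) (t : T) :
    algEquivOfKerEq f g hf hg h (f t) = g t := by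
  unfold algEquivOfKerEq
  rw [AlgEquiv.trans_apply, AlgEquiv.trans_apply, Ideal.quotientKerAlgEquivOfSurjective_symm_apply,
    Ideal.quotientEquivAlgOfEq_mk, Ideal.quotientKerAlgEquivOfSurjective_mk]

section Psi

attribute [local instance] Exal.opModule Exal.isCentralScalar_opModule

variable {B : Type u} [CommRing B] (J : Ideal B) {M : Type u} [AddCommGroup M]
  [Module (B ⧸ J) M] [Module B M] [IsScalarTower B (B ⧸ J) M]

/-- the inclusion as a `B`-linear map -/
def inclLin (X : Exal.Ext B (B ⧸ J) M) : M →ₗ[B] X.E where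
  toFun := X.incl
  map_add' := map_add X.incl
  map_smul' b z := by
    rw [RingHom.id_apply, Algebra.smul_def, X.isExtension.mul_incl, AlgHom.commutes,
      algebraMap_smul]

/-- the canonical surjection `B ⊕ M → E` -/
noncomputable def psi (X : Exal.Ext B (B ⧸ J) M) : TrivSqZeroExt B M →ₐ[B] X.E :=
  TrivSqZeroExt.liftEquivOfComm ⟨inclLin J X, fun x y => incl_mul_incl X x y⟩

theorem psi_apply (X : Exal.Ext B (B ⧸ J) M) (t : TrivSqZeroExt B M) :
    psi J X t = algebraMap B X.E t.fst + X.incl t.snd := rfl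

theorem proj_psi (X : Exal.Ext B (B ⧸ J) M) (t : TrivSqZeroExt B M) :
    X.proj (psi J X t) = Ideal.Quotient.mk J t.fst := by
  rw [psi_apply, map_add, proj_incl, add_zero, AlgHom.commutes]
  rfl

theorem psi_inr (X : Exal.Ext B (B ⧸ J) M) (z : M) :
    psi J X (TrivSqZeroExt.inr z) = X.incl z := by
  rw [psi_apply, TrivSqZeroExt.fst_inr, TrivSqZeroExt.snd_inr, map_zero, zero_add]

theorem psi_surjective (X : Exal.Ext B (B ⧸ J) M) : Function.Surjective (psi J X) := by
  intro x
  obtain ⟨b, hb⟩ := Ideal.Quotient.mk_surjective (X.proj x)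
  have h0 : X.proj (x - algebraMap B X.E b) = 0 := by
    rw [map_sub, AlgHom.commutes, ← hb, sub_eq_zero]
    rfl
  obtain ⟨z, hz⟩ := (X.isExtension.exact _).1 h0
  refine ⟨TrivSqZeroExt.inl b + TrivSqZeroExt.inr z, ?_⟩
  rw [psi_apply]
  simp only [TrivSqZeroExt.fst_add, TrivSqZeroExt.fst_inl, TrivSqZeroExt.fst_inr, add_zero,
    TrivSqZeroExt.snd_add, TrivSqZeroExt.snd_inl, TrivSqZeroExt.snd_inr, zero_add]
  rw [hz]
  abel

theorem incl_idealToKer (X : Exal.Ext B (B ⧸ J) M) (j : J) :
    X.incl (X.idealToKer J j) = algebraMap B X.E j :=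
  X.incl_kerLift _ (X.proj_algebraMap_eq_zero J j)

theorem mem_ker_psi_iff (X : Exal.Ext B (B ⧸ J) M) (t : TrivSqZeroExt B M) :
    t ∈ RingHom.ker (psi J X) ↔ ∃ h : t.fst ∈ J, t.snd = - X.idealToKer J ⟨t.fst, h⟩ := by
  rw [RingHom.mem_ker]
  constructor
  · intro h0
    have h1 : t.fst ∈ J := by
      have := congrArg X.proj h0
      rw [proj_psi, map_zero] at this
      exact Ideal.Quotient.eq_zero_iff_mem.mp this
    refine ⟨h1, ?_⟩
    apply X.isExtension.incl_injective
    rw [map_neg, incl_idealToKer]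
    rw [psi_apply] at h0
    exact eq_neg_of_add_eq_zero_right h0
  · rintro ⟨h1, h2⟩
    rw [psi_apply, h2, map_neg, incl_idealToKer]
    exact add_neg_cancel _

theorem idealToKer_eq_of_conormalMap_eq (X Y : Exal.Ext B (B ⧸ J) M)
    (h : X.conormalMap J = Y.conormalMap J) : X.idealToKer J = Y.idealToKer J := by
  have hX : (X.conormalMap J).comp (J • ⊤ : Submodule B J).mkQ = X.idealToKer J :=
    Submodule.liftQ_mkQ _ _ _
  have hY : (Y.conormalMap J).comp (J • ⊤ : Submodule B J).mkQ = Y.idealToKer J :=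
    Submodule.liftQ_mkQ _ _ _
  rw [← hX, ← hY, h]

theorem ker_psi_eq (X Y : Exal.Ext B (B ⧸ J) M) (h : X.conormalMap J = Y.conormalMap J) :
    RingHom.ker (psi J X) = RingHom.ker (psi J Y) := by
  ext t
  rw [mem_ker_psi_iff, mem_ker_psi_iff, idealToKer_eq_of_conormalMap_eq J X Y h]

/-- extensions with the same conormal map are equivalent -/
noncomputable def equivOfConormalEq (X Y : Exal.Ext B (B ⧸ J) M)
    (h : X.conormalMap J = Y.conormalMap J) : X.Equiv Y where
  toAlgEquiv := algEquivOfKerEq (psi J X) (psi J Y) (psi_surjective J X) (psi_surjective J Y)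
    (ker_psi_eq J X Y h)
  proj_apply x := by
    obtain ⟨t, rfl⟩ := psi_surjective J X x
    rw [algEquivOfKerEq_apply, proj_psi, proj_psi]
  apply_incl z := by
    rw [← psi_inr, algEquivOfKerEq_apply, psi_inr]

end Psi

end ExalL

end Groth.Agent.H29
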