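import Groth.Agent.H29.Exal
import Mathlib.RingTheory.Ideal.Quotient.Operations
import Mathlib.Algebra.Module.Injective

set_option autoImplicit false

namespace Groth.Agent.H29

universe u v

namespace ExalL

open Exal

section Surj

variable {A : Type u} {B E : Type v} [CommRing A] [CommRing B] [CommRing E] [Algebra A B] [Algebra A E]
  (p : E →ₐ[A] B) (hp : Function.Surjective p)
  (hsq : ∀ x ∈ RingHom.ker p, ∀ y ∈ RingHom.ker p, x * y = 0)

/-- the `B`-action on the square-zero kernel of `p` -/
@[reducible] noncomputable def kerSMul (hp : Function.Surjective p) : SMul B (RingHom.ker p) :=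
  ⟨fun b k => ⟨Function.surjInv hp b * k, (RingHom.ker p).mul_mem_left _ k.2⟩⟩

theorem kerSMul_compat (hp : Function.Surjective p)
    (hsq : ∀ x ∈ RingHom.ker p, ∀ y ∈ RingHom.ker p, x * y = 0)
    (c : E) (x : RingHom.ker p) :
    (kerSMul p hp).smul (p c) x = c • x := by
  apply Subtype.ext
  change Function.surjInv hp (p c) * (x : E) = c * x
  have h1 : Function.surjInv hp (p c) - c ∈ RingHom.ker p := by
    rw [RingHom.mem_ker, map_sub, Function.surjInv_eq hp, sub_self]
  have h2 := hsq _ h1 _ x.2
  rw [sub_mul, sub_eq_zero] at h2
  exact h2

/-- the `B`-module structure on the square-zero kernel of `p` -/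
@[reducible] noncomputable def kerModule (hp : Function.Surjective p)
    (hsq : ∀ x ∈ RingHom.ker p, ∀ y ∈ RingHom.ker p, x * y = 0) : Module B (RingHom.ker p) :=
  letI := kerSMul p hp
  Function.Surjective.moduleLeft (p : E →+* B) hp (fun c x => kerSMul_compat p hp hsq c x)

/-- the extension defined by a surjection with square-zero kernel -/
noncomputable def extOfSurj (hp : Function.Surjective p)
    (hsq : ∀ x ∈ RingHom.ker p, ∀ y ∈ RingHom.ker p, x * y = 0) :
    letI := kerModule p hp hsq
    Exal.Ext A B (RingHom.ker p) :=
  letI := kerModule p hp hsq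
  { E := E
    proj := p
    incl := (RingHom.ker p).subtype.toAddMonoidHom
    isExtension :=
      { proj_surjective := hp
        incl_injective := Subtype.val_injective
        exact := fun x => by
          constructor
          · intro hx
            exact ⟨⟨x, hx⟩, rfl⟩
          · rintro ⟨k, rfl⟩
            exact k.2
        mul_incl := fun x k => by
          have := kerSMul_compat p hp hsq x k
          exact (congrArg Subtype.val this).symm } }

end Surj

end ExalL

end Groth.Agent.H29
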