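import Mathlib

/-!
# Left exactness of `Ext^p(-, Y)` on `J`-killed modules and the evaluation map

Let `A` be a noetherian ring, `J` an ideal, `Y` an `A`-module and `p` a natural number such that
`Ext^i(N, Y) = 0` for all `i < p` and all finite `N` killed by `J` (`Vanishing Y J p`).  Then for
every finite `M` killed by `J` the map
`Ext^p(M, Y) → Hom_A(Hom_A(A/J, M), Ext^p(A/J, Y))`, `ξ ↦ (u ↦ u^* ξ)` is bijective.
-/

set_option autoImplicit false
set_option linter.style.haveILetI false
universe u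
open CategoryTheory Abelian

namespace Groth.Agent.H29.ExtPres

variable {A : Type u} [CommRing A]

/-- `Ext^i(N, Y) = 0` for `i < p` and `N` finite killed by `J`. -/
def Vanishing (Y : ModuleCat.{u} A) (J : Ideal A) (p : ℕ) : Prop :=
  ∀ (N : Type u) [AddCommGroup N] [Module A N] [Module.Finite A N],
    J • (⊤ : Submodule A N) = ⊥ → ∀ i, i < p → Subsingleton (Ext (ModuleCat.of A N) Y i)

theorem smul_eq_zero_of_killed {J : Ideal A} {N : Type u} [AddCommGroup N] [Module A N]
    (h : J • (⊤ : Submodule A N) = ⊥) {a : A} (ha : a ∈ J) (n : N) : a • n = 0 := by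
  have : a • n ∈ J • (⊤ : Submodule A N) := Submodule.smul_mem_smul ha trivial
  rw [h] at this
  simpa using this

theorem killed_of_forall {J : Ideal A} {N : Type u} [AddCommGroup N] [Module A N]
    (h : ∀ a ∈ J, ∀ n : N, a • n = 0) : J • (⊤ : Submodule A N) = ⊥ := by
  rw [eq_bot_iff, Submodule.smul_le]
  intro a ha n _
  rw [h a ha n]
  exact Submodule.zero_mem _

theorem killed_submodule {J : Ideal A} {N : Type u} [AddCommGroup N] [Module A N]
    (h : J • (⊤ : Submodule A N) = ⊥) (K : Submodule A N) :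
    J • (⊤ : Submodule A K) = ⊥ :=
  killed_of_forall fun a ha n => Subtype.ext (by simpa using smul_eq_zero_of_killed h ha n.1)

theorem killed_pi (J : Ideal A) (n : ℕ) :
    J • (⊤ : Submodule A (Fin n → A ⧸ J)) = ⊥ := by
  refine killed_of_forall fun a ha v => ?_
  funext j
  obtain ⟨b, hb⟩ := Ideal.Quotient.mk_surjective (v j)
  change a • v j = 0
  rw [← hb]
  have h1 : a • (Ideal.Quotient.mk J b) = Ideal.Quotient.mk J (a * b) := rfl
  rw [h1]
  exact Ideal.Quotient.eq_zero_iff_mem.mpr (J.mul_mem_right b ha)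

/-- the linear map `A/J → N`, `1 ↦ x`, for `N` killed by `J`. -/
noncomputable def toPt (J : Ideal A) {N : Type u} [AddCommGroup N] [Module A N]
    (h : J • (⊤ : Submodule A N) = ⊥) (x : N) : (A ⧸ J) →ₗ[A] N :=
  Submodule.liftQ J (LinearMap.toSpanSingleton A N x) (fun a ha => by
    rw [LinearMap.mem_ker, LinearMap.toSpanSingleton_apply]
    exact smul_eq_zero_of_killed h ha x)

@[simp]
theorem toPt_mk (J : Ideal A) {N : Type u} [AddCommGroup N] [Module A N]
    (h : J • (⊤ : Submodule A N) = ⊥) (x : N) (a : A) :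
    toPt J h x (Ideal.Quotient.mk J a) = a • x := by
  change Submodule.liftQ J _ _ (Submodule.Quotient.mk a) = _
  rw [Submodule.liftQ_apply, LinearMap.toSpanSingleton_apply]

theorem hom_ext_quot (J : Ideal A) {N : Type u} [AddCommGroup N] [Module A N]
    {u v : (A ⧸ J) →ₗ[A] N} (h : u 1 = v 1) : u = v := by
  refine LinearMap.ext fun x => ?_
  obtain ⟨a, rfl⟩ := Ideal.Quotient.mk_surjective x
  have : (Ideal.Quotient.mk J a) = a • (1 : A ⧸ J) := by
    rw [Algebra.smul_def, mul_one]
    rfl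
  rw [this, map_smul, map_smul, h]

theorem toPt_apply_one (J : Ideal A) {N : Type u} [AddCommGroup N] [Module A N]
    (h : J • (⊤ : Submodule A N) = ⊥) (u : (A ⧸ J) →ₗ[A] N) :
    toPt J h (u (1 : A ⧸ J)) = u := by
  apply hom_ext_quot
  have := toPt_mk J h (u (1 : A ⧸ J)) (1 : A)
  rw [map_one (Ideal.Quotient.mk J), one_smul] at this
  exact this

section main

variable (Y : ModuleCat.{u} A) (J : Ideal A) (p : ℕ)

/-- pullback of an `Ext` class along a linear map -/
noncomputable abbrev pull {M N : Type u} [AddCommGroup M] [Module A M] [AddCommGroup N] [Module A N]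
    (u : M →ₗ[A] N) (ξ : Ext (ModuleCat.of A N) Y p) : Ext (ModuleCat.of A M) Y p :=
  (Ext.mk₀ (ModuleCat.ofHom u)).comp ξ (zero_add p)

variable {Y J p}

theorem pull_pull {M N P : Type u} [AddCommGroup M] [Module A M] [AddCommGroup N] [Module A N]
    [AddCommGroup P] [Module A P]
    (u : M →ₗ[A] N) (v : N →ₗ[A] P) (ξ : Ext (ModuleCat.of A P) Y p) :
    pull Y p u (pull Y p v ξ) = pull Y p (v ∘ₗ u) ξ := by
  unfold pull
  rw [Ext.mk₀_comp_mk₀_assoc, ← ModuleCat.ofHom_comp]

theorem pull_zero {M N : Type u} [AddCommGroup M] [Module A M] [AddCommGroup N] [Module A N]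
    (ξ : Ext (ModuleCat.of A N) Y p) : pull Y p (0 : M →ₗ[A] N) ξ = 0 := by
  unfold pull
  rw [ModuleCat.ofHom_zero, Ext.mk₀_zero, Ext.zero_comp]

theorem pull_smul_id {M : Type u} [AddCommGroup M] [Module A M] (a : A)
    (ξ : Ext (ModuleCat.of A M) Y p) : pull Y p (a • (LinearMap.id : M →ₗ[A] M)) ξ = a • ξ := by
  unfold pull
  have : ModuleCat.ofHom (a • (LinearMap.id : M →ₗ[A] M)) = a • 𝟙 (ModuleCat.of A M) := rfl
  rw [this, Ext.mk₀_smul, Ext.smul_comp, Ext.mk₀_id_comp]

variable [IsNoetherianRing A]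

/-- injectivity of pullback along a surjection, in degree `p`. -/
theorem pull_injective_of_surjective (hV : Vanishing Y J p)
    {F M : Type u} [AddCommGroup F] [Module A F] [Module.Finite A F] [AddCommGroup M] [Module A M]
    (hF : J • (⊤ : Submodule A F) = ⊥) (f : F →ₗ[A] M) (hf : Function.Surjective f)
    (ξ : Ext (ModuleCat.of A M) Y p) (h : pull Y p f ξ = 0) : ξ = 0 := by
  have hS := LinearMap.shortExact_shortComplexKer hf
  cases p with
  | zero =>
    haveI : Epi (ModuleCat.ofHom f) := (ModuleCat.epi_iff_surjective _).mpr hf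
    have hinj := Ext.precomp_mk₀_injective_of_epi Y (ModuleCat.ofHom f)
    apply hinj
    rw [map_zero]
    exact h
  | succ q =>
    obtain ⟨x₁, hx₁⟩ := Ext.contravariant_sequence_exact₃ hS Y ξ h (n₀ := q) (by omega)
    haveI : Module.Finite A (LinearMap.ker f) := Module.Finite.of_injective _ (LinearMap.ker f).injective_subtype
    have hsub := hV (LinearMap.ker f) (killed_submodule hF _) q (by omega)
    have hx0 : x₁ = 0 := Subsingleton.elim _ _
    rw [← hx₁, hx0, Ext.comp_zero]

omit [IsNoetherianRing A] in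
theorem exists_pull_eq_of_ker
    {F M : Type u} [AddCommGroup F] [Module A F] [AddCommGroup M] [Module A M]
    (f : F →ₗ[A] M) (hf : Function.Surjective f)
    (ξ : Ext (ModuleCat.of A F) Y p) (h : pull Y p (LinearMap.ker f).subtype ξ = 0) :
    ∃ ξ' : Ext (ModuleCat.of A M) Y p, pull Y p f ξ' = ξ :=
  Ext.contravariant_sequence_exact₂ (LinearMap.shortExact_shortComplexKer hf) Y ξ h

section free

variable (J) (n : ℕ)

/-- the `j`-th inclusion `A/J → (A/J)^n` -/
noncomputable abbrev inc (j : Fin n) : (A ⧸ J) →ₗ[A] (Fin n → A ⧸ J) :=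
  LinearMap.single A (fun _ : Fin n => A ⧸ J) j

/-- the `j`-th projection `(A/J)^n → A/J` -/
noncomputable abbrev prj (j : Fin n) : (Fin n → A ⧸ J) →ₗ[A] (A ⧸ J) :=
  LinearMap.proj j

omit [IsNoetherianRing A] in
theorem sum_inc_prj : ∑ j, (inc J n j) ∘ₗ (prj J n j) = LinearMap.id := by
  refine LinearMap.ext fun v => ?_
  funext i
  simp [inc, prj, LinearMap.sum_apply, Finset.sum_apply, Pi.single_apply]

omit [IsNoetherianRing A] in
/-- an `Ext` class on `(A/J)^n` is the sum of its components -/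
theorem eq_sum_pull (ξ : Ext (ModuleCat.of A (Fin n → A ⧸ J)) Y p) :
    ξ = ∑ j, pull Y p (prj J n j) (pull Y p (inc J n j) ξ) := by
  have h1 : ∀ j, pull Y p (prj J n j) (pull Y p (inc J n j) ξ) =
      (Ext.mk₀ (ModuleCat.ofHom ((inc J n j) ∘ₗ (prj J n j)))).comp ξ (zero_add p) :=
    fun j => pull_pull _ _ ξ
  simp_rw [h1]
  rw [← Ext.sum_comp, ← Ext.mk₀_sum]
  have h2 : ∑ j, ModuleCat.ofHom ((inc J n j) ∘ₗ (prj J n j)) =
      𝟙 (ModuleCat.of A (Fin n → A ⧸ J)) := by
    have h3 : ∑ j, ModuleCat.ofHom ((inc J n j) ∘ₗ (prj J n j)) =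
        ModuleCat.ofHom (∑ j, (inc J n j) ∘ₗ (prj J n j)) := by
      refine ModuleCat.hom_ext ?_
      simp
    rw [h3, sum_inc_prj]
    rfl
  rw [h2, Ext.mk₀_id_comp]

omit [IsNoetherianRing A] in
theorem free_injective (ξ : Ext (ModuleCat.of A (Fin n → A ⧸ J)) Y p)
    (h : ∀ j, pull Y p (inc J n j) ξ = 0) : ξ = 0 := by
  rw [eq_sum_pull J n ξ]
  refine Finset.sum_eq_zero fun j _ => ?_
  rw [h j]
  exact Ext.comp_zero _ _ _ _ _

omit [IsNoetherianRing A] in
theorem free_surjective
    (g : ((A ⧸ J) →ₗ[A] (Fin n → A ⧸ J)) →ₗ[A] Ext (ModuleCat.of A (A ⧸ J)) Y p) :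
    ∃ ξ : Ext (ModuleCat.of A (Fin n → A ⧸ J)) Y p,
      ∀ v : (A ⧸ J) →ₗ[A] (Fin n → A ⧸ J), g v = pull Y p v ξ := by
  refine ⟨∑ j, pull Y p (prj J n j) (g (inc J n j)), fun v => ?_⟩
  choose a ha using fun j => Ideal.Quotient.mk_surjective (v (1 : A ⧸ J) j)
  have hv : v = ∑ j, a j • inc J n j := by
    apply hom_ext_quot
    funext i
    simp only [LinearMap.sum_apply, LinearMap.smul_apply, Finset.sum_apply, Pi.smul_apply,
      LinearMap.single_apply, Pi.single_apply]
    rw [Finset.sum_eq_single i (fun b _ hb => by rw [if_neg (Ne.symm hb), smul_zero])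
      (fun h => absurd (Finset.mem_univ i) h), if_pos rfl, ← ha i, Algebra.smul_def, mul_one]
    rfl
  have hcomp : ∀ j, (prj J n j) ∘ₗ v = a j • (LinearMap.id : (A ⧸ J) →ₗ[A] (A ⧸ J)) := by
    intro j
    apply hom_ext_quot
    simp only [LinearMap.comp_apply, LinearMap.proj_apply, LinearMap.smul_apply,
      LinearMap.id_apply]
    rw [← ha j, Algebra.smul_def, mul_one]
    rfl
  unfold pull
  rw [Ext.comp_sum]
  have h1 : ∀ j, (Ext.mk₀ (ModuleCat.ofHom v)).comp
      ((Ext.mk₀ (ModuleCat.ofHom (prj J n j))).comp (g (inc J n j)) (zero_add p)) (zero_add p) =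
      a j • g (inc J n j) := by
    intro j
    have := pull_pull (Y := Y) (p := p) v (prj J n j) (g (inc J n j))
    unfold pull at this
    rw [this, hcomp j]
    exact pull_smul_id (a j) _
  simp_rw [h1]
  conv_lhs => rw [hv]
  rw [map_sum]
  simp_rw [map_smul]

end free

section general

variable (J)

/-- the presentation `(A/J)^n → M` determined by a family of elements -/
noncomputable def pres {M : Type u} [AddCommGroup M] [Module A M]
    (hM : J • (⊤ : Submodule A M) = ⊥) {n : ℕ} (s : Fin n → M) :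
    (Fin n → A ⧸ J) →ₗ[A] M :=
  ∑ j, (toPt J hM (s j)) ∘ₗ (prj J n j)

omit [IsNoetherianRing A] in
theorem pres_comp_inc {M : Type u} [AddCommGroup M] [Module A M]
    (hM : J • (⊤ : Submodule A M) = ⊥) {n : ℕ} (s : Fin n → M) (j : Fin n) :
    (pres J hM s) ∘ₗ (inc J n j) = toPt J hM (s j) := by
  apply hom_ext_quot
  simp only [pres, LinearMap.comp_apply, LinearMap.sum_apply, LinearMap.proj_apply,
    LinearMap.single_apply, Pi.single_apply]
  rw [Finset.sum_eq_single j (fun b _ hb => by rw [if_neg hb, map_zero])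
    (fun h => absurd (Finset.mem_univ j) h), if_pos rfl]

omit [IsNoetherianRing A] in
theorem pres_surjective {M : Type u} [AddCommGroup M] [Module A M]
    (hM : J • (⊤ : Submodule A M) = ⊥) {n : ℕ} (s : Fin n → M)
    (hs : Submodule.span A (Set.range s) = ⊤) : Function.Surjective (pres J hM s) := by
  rw [← LinearMap.range_eq_top, eq_top_iff, ← hs, Submodule.span_le]
  rintro _ ⟨j, rfl⟩
  refine ⟨inc J n j (1 : A ⧸ J), ?_⟩
  have := congrArg (fun f => f (1 : A ⧸ J)) (pres_comp_inc J hM s j)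
  simp only [LinearMap.comp_apply] at this
  rw [this]
  have h1 := toPt_mk J hM (s j) (1 : A)
  rw [map_one (Ideal.Quotient.mk J), one_smul] at h1
  exact h1

variable {J}

/-- injectivity of `ξ ↦ (u ↦ u^* ξ)` -/
theorem eval_injective (hV : Vanishing Y J p)
    {M : Type u} [AddCommGroup M] [Module A M] [Module.Finite A M]
    (hM : J • (⊤ : Submodule A M) = ⊥) (ξ : Ext (ModuleCat.of A M) Y p)
    (h : ∀ u : (A ⧸ J) →ₗ[A] M, pull Y p u ξ = 0) : ξ = 0 := by
  obtain ⟨n, s, hs⟩ := Module.Finite.exists_fin (R := A) (M := M)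
  have hsurj := pres_surjective J hM s hs
  refine pull_injective_of_surjective hV (killed_pi J n) (pres J hM s) hsurj ξ ?_
  refine free_injective J n _ fun j => ?_
  rw [pull_pull, pres_comp_inc]
  exact h _

/-- surjectivity of `ξ ↦ (u ↦ u^* ξ)` -/
theorem eval_surjective (hV : Vanishing Y J p)
    {M : Type u} [AddCommGroup M] [Module A M] [Module.Finite A M]
    (hM : J • (⊤ : Submodule A M) = ⊥)
    (g : ((A ⧸ J) →ₗ[A] M) →ₗ[A] Ext (ModuleCat.of A (A ⧸ J)) Y p) :
    ∃ ξ : Ext (ModuleCat.of A M) Y p, ∀ u : (A ⧸ J) →ₗ[A] M, g u = pull Y p u ξ := by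
  obtain ⟨n, s, hs⟩ := Module.Finite.exists_fin (R := A) (M := M)
  set f := pres J hM s with hf
  have hsurj : Function.Surjective f := pres_surjective J hM s hs
  have hF := killed_pi J n
  let gF : ((A ⧸ J) →ₗ[A] (Fin n → A ⧸ J)) →ₗ[A] Ext (ModuleCat.of A (A ⧸ J)) Y p :=
    { toFun := fun v => g (f ∘ₗ v)
      map_add' := fun v w => by rw [LinearMap.comp_add, map_add]
      map_smul' := fun a v => by rw [LinearMap.comp_smul, map_smul, RingHom.id_apply] }
  obtain ⟨ξF, hξF⟩ := free_surjective (Y := Y) (p := p) J n gF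
  haveI : Module.Finite A (LinearMap.ker f) :=
    Module.Finite.of_injective _ (LinearMap.ker f).injective_subtype
  have hK : pull Y p (LinearMap.ker f).subtype ξF = 0 := by
    refine eval_injective hV (killed_submodule hF _) _ fun w => ?_
    rw [pull_pull, ← hξF]
    change g (f ∘ₗ ((LinearMap.ker f).subtype ∘ₗ w)) = 0
    have : f ∘ₗ ((LinearMap.ker f).subtype ∘ₗ w) = 0 := by
      refine LinearMap.ext fun x => ?_
      exact (w x).2
    rw [this, map_zero]
  obtain ⟨ξ, hξ⟩ := exists_pull_eq_of_ker f hsurj ξF hK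
  refine ⟨ξ, fun u => ?_⟩
  obtain ⟨x, hx⟩ := hsurj (u (1 : A ⧸ J))
  have huv : f ∘ₗ (toPt J hF x) = u := by
    apply hom_ext_quot
    have h1 := toPt_mk J hF x (1 : A)
    rw [map_one (Ideal.Quotient.mk J), one_smul] at h1
    rw [LinearMap.comp_apply, h1, hx]
  rw [← huv, ← pull_pull, hξ, ← hξF]
  rfl

end general

end main

end Groth.Agent.H29.ExtPres
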