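import Mathlib
import Groth.Prelude.Def_CAlg
import Groth.Prelude.Def_EGA4b
import Groth.Agent.H72.FlatCM

set_option autoImplicit false
set_option linter.style.haveILetI false
universe u

namespace Groth.Agent.H29.FibDimBC

open IsLocalRing

section MinPrime

variable {T : Type u} [CommRing T]

/-- If `q` is a minimal prime over `I`, then `T_q / I T_q` has dimension zero. -/
theorem ringKrullDim_quotient_map_eq_zero_of_mem_minimalPrimes (I : Ideal T) (q : Ideal T)
    [q.IsPrime] (hq : q ∈ I.minimalPrimes) :
    ringKrullDim (Localization.AtPrime q ⧸ I.map (algebraMap T (Localization.AtPrime q))) = 0 := by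
  set B := Localization.AtPrime q
  set mB : Ideal B := I.map (algebraMap T B) with hmB
  have hle : mB ≤ maximalIdeal B := by
    rw [← Localization.AtPrime.map_eq_maximalIdeal]
    exact Ideal.map_mono hq.1.2
  have hne : mB ≠ ⊤ := fun h =>
    (IsLocalRing.maximalIdeal.isMaximal B).ne_top (top_le_iff.mp (h ▸ hle))
  haveI : Nontrivial (B ⧸ mB) := Ideal.Quotient.nontrivial_iff.mpr hne
  have hdim : Ring.KrullDimLE 0 (B ⧸ mB) := by
    apply Ring.KrullDimLE.mk₀
    intro Q hQ
    set Q' : Ideal B := Q.comap (Ideal.Quotient.mk mB) with hQ'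
    haveI : Q'.IsPrime := Ideal.comap_isPrime _ _
    have hmQ : mB ≤ Q' := by
      intro x hx
      rw [hQ', Ideal.mem_comap, Ideal.Quotient.eq_zero_iff_mem.mpr hx]
      exact Q.zero_mem
    set q' : Ideal T := Q'.under T with hq'
    haveI : q'.IsPrime := Ideal.comap_isPrime _ _
    have hq'q : q' ≤ q := by
      have h1 : Q' ≤ maximalIdeal B :=
        IsLocalRing.le_maximalIdeal (Ideal.IsPrime.ne_top inferInstance)
      have h2 : Q'.under T ≤ (maximalIdeal B).under T :=
        Ideal.comap_mono (f := algebraMap T B) h1
      rwa [Localization.AtPrime.under_maximalIdeal] at h2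
    have hIq' : I ≤ q' := by
      rw [hq', Ideal.under_def, ← Ideal.map_le_iff_le_comap]
      exact hmQ
    have heq : q' = q := le_antisymm hq'q (hq.2 ⟨inferInstance, hIq'⟩ hq'q)
    have hQ'max : Q' = maximalIdeal B := by
      rw [← IsLocalization.map_under q.primeCompl B Q', ← hq', heq,
        Localization.AtPrime.map_eq_maximalIdeal]
    have hQeq : Q = (maximalIdeal B).map (Ideal.Quotient.mk mB) := by
      rw [← hQ'max, hQ', Ideal.map_comap_of_surjective _ Ideal.Quotient.mk_surjective]
    rw [hQeq]
    rcases Ideal.map_eq_top_or_isMaximal_of_surjective (Ideal.Quotient.mk mB)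
      Ideal.Quotient.mk_surjective (IsLocalRing.maximalIdeal.isMaximal B) with h | h
    · exfalso
      rw [← hQeq] at h
      exact hQ.ne_top h
    · exact h
  apply le_antisymm
  · exact (Ring.krullDimLE_iff (n := 0)).mp hdim
  · exact ringKrullDim_nonneg_of_nontrivial

end MinPrime

section Flat

variable (A B : Type u) [CommRing A] [CommRing B] [IsNoetherianRing A] [IsNoetherianRing B]
  [Algebra A B] [Module.Flat A B]

/-- Dimension formula for a flat map of Noetherian rings, in terms of the fibre local ring. -/
theorem ringKrullDim_atPrime_eq_add_fibLocRing (q : Ideal B) [q.IsPrime] :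
    ringKrullDim (Localization.AtPrime q) =
      ringKrullDim (Localization.AtPrime (q.comap (algebraMap A B))) +
        ringKrullDim (EGA4.FibLocRing A B q) := by
  haveI : q.LiesOver (q.comap (algebraMap A B)) := ⟨rfl⟩
  letI := Localization.AtPrime.algebraOfLiesOver (q.comap (algebraMap A B)) q
  haveI : IsLocalHom (algebraMap (Localization.AtPrime (q.comap (algebraMap A B)))
      (Localization.AtPrime q)) := inferInstance
  haveI : Module.Flat (Localization.AtPrime (q.comap (algebraMap A B)))
      (Localization.AtPrime q) := inferInstance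
  have hI : (maximalIdeal (Localization.AtPrime (q.comap (algebraMap A B)))).map
      (algebraMap (Localization.AtPrime (q.comap (algebraMap A B))) (Localization.AtPrime q)) =
      (q.comap (algebraMap A B)).map (algebraMap A (Localization.AtPrime q)) := by
    rw [← Localization.AtPrime.map_eq_maximalIdeal, Ideal.map_map, ← IsScalarTower.algebraMap_eq]
  rw [Groth.Agent.H72.FlatCM.ringKrullDim_eq_add_of_flat
    (A := Localization.AtPrime (q.comap (algebraMap A B))) (B := Localization.AtPrime q)]
  congr 1
  exact ringKrullDim_eq_of_ringEquiv (Ideal.quotEquivOfEq hI)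

end Flat

end Groth.Agent.H29.FibDimBC
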