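import Groth.Agent.H2.InjModMax
import Groth.Agent.H29.DimL3
import Mathlib.RingTheory.Regular.RegularSequence
import Mathlib.RingTheory.Nakayama

set_option autoImplicit false

namespace Groth.Agent.H29

namespace FlatReg

universe u

open IsLocalRing RingTheory.Sequence Groth.Agent.H29.DimL Pointwise

variable {A B : Type u} [CommRing A] [CommRing B] [IsLocalRing A] [IsLocalRing B]
    [IsNoetherianRing B] [Algebra A B] [IsLocalHom (algebraMap A B)]

/-- `N/fN` as `A`-module for the `A`-linear map `f • ·` -/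
noncomputable def quotRangeEquiv (N : Type u) [AddCommGroup N] [Module B N] [Module A N]
    [IsScalarTower A B N] (f : B) :
    (N ⧸ LinearMap.range ((LinearMap.lsmul B N f).restrictScalars A)) ≃ₗ[A]
      N ⧸ (Ideal.span {f} • ⊤ : Submodule B N) :=
  Submodule.quotEquivOfEq _ ((Ideal.span {f} • ⊤ : Submodule B N).restrictScalars A) (by
    ext x
    rw [Submodule.restrictScalars_mem, Submodule.ideal_span_singleton_smul,
      Submodule.mem_smul_pointwise_iff_exists]
    simp only [LinearMap.mem_range, LinearMap.coe_restrictScalars, LinearMap.lsmul_apply,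
      Submodule.mem_top, true_and]) ≪≫ₗ
  Submodule.Quotient.restrictScalarsEquiv A _

theorem step (N : Type u) [AddCommGroup N] [Module B N] [Module A N]
    [IsScalarTower A B N] [Module.Finite B N] [Module.Flat A N] (f : B)
    (hf : IsSMulRegular (N ⧸ ((maximalIdeal A).map (algebraMap A B) • (⊤ : Submodule B N))) f) :
    IsSMulRegular N f ∧ Module.Flat A (N ⧸ (Ideal.span {f} • ⊤ : Submodule B N)) := by
  have h : Function.Injective
      (((LinearMap.lsmul B N f).restrictScalars A).lTensor (A ⧸ maximalIdeal A)) := by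
    rw [Groth.Agent.H2.lTensor_quotient_injective_iff]
    intro x hx
    rw [← Groth.Agent.H2.mem_map_smul_top_iff (S := B)] at hx ⊢
    rw [← Submodule.Quotient.mk_eq_zero] at hx ⊢
    apply hf
    simp only [smul_zero]
    rw [← Submodule.Quotient.mk_smul]
    exact hx
  obtain ⟨hinj, hflat⟩ := Groth.Agent.H2.injective_and_flat_of_injective_residue B
    ((LinearMap.lsmul B N f).restrictScalars A) h
  exact ⟨hinj, Module.Flat.of_linearEquiv (quotRangeEquiv (A := A) N f).symm⟩

/-- `(M/IM)/J(M/IM) ≃ (M/JM)/I(M/JM)` -/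
noncomputable def quotQuotComm (M : Type u) [AddCommGroup M] [Module B M] (I J : Ideal B) :
    ((M ⧸ (I • ⊤ : Submodule B M)) ⧸ (J • ⊤ : Submodule B (M ⧸ (I • ⊤ : Submodule B M)))) ≃ₗ[B]
    ((M ⧸ (J • ⊤ : Submodule B M)) ⧸ (I • ⊤ : Submodule B (M ⧸ (J • ⊤ : Submodule B M)))) :=
  quotQuotSMulEquiv M I J ≪≫ₗ Submodule.quotEquivOfEq _ _ (by rw [sup_comm]) ≪≫ₗ
    (quotQuotSMulEquiv M J I).symm

theorem main (M : Type u) [AddCommGroup M] [Module B M] [Module A M]
    [IsScalarTower A B M] [Module.Finite B M] [Module.Flat A M] (fs : List B)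
    (hreg : IsWeaklyRegular
      (M ⧸ ((maximalIdeal A).map (algebraMap A B) • (⊤ : Submodule B M))) fs) :
    ∀ i (_ : i ≤ fs.length), Module.Flat A (M ⧸ (Ideal.ofList (fs.take i) • (⊤ : Submodule B M))) ∧
      ∀ h : i < fs.length, IsSMulRegular (M ⧸ (Ideal.ofList (fs.take i) • (⊤ : Submodule B M))) fs[i] := by
  have stepi : ∀ i (h : i < fs.length),
      Module.Flat A (M ⧸ (Ideal.ofList (fs.take i) • (⊤ : Submodule B M))) →
      IsSMulRegular (M ⧸ (Ideal.ofList (fs.take i) • (⊤ : Submodule B M))) fs[i] ∧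
      Module.Flat A (M ⧸ (Ideal.ofList (fs.take (i + 1)) • (⊤ : Submodule B M))) := by
    intro i h hflat
    have h1 := hreg.regular_mod_prev i h
    have h2 := ((quotQuotComm M ((maximalIdeal A).map (algebraMap A B))
      (Ideal.ofList (fs.take i))).isSMulRegular_congr fs[i]).mp h1
    obtain ⟨h3, h4⟩ := step (A := A) (M ⧸ (Ideal.ofList (fs.take i) • (⊤ : Submodule B M))) fs[i] h2
    refine ⟨h3, ?_⟩
    have e : ((M ⧸ (Ideal.ofList (fs.take i) • (⊤ : Submodule B M))) ⧸
        (Ideal.span {fs[i]} • ⊤ : Submodule B (M ⧸ (Ideal.ofList (fs.take i) • (⊤ : Submodule B M)))))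
        ≃ₗ[B] M ⧸ (Ideal.ofList (fs.take (i + 1)) • (⊤ : Submodule B M)) :=
      quotQuotSMulEquiv M (Ideal.ofList (fs.take i)) (Ideal.span {fs[i]}) ≪≫ₗ
        Submodule.quotEquivOfEq _ _ (by
          rw [List.take_succ_eq_append_getElem h, Ideal.ofList_append, Ideal.ofList_singleton])
    exact Module.Flat.of_linearEquiv (e.restrictScalars A).symm
  intro i
  induction i with
  | zero =>
    intro hi
    have h0 : Module.Flat A (M ⧸ (Ideal.ofList (fs.take 0) • (⊤ : Submodule B M))) := by
      have e : M ≃ₗ[B] M ⧸ (Ideal.ofList (fs.take 0) • (⊤ : Submodule B M)) :=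
        (Submodule.quotEquivOfEqBot _ (by
          rw [List.take_zero, Ideal.ofList_nil, Submodule.bot_smul])).symm
      exact Module.Flat.of_linearEquiv (e.restrictScalars A).symm
    exact ⟨h0, fun h => (stepi 0 h h0).1⟩
  | succ i ih =>
    intro hi
    have hlt : i < fs.length := hi
    have h1 := (stepi i hlt (ih hlt.le).1).2
    exact ⟨h1, fun h => (stepi (i + 1) h h1).1⟩

section

variable {A B : Type u} [CommRing A] [CommRing B] [Algebra A B]

theorem mem_smul_of_flat_quotient (M : Type u) [AddCommGroup M] [Module B M] [Module A M]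
    [IsScalarTower A B M] [Module.Flat A M] (R : Submodule B M) (hR : Module.Flat A (M ⧸ R))
    (I : Ideal A) (x : R) (hx : (x : M) ∈ I • (⊤ : Submodule A M)) :
    x ∈ I • (⊤ : Submodule A R) := by
  have h1 : Groth.Agent.H2.Tor1Zero A (A ⧸ I) (M ⧸ R) := Groth.Agent.H2.tor1Zero_of_flat_right
  have h2 := (Groth.Agent.H2.tor1Zero_iff_right (N := A ⧸ I) (R.subtype.restrictScalars A)
    (R.mkQ.restrictScalars A) (Submodule.subtype_injective R)
    (LinearMap.exact_subtype_mkQ R) (Submodule.mkQ_surjective R)).mp h1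
  exact (Groth.Agent.H2.lTensor_quotient_injective_iff I _).mp h2 x hx

theorem coe_mem_map_smul (M : Type u) [AddCommGroup M] [Module B M] [Module A M]
    [IsScalarTower A B M] (R : Submodule B M) (I : Ideal A) (x : R)
    (hx : x ∈ I • (⊤ : Submodule A R)) : (x : M) ∈ I.map (algebraMap A B) • R := by
  refine Submodule.smul_induction_on hx ?_ ?_
  · intro a ha y _
    rw [Submodule.coe_smul_of_tower, ← algebraMap_smul B a (y : M)]
    exact Submodule.smul_mem_smul (Ideal.mem_map_of_mem _ ha) y.2
  · intro y z hy hz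
    rw [Submodule.coe_add]
    exact Submodule.add_mem _ hy hz

end

variable {A B : Type u} [CommRing A] [CommRing B] [IsLocalRing A] [IsLocalRing B]
    [IsNoetherianRing B] [Algebra A B] [IsLocalHom (algebraMap A B)]

theorem eq_ofList_smul_top (M : Type u) [AddCommGroup M] [Module B M] [Module A M]
    [IsScalarTower A B M] [Module.Finite B M] [Module.Flat A M] (R : Submodule B M)
    (hR : Module.Flat A (M ⧸ R)) (fs : List B)
    (h1 : Ideal.ofList fs • (⊤ : Submodule B M) ≤ R)
    (h3 : Ideal.ofList fs • (⊤ : Submodule B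
        (M ⧸ ((maximalIdeal A).map (algebraMap A B) • (⊤ : Submodule B M)))) =
      R.map ((maximalIdeal A).map (algebraMap A B) • (⊤ : Submodule B M)).mkQ) :
    R = Ideal.ofList fs • (⊤ : Submodule B M) := by
  apply le_antisymm _ h1
  have hle : (maximalIdeal A).map (algebraMap A B) ≤ Ideal.jacobson ⊥ := by
    rw [IsLocalRing.jacobson_eq_maximalIdeal ⊥ bot_ne_top]
    exact ((IsLocalRing.local_hom_TFAE (algebraMap A B)).out 0 2).mp ‹_›
  have hfg : R.FG := IsNoetherian.noetherian R
  apply Submodule.le_of_le_smul_of_le_jacobson_bot hfg hle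
  intro x hx
  have hx1 : ((maximalIdeal A).map (algebraMap A B) • (⊤ : Submodule B M)).mkQ x ∈
      Ideal.ofList fs • (⊤ : Submodule B
        (M ⧸ ((maximalIdeal A).map (algebraMap A B) • (⊤ : Submodule B M)))) := by
    rw [h3]
    exact Submodule.mem_map_of_mem hx
  have hmap : Ideal.ofList fs • (⊤ : Submodule B
      (M ⧸ ((maximalIdeal A).map (algebraMap A B) • (⊤ : Submodule B M)))) =
      (Ideal.ofList fs • (⊤ : Submodule B M)).map
        ((maximalIdeal A).map (algebraMap A B) • (⊤ : Submodule B M)).mkQ := by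
    rw [Submodule.map_smul'', Submodule.map_top, Submodule.range_mkQ]
  rw [hmap] at hx1
  obtain ⟨j, hj, hjx⟩ := hx1
  have hy : x - j ∈ (maximalIdeal A).map (algebraMap A B) • (⊤ : Submodule B M) := by
    rw [← Submodule.Quotient.mk_eq_zero, Submodule.Quotient.mk_sub]
    exact sub_eq_zero.mpr hjx.symm
  rw [Groth.Agent.H2.mem_map_smul_top_iff] at hy
  have hyR : x - j ∈ R := Submodule.sub_mem _ hx (h1 hj)
  have hy2 := mem_smul_of_flat_quotient (A := A) M R hR (maximalIdeal A) ⟨x - j, hyR⟩ hy
  have hy3 := coe_mem_map_smul (A := A) M R (maximalIdeal A) ⟨x - j, hyR⟩ hy2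
  have : x = j + (x - j) := by abel
  rw [this]
  exact Submodule.add_mem_sup hj hy3

end FlatReg

end Groth.Agent.H29
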