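import Mathlib
import Groth.Prelude.Def_CAlg
import Groth.Agent.H70.RegFibre.Local

/-!
# Depth of a flat essentially finitely presented local algebra is at least the depth of its
closed fibre (helper29)
-/

set_option autoImplicit false
universe u
open RingTheory.Sequence IsLocalRing

namespace Groth.Agent.H29.FibreDepth

/-- extraction of a long weakly regular sequence from a lower bound on the depth -/
theorem exists_isWeaklyRegular_of_le_idealDepth {D : Type u} [CommRing D] [IsLocalRing D] (n : ℕ)
    (h : (n : ℕ∞) ≤ LocCoh.idealDepth (maximalIdeal D) D) :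
    ∃ ds : List D, IsWeaklyRegular D ds ∧ (∀ d ∈ ds, d ∈ maximalIdeal D) ∧ n ≤ ds.length := by
  rcases Nat.eq_zero_or_pos n with rfl | hn
  · exact ⟨[], IsWeaklyRegular.nil D D, by simp, le_rfl⟩
  unfold LocCoh.idealDepth at h
  have hne : ¬ ((maximalIdeal D) • (⊤ : Submodule D D) = ⊤) := by
    rw [Ideal.smul_eq_mul, Ideal.mul_top]
    exact Ideal.IsPrime.ne_top'
  rw [if_neg hne] at h
  by_contra hcon
  simp only [not_exists, not_and, not_le] at hcon
  have hle : (⨆ (rs : List D) (_ : IsWeaklyRegular D rs ∧ ∀ r ∈ rs, r ∈ maximalIdeal D),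
      (rs.length : ℕ∞)) ≤ ((n - 1 : ℕ) : ℕ∞) := by
    refine iSup₂_le (fun rs hrs => ?_)
    have := hcon rs hrs.1 hrs.2
    exact_mod_cast Nat.le_sub_one_of_lt this
  have h2 := h.trans hle
  have h3 : n ≤ n - 1 := by exact_mod_cast h2
  omega

variable {R C D : Type u} [CommRing R] [CommRing C] [CommRing D] [IsLocalRing R] [IsLocalRing C]
  [IsLocalRing D] [Algebra R C] [IsLocalHom (algebraMap R C)]

/-- **Depth of the total space is at least the depth of the fibre** (flat, essentially finitely
presented local homomorphism). -/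
theorem le_depth_of_le_depth_fibre (hS : CAlgX.IsEssFinitePresentation R C) [Module.Flat R C]
    (e : (C ⧸ (maximalIdeal R).map (algebraMap R C)) ≃+* D) (n : ℕ)
    (h : (n : ℕ∞) ≤ LocCoh.idealDepth (maximalIdeal D) D) :
    (n : ℕ∞) ≤ LocCoh.depth C C := by
  obtain ⟨ds, hds, hdm, hlen⟩ := exists_isWeaklyRegular_of_le_idealDepth n h
  set J : Ideal C := (maximalIdeal R).map (algebraMap R C) with hJ
  let π : C →+* D := e.toRingHom.comp (Ideal.Quotient.mk J)
  have hπ : Function.Surjective π := e.surjective.comp Ideal.Quotient.mk_surjective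
  set gs : List C := ds.map (Function.surjInv hπ) with hgs
  have hmap : gs.map π = ds := by
    rw [hgs, List.map_map]
    conv_rhs => rw [← List.map_id ds]
    apply List.map_congr_left
    intro d _
    exact Function.surjInv_eq hπ d
  have eJ : (J • (⊤ : Submodule C C)) = J := by
    rw [Ideal.smul_eq_mul, Ideal.mul_top]
  let eadd : (C ⧸ (J • (⊤ : Submodule C C))) ≃+ D :=
    ((Submodule.quotEquivOfEq _ _ eJ).toAddEquiv).trans e.toAddEquiv
  have hfib : IsWeaklyRegular (C ⧸ (J • (⊤ : Submodule C C))) gs := by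
    rw [AddEquiv.isWeaklyRegular_congr (e := eadd) (as := gs) (bs := gs.map π), hmap]
    · exact hds
    · refine List.forall₂_map_right_iff.mpr (List.forall₂_same.mpr (fun g _ x => ?_))
      obtain ⟨c, rfl⟩ := Submodule.Quotient.mk_surjective _ x
      change e (Ideal.Quotient.mk J (g * c)) = e (Ideal.Quotient.mk J g) * e (Ideal.Quotient.mk J c)
      rw [map_mul, map_mul]
  have hreg := (Groth.Agent.H70.RegFibre.isWeaklyRegular_and_flat_of_fibre hS gs C hfib).1
  have hmem : ∀ g ∈ gs, g ∈ maximalIdeal C := by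
    intro g hg
    have h1 : π g ∈ ds := by
      rw [← hmap]
      exact List.mem_map_of_mem hg
    have h2 := hdm _ h1
    rw [mem_maximalIdeal, mem_nonunits_iff] at h2 ⊢
    intro hu
    exact h2 (hu.map π)
  have hlen' : gs.length = ds.length := by rw [hgs, List.length_map]
  unfold LocCoh.depth LocCoh.idealDepth
  split_ifs
  · exact le_top
  · refine le_trans ?_ (le_iSup₂_of_le gs ⟨hreg, hmem⟩ le_rfl)
    rw [hlen']
    exact_mod_cast hlen

end Groth.Agent.H29.FibreDepth
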