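import Mathlib
import Groth.Prelude.Def_CInt
import Groth.Agent.H29.FibreDepth
import Groth.Agent.H14.RegularCM
import Groth.Agent.H39.SmoothStalk
import Groth.Agent.H49.FibreStalk
import Groth.Agent.H70.StalkFibre.Main

/-!
# Depth of the local rings of a smooth family from the dimension of the fibre local rings
(helper29)
-/

set_option autoImplicit false
universe u
open CategoryTheory CategoryTheory.Limits AlgebraicGeometry TopologicalSpace
open RingTheory.Sequence IsLocalRing TensorProduct

namespace Groth.Agent.H29.FibreDepth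

theorem isRegularLocalRing_stalk_spec_field (K : Type u) [Field K] (p : Spec (CommRingCat.of K)) :
    IsRegularLocalRing ((Spec (CommRingCat.of K)).presheaf.stalk p) := by
  obtain rfl : p = IsLocalRing.closedPoint K := Subsingleton.elim _ _
  let e : (Spec (CommRingCat.of K)).presheaf.stalk (IsLocalRing.closedPoint K) ≃+* K :=
    (stalkClosedPointIso (CommRingCat.of K)).commRingCatIsoToRingEquiv
  exact IsRegularLocalRing.of_ringEquiv e.symm

/-- the local rings of the fibres of a smooth morphism are regular -/
theorem isRegularLocalRing_fiberStalk {P S : Scheme.{u}} (f : P ⟶ S) [Smooth f] (x : P) :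
    IsRegularLocalRing (CInt.fiberStalk f x) := by
  have hsm' : Smooth (f.fiberToSpecResidueField (f x)) :=
    MorphismProperty.pullback_snd _ _ inferInstance
  apply Groth.Agent.H39.SmoothStalk.isRegularLocalRing_stalk_of_mem_smoothLocus
    (f.fiberToSpecResidueField (f x)) (f.asFiber x)
  · rw [Scheme.Hom.smoothLocus_eq_top]; trivial
  · exact isRegularLocalRing_stalk_spec_field _ _

/-- **Depth of a smooth family**: the depth of `O_{P,x}` is at least the dimension of the local
ring of the fibre through `x`. -/
theorem le_depth_stalk_of_smooth {P S : Scheme.{u}} (f : P ⟶ S) [Smooth f] (x : P) (n : ℕ)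
    (hx : (n : WithBot ℕ∞) ≤ ringKrullDim (CInt.fiberStalk f x)) :
    (n : ℕ∞) ≤ LocCoh.depth (P.presheaf.stalk x) (P.presheaf.stalk x) := by
  have hD := isRegularLocalRing_fiberStalk f x
  have h1 := Groth.Agent.H14.ringKrullDim_le_idealDepth_of_isRegularLocalRing
    (CInt.fiberStalk f x)
  have h2 : (n : ℕ∞) ≤ LocCoh.idealDepth (IsLocalRing.maximalIdeal (CInt.fiberStalk f x))
      (CInt.fiberStalk f x) := by
    have h3 : ((n : ℕ∞) : WithBot ℕ∞) ≤ ((LocCoh.idealDepth
        (IsLocalRing.maximalIdeal (CInt.fiberStalk f x)) (CInt.fiberStalk f x) : ℕ∞) :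
          WithBot ℕ∞) := hx.trans h1
    exact WithBot.coe_le_coe.mp h3
  let _ : Algebra (S.presheaf.stalk (f x)) (P.presheaf.stalk x) := (f.stalkMap x).hom.toAlgebra
  have : IsLocalHom (algebraMap (S.presheaf.stalk (f x)) (P.presheaf.stalk x)) :=
    inferInstanceAs (IsLocalHom (f.stalkMap x).hom)
  have : Module.Flat (S.presheaf.stalk (f x)) (P.presheaf.stalk x) := Flat.stalkMap f x
  have hess := Groth.Agent.H70.StalkFibre.isEssFinitePresentation_stalk f x
  have e := Groth.Agent.H49.FibreStalk.quotientEquivStalkAsFiber f x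
  exact le_depth_of_le_depth_fibre hess e n h2

/-- depth of a flat module is at least the depth of the ring -/
theorem le_depth_of_flat {C M : Type u} [CommRing C] [IsLocalRing C] [AddCommGroup M] [Module C M]
    [Module.Flat C M] (n : ℕ) (h : (n : ℕ∞) ≤ LocCoh.depth C C) : (n : ℕ∞) ≤ LocCoh.depth C M := by
  obtain ⟨rs, hrs, hmem, hlen⟩ := exists_isWeaklyRegular_of_le_idealDepth n h
  have h1 : IsWeaklyRegular (M ⊗[C] C) rs := hrs.isWeaklyRegular_lTensor (M₂ := M)
  have h2 : IsWeaklyRegular M rs := ((TensorProduct.rid C M).isWeaklyRegular_congr rs).mp h1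
  unfold LocCoh.depth LocCoh.idealDepth
  split_ifs
  · exact le_top
  · refine le_trans ?_ (le_iSup₂_of_le rs ⟨h2, hmem⟩ le_rfl)
    exact_mod_cast hlen

end Groth.Agent.H29.FibreDepth
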