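import Mathlib
import Groth.Prelude.Def_CAlg
import Groth.Agent.H15.Depth
import Groth.Agent.H72.DepthFlat
import Groth.Agent.H72.DepthFinite
import Groth.Agent.H72.EquidimFlat
import Groth.Agent.H29.SuppTensor

set_option autoImplicit false
set_option linter.unusedSectionVars false
universe u

open TensorProduct RingTheory.Sequence Groth.Agent.H15

namespace Groth.Agent.H29.FlatDepthImg

section Height

variable {A B : Type u} [CommRing A] [CommRing B] [IsNoetherianRing A] [IsNoetherianRing B]
  [Algebra A B] [Module.Flat A B]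

/-- Going down: the height of the contraction is at most the height. -/
theorem height_comap_le (Q : Ideal B) [Q.IsPrime] :
    (Q.comap (algebraMap A B)).height ≤ Q.height := by
  have : Q.LiesOver (Q.comap (algebraMap A B)) := ⟨rfl⟩
  rw [Ideal.height_eq_height_add_of_liesOver_of_hasGoingDown (Q.comap (algebraMap A B)) Q]
  exact le_self_add

theorem height_map_eq (I : Ideal A)
    (hI : ∀ p : PrimeSpectrum A, I ≤ p.asIdeal →
      ∃ q : PrimeSpectrum B, q.asIdeal.comap (algebraMap A B) = p.asIdeal) :
    (I.map (algebraMap A B)).height = I.height := by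
  apply le_antisymm
  · rw [Ideal.height_eq_inf_minimalPrimes I]
    refine le_iInf₂ fun p hp => ?_
    have hpp : p.IsPrime := hp.1.1
    obtain ⟨q, hq⟩ := hI ⟨p, hpp⟩ hp.1.2
    have hpq : p.map (algebraMap A B) ≤ q.asIdeal := by
      rw [Ideal.map_le_iff_le_comap, hq]
    obtain ⟨Q, hQ, -⟩ := Ideal.exists_minimalPrimes_le hpq
    have hQp : Q.IsPrime := hQ.1.1
    have h1 := Groth.Agent.H72.EquidimFlat.height_eq_of_mem_minimalPrimes_map p Q hQ
    have h2 : (I.map (algebraMap A B)).height ≤ Q.height :=
      Ideal.height_mono ((Ideal.map_mono hp.1.2).trans hQ.1.2)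
    rw [h1] at h2
    exact h2
  · rw [Ideal.height_eq_inf_minimalPrimes (I.map (algebraMap A B))]
    refine le_iInf₂ fun Q hQ => ?_
    have hQp : Q.IsPrime := hQ.1.1
    have h1 : I ≤ Q.comap (algebraMap A B) := Ideal.map_le_iff_le_comap.mp hQ.1.2
    exact (Ideal.height_mono h1).trans (height_comap_le Q)

end Height

section Depth

variable {A B : Type u} [CommRing A] [CommRing B] [IsNoetherianRing A] [IsNoetherianRing B]
  [Algebra A B] [Module.Flat A B]

theorem mem_support_self (q : PrimeSpectrum B) : q ∈ Module.support B B := by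
  rw [Module.support_eq_zeroLocus, Module.annihilator_eq_bot.mpr inferInstance]
  simp

theorem smul_top_tensor_eq_top_iff (I : Ideal A)
    (hI : ∀ p : PrimeSpectrum A, I ≤ p.asIdeal →
      ∃ q : PrimeSpectrum B, q.asIdeal.comap (algebraMap A B) = p.asIdeal)
    (G : Type u) [AddCommGroup G] [Module A G] [Module.Finite A G] :
    I.map (algebraMap A B) • (⊤ : Submodule B (B ⊗[A] G)) = ⊤ ↔
      I • (⊤ : Submodule A G) = ⊤ := by
  rw [← Submodule.Quotient.subsingleton_iff, ← Submodule.Quotient.subsingleton_iff]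
  have e := TensorProduct.tensorQuotMapSMulEquivTensorQuot G B I
  rw [e.toEquiv.subsingleton_congr]
  constructor
  · intro h
    by_contra hcon
    rw [not_subsingleton_iff_nontrivial] at hcon
    obtain ⟨p, hp⟩ := Module.nonempty_support_of_nontrivial (R := A)
      (M := G ⧸ I • (⊤ : Submodule A G))
    have hp' := hp
    rw [Module.support_quotient] at hp'
    obtain ⟨q, hq⟩ := hI p (by
      have := hp'.2
      rwa [PrimeSpectrum.mem_zeroLocus, SetLike.coe_subset_coe] at this)
    have hmem : q ∈ Module.support B (B ⊗[A] (G ⧸ I • (⊤ : Submodule A G))) := by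
      rw [Groth.Agent.H29.SuppTensor.support_tensor]
      refine ⟨mem_support_self q, ?_⟩
      rw [Set.mem_preimage]
      have : PrimeSpectrum.comap (algebraMap A B) q = p := PrimeSpectrum.ext hq
      rw [this]
      exact hp
    rw [Module.support_eq_empty] at hmem
    exact hmem
  · intro h
    infer_instance

theorem idealDepth_le_idealDepth_tensor (I : Ideal A)
    (G : Type u) [AddCommGroup G] [Module A G] [Module.Finite A G]
    (htop : I • (⊤ : Submodule A G) = ⊤ →
      I.map (algebraMap A B) • (⊤ : Submodule B (B ⊗[A] G)) = ⊤) :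
    LocCoh.idealDepth I G ≤ LocCoh.idealDepth (I.map (algebraMap A B)) (B ⊗[A] G) := by
  by_cases h : I • (⊤ : Submodule A G) = ⊤
  · rw [idealDepth_eq_top_of_smul_top_eq _ _ (htop h)]
    exact le_top
  · apply idealDepth_le_of_forall I G h
    intro rs hreg hmem
    have hreg' : IsWeaklyRegular (B ⊗[A] G) (rs.map (algebraMap A B)) :=
      hreg.of_flat_of_isBaseChange (TensorProduct.isBaseChange A G B)
    have := le_idealDepth (I.map (algebraMap A B)) (B ⊗[A] G) hreg' (by
      intro r hr
      obtain ⟨r', hr', rfl⟩ := List.mem_map.mp hr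
      exact Ideal.mem_map_of_mem _ (hmem r' hr'))
    rwa [List.length_map] at this

theorem one_tmul_ne_zero (I : Ideal A)
    (hI : ∀ p : PrimeSpectrum A, I ≤ p.asIdeal →
      ∃ q : PrimeSpectrum B, q.asIdeal.comap (algebraMap A B) = p.asIdeal)
    (G : Type u) [AddCommGroup G] [Module A G] (g : G) (hg : g ≠ 0)
    (hkill : ∀ a ∈ I, a • g = 0) : (1 : B) ⊗ₜ[A] g ≠ 0 := by
  intro h0
  let f : A →ₗ[A] G := LinearMap.toSpanSingleton A G g
  let a : Ideal A := LinearMap.ker f
  have hIa : I ≤ a := by
    intro r hr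
    show f r = 0
    simp only [f, LinearMap.toSpanSingleton_apply]
    exact hkill r hr
  have hane : a ≠ ⊤ := by
    intro htop
    have : (1 : A) ∈ a := htop ▸ Submodule.mem_top
    have h1 : f 1 = 0 := this
    simp only [f, LinearMap.toSpanSingleton_apply, one_smul] at h1
    exact hg h1
  obtain ⟨m, hm, ham⟩ := Ideal.exists_le_maximal a hane
  have hmp : m.IsPrime := hm.isPrime
  obtain ⟨q, hq⟩ := hI ⟨m, hmp⟩ (hIa.trans ham)
  let ι : A ⧸ a →ₗ[A] G := Submodule.liftQ a f le_rfl
  have hι : Function.Injective ι := by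
    rw [← LinearMap.ker_eq_bot]
    exact Submodule.ker_liftQ_eq_bot _ _ _ le_rfl
  have hinj : Function.Injective (ι.lTensor B) :=
    Module.Flat.lTensor_preserves_injective_linearMap ι hι
  have h1 : (1 : B) ⊗ₜ[A] (Submodule.Quotient.mk (1 : A) : A ⧸ a) = 0 := by
    apply hinj
    rw [LinearMap.lTensor_tmul, map_zero]
    have : ι (Submodule.Quotient.mk (1 : A)) = g := by
      simp only [ι, Submodule.liftQ_apply, f, LinearMap.toSpanSingleton_apply, one_smul]
    rw [this]
    exact h0
  have h2 := congrArg (TensorProduct.tensorQuotEquivQuotSMul B a) h1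
  rw [map_zero] at h2
  have h3 : TensorProduct.tensorQuotEquivQuotSMul B a
      ((1 : B) ⊗ₜ[A] (Ideal.Quotient.mk a (1 : A))) = Submodule.Quotient.mk ((1 : A) • (1 : B)) :=
    TensorProduct.tensorQuotEquivQuotSMul_tmul_mk a (1 : B) (1 : A)
  have h4 : (Submodule.Quotient.mk ((1 : A) • (1 : B)) :
      B ⧸ (a • (⊤ : Submodule A B))) = 0 := by
    rw [← h3]
    exact h2
  rw [Submodule.Quotient.mk_eq_zero, one_smul] at h4
  have hle : a • (⊤ : Submodule A B) ≤ q.asIdeal.restrictScalars A := by
    rw [Submodule.smul_le]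
    intro r hr b _
    show r • b ∈ q.asIdeal
    rw [Algebra.smul_def]
    apply Ideal.mul_mem_right
    have : r ∈ q.asIdeal.comap (algebraMap A B) := by
      rw [hq]
      exact ham hr
    exact this
  have h5 : (1 : B) ∈ q.asIdeal := hle h4
  exact q.2.ne_top ((Ideal.eq_top_iff_one _).mpr h5)

theorem le_idealDepth_of_le_idealDepth_tensor (I : Ideal A)
    (hI : ∀ p : PrimeSpectrum A, I ≤ p.asIdeal →
      ∃ q : PrimeSpectrum B, q.asIdeal.comap (algebraMap A B) = p.asIdeal) :
    ∀ (n : ℕ) (G : Type u) [AddCommGroup G] [Module A G] [Module.Finite A G],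
      (n : ℕ∞) ≤ LocCoh.idealDepth (I.map (algebraMap A B)) (B ⊗[A] G) →
        (n : ℕ∞) ≤ LocCoh.idealDepth I G := by
  intro n
  induction n with
  | zero =>
    intro G _ _ _ _
    simp
  | succ n ih =>
    intro G _ _ _ h
    by_cases hIG : I • (⊤ : Submodule A G) = ⊤
    · rw [idealDepth_eq_top_of_smul_top_eq I G hIG]
      exact le_top
    · have hJN : I.map (algebraMap A B) • (⊤ : Submodule B (B ⊗[A] G)) ≠ ⊤ :=
        fun h' => hIG ((smul_top_tensor_eq_top_iff I hI G).mp h')
      have hfin : Module.Finite B (B ⊗[A] G) := inferInstance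
      have h1 : LocCoh.idealDepth I G ≠ 0 := by
        intro h0
        obtain ⟨g, hg, hkill⟩ :=
          Groth.Agent.H72.DepthFlat.exists_killed_of_idealDepth_eq_zero I G h0
        have hne := one_tmul_ne_zero I hI G g hg hkill
        have hk : ∀ b ∈ I.map (algebraMap A B), b • ((1 : B) ⊗ₜ[A] g) = 0 := by
          let K : Ideal B := LinearMap.ker (LinearMap.toSpanSingleton B (B ⊗[A] G) ((1 : B) ⊗ₜ[A] g))
          have hK : I.map (algebraMap A B) ≤ K := by
            rw [Ideal.map_le_iff_le_comap]
            intro r hr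
            show LinearMap.toSpanSingleton B (B ⊗[A] G) ((1 : B) ⊗ₜ[A] g) (algebraMap A B r) = 0
            rw [LinearMap.toSpanSingleton_apply, TensorProduct.smul_tmul', smul_eq_mul, mul_one,
              Algebra.algebraMap_eq_smul_one, TensorProduct.smul_tmul, hkill r hr,
              TensorProduct.tmul_zero]
          intro b hb
          have : b ∈ K := hK hb
          exact this
        have := Groth.Agent.H72.DepthFlat.idealDepth_eq_zero_of_killed
          (I.map (algebraMap A B)) (B ⊗[A] G) hJN _ hne hk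
        rw [this] at h
        simp at h
      have h1' : ((0 + 1 : ℕ) : ℕ∞) ≤ LocCoh.idealDepth I G := by
        simpa using Order.one_le_iff_ne_zero.mpr h1
      obtain ⟨x, hxI, hx⟩ :=
        Groth.Agent.H72.DepthFinite.exists_isSMulRegular_of_one_le_idealDepth I G hIG 0 h1'
      have hx' : IsSMulRegular (B ⊗[A] G) (algebraMap A B x) :=
        hx.of_flat_of_isBaseChange (TensorProduct.isBaseChange A G B)
      have hxJ : algebraMap A B x ∈ I.map (algebraMap A B) := Ideal.mem_map_of_mem _ hxI
      have e := QuotSMulTop.algebraMapTensorEquivTensorQuotSMulTop x G B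
      have h2 := Groth.Agent.H72.DepthFlat.idealDepth_quotSMulTop_add_one
        (I.map (algebraMap A B)) (B ⊗[A] G) (algebraMap A B x) hxJ hx'
      rw [idealDepth_congr e (I.map (algebraMap A B))] at h2
      have h3 := Groth.Agent.H72.DepthFlat.idealDepth_quotSMulTop_add_one I G x hxI hx
      have h4 : (n : ℕ∞) ≤ LocCoh.idealDepth (I.map (algebraMap A B))
          (B ⊗[A] QuotSMulTop x G) := by
        rw [← h2] at h
        have h' : (n : ℕ∞) + 1 ≤ LocCoh.idealDepth (I.map (algebraMap A B))
            (B ⊗[A] QuotSMulTop x G) + 1 := by exact_mod_cast h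
        exact (ENat.add_le_add_iff_right ENat.one_ne_top).mp h'
      have h5 := ih (QuotSMulTop x G) h4
      rw [← h3]
      push_cast
      exact add_le_add_left h5 1

theorem idealDepth_tensor_eq (I : Ideal A)
    (hI : ∀ p : PrimeSpectrum A, I ≤ p.asIdeal →
      ∃ q : PrimeSpectrum B, q.asIdeal.comap (algebraMap A B) = p.asIdeal)
    (G : Type u) [AddCommGroup G] [Module A G] [Module.Finite A G] :
    LocCoh.idealDepth (I.map (algebraMap A B)) (B ⊗[A] G) = LocCoh.idealDepth I G := by
  apply le_antisymm
  · rw [← ENat.forall_natCast_le_iff_le]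
    intro n hn
    exact le_idealDepth_of_le_idealDepth_tensor I hI n G hn
  · exact idealDepth_le_idealDepth_tensor I G (smul_top_tensor_eq_top_iff I hI G).mpr

end Depth

end Groth.Agent.H29.FlatDepthImg
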