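import Groth.Agent.H29.GlDim
import Mathlib.RingTheory.Flat.FaithfullyFlat.Algebra
import Mathlib.RingTheory.LocalRing.Module
import Mathlib.Algebra.Category.ModuleCat.ProjectiveDimension

set_option autoImplicit false

namespace Groth.Agent.H29

namespace FlatPd

universe u

open CategoryTheory Abelian TensorProduct GlDimL

variable {A B : Type u} [CommRing A] [CommRing B] [IsLocalRing A]
    [IsNoetherianRing A] [Algebra A B] [Module.FaithfullyFlat A B]

theorem hasProjectiveDimensionLT_of_baseChange : ∀ (n : ℕ) (M : Type u) [AddCommGroup M]
    [Module A M] [Module.Finite A M],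
    HasProjectiveDimensionLT (ModuleCat.of B (B ⊗[A] M)) (n + 1) →
    HasProjectiveDimensionLT (ModuleCat.of A M) (n + 1) := by
  intro n
  induction n with
  | zero =>
    intro M _ _ _ h
    rw [zero_add, ← projective_iff_hasProjectiveDimensionLT_one,
      ← IsProjective.iff_projective] at h ⊢
    have : Module.Flat B (B ⊗[A] M) := inferInstance
    have : Module.Flat A M := Module.Flat.of_flat_tensorProduct A M B
    have : Module.Free A M := Module.free_of_flat_of_isLocalRing
    infer_instance
  | succ n ih =>
    intro M _ _ _ h
    obtain ⟨k, f, hf⟩ := Module.Finite.exists_fin' A M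
    have hSA := shortExact_of_exact (LinearMap.ker f).subtype f (Submodule.subtype_injective _) hf
      (LinearMap.exact_subtype_ker_map f)
    have hinj : Function.Injective ((LinearMap.ker f).subtype.baseChange B) :=
      Module.Flat.lTensor_preserves_injective_linearMap _ (Submodule.subtype_injective _)
    have hsurj : Function.Surjective (f.baseChange B) := LinearMap.lTensor_surjective _ hf
    have hex : Function.Exact ((LinearMap.ker f).subtype.baseChange B) (f.baseChange B) :=
      lTensor_exact B (LinearMap.exact_subtype_ker_map f) hf
    have hSB := shortExact_of_exact ((LinearMap.ker f).subtype.baseChange B) (f.baseChange B)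
      hinj hsurj hex
    have hpA : Projective (ModuleCat.of A (Fin k → A)) :=
      (IsProjective.iff_projective _).mp inferInstance
    have hpB : Projective (ModuleCat.of B (B ⊗[A] (Fin k → A))) :=
      (IsProjective.iff_projective _).mp inferInstance
    have h1 : HasProjectiveDimensionLT (ModuleCat.of B (B ⊗[A] (LinearMap.ker f))) (n + 1) :=
      (hSB.hasProjectiveDimensionLT_X₃_iff n hpB).mp h
    have h2 := ih (LinearMap.ker f) h1
    exact (hSA.hasProjectiveDimensionLT_X₃_iff n hpA).mpr h2

end FlatPd

end Groth.Agent.H29
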