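import Groth.Agent.H29.FlatReg
import Groth.Agent.S0390
import Mathlib.RingTheory.TensorProduct.Finite

set_option autoImplicit false
set_option linter.unusedSectionVars false

namespace Groth.Agent.H29

namespace FlatReg

universe u

open IsLocalRing RingTheory.Sequence Groth.Agent.H29.DimL Pointwise TensorProduct

variable {A B : Type u} [CommRing A] [CommRing B] [IsLocalRing A] [IsLocalRing B]
    [IsNoetherianRing A] [IsNoetherianRing B] [Algebra A B] [IsLocalHom (algebraMap A B)]

/-- the `B`-linear map `N ⊗ m → N` -/
noncomputable def phi (N : Type u) [AddCommGroup N] [Module B N] [Module A N]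
    [IsScalarTower A B N] (I : Ideal A) : N ⊗[A] I →ₗ[B] N :=
  (AlgebraTensorModule.rid A B N).toLinearMap ∘ₗ AlgebraTensorModule.lTensor B N I.subtype

theorem phi_tmul (N : Type u) [AddCommGroup N] [Module B N] [Module A N]
    [IsScalarTower A B N] (I : Ideal A) (n : N) (a : I) :
    phi (A := A) (B := B) N I (n ⊗ₜ a) = (a : A) • n := rfl

theorem finite_tensor (N : Type u) [AddCommGroup N] [Module B N] [Module A N]
    [IsScalarTower A B N] [Module.Finite B N] (P : Type u) [AddCommGroup P] [Module A P]
    [Module.Finite A P] : Module.Finite B (N ⊗[A] P) :=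
  Module.Finite.equiv (AlgebraTensorModule.cancelBaseChange A B B N P)

theorem flat_of_flat_quotient (N : Type u) [AddCommGroup N] [Module B N] [Module A N]
    [IsScalarTower A B N] [Module.Finite B N] (f : B) (hf : f ∈ maximalIdeal B)
    (hreg : IsSMulRegular N f)
    (hflat : Module.Flat A (N ⧸ (Ideal.span {f} • ⊤ : Submodule B N))) : Module.Flat A N := by
  set m := maximalIdeal A with hm
  have hfin : Module.Finite B (N ⊗[A] m) := finite_tensor (A := A) N m
  set Q := N ⧸ (Ideal.span {f} • ⊤ : Submodule B N) with hQ
  let π : N →ₗ[A] Q := (Submodule.mkQ _).restrictScalars A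
  let mulf : N →ₗ[A] N := (LinearMap.lsmul B N f).restrictScalars A
  have hex : Function.Exact mulf π := by
    intro x
    change Submodule.Quotient.mk x = 0 ↔ _
    rw [Submodule.Quotient.mk_eq_zero, Submodule.ideal_span_singleton_smul,
      Submodule.mem_smul_pointwise_iff_exists]
    simp only [Submodule.mem_top, true_and]
    rfl
  have hπ : Function.Surjective π := Submodule.mkQ_surjective _
  have hex' := rTensor_exact m hex hπ
  have hsmul : ∀ s : N ⊗[A] m, mulf.rTensor m s = f • s := by
    intro s
    induction s using TensorProduct.induction_on with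
    | zero => simp
    | tmul n a => rfl
    | add x y hx hy => rw [map_add, hx, hy, smul_add]
  have hQinj : Function.Injective (phi (A := A) (B := B) Q m) := by
    have h1 : Function.Injective (m.subtype.lTensor Q) :=
      Module.Flat.lTensor_preserves_injective_linearMap _ (Submodule.subtype_injective m)
    exact (AlgebraTensorModule.rid A B Q).injective.comp h1
  have hnat : ∀ s : N ⊗[A] m, phi (A := A) (B := B) Q m (π.rTensor m s) =
      π (phi (A := A) (B := B) N m s) := by
    intro s
    induction s using TensorProduct.induction_on with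
    | zero => simp
    | tmul n a => rfl
    | add x y hx hy => simp only [map_add, hx, hy]
  have hT : LinearMap.ker (phi (A := A) (B := B) N m) = ⊥ := by
    apply Submodule.eq_bot_of_le_smul_of_le_jacobson_bot (maximalIdeal B) _
      (IsNoetherian.noetherian _) _ (IsLocalRing.maximalIdeal_le_jacobson _)
    intro t ht
    rw [LinearMap.mem_ker] at ht
    have h1 : π.rTensor m t = 0 := by
      apply hQinj
      rw [hnat, ht, map_zero, map_zero]
    obtain ⟨s, hs⟩ := (hex' t).mp h1
    rw [hsmul] at hs
    have hsker : s ∈ LinearMap.ker (phi (A := A) (B := B) N m) := by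
      rw [LinearMap.mem_ker]
      apply hreg
      simp only [smul_zero]
      rw [← map_smul, hs, ht]
    rw [← hs]
    exact Submodule.smul_mem_smul hf hsker
  have hinj : Function.Injective (m.subtype.lTensor N) := by
    have h1 : Function.Injective (phi (A := A) (B := B) N m) := LinearMap.ker_eq_bot.mp hT
    intro x y hxy
    apply h1
    change (AlgebraTensorModule.rid A B N) (m.subtype.lTensor N x) =
      (AlgebraTensorModule.rid A B N) (m.subtype.lTensor N y)
    rw [hxy]
  rw [LinearMap.lTensor_inj_iff_rTensor_inj] at hinj
  exact Groth.Agent.S0390.result (S := B) hinj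

theorem flat_take (M : Type u) [AddCommGroup M] [Module B M] [Module A M]
    [IsScalarTower A B M] [Module.Finite B M] (fs : List B)
    (hfs : ∀ f ∈ fs, f ∈ maximalIdeal B) (hreg : IsWeaklyRegular M fs)
    (hflat : Module.Flat A (M ⧸ (Ideal.ofList fs • (⊤ : Submodule B M)))) :
    ∀ k, k ≤ fs.length →
      Module.Flat A (M ⧸ (Ideal.ofList (fs.take (fs.length - k)) • (⊤ : Submodule B M))) := by
  intro k
  induction k with
  | zero =>
    intro _
    rw [Nat.sub_zero, List.take_length]
    exact hflat
  | succ k ih =>
    intro hk
    have ih' := ih (by omega)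
    set i := fs.length - (k + 1) with hi
    have hik : fs.length - k = i + 1 := by omega
    have hlt : i < fs.length := by omega
    rw [hik] at ih'
    have hr := hreg.regular_mod_prev i hlt
    have e : ((M ⧸ (Ideal.ofList (fs.take i) • (⊤ : Submodule B M))) ⧸
        (Ideal.span {fs[i]} • ⊤ : Submodule B (M ⧸ (Ideal.ofList (fs.take i) • (⊤ : Submodule B M)))))
        ≃ₗ[B] M ⧸ (Ideal.ofList (fs.take (i + 1)) • (⊤ : Submodule B M)) :=
      quotQuotSMulEquiv M (Ideal.ofList (fs.take i)) (Ideal.span {fs[i]}) ≪≫ₗ
        Submodule.quotEquivOfEq _ _ (by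
          rw [List.take_succ_eq_append_getElem hlt, Ideal.ofList_append, Ideal.ofList_singleton])
    have hfl : Module.Flat A ((M ⧸ (Ideal.ofList (fs.take i) • (⊤ : Submodule B M))) ⧸
        (Ideal.span {fs[i]} • ⊤ : Submodule B (M ⧸ (Ideal.ofList (fs.take i) • (⊤ : Submodule B M))))) :=
      Module.Flat.of_linearEquiv (e.restrictScalars A)
    exact flat_of_flat_quotient (A := A) _ fs[i] (hfs _ (List.getElem_mem hlt)) hr hfl

end FlatReg

end Groth.Agent.H29
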