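import Mathlib
import Groth.Prelude.Def_CInt
import Groth.Agent.H19.SchDenseAff
import Groth.Agent.H19.SchDense
import Groth.Agent.H90.SchDenseSection

/-!
# Schematic density: regular sections on Noetherian affine opens, and the vanishing ideal (helper29)
-/

set_option autoImplicit false
universe u
open CategoryTheory AlgebraicGeometry TopologicalSpace

namespace Groth.Agent.H29.SchDenseFib

variable {X : Scheme.{u}}

/-- On a locally Noetherian scheme, a schematically dense open contains the non-vanishing locus of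
a regular section over any affine open. -/
theorem exists_regular_section [IsLocallyNoetherian X] (U : X.Opens)
    (hU : CInt.IsSchematicallyDense U) {W : X.Opens} (hW : IsAffineOpen W) :
    ∃ t : Γ(X, W), t ∈ nonZeroDivisors Γ(X, W) ∧ X.basicOpen t ≤ U := by
  have : IsAffine (W : Scheme.{u}) := hW
  have : IsNoetherian (W : Scheme.{u}) :=
    { toIsLocallyNoetherian := inferInstance
      toCompactSpace := isCompact_iff_compactSpace.mp hW.isCompact }
  have hd := Groth.Agent.H90.isSchematicallyDense_preimage_ι W U hU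
  obtain ⟨t₀, ht₀, hle⟩ :=
    (Groth.Agent.H19.SchDenseAff.main (W : Scheme.{u}) (Or.inl inferInstance) _).mp hd
  refine ⟨W.topIso.hom t₀, ?_, ?_⟩
  · rw [mem_nonZeroDivisors_iff_right]
    intro y hy
    have h1 : W.topIso.inv y * t₀ = 0 := by
      have := congrArg W.topIso.inv hy
      rw [map_mul, map_zero] at this
      rw [← this]
      congr 1
      exact (W.topIso.hom_inv_id_apply t₀).symm
    have h2 := (mem_nonZeroDivisors_iff_right.mp ht₀) _ h1
    have := congrArg W.topIso.hom h2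
    rw [map_zero] at this
    rw [← this]
    exact (W.topIso.inv_hom_id_apply y).symm
  · have h1 : W.ι ''ᵁ (W : Scheme.{u}).basicOpen t₀ = X.basicOpen (W.topIso.hom t₀) :=
      Scheme.Opens.ι_image_basicOpen' W t₀
    rw [← h1]
    rintro _ ⟨y, hy, rfl⟩
    exact hle hy

/-- The ideal of sections over `W` whose non-vanishing locus lies in `U`. -/
noncomputable def vanIdeal (U W : X.Opens) : Ideal Γ(X, W) :=
  ⨅ x : {x : X // x ∈ W ∧ x ∉ U},
    (IsLocalRing.maximalIdeal (X.presheaf.stalk x.1)).comap (X.presheaf.germ W x.1 x.2.1).hom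

theorem mem_vanIdeal {U W : X.Opens} {b : Γ(X, W)} : b ∈ vanIdeal U W ↔ X.basicOpen b ≤ U := by
  rw [vanIdeal, Ideal.mem_iInf]
  constructor
  · intro h x hx
    by_contra hxU
    have hxW : x ∈ W := X.basicOpen_le b hx
    have h1 := h ⟨x, hxW, hxU⟩
    rw [Ideal.mem_comap, IsLocalRing.mem_maximalIdeal, mem_nonunits_iff] at h1
    exact h1 ((Scheme.mem_basicOpen X b x hxW).mp hx)
  · rintro h ⟨x, hxW, hxU⟩
    rw [Ideal.mem_comap, IsLocalRing.mem_maximalIdeal, mem_nonunits_iff]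
    intro hu
    exact hxU (h ((Scheme.mem_basicOpen X b x hxW).mpr hu))

/-- points of an affine open attached to primes, and membership -/
theorem mem_prime_iff {W : X.Opens} (hW : IsAffineOpen W) (Q : Ideal Γ(X, W)) [hQ : Q.IsPrime]
    (g : Γ(X, W)) : g ∈ Q ↔ hW.fromSpec ⟨Q, hQ⟩ ∉ X.basicOpen g := by
  have h1 : hW.fromSpec ⟨Q, hQ⟩ ∈ X.basicOpen g ↔
      (⟨Q, hQ⟩ : PrimeSpectrum Γ(X, W)) ∈ hW.fromSpec ⁻¹ᵁ X.basicOpen g := Iff.rfl
  rw [h1, hW.fromSpec_preimage_basicOpen]
  change g ∈ Q ↔ ¬ (g ∉ Q)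
  exact not_not.symm

theorem fromSpec_mem {W : X.Opens} (hW : IsAffineOpen W) (p : Spec Γ(X, W)) :
    hW.fromSpec p ∈ W := by
  have : hW.fromSpec p ∈ hW.fromSpec.opensRange := ⟨_, rfl⟩
  rwa [hW.opensRange_fromSpec] at this

/-- If the non-vanishing locus of `t` lies in the preimage of `U`, then `t` lies in the radical of
the ideal generated by the pullbacks of sections vanishing off `U`. -/
theorem mem_radical_map {Y : Scheme.{u}} (i : Y ⟶ X) (U : X.Opens) {W : X.Opens}
    (hW : IsAffineOpen W) {W' : Y.Opens} (hW' : IsAffineOpen W') (e : W' ≤ i ⁻¹ᵁ W)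
    (t : Γ(Y, W')) (ht : Y.basicOpen t ≤ i ⁻¹ᵁ U) :
    t ∈ (Ideal.map (i.appLE W W' e).hom (vanIdeal U W)).radical := by
  rw [Ideal.radical_eq_sInf, Ideal.mem_sInf]
  rintro Q ⟨hle, hQ⟩
  by_contra htQ
  have hz : hW'.fromSpec ⟨Q, hQ⟩ ∈ Y.basicOpen t := by
    by_contra h
    exact htQ ((mem_prime_iff hW' Q t).mpr h)
  have hzW' : hW'.fromSpec ⟨Q, hQ⟩ ∈ W' := fromSpec_mem hW' _
  have hzU : i (hW'.fromSpec ⟨Q, hQ⟩) ∈ U := ht hz
  have hzW : i (hW'.fromSpec ⟨Q, hQ⟩) ∈ W := e hzW'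
  obtain ⟨b, hb, hzb⟩ := hW.exists_basicOpen_le (V := U) ⟨_, hzU⟩ hzW
  have hbQ : (i.appLE W W' e).hom b ∈ Q := hle (Ideal.mem_map_of_mem _ (mem_vanIdeal.mpr hb))
  have := (mem_prime_iff hW' Q _).mp hbQ
  apply this
  rw [Scheme.basicOpen_appLE]
  exact ⟨hzW', hzb⟩

end Groth.Agent.H29.SchDenseFib
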