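import Mathlib
import Groth.Prelude.Def_CInt
import Groth.Prelude.Def_FlatMod2
import Groth.Agent.H8.QCohStalk
import Groth.Agent.H44.FPSections
import Groth.Agent.H29.SchDenseFibA

/-!
# Injectivity of the restriction maps of a quasi-coherent module to an open (helper29)
-/

set_option autoImplicit false
universe u
open CategoryTheory AlgebraicGeometry TopologicalSpace

namespace Groth.Agent.H29.ResInj

open Groth.Agent.H29.SchDenseFib

variable {X : Scheme.{u}}

/-- the restriction maps of `F` from `V` to `V ⊓ U` are injective -/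
def IsResInj (F : X.Modules) (U : X.Opens) : Prop :=
  ∀ V : X.Opens, Function.Injective (F.presheaf.map (homOfLE (inf_le_left : V ⊓ U ≤ V)).op)

/-- A section vanishing on `V ⊓ U` has zero germ at every point where some section of `O_X`
vanishing off `U` has a germ which is regular on the stalk of `F`. -/
theorem germ_eq_zero_of_regular (F : X.Modules) [F.IsQuasicoherent] {U W : X.Opens} {x : X}
    (hxW : x ∈ W) (b : Γ(X, W)) (hbU : X.basicOpen b ≤ U)
    (hb : IsSMulRegular (F.presheaf.stalk x) ((X.presheaf.germ W x hxW).hom b))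
    {V : X.Opens} (hxV : x ∈ V) (a : Γ(F, V))
    (ha : F.presheaf.map (homOfLE (inf_le_left : V ⊓ U ≤ V)).op a = 0) :
    F.presheaf.germ V x hxV a = 0 := by
  obtain ⟨_, ⟨W₂, hW₂, rfl⟩, hxW₂, hW₂le⟩ :=
    X.isBasis_affineOpens.exists_subset_of_mem_open (show x ∈ W ⊓ V from ⟨hxW, hxV⟩)
      (W ⊓ V).isOpen
  have hW₂W : W₂ ≤ W := fun y hy => (hW₂le hy).1
  have hW₂V : W₂ ≤ V := fun y hy => (hW₂le hy).2
  set a₂ : Γ(F, W₂) := F.presheaf.map (homOfLE hW₂V).op a with ha₂
  set b₂ : Γ(X, W₂) := X.presheaf.map (homOfLE hW₂W).op b with hb₂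
  have hle : X.basicOpen b₂ ≤ V ⊓ U := by
    intro y hy
    have h1 : y ∈ W₂ := X.basicOpen_le b₂ hy
    have h2 : X.basicOpen b₂ ≤ X.basicOpen b :=
      (Scheme.basicOpen_res X b (homOfLE hW₂W).op).trans_le inf_le_right
    exact ⟨hW₂V h1, hbU (h2 hy)⟩
  have hres : F.presheaf.map (homOfLE (X.basicOpen_le b₂)).op a₂ = 0 := by
    have h1 : F.presheaf.map (homOfLE (X.basicOpen_le b₂)).op a₂ =
        F.presheaf.map (homOfLE hle).op
          (F.presheaf.map (homOfLE (inf_le_left : V ⊓ U ≤ V)).op a) := by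
      rw [ha₂, Groth.Agent.H8.presheaf_map_map, Groth.Agent.H8.presheaf_map_map]
      exact Groth.Agent.H8.presheaf_map_eq F _ _ a
    rw [h1, ha, map_zero]
  obtain ⟨n, hn⟩ :=
    Groth.Agent.H8.exists_pow_smul_eq_zero_of_res_basicOpen_eq_zero F hW₂ b₂ a₂ hres
  have hga : F.presheaf.germ W₂ x hxW₂ a₂ = F.presheaf.germ V x hxV a :=
    TopCat.Presheaf.germ_res_apply F.presheaf (homOfLE hW₂V) x hxW₂ a
  have hgb : (X.presheaf.germ W₂ x hxW₂).hom b₂ = (X.presheaf.germ W x hxW).hom b :=
    X.presheaf.germ_res_apply (homOfLE hW₂W) x hxW₂ b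
  have h3 := congrArg (F.presheaf.germ W₂ x hxW₂) hn
  rw [Groth.Agent.H8.germ_smul, map_pow, map_zero, hga] at h3
  have h4 : (X.presheaf.germ W₂ x hxW₂).hom b₂ ^ n • F.presheaf.germ V x hxV a = 0 := h3
  rw [hgb] at h4
  exact (hb.pow n).right_eq_zero_of_smul h4

/-- stalkwise criterion for the injectivity of the restriction maps -/
theorem resInj_of_forall_regular (F : X.Modules) [F.IsQuasicoherent] (U : X.Opens)
    (h : ∀ x : X, ∃ (W : X.Opens) (hxW : x ∈ W) (b : Γ(X, W)), X.basicOpen b ≤ U ∧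
      IsSMulRegular (F.presheaf.stalk x) ((X.presheaf.germ W x hxW).hom b)) :
    IsResInj F U := by
  intro V
  rw [injective_iff_map_eq_zero]
  intro a ha
  apply TopCat.Presheaf.section_ext ⟨F.presheaf, F.isSheaf⟩ V a 0
  intro x hxV
  rw [map_zero]
  obtain ⟨W, hxW, b, hbU, hb⟩ := h x
  exact germ_eq_zero_of_regular F hxW b hbU hb hxV a ha

/-- Noetherian step: if the restriction maps of a coherent module to `U` are injective, then over
each affine open there is a section of `O` vanishing off `U` which is regular on the sections. -/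
theorem exists_regular_section [IsLocallyNoetherian X] (F : X.Modules) [F.IsQuasicoherent]
    [SheafOfModules.IsFinitePresentation (R := X.ringCatSheaf) F] (U : X.Opens)
    (hU : IsResInj F U) {W : X.Opens} (hW : IsAffineOpen W) :
    ∃ t : Γ(X, W), X.basicOpen t ≤ U ∧ IsSMulRegular Γ(F, W) t := by
  have hN : IsNoetherianRing Γ(X, W) := IsLocallyNoetherian.component_noetherian ⟨W, hW⟩
  have hfp : Module.FinitePresentation Γ(X, W) Γ(F, W) :=
    Groth.Agent.H44.finitePresentation_sections_of_isFinitePresentation F hW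
  have hfin : Module.Finite Γ(X, W) Γ(F, W) := inferInstance
  by_contra hcon
  have hzd : ∀ a ∈ vanIdeal U W, ∃ m : Γ(F, W), m ≠ 0 ∧ a • m = 0 := by
    intro a ha
    by_contra h
    apply hcon
    refine ⟨a, mem_vanIdeal.mp ha, ?_⟩
    rw [isSMulRegular_iff_right_eq_zero_of_smul]
    intro m hm
    by_contra hm0
    exact h ⟨m, hm0, hm⟩
  obtain ⟨P, hPass, hP⟩ : ∃ P ∈ associatedPrimes Γ(X, W) Γ(F, W), vanIdeal U W ≤ P :=
    ((vanIdeal U W).subset_union_prime_finite (associatedPrimes.finite Γ(X, W) Γ(F, W))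
      (f := id) 0 0 fun _ h _ _ ↦ h.1).1 <| by
      rw [show (⋃ i ∈ associatedPrimes Γ(X, W) Γ(F, W), ((id i : Ideal Γ(X, W)) : Set Γ(X, W))) =
        ⋃ p ∈ associatedPrimes Γ(X, W) Γ(F, W), (p : Set Γ(X, W)) from rfl,
        biUnion_associatedPrimes_eq_zero_divisors]
      intro a ha
      exact hzd a ha
  rw [AssociatedPrimes.mem_iff, isAssociatedPrime_iff] at hPass
  obtain ⟨hprime, m, rfl⟩ := hPass
  have hm0 : m ≠ 0 := by
    rintro rfl
    apply hprime.ne_top
    rw [Ideal.eq_top_iff_one, Submodule.mem_colon_singleton]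
    simp
  have hkill : ∀ a ∈ vanIdeal U W, a • m = 0 := by
    intro a ha
    have := hP ha
    rwa [Submodule.mem_colon_singleton, Submodule.mem_bot] at this
  have hres : F.presheaf.map (homOfLE (inf_le_left : W ⊓ U ≤ W)).op m = 0 := by
    apply TopCat.Presheaf.section_ext ⟨F.presheaf, F.isSheaf⟩ (W ⊓ U) _ 0
    intro y hy
    rw [map_zero]
    have h1 : F.presheaf.germ (W ⊓ U) y hy
        (F.presheaf.map (homOfLE (inf_le_left : W ⊓ U ≤ W)).op m) = F.presheaf.germ W y hy.1 m :=
      TopCat.Presheaf.germ_res_apply F.presheaf (homOfLE (inf_le_left : W ⊓ U ≤ W)) y hy m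
    rw [h1]
    obtain ⟨g, hgle, hyg⟩ := hW.exists_basicOpen_le (V := U) ⟨y, hy.2⟩ hy.1
    have hg := hkill g (mem_vanIdeal.mpr hgle)
    have hu : IsUnit ((X.presheaf.germ W y hy.1).hom g) :=
      (Scheme.mem_basicOpen X g y hy.1).mp hyg
    have h3 := congrArg (F.presheaf.germ W y hy.1) hg
    rw [Groth.Agent.H8.germ_smul, map_zero] at h3
    exact (hu.isSMulRegular (F.presheaf.stalk y)).right_eq_zero_of_smul h3
  exact hm0 ((injective_iff_map_eq_zero _).mp (hU W) m hres)

end Groth.Agent.H29.ResInj
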