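import Mathlib
import Groth.Prelude.Def_CInt
import Groth.Prelude.Def_FlatMod2
import Groth.Agent.H8.QCohStalk
import Groth.Agent.H71.QCoh.FlatOver
import Groth.Agent.H29.ResInjA

/-!
# Algebraic and local lemmas for the fibrewise criterion for injectivity of restriction maps
(helper29)
-/

set_option autoImplicit false
universe u
open CategoryTheory AlgebraicGeometry TopologicalSpace TensorProduct

namespace Groth.Agent.H29.ResInj

open Groth.Agent.H29.SchDenseFib

section Algebra

variable {C D M : Type*} [CommRing C] [CommRing D] [Algebra C D] [AddCommGroup M] [Module C M]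

/-- For a surjective `C → D` with kernel `J`, `1 ⊗ y = 0` in `D ⊗ M` iff `y ∈ J M`. -/
theorem one_tmul_eq_zero_iff (hsurj : Function.Surjective (algebraMap C D)) (y : M) :
    (1 : D) ⊗ₜ[C] y = 0 ↔ y ∈ (RingHom.ker (algebraMap C D)) • (⊤ : Submodule C M) := by
  have hφ : Function.Surjective (Algebra.ofId C D) := hsurj
  have hker : RingHom.ker (Algebra.ofId C D) = RingHom.ker (algebraMap C D) := by
    ext c
    rw [RingHom.mem_ker, RingHom.mem_ker]
    rfl
  let e₁ : (C ⧸ RingHom.ker (Algebra.ofId C D)) ≃ₐ[C] D :=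
    Ideal.quotientKerAlgEquivOfSurjective hφ
  let e₂ : (C ⧸ RingHom.ker (Algebra.ofId C D)) ⊗[C] M ≃ₗ[C] D ⊗[C] M :=
    TensorProduct.congr e₁.toLinearEquiv (LinearEquiv.refl C M)
  let e₃ := TensorProduct.quotTensorEquivQuotSMul M (RingHom.ker (Algebra.ofId C D))
  have h2 : e₂ ((1 : C ⧸ RingHom.ker (Algebra.ofId C D)) ⊗ₜ[C] y) = (1 : D) ⊗ₜ[C] y := by
    rw [TensorProduct.congr_tmul]
    congr 1
    exact map_one e₁
  have h3 : e₃ ((1 : C ⧸ RingHom.ker (Algebra.ofId C D)) ⊗ₜ[C] y) = Submodule.Quotient.mk y :=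
    TensorProduct.quotTensorEquivQuotSMul_mk_one_tmul _ y
  rw [← h2, LinearEquiv.map_eq_zero_iff, ← LinearEquiv.map_eq_zero_iff e₃, h3,
    Submodule.Quotient.mk_eq_zero, hker]

/-- transfer of regularity from the fibre to the hypothesis of the fibre criterion -/
theorem mem_of_smul_mem_of_regular {N' : Type*} [AddCommGroup N'] [Module D N']
    (hsurj : Function.Surjective (algebraMap C D)) (e : D ⊗[C] M ≃ₗ[D] N') (β : C)
    (hreg : IsSMulRegular N' (algebraMap C D β)) (y : M)
    (hy : β • y ∈ (RingHom.ker (algebraMap C D)) • (⊤ : Submodule C M)) :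
    y ∈ (RingHom.ker (algebraMap C D)) • (⊤ : Submodule C M) := by
  rw [← one_tmul_eq_zero_iff hsurj] at hy ⊢
  have hreg' : IsSMulRegular (D ⊗[C] M) (algebraMap C D β) :=
    (e.isSMulRegular_congr _).mpr hreg
  apply hreg'.right_eq_zero_of_smul
  rw [TensorProduct.smul_tmul', ← hy]
  have h1 : algebraMap C D β • (1 : D) = β • (1 : D) := by
    rw [smul_eq_mul, Algebra.smul_def]
  rw [h1, TensorProduct.smul_tmul]

end Algebra

variable {X : Scheme.{u}}

/-- A section of `O_X` over an affine open which is regular on the sections of a quasi-coherent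
module has a germ which is regular on the stalk. -/
theorem isSMulRegular_germ (F : X.Modules) [F.IsQuasicoherent] {W : X.Opens} (hW : IsAffineOpen W)
    {x : X} (hxW : x ∈ W) (t : Γ(X, W)) (ht : IsSMulRegular Γ(F, W) t) :
    IsSMulRegular (F.presheaf.stalk x) ((X.presheaf.germ W x hxW).hom t) := by
  let _ := Groth.Agent.H8.stalkModule F hxW
  have := Groth.Agent.H8.isLocalizedModule_germₗ F hW hxW
  let _ : Algebra Γ(X, W) (X.presheaf.stalk x) :=
    TopCat.Presheaf.algebra_section_stalk X.presheaf ⟨x, hxW⟩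
  have : IsScalarTower Γ(X, W) (X.presheaf.stalk x) (F.presheaf.stalk x) :=
    IsScalarTower.of_algebraMap_smul (fun r m => rfl)
  have := hW.isLocalization_stalk ⟨x, hxW⟩
  exact IsSMulRegular.of_isLocalizedModule (X.presheaf.stalk x)
    (hW.primeIdealOf ⟨x, hxW⟩).asIdeal.primeCompl (Groth.Agent.H8.germₗ F hxW) ht

open Groth.Agent.H71.QCoh in
/-- Lifting lemma: a section `t` on `Y` vanishing off `i⁻¹ U` has, up to a power and a unit,
a germ which is the image of the germ of a section on `X` vanishing off `U`. -/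
theorem exists_section_lift {Y : Scheme.{u}} (i : Y ⟶ X) [SurjectiveOnStalks i] (U : X.Opens)
    {W : X.Opens} (hW : IsAffineOpen W) {W' : Y.Opens} (hW' : IsAffineOpen W')
    (e : W' ≤ i ⁻¹ᵁ W) {y : Y} (hyW' : y ∈ W') (t : Γ(Y, W')) (ht : Y.basicOpen t ≤ i ⁻¹ᵁ U) :
    ∃ (b : Γ(X, W)) (N : ℕ) (υ : Y.presheaf.stalk y), IsUnit υ ∧ X.basicOpen b ≤ U ∧
      (i.stalkMap y).hom ((X.presheaf.germ W (i y) (e hyW')).hom b) =
        ((Y.presheaf.germ W' y hyW').hom t) ^ N * υ := by
  have hxW : i y ∈ W := e hyW'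
  obtain ⟨N, hN⟩ := mem_radical_map i U hW hW' e t ht
  set gB : Γ(X, W) →+* X.presheaf.stalk (i y) := (X.presheaf.germ W (i y) hxW).hom with hgB
  set gR : Γ(Y, W') →+* Y.presheaf.stalk y := (Y.presheaf.germ W' y hyW').hom with hgR
  set ψ : Γ(X, W) →+* Γ(Y, W') := (i.appLE W W' e).hom with hψ
  set φ : X.presheaf.stalk (i y) →+* Y.presheaf.stalk y := (i.stalkMap y).hom with hφ
  have hcomm : ∀ a, φ (gB a) = gR (ψ a) := fun a => stalkMap_germ_eq_germ_appLE i e hyW' a
  have hsurj : Function.Surjective φ := i.stalkMap_surjective y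
  have hτN : gR t ^ N ∈ Ideal.map φ (Ideal.map gB (vanIdeal U W)) := by
    have h1 : gR (t ^ N) ∈ Ideal.map gR (Ideal.map ψ (vanIdeal U W)) :=
      Ideal.mem_map_of_mem _ hN
    rw [Ideal.map_map] at h1
    have h2 : gR.comp ψ = φ.comp gB := RingHom.ext (fun a => (hcomm a).symm)
    rw [h2, ← Ideal.map_map, map_pow] at h1
    exact h1
  obtain ⟨k, hk, hkτ⟩ := (Ideal.mem_map_iff_of_surjective φ hsurj).mp hτN
  let _ := TopCat.Presheaf.algebra_section_stalk X.presheaf (⟨i y, hxW⟩ : W)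
  have hloc := hW.isLocalization_stalk ⟨i y, hxW⟩
  obtain ⟨⟨⟨b, hb⟩, σ⟩, hbσ⟩ :=
    (IsLocalization.mem_map_algebraMap_iff (hW.primeIdealOf ⟨i y, hxW⟩).asIdeal.primeCompl
      (X.presheaf.stalk (i y))).mp hk
  have hbσ' : k * gB σ = gB b := hbσ
  have hunit : IsUnit (gB σ) := IsLocalization.map_units (X.presheaf.stalk (i y)) σ
  refine ⟨b, N, φ (gB σ), hunit.map φ, mem_vanIdeal.mp hb, ?_⟩
  rw [← hbσ', map_mul, hkτ]

end Groth.Agent.H29.ResInj
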