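import Mathlib
import Groth.Agent.S2107
import Groth.Agent.H29.ResInjB

/-!
# A finitely presented module, flat over the base, whose closed fibre is free, is free (helper29)

`R → C` local, essentially of finite presentation, `N` a finitely presented `C`-module flat over
`R`, `C → D` surjective with kernel `𝔪_R C`.  If `D ⊗[C] N` is free over `D`, then `N` is free over
`C` (non-Noetherian; uses the fibre criterion S2107).
-/

set_option autoImplicit false
universe u
open TensorProduct IsLocalRing

namespace Groth.Agent.H29.FreeFibre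

open Groth.Agent.H29.ResInj

section

variable {C D N : Type*} [CommRing C] [CommRing D] [Algebra C D] [AddCommGroup N] [Module C N]

theorem exists_one_tmul (hsurj : Function.Surjective (algebraMap C D)) (z : D ⊗[C] N) :
    ∃ y : N, (1 : D) ⊗ₜ[C] y = z := by
  induction z using TensorProduct.induction_on with
  | zero => exact ⟨0, by simp⟩
  | tmul d y =>
    obtain ⟨c, rfl⟩ := hsurj d
    refine ⟨c • y, ?_⟩
    rw [← TensorProduct.smul_tmul, Algebra.smul_def, mul_one]
  | add z₁ z₂ h₁ h₂ =>
    obtain ⟨y₁, rfl⟩ := h₁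
    obtain ⟨y₂, rfl⟩ := h₂
    exact ⟨y₁ + y₂, TensorProduct.tmul_add _ _ _⟩

theorem one_tmul_sum_smul {n : ℕ} (e : Fin n → N) (c : Fin n → C) :
    (1 : D) ⊗ₜ[C] (∑ i, c i • e i) = ∑ i, algebraMap C D (c i) • ((1 : D) ⊗ₜ[C] e i) := by
  rw [TensorProduct.tmul_sum]
  refine Finset.sum_congr rfl (fun i _ => ?_)
  rw [TensorProduct.smul_tmul', smul_eq_mul, mul_one, TensorProduct.tmul_smul,
    TensorProduct.smul_tmul', Algebra.smul_def, mul_one]

end

variable {R C D N : Type u} [CommRing R] [CommRing C] [CommRing D] [IsLocalRing R] [IsLocalRing C]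
  [Algebra R C] [IsLocalHom (algebraMap R C)] [Algebra C D]
  [AddCommGroup N] [Module C N] [Module R N] [IsScalarTower R C N]
  [Module.FinitePresentation C N] [Module.Flat R N]

/-- **Freeness from the closed fibre.** -/
theorem free_of_free_fibre (hS : CAlgX.IsEssFinitePresentation R C) [Nontrivial D]
    (hsurj : Function.Surjective (algebraMap C D))
    (hker : RingHom.ker (algebraMap C D) = (maximalIdeal R).map (algebraMap R C))
    [Module.Free D (D ⊗[C] N)] : Module.Free C N := by
  have hfin : Module.Finite D (D ⊗[C] N) := inferInstance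
  let b := Module.finBasis D (D ⊗[C] N)
  set n := Module.finrank D (D ⊗[C] N) with hn
  choose e he using fun i => exists_one_tmul (N := N) hsurj (b i)
  let u : (Fin n → C) →ₗ[C] N := Fintype.linearCombination C e
  have hu_apply : ∀ c, u c = ∑ i, c i • e i := fun c => Fintype.linearCombination_apply C e c
  have h1u : ∀ c : Fin n → C, (1 : D) ⊗ₜ[C] (u c) = ∑ i, algebraMap C D (c i) • b i := by
    intro c
    rw [hu_apply, one_tmul_sum_smul]
    refine Finset.sum_congr rfl (fun i _ => ?_)
    rw [he]
  have key := Groth.Agent.S2107.result (R := R) (S := C) (M := Fin n → C) (N := N) hS u (by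
    intro c hc
    rw [← hker] at hc ⊢
    rw [← one_tmul_eq_zero_iff hsurj, h1u] at hc
    have hci : ∀ i, algebraMap C D (c i) = 0 := by
      have hli := b.linearIndependent
      rw [Fintype.linearIndependent_iff] at hli
      exact hli _ hc
    have hcJ : ∀ i, c i ∈ RingHom.ker (algebraMap C D) := fun i => (RingHom.mem_ker).mpr (hci i)
    have hsum : c = ∑ i, c i • (Pi.single i (1 : C) : Fin n → C) := by
      ext j
      simp [Finset.sum_apply, Pi.single_apply]
    rw [hsum]
    exact Submodule.sum_mem _ (fun i _ => Submodule.smul_mem_smul (hcJ i) Submodule.mem_top))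
  have hinj := key.1
  have hJle : RingHom.ker (algebraMap C D) ≤ (⊥ : Ideal C).jacobson := by
    rw [IsLocalRing.jacobson_eq_maximalIdeal ⊥ bot_ne_top, hker]
    exact ((IsLocalRing.local_hom_TFAE (algebraMap R C)).out 0 2).mp
      (inferInstance : IsLocalHom (algebraMap R C))
  have hsurj_u : Function.Surjective u := by
    rw [← LinearMap.range_eq_top, eq_top_iff]
    refine Submodule.le_of_le_smul_of_le_jacobson_bot (Module.Finite.fg_top) hJle ?_
    intro y _
    obtain ⟨c, hc⟩ : ∃ c : Fin n → C, ∀ i, algebraMap C D (c i) = b.repr ((1 : D) ⊗ₜ[C] y) i :=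
      ⟨fun i => (hsurj (b.repr ((1 : D) ⊗ₜ[C] y) i)).choose,
        fun i => (hsurj (b.repr ((1 : D) ⊗ₜ[C] y) i)).choose_spec⟩
    have h2 : (1 : D) ⊗ₜ[C] (y - u c) = 0 := by
      rw [TensorProduct.tmul_sub, h1u, sub_eq_zero]
      conv_lhs => rw [← b.sum_repr ((1 : D) ⊗ₜ[C] y)]
      refine Finset.sum_congr rfl (fun i _ => ?_)
      rw [hc]
    rw [one_tmul_eq_zero_iff hsurj] at h2
    have h3 : y = u c + (y - u c) := by abel
    rw [h3]
    exact Submodule.add_mem_sup (LinearMap.mem_range_self u c) h2
  exact Module.Free.of_equiv (LinearEquiv.ofBijective u ⟨hinj, hsurj_u⟩)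

end Groth.Agent.H29.FreeFibre
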