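import Mathlib

/-!
# The graph squares of a compatible family are cartesian when the transition maps are monic
-/

set_option autoImplicit false
universe v u

open CategoryTheory CategoryTheory.Limits

namespace Groth.Agent.H29.GraphAdic

variable {C : Type u} [Category.{v} C] [HasPullbacks C]

theorem isPullback_graph {X X' Y Y' S S' : C} (iX : X ⟶ X') (iY : Y ⟶ Y') (iS : S ⟶ S') [Mono iY]
    (p : X ⟶ S) (q : Y ⟶ S) (p' : X' ⟶ S') (q' : Y' ⟶ S') (f : X ⟶ Y) (f' : X' ⟶ Y')
    (hp : p ≫ iS = iX ≫ p') (hq : q ≫ iS = iY ≫ q') (hf : f ≫ iY = iX ≫ f')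
    (w : 𝟙 X ≫ p = f ≫ q) (w' : 𝟙 X' ≫ p' = f' ≫ q') :
    IsPullback iX (pullback.lift (𝟙 X) f w) (pullback.lift (𝟙 X') f' w')
      (pullback.map p q p' q' iX iY iS hp hq) := by
  have hmf : pullback.map p q p' q' iX iY iS hp hq ≫ pullback.fst p' q' =
      pullback.fst p q ≫ iX := by
    unfold pullback.map; rw [pullback.lift_fst]
  have hms : pullback.map p q p' q' iX iY iS hp hq ≫ pullback.snd p' q' =
      pullback.snd p q ≫ iY := by
    unfold pullback.map; rw [pullback.lift_snd]
  have hcomm : iX ≫ pullback.lift (𝟙 X') f' w' =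
      pullback.lift (𝟙 X) f w ≫ pullback.map p q p' q' iX iY iS hp hq := by
    apply pullback.hom_ext
    · rw [Category.assoc, Category.assoc, pullback.lift_fst, hmf, pullback.lift_fst_assoc,
        Category.comp_id, Category.id_comp]
    · rw [Category.assoc, Category.assoc, pullback.lift_snd, hms, pullback.lift_snd_assoc, hf]
  refine ⟨⟨hcomm⟩, ⟨PullbackCone.IsLimit.mk _ (fun s => s.snd ≫ pullback.fst p q) ?_ ?_ ?_⟩⟩
  · intro s
    have h1 := s.condition =≫ pullback.fst p' q'
    rw [Category.assoc, Category.assoc, pullback.lift_fst, Category.comp_id, hmf] at h1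
    rw [h1, Category.assoc]
  · intro s
    have h1 := s.condition =≫ pullback.fst p' q'
    have h2 := s.condition =≫ pullback.snd p' q'
    rw [Category.assoc, Category.assoc, pullback.lift_fst, Category.comp_id, hmf] at h1
    rw [Category.assoc, Category.assoc, pullback.lift_snd, hms] at h2
    apply pullback.hom_ext
    · rw [Category.assoc, pullback.lift_fst, Category.comp_id]
    · rw [Category.assoc, pullback.lift_snd, ← cancel_mono iY, Category.assoc, Category.assoc, hf,
        Category.assoc, ← h2, h1, Category.assoc, Category.assoc]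
  · intro s m hm1 hm2
    rw [← hm2, Category.assoc, pullback.lift_fst, Category.comp_id]

end Groth.Agent.H29.GraphAdic
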