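import Mathlib
import Groth.Prelude.Def_EGA4Misc
import Groth.Agent.H29.ProperPos
import Groth.Agent.S0086

/-!
# "The morphism of fibres is proper" is a constructible relation (helper29; S2577)
-/

set_option autoImplicit false
universe u

open AlgebraicGeometry CategoryTheory Limits Topology TopologicalSpace

namespace Groth.Agent.H29.ProperCons

open Groth.Agent.H29.MorQ Groth.Agent.H29.NegFlat Groth.Agent.H29.ClosedImmCons
open Groth.Agent.H99.FibrewiseCons Groth.Agent.H29.ProperPos Groth.Agent.H29.SepNhd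

/-- If `f` is separated over a neighbourhood of the generic point of `S` and the morphism of generic
fibres is proper, then `f` is proper over a neighbourhood of every point of the generic fibre of
`Y`. -/
theorem exists_isProper_restrict_of_generic {X Y S : Scheme.{u}} (f : X ⟶ Y) (g : Y ⟶ S)
    [IsIntegral S] [IsNoetherian S] [LocallyOfFiniteType g] [QuasiCompact g]
    [LocallyOfFiniteType (f ≫ g)] [QuasiCompact (f ≫ g)]
    (U₁ : S.Opens) (hηU₁ : genericPoint S ∈ U₁) (hsep : IsSeparated (f ∣_ (g ⁻¹ᵁ U₁)))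
    (hη : IsProper (MoreMor.fiberMap f g (genericPoint S))) (y : Y) (hy : g y = genericPoint S) :
    ∃ V : Y.Opens, y ∈ V ∧ IsProper (f ∣_ V) := by
  have : IsLocallyNoetherian Y := LocallyOfFiniteType.isLocallyNoetherian g
  have : IsLocallyNoetherian X := LocallyOfFiniteType.isLocallyNoetherian (f ≫ g)
  have : CompactSpace X := QuasiCompact.compactSpace_of_compactSpace (f ≫ g)
  have : IsNoetherian X := {}
  have hlft : LocallyOfFiniteType f := locallyOfFiniteType_of_comp f g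
  have hqc : QuasiCompact f := inferInstance
  have hlft₁ : LocallyOfFiniteType (f ∣_ (g ⁻¹ᵁ U₁)) :=
    IsZariskiLocalAtTarget.restrict (P := @LocallyOfFiniteType) hlft _
  have hqc₁ : QuasiCompact (f ∣_ (g ⁻¹ᵁ U₁)) :=
    IsZariskiLocalAtTarget.restrict (P := @QuasiCompact) hqc _
  have hyV₁ : y ∈ g ⁻¹ᵁ U₁ := by
    change g y ∈ U₁
    rw [hy]; exact hηU₁
  obtain ⟨V', hyV', hV'⟩ := Groth.Agent.S2596.result (f ∣_ (g ⁻¹ᵁ U₁)) ⟨y, hyV₁⟩ (by
    intro A _ _ _ t ht σ hσ
    have sq : IsPullback (pullback.fst (f ∣_ (g ⁻¹ᵁ U₁)) t ≫ (f ⁻¹ᵁ (g ⁻¹ᵁ U₁)).ι)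
        (pullback.snd (f ∣_ (g ⁻¹ᵁ U₁)) t) f (t ≫ (g ⁻¹ᵁ U₁).ι) :=
      (IsPullback.of_hasPullback (f ∣_ (g ⁻¹ᵁ U₁)) t).paste_horiz
        (isPullback_morphismRestrict f (g ⁻¹ᵁ U₁)).flip
    have ht' : g ((t ≫ (g ⁻¹ᵁ U₁).ι) (IsLocalRing.closedPoint A)) = genericPoint S := by
      rw [Scheme.Hom.comp_apply]
      change g ((g ⁻¹ᵁ U₁).ι (t.base (IsLocalRing.closedPoint A))) = _
      rw [ht]
      exact hy
    have hp : IsProper (pullback.snd (f ∣_ (g ⁻¹ᵁ U₁)) t) :=
      isProper_of_isPullback_of_generic f g hη (CommRingCat.of A) (t ≫ (g ⁻¹ᵁ U₁).ι) ht' sq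
    exact exists_section_of_universallyClosed A _ σ hσ)
  refine ⟨(g ⁻¹ᵁ U₁).ι ''ᵁ V', ⟨⟨y, hyV₁⟩, hyV', rfl⟩, ?_⟩
  exact (MorphismProperty.arrow_mk_iso_iff @IsProper
    (morphismRestrictRestrict f (g ⁻¹ᵁ U₁) V')).mp hV'

/-- **If the morphism of generic fibres is proper, so are the morphisms of fibres over a
neighbourhood of the generic point.** -/
theorem exists_nhd_isProper_fiberMap {X Y S : Scheme.{u}} (f : X ⟶ Y) (g : Y ⟶ S)
    [IsIntegral S] [IsNoetherian S] [LocallyOfFiniteType g] [QuasiCompact g]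
    [LocallyOfFiniteType (f ≫ g)] [QuasiCompact (f ≫ g)]
    (hη : IsProper (MoreMor.fiberMap f g (genericPoint S))) :
    ∃ U : Set S, IsOpen U ∧ genericPoint S ∈ U ∧ ∀ s ∈ U, IsProper (MoreMor.fiberMap f g s) := by
  have : IsLocallyNoetherian Y := LocallyOfFiniteType.isLocallyNoetherian g
  have : LocallyOfFinitePresentation g := lfp_of_lft g
  have : CompactSpace Y := QuasiCompact.compactSpace_of_compactSpace g
  have : IsNoetherian Y := {}
  obtain ⟨U₁, hηU₁, hsep⟩ := exists_nhd_isSeparated_restrict f g inferInstance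
  have hT : IsOpen {y : Y | ∃ V : Y.Opens, y ∈ V ∧ IsProper (f ∣_ V)} := by
    rw [isOpen_iff_forall_mem_open]
    rintro y ⟨V, hyV, hV⟩
    exact ⟨V, fun z hz => ⟨V, hz, hV⟩, V.isOpen, hyV⟩
  have hA : IsLocallyConstructible
      (g '' {y : Y | ∃ V : Y.Opens, y ∈ V ∧ IsProper (f ∣_ V)}ᶜ) :=
    g.isLocallyConstructible_image
      (Groth.Agent.H12.isConstructible_of_isClosed hT.isClosed_compl).isLocallyConstructible
  have hηA : genericPoint S ∉ g '' {y : Y | ∃ V : Y.Opens, y ∈ V ∧ IsProper (f ∣_ V)}ᶜ := by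
    rintro ⟨y, hyT, hy⟩
    exact hyT (exists_isProper_restrict_of_generic f g U₁ hηU₁ hsep hη y hy)
  obtain ⟨U, hU, hηU, hUs⟩ := exists_nhd_not_mem _ hA hηA
  refine ⟨U, hU, hηU, fun s hs => ?_⟩
  apply IsZariskiLocalAtTarget.of_forall_exists_morphismRestrict (P := @IsProper)
  intro y'
  have hy's : g (g.fiberι s y') = s := by
    have : g.fiberι s y' ∈ Set.range (g.fiberι s) := ⟨y', rfl⟩
    rw [Scheme.Hom.range_fiberι] at this
    exact this
  have hyT : g.fiberι s y' ∈ {y : Y | ∃ V : Y.Opens, y ∈ V ∧ IsProper (f ∣_ V)} := by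
    by_contra hcon
    exact hUs s hs ⟨_, hcon, hy's⟩
  obtain ⟨V, hyV, hV⟩ := hyT
  exact ⟨(g.fiberι s) ⁻¹ᵁ V, hyV,
    of_isPullback_restrict @IsProper (isPullback_fiberMap f g s) V hV⟩

/-- "The morphism of fibres is proper" is a constructible relation. -/
theorem isConsMor_isProper :
    ConsProp.IsConsMor (RelMor (@IsProper : MorphismProperty Scheme.{u})) := by
  have := Groth.Agent.S0086.result.{u}
  refine ⟨isFieldStableMor_relMor _, ?_⟩
  intro X Y S f g _ _ _ _ _ _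
  by_cases hgen : genericPoint S ∈
      ConsProp.locusMor (RelMor (@IsProper : MorphismProperty Scheme.{u})) f g
  · left
    obtain ⟨U, hU, hηU, hUs⟩ := exists_nhd_isProper_fiberMap f g hgen
    exact ⟨genericPoint S, mem_interior.mpr ⟨U, fun s hs => hUs s hs, hU, hηU⟩⟩
  · right
    obtain ⟨U, hU, hηU, hUs⟩ := exists_nhd_not_isProper_fiberMap f g hgen
    exact ⟨genericPoint S, mem_interior.mpr ⟨U, fun s hs hs' => hUs s hs hs', hU, hηU⟩⟩

end Groth.Agent.H29.ProperCons
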