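import Mathlib
import Groth.Prelude.Def_EGA4Misc
import Groth.Agent.H29.ProperCons

/-!
# Failure of "the morphism of fibres is an immersion" spreads out from the generic fibre
(helper29; for S3446)
-/

set_option autoImplicit false
universe u

open AlgebraicGeometry CategoryTheory Limits Topology TopologicalSpace

namespace Groth.Agent.H29.ImmNeg

open Groth.Agent.H29.MorQ Groth.Agent.H29.NegFlat Groth.Agent.H29.ClosedImmCons
open Groth.Agent.H99.FibrewiseCons Groth.Agent.H29.ClosureFib Groth.Agent.H29.DominantCons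
open Groth.Agent.H29.SepCons Groth.Agent.H29.ClosedFibNeg

/-- The morphism of fibres of a base change `f°` of `f` along `j : Y° ⟶ Y` is a base change of the
morphism of fibres of `f`. -/
theorem exists_isPullback_fiberMap_of_isPullback {X X' Y Y' S : Scheme.{u}} {f : X ⟶ Y}
    {f' : X' ⟶ Y'} {i : X' ⟶ X} {j : Y' ⟶ Y} (sq : IsPullback i f' f j) (g : Y ⟶ S) (s : S) :
    ∃ a, IsPullback a (MoreMor.fiberMap f' (j ≫ g) s) (MoreMor.fiberMap f g s)
      (MoreMor.fiberMap j g s) := by
  have hL := isPullback_fiberMap f' (j ≫ g) s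
  have hLR := hL.paste_horiz sq
  have hπ := isPullback_fiberMap j g s
  have hF := isPullback_fiberMap f g s
  have hw : ((f' ≫ j ≫ g).fiberι s ≫ i) ≫ f =
      (MoreMor.fiberMap f' (j ≫ g) s ≫ MoreMor.fiberMap j g s) ≫ g.fiberι s := by
    rw [Category.assoc, Category.assoc, ← hπ.w, ← Category.assoc _ _ j, ← hL.w, Category.assoc,
      sq.w]
  refine ⟨hF.lift _ _ hw, ?_⟩
  refine IsPullback.of_right ?_ (hF.lift_snd _ _ hw) hF
  rw [hF.lift_fst, ← hπ.w]
  exact hLR

/-- Closure commutes with passage to the fibres over a neighbourhood of the generic point, for a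
constructible set. -/
theorem exists_nhd_closure_fiber_constructible {P S : Scheme.{u}} (p : P ⟶ S) [IsIntegral S]
    [IsNoetherian S] [LocallyOfFiniteType p] [QuasiCompact p] (Z : Set P) (hZ : IsConstructible Z) :
    ∃ U : Set S, IsOpen U ∧ genericPoint S ∈ U ∧
      ∀ s ∈ U, closure Z ∩ p ⁻¹' {s} ⊆ closure (Z ∩ p ⁻¹' {s}) := by
  have : IsLocallyNoetherian P := LocallyOfFiniteType.isLocallyNoetherian p
  have : CompactSpace P := QuasiCompact.compactSpace_of_compactSpace p
  have : IsNoetherian P := {}
  obtain ⟨B, hB, hBZ, hBdense⟩ := exists_closed_diff_subset hZ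
  obtain ⟨U, hU, hηU, hUs⟩ :=
    exists_nhd_closure_fiber p (closure Z) B isClosed_closure hB hBdense
  exact ⟨U, hU, hηU, fun s hs => (hUs s hs).trans
    (closure_mono (Set.inter_subset_inter_left _ hBZ))⟩

/-- The closure of the trace of a set on a fibre, when closure commutes with the fibre. -/
theorem closure_preimage_fiberι {P S : Scheme.{u}} (p : P ⟶ S) (s : S) (Z : Set P)
    (h : closure Z ∩ p ⁻¹' {s} ⊆ closure (Z ∩ p ⁻¹' {s})) :
    closure ((p.fiberι s) ⁻¹' Z) = (p.fiberι s) ⁻¹' closure Z := by
  apply subset_antisymm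
  · exact (p.fiberι s).continuous.closure_preimage_subset Z
  · intro y hy
    have hys : p.fiberι s y ∈ p ⁻¹' {s} := by
      have : p.fiberι s y ∈ Set.range (p.fiberι s) := ⟨y, rfl⟩
      rw [Scheme.Hom.range_fiberι] at this
      exact this
    have h1 := h ⟨hy, hys⟩
    rw [(p.fiberι s).isEmbedding.isInducing.closure_eq_preimage_closure_image,
      Set.image_preimage_eq_inter_range, Scheme.Hom.range_fiberι]
    exact h1

/-- The range of a restriction of `f` to an open `W` in which the range of `f` is closed. -/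
theorem isClosed_range_morphismRestrict {X Y : Scheme.{u}} (f : X ⟶ Y) (W : Y.Opens)
    (h : closure (Set.range f) ∩ W ⊆ Set.range f) : IsClosed (Set.range (f ∣_ W)) := by
  have hrange : Set.range (f ∣_ W) = (Scheme.Opens.ι W) ⁻¹' closure (Set.range f) := by
    ext w
    constructor
    · rintro ⟨x, rfl⟩
      apply subset_closure
      exact ⟨x.1, (morphismRestrict_base_coe f _ x).symm⟩
    · intro hw
      obtain ⟨x, hx⟩ := h ⟨hw, w.2⟩
      have hxW : x ∈ f ⁻¹ᵁ W := by
        change f x ∈ W
        rw [hx]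
        exact w.2
      refine ⟨⟨x, hxW⟩, Subtype.ext ?_⟩
      rw [morphismRestrict_base_coe]
      exact hx
  rw [hrange]
  exact isClosed_closure.preimage (Scheme.Opens.ι _).continuous

end Groth.Agent.H29.ImmNeg
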