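import Mathlib
import Groth.Prelude.Def_EGA4Misc
import Groth.Agent.H29.ImmNeg

/-!
# Failure of "the morphism of fibres is an immersion" spreads out from the generic fibre, II
(helper29; for S3446)
-/

set_option autoImplicit false
universe u

open AlgebraicGeometry CategoryTheory Limits Topology TopologicalSpace

namespace Groth.Agent.H29.ImmNeg

open Groth.Agent.H29.MorQ Groth.Agent.H29.NegFlat Groth.Agent.H29.ClosedImmCons
open Groth.Agent.H99.FibrewiseCons Groth.Agent.H29.ClosureFib Groth.Agent.H29.DominantCons
open Groth.Agent.H29.SepCons Groth.Agent.H29.ClosedFibNeg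

section

variable {X Y S : Scheme.{u}} (f : X ⟶ Y) (g : Y ⟶ S) [IsIntegral S] [IsNoetherian S]
  [LocallyOfFiniteType g] [QuasiCompact g] [LocallyOfFiniteType (f ≫ g)] [QuasiCompact (f ≫ g)]

include f g in
/-- Case 1: the boundary of the image is not closed in the generic fibre. -/
theorem exists_nhd_not_isImmersion_of_boundary_not_closed
    (hη : ¬ IsClosed ((g.fiberι (genericPoint S)) ⁻¹' (closure (Set.range f) \ Set.range f))) :
    ∃ U : Set S, IsOpen U ∧ genericPoint S ∈ U ∧
      ∀ s ∈ U, ¬ IsImmersion (MoreMor.fiberMap f g s) := by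
  have : IsLocallyNoetherian Y := LocallyOfFiniteType.isLocallyNoetherian g
  have : IsLocallyNoetherian X := LocallyOfFiniteType.isLocallyNoetherian (f ≫ g)
  have : CompactSpace Y := QuasiCompact.compactSpace_of_compactSpace g
  have : CompactSpace X := QuasiCompact.compactSpace_of_compactSpace (f ≫ g)
  have : IsNoetherian X := {}
  have : IsNoetherian Y := {}
  have : LocallyOfFiniteType f := locallyOfFiniteType_of_comp f g
  have : LocallyOfFinitePresentation f := lfp_of_lft f
  have hD : IsConstructible (Set.range f) := by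
    rw [← Set.image_univ]
    exact f.isConstructible_image IsConstructible.univ
  have hA : IsConstructible (closure (Set.range f) \ Set.range f) :=
    (Groth.Agent.H12.isConstructible_of_isClosed isClosed_closure).sdiff hD
  obtain ⟨U₁, hU₁, hηU₁, hU₁s⟩ := exists_nhd_not_isClosed_fiber g _ hA hη
  obtain ⟨U₂, hU₂, hηU₂, hU₂s⟩ := exists_nhd_closure_fiber_constructible g _ hD
  refine ⟨U₁ ∩ U₂, hU₁.inter hU₂, ⟨hηU₁, hηU₂⟩, ?_⟩
  rintro s ⟨hs1, hs2⟩ himm
  apply hU₁s s hs1
  have hlc : IsLocallyClosed (Set.range (MoreMor.fiberMap f g s)) :=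
    (MoreMor.fiberMap f g s).isLocallyClosed_range
  rw [range_fiberMap] at hlc
  have h1 := hlc.isOpen_coborder
  rw [coborder, closure_preimage_fiberι g s _ (hU₂s s hs2)] at h1
  have h2 := isOpen_compl_iff.mp h1
  rwa [← Set.preimage_sdiff] at h2

include f g in
/-- Case 2: the boundary of the image is closed in the generic fibre. -/
theorem exists_nhd_not_isImmersion_of_boundary_closed
    (hη : ¬ IsImmersion (MoreMor.fiberMap f g (genericPoint S)))
    (hcl : IsClosed ((g.fiberι (genericPoint S)) ⁻¹' (closure (Set.range f) \ Set.range f))) :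
    ∃ U : Set S, IsOpen U ∧ genericPoint S ∈ U ∧
      ∀ s ∈ U, ¬ IsImmersion (MoreMor.fiberMap f g s) := by
  have : IsLocallyNoetherian Y := LocallyOfFiniteType.isLocallyNoetherian g
  have : IsLocallyNoetherian X := LocallyOfFiniteType.isLocallyNoetherian (f ≫ g)
  have : CompactSpace Y := QuasiCompact.compactSpace_of_compactSpace g
  have : CompactSpace X := QuasiCompact.compactSpace_of_compactSpace (f ≫ g)
  have : IsNoetherian X := {}
  have : IsNoetherian Y := {}
  have : LocallyOfFiniteType f := locallyOfFiniteType_of_comp f g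
  have : LocallyOfFinitePresentation f := lfp_of_lft f
  have : LocallyOfFinitePresentation g := lfp_of_lft g
  have hD : IsConstructible (Set.range f) := by
    rw [← Set.image_univ]
    exact f.isConstructible_image IsConstructible.univ
  have hA : IsConstructible (closure (Set.range f) \ Set.range f) :=
    (Groth.Agent.H12.isConstructible_of_isClosed isClosed_closure).sdiff hD
  -- the closure of the boundary does not meet the image over the generic point
  obtain ⟨U₂, hU₂, hηU₂, hU₂s⟩ := exists_nhd_closure_fiber_constructible g _ hA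
  rw [isClosed_preimage_fiberι_iff] at hcl
  have hDc : IsConstructible (closure (closure (Set.range f) \ Set.range f) ∩ Set.range f) :=
    (Groth.Agent.H12.isConstructible_of_isClosed isClosed_closure).inter hD
  have hηD : genericPoint S ∉
      g '' (closure (closure (Set.range f) \ Set.range f) ∩ Set.range f) := by
    rintro ⟨d, ⟨hd1, hd2⟩, hdη⟩
    exact (hcl ⟨hU₂s _ hηU₂ ⟨hd1, hdη⟩, hdη⟩).2 hd2
  obtain ⟨U₃, hU₃, hηU₃, hU₃s⟩ := exists_nhd_not_mem _
    (g.isLocallyConstructible_image hDc.isLocallyConstructible) hηD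
  -- the open part of `Y`
  let W : Y.Opens := (g ⁻¹ᵁ ⟨U₃, hU₃⟩) ⊓
    ⟨(closure (closure (Set.range f) \ Set.range f))ᶜ, isClosed_closure.isOpen_compl⟩
  have hWa : ∀ x : X, g (f x) ∈ U₃ → f x ∈ W := by
    intro x hx
    refine ⟨hx, fun hcon => ?_⟩
    exact hU₃s _ hx ⟨f x, ⟨hcon, ⟨x, rfl⟩⟩, rfl⟩
  have hWb : closure (Set.range f) ∩ W ⊆ Set.range f := by
    rintro y ⟨hy1, hy2⟩
    by_contra hy3
    exact hy2.2 (subset_closure ⟨hy1, hy3⟩)
  have hrc : IsClosed (Set.range (f ∣_ W)) := isClosed_range_morphismRestrict f W hWb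
  have sq : IsPullback (f ⁻¹ᵁ W).ι (f ∣_ W) f W.ι := (isPullback_morphismRestrict f W).flip
  have hlft : LocallyOfFiniteType (W.ι ≫ g) := inferInstance
  have hqc : QuasiCompact (W.ι ≫ g) := inferInstance
  have hlft' : LocallyOfFiniteType (f ∣_ W ≫ W.ι ≫ g) := by
    rw [morphismRestrict_ι_assoc]; infer_instance
  have hqc' : QuasiCompact (f ∣_ W ≫ W.ι ≫ g) := by
    rw [morphismRestrict_ι_assoc]; infer_instance
  -- the generic fibre of the restriction is not a closed immersion
  have hη' : genericPoint S ∉ ConsProp.locusMor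
      (RelMor (@IsClosedImmersion : MorphismProperty Scheme.{u})) (f ∣_ W) (W.ι ≫ g) := by
    intro hci
    have hci' : IsClosedImmersion (MoreMor.fiberMap (f ∣_ W) (W.ι ≫ g) (genericPoint S)) := hci
    apply hη
    obtain ⟨a, ha⟩ := exists_isPullback_fiberMap_of_isPullback sq g (genericPoint S)
    have hj : IsOpenImmersion (MoreMor.fiberMap W.ι g (genericPoint S)) :=
      MorphismProperty.of_isPullback (P := @IsOpenImmersion)
        (isPullback_fiberMap W.ι g (genericPoint S)) inferInstance
    have hao : IsOpenImmersion a :=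
      MorphismProperty.of_isPullback (P := @IsOpenImmersion) ha.flip hj
    have has : Surjective a := by
      constructor
      intro x
      have hx : MoreMor.fiberMap f g (genericPoint S) x ∈
          Set.range (MoreMor.fiberMap W.ι g (genericPoint S)) := by
        rw [range_fiberMap]
        have h1 : g.fiberι (genericPoint S) (MoreMor.fiberMap f g (genericPoint S) x) =
            f ((f ≫ g).fiberι (genericPoint S) x) := by
          rw [← Scheme.Hom.comp_apply, ← Scheme.Hom.comp_apply,
            (isPullback_fiberMap f g (genericPoint S)).w]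
        change g.fiberι (genericPoint S) (MoreMor.fiberMap f g (genericPoint S) x) ∈
          Set.range W.ι
        rw [h1, Scheme.Opens.range_ι]
        apply hWa
        have h2 : (f ≫ g).fiberι (genericPoint S) x ∈ Set.range ((f ≫ g).fiberι (genericPoint S)) :=
          ⟨x, rfl⟩
        rw [Scheme.Hom.range_fiberι] at h2
        have h3 : g (f ((f ≫ g).fiberι (genericPoint S) x)) = genericPoint S := h2
        rw [h3]
        exact hηU₃
      obtain ⟨y, hy⟩ := hx
      obtain ⟨z, hz1, hz2⟩ := Scheme.Pullback.exists_preimage_pullback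
        (f := MoreMor.fiberMap f g (genericPoint S))
        (g := MoreMor.fiberMap W.ι g (genericPoint S)) x y hy.symm
      refine ⟨ha.isoPullback.inv z, ?_⟩
      rw [← Scheme.Hom.comp_apply, ha.isoPullback_inv_fst]
      exact hz1
    have hiso : IsIso a := (isIso_iff_isOpenImmersion_and_surjective a).mpr ⟨hao, has⟩
    have heq : MoreMor.fiberMap f g (genericPoint S) =
        inv a ≫ MoreMor.fiberMap (f ∣_ W) (W.ι ≫ g) (genericPoint S) ≫
          MoreMor.fiberMap W.ι g (genericPoint S) := by
      rw [← ha.w, IsIso.inv_hom_id_assoc]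
    rw [heq]
    infer_instance
  obtain ⟨U₄, hU₄, hηU₄, hU₄s⟩ := exists_nhd_not_mem_of_isConsMor (f ∣_ W) (W.ι ≫ g)
    isConsMor_isClosedImmersion hη'
  refine ⟨U₄, hU₄, hηU₄, fun s hs himm => hU₄s s hs ?_⟩
  obtain ⟨a, ha⟩ := exists_isPullback_fiberMap_of_isPullback sq g s
  have himm' : IsImmersion (MoreMor.fiberMap (f ∣_ W) (W.ι ≫ g) s) :=
    MorphismProperty.of_isPullback (P := @IsImmersion) ha himm
  change IsClosedImmersion (MoreMor.fiberMap (f ∣_ W) (W.ι ≫ g) s)
  rw [IsClosedImmersion.iff_isPreimmersion]
  refine ⟨inferInstance, ?_⟩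
  rw [range_fiberMap]
  exact hrc.preimage ((W.ι ≫ g).fiberι s).continuous

include f g in
/-- **Failure of "the morphism of fibres is an immersion" spreads out from the generic fibre.** -/
theorem exists_nhd_not_isImmersion_fiberMap
    (hη : ¬ IsImmersion (MoreMor.fiberMap f g (genericPoint S))) :
    ∃ U : Set S, IsOpen U ∧ genericPoint S ∈ U ∧
      ∀ s ∈ U, ¬ IsImmersion (MoreMor.fiberMap f g s) := by
  by_cases hcl : IsClosed ((g.fiberι (genericPoint S)) ⁻¹' (closure (Set.range f) \ Set.range f))
  · exact exists_nhd_not_isImmersion_of_boundary_closed f g hη hcl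
  · exact exists_nhd_not_isImmersion_of_boundary_not_closed f g hcl

end

end Groth.Agent.H29.ImmNeg
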