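import Mathlib
import Groth.Prelude.Def_EGA4Misc
import Groth.Agent.H29.ImmNeg2
import Groth.Agent.S1124

/-!
# "The morphism of fibres is an immersion" is a constructible relation (helper29; S3446)
-/

set_option autoImplicit false
universe u

open AlgebraicGeometry CategoryTheory Limits Topology TopologicalSpace

namespace Groth.Agent.H29.ImmCons

open Groth.Agent.H29.MorQ Groth.Agent.H29.NegFlat Groth.Agent.H29.ClosedImmCons
open Groth.Agent.H99.FibrewiseCons Groth.Agent.H29.ImmNeg Groth.Agent.H29.RelQ

theorem descends_immQC :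
    DescendsAlongLimit (@IsImmersion ⊓ @QuasiCompact : MorphismProperty Scheme.{u}) := by
  intro I _ _ D c hc _ i₀ _ _ X₀ Y₀ f₀ g₀ _ _ _ _ _ _ X Y f g qY qX hY hX hQ
  obtain ⟨i, φ, Xi, Yi, fi, gi, pY, pX, h1, h2, h3⟩ :=
    descends_isImmersion D c hc i₀ f₀ g₀ f g qY qX hY hX hQ.1
  have : QuasiCompact f₀ := QuasiCompact.of_comp f₀ g₀
  exact ⟨i, φ, Xi, Yi, fi, gi, pY, pX, h1, h2, h3,
    MorphismProperty.of_isPullback (P := @QuasiCompact) h2 inferInstance⟩

/-- "The morphism of fibres is a (quasi-compact) immersion" is a constructible relation. -/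
theorem isConsMor_immQC :
    ConsProp.IsConsMor
      (RelMor (@IsImmersion ⊓ @QuasiCompact : MorphismProperty Scheme.{u})) := by
  have := Groth.Agent.S1124.result.{u}
  refine ⟨isFieldStableMor_relMor _, ?_⟩
  intro X Y S f g _ _ _ _ _ _
  by_cases hgen : genericPoint S ∈ ConsProp.locusMor
      (RelMor (@IsImmersion ⊓ @QuasiCompact : MorphismProperty Scheme.{u})) f g
  · exact Or.inl ((isIndConsMor_relMor _ descends_immQC).2 f g hgen)
  · right
    have : IsLocallyNoetherian X := LocallyOfFiniteType.isLocallyNoetherian (f ≫ g)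
    have : CompactSpace X := QuasiCompact.compactSpace_of_compactSpace (f ≫ g)
    have : IsNoetherian X := {}
    have hqc : QuasiCompact f := inferInstance
    have hqcs : ∀ s, QuasiCompact (MoreMor.fiberMap f g s) := fun s =>
      MorphismProperty.of_isPullback (P := @QuasiCompact) (isPullback_fiberMap f g s) hqc
    have hgen' : ¬ IsImmersion (MoreMor.fiberMap f g (genericPoint S)) :=
      fun h => hgen ⟨h, hqcs _⟩
    obtain ⟨U, hU, hηU, hUs⟩ := exists_nhd_not_isImmersion_fiberMap f g hgen'
    exact ⟨genericPoint S, mem_interior.mpr ⟨U, fun s hs hs' => hUs s hs hs'.1, hU, hηU⟩⟩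

end Groth.Agent.H29.ImmCons
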