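import Groth.Agent.H29.IsoLocus
import Mathlib.AlgebraicGeometry.Morphisms.FlatDescent

/-!
# The isomorphism locus represents "the base change is an isomorphism"
-/

set_option autoImplicit false
universe u

open CategoryTheory CategoryTheory.Limits AlgebraicGeometry

namespace Groth.Agent.H29.IsoLocusBC

/-- Variant of `IsoLocus.isPullback_baseChange` with a propositional equation. -/
theorem isPullback_baseChange' {X Y S T : Scheme.{u}} (f : X ⟶ Y) (h : Y ⟶ S) (g : X ⟶ S)
    (w : f ≫ h = g) (t : T ⟶ S) (m : pullback g t ⟶ pullback h t)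
    (hm1 : m ≫ pullback.fst h t = pullback.fst g t ≫ f)
    (hm2 : m ≫ pullback.snd h t = pullback.snd g t) :
    IsPullback (pullback.fst g t) m f (pullback.fst h t) := by
  subst w
  exact IsoLocus.isPullback_baseChange f h t m hm1 hm2

/-- Morphisms between spectra of fields are faithfully flat and quasi-compact. -/
theorem fpqc_of_field {k K : Type u} [Field k] [Field K]
    (y : Spec (.of K) ⟶ Spec (.of k)) :
    (@Surjective ⊓ @Flat ⊓ @QuasiCompact : MorphismProperty Scheme.{u}) y := by
  obtain ⟨φ, rfl⟩ := Spec.map_surjective y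
  refine ⟨⟨?_, ?_⟩, inferInstance⟩
  · exact ⟨fun z => ⟨(IsLocalRing.closedPoint K : PrimeSpectrum K),
      Subsingleton.elim (α := PrimeSpectrum k) _ _⟩⟩
  · show Flat (Spec.map φ)
    rw [HasRingHomProperty.Spec_iff (P := @Flat)]
    algebraize [φ.hom]
    change Module.Flat k K
    infer_instance

theorem exists_isoLocus_baseChange {S X Y : Scheme.{u}} (hY : Y ⟶ S) (fl : X ⟶ Y)
    [LocallyOfFiniteType hY] [LocallyOfFinitePresentation (fl ≫ hY)] [Flat (fl ≫ hY)]
    [UniversallyClosed fl] (hcl : IsClosedMap hY.base) :
    ∃ S₀ : S.Opens, ∀ (S' : Scheme.{u}) (h' : S' ⟶ S),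
      Set.range h' ⊆ (S₀ : Set S) ↔
        IsIso ((Over.pullback h').map
          (Over.homMk fl rfl : Over.mk (fl ≫ hY) ⟶ Over.mk hY)).left := by
  obtain ⟨U, hU, hiso⟩ := IsoLocus.exists_isoLocus fl hY hcl
  refine ⟨U, fun S' h' => ⟨fun hr => ?_, fun hm => ?_⟩⟩
  · have sq := IsoLocus.isPullback_baseChange fl hY h'
      ((Over.pullback h').map (Over.homMk fl rfl : Over.mk (fl ≫ hY) ⟶ Over.mk hY)).left
      (by simp [pullback.lift_fst]) (by simp [pullback.lift_snd])
    refine ComplNear.of_isPullback_of_range_subset (MorphismProperty.isomorphisms Scheme.{u}) sq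
      (hY ⁻¹ᵁ U) hiso ?_
    rw [Scheme.Pullback.range_fst]
    exact Set.preimage_mono hr
  · rintro _ ⟨s', rfl⟩
    show h' s' ∈ U
    rw [hU]
    let F : Over.mk (fl ≫ hY) ⟶ Over.mk hY := Over.homMk fl rfl
    let t := S.fromSpecResidueField (h' s')
    let t' := S'.fromSpecResidueField s'
    let a := Spec.map (h'.residueFieldMap s')
    have hat : t' ≫ h' = a ≫ t :=
      (Scheme.Hom.SpecMap_residueFieldMap_fromSpecResidueField h' s').symm
    have h1 : IsIso ((Over.pullback h').map F) := by
      have : IsIso ((CategoryTheory.Over.forget S').map ((Over.pullback h').map F)) := hm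
      exact isIso_of_reflects_iso _ (CategoryTheory.Over.forget S')
    have h2 : IsIso ((Over.pullback t').map ((Over.pullback h').map F)) := inferInstance
    have h3 : IsIso ((Over.pullback (t' ≫ h')).map F) :=
      (NatIso.isIso_map_iff (CategoryTheory.Over.pullbackComp t' h') F).mpr h2
    rw [hat] at h3
    have h5 : IsIso ((Over.pullback a).map ((Over.pullback t).map F)) :=
      (NatIso.isIso_map_iff (CategoryTheory.Over.pullbackComp a t) F).mp h3
    have h6 : IsIso ((Over.pullback a).map ((Over.pullback t).map F)).left :=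
      (CategoryTheory.Over.forget (Spec (S'.residueField s'))).map_isIso
        ((Over.pullback a).map ((Over.pullback t).map F))
    have sq := isPullback_baseChange' ((Over.pullback t).map F).left
      (pullback.snd hY t) (pullback.snd (fl ≫ hY) t) (Over.w ((Over.pullback t).map F)) a
      ((Over.pullback a).map ((Over.pullback t).map F)).left
      (by simp [pullback.lift_fst]) (by simp [pullback.lift_snd])
    have hQ : (@Surjective ⊓ @Flat ⊓ @QuasiCompact : MorphismProperty Scheme.{u})
        (pullback.fst (pullback.snd hY t) a) :=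
      MorphismProperty.pullback_fst _ _
        (fpqc_of_field (k := S.residueField (h' s')) (K := S'.residueField s') a)
    have h7 : MorphismProperty.isomorphisms Scheme.{u} ((Over.pullback t).map F).left :=
      MorphismProperty.of_isPullback_of_descendsAlong
        (P := MorphismProperty.isomorphisms Scheme.{u})
        (Q := (@Surjective ⊓ @Flat ⊓ @QuasiCompact : MorphismProperty Scheme.{u}))
        sq.flip hQ h6
    exact ⟨((Over.pullback t).map F).left, h7, pullback.lift_fst _ _ _⟩

end Groth.Agent.H29.IsoLocusBC
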