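import Mathlib.RingTheory.Kaehler.Basic
import Mathlib.LinearAlgebra.TensorProduct.RightExactness

set_option autoImplicit false
set_option linter.unusedSectionVars false

namespace Groth.Agent.H29

namespace KaehlerL

open TensorProduct KaehlerDifferential

section Ext

variable (R : Type*) {S T : Type*} [CommRing R] [CommRing S] [CommRing T] [Algebra R S]
  [Algebra S T]

/-- two additive maps out of `T ⊗ Ω` agreeing on the `c ⊗ d x` are equal -/
theorem addHom_ext {M : Type*} [AddCommMonoid M] (φ ψ : T ⊗[S] Ω[S⁄R] →+ M)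
    (h : ∀ (c : T) (x : S), φ (c ⊗ₜ[S] D R S x) = ψ (c ⊗ₜ[S] D R S x)) (t : T ⊗[S] Ω[S⁄R]) :
    φ t = ψ t := by
  have key : ∀ (ω : Ω[S⁄R]) (c : T), φ (c ⊗ₜ[S] ω) = ψ (c ⊗ₜ[S] ω) := by
    intro ω
    have hω : ω ∈ Submodule.span S (Set.range (D R S)) := by
      rw [KaehlerDifferential.span_range_derivation]; trivial
    induction hω using Submodule.span_induction with
    | mem x hx =>
      obtain ⟨b, rfl⟩ := hx
      exact fun c => h c b
    | zero => intro c; rw [TensorProduct.tmul_zero, map_zero, map_zero]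
    | add x y _ _ hx hy => intro c; rw [TensorProduct.tmul_add, map_add, map_add, hx, hy]
    | smul b x _ hx => intro c; rw [← TensorProduct.smul_tmul, hx]
  induction t with
  | zero => rw [map_zero, map_zero]
  | tmul c ω => exact key ω c
  | add t t' ht ht' => rw [map_add, map_add, ht, ht']

end Ext

section Tower

variable (R R' : Type*) {S T : Type*} [CommRing R] [CommRing R'] [CommRing S] [CommRing T]
  [Algebra R R'] [Algebra R S] [Algebra R' S] [IsScalarTower R R' S]
  [Algebra S T] [Algebra R T] [Algebra R' T] [IsScalarTower R S T] [IsScalarTower R' S T]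

/-- change of base ring `T ⊗ Ω_{S/R} → T ⊗ Ω_{S/R'}` -/
noncomputable abbrev phi : T ⊗[S] Ω[S⁄R] →ₗ[T] T ⊗[S] Ω[S⁄R'] :=
  (KaehlerDifferential.map R R' S S).baseChange T

theorem phi_tmul_D (c : T) (x : S) :
    phi R R' (c ⊗ₜ[S] D R S x) = c ⊗ₜ[S] D R' S x := by
  rw [LinearMap.baseChange_tmul, KaehlerDifferential.map_D]
  rfl

theorem phi_surjective : Function.Surjective (phi R R' (S := S) (T := T)) := by
  intro w
  induction w with
  | zero => exact ⟨0, map_zero _⟩
  | tmul c ω =>
    obtain ⟨ω', rfl⟩ := KaehlerDifferential.map_surjective R R' S ω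
    exact ⟨c ⊗ₜ ω', LinearMap.baseChange_tmul _ _ _⟩
  | add w w' h h' =>
    obtain ⟨z, rfl⟩ := h
    obtain ⟨z', rfl⟩ := h'
    exact ⟨z + z', map_add _ _ _⟩

variable [IsScalarTower R R' T]

theorem mapBaseChange_phi (z : T ⊗[S] Ω[S⁄R]) :
    KaehlerDifferential.mapBaseChange R' S T (phi R R' z) =
      KaehlerDifferential.map R R' T T (KaehlerDifferential.mapBaseChange R S T z) := by
  refine addHom_ext R
    ((KaehlerDifferential.mapBaseChange R' S T).toAddMonoidHom.comp (phi R R').toAddMonoidHom)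
    ((KaehlerDifferential.map R R' T T).toAddMonoidHom.comp
      (KaehlerDifferential.mapBaseChange R S T).toAddMonoidHom) (fun c x => ?_) z
  change KaehlerDifferential.mapBaseChange R' S T (phi R R' (c ⊗ₜ[S] D R S x)) =
    KaehlerDifferential.map R R' T T (KaehlerDifferential.mapBaseChange R S T (c ⊗ₜ[S] D R S x))
  rw [phi_tmul_D, KaehlerDifferential.mapBaseChange_tmul, KaehlerDifferential.mapBaseChange_tmul,
    KaehlerDifferential.map_D, KaehlerDifferential.map_D, map_smul, KaehlerDifferential.map_D]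
  rfl

/-- the map `T ⊗ Ω_{R'/R} → T ⊗ Ω_{S/R}` -/
noncomputable def iota : T ⊗[R'] Ω[R'⁄R] →ₗ[R'] T ⊗[S] Ω[S⁄R] :=
  TensorProduct.lift
    (LinearMap.mk₂ R' (fun (c : T) (ω : Ω[R'⁄R]) =>
        c ⊗ₜ[S] KaehlerDifferential.map R R R' S ω)
      (fun c c' ω => by rw [TensorProduct.add_tmul])
      (fun b c ω => by rw [TensorProduct.smul_tmul'])
      (fun c ω ω' => by rw [map_add, TensorProduct.tmul_add])
      (fun b c ω => by
        rw [map_smul, ← IsScalarTower.algebraMap_smul S b, ← TensorProduct.smul_tmul,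
          IsScalarTower.algebraMap_smul, TensorProduct.smul_tmul']))

theorem iota_tmul (c : T) (ω : Ω[R'⁄R]) :
    iota R R' (S := S) (c ⊗ₜ[R'] ω) = c ⊗ₜ[S] KaehlerDifferential.map R R R' S ω := rfl

theorem mapBaseChange_iota (y : T ⊗[R'] Ω[R'⁄R]) :
    KaehlerDifferential.mapBaseChange R S T (iota R R' y) =
      KaehlerDifferential.mapBaseChange R R' T y := by
  refine addHom_ext R
    ((KaehlerDifferential.mapBaseChange R S T).toAddMonoidHom.comp (iota R R').toAddMonoidHom)
    (KaehlerDifferential.mapBaseChange R R' T).toAddMonoidHom (fun c x => ?_) y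
  change KaehlerDifferential.mapBaseChange R S T (iota R R' (c ⊗ₜ[R'] D R R' x)) =
    KaehlerDifferential.mapBaseChange R R' T (c ⊗ₜ[R'] D R R' x)
  rw [iota_tmul, KaehlerDifferential.map_D, KaehlerDifferential.mapBaseChange_tmul,
    KaehlerDifferential.mapBaseChange_tmul, KaehlerDifferential.map_D, KaehlerDifferential.map_D,
    ← IsScalarTower.algebraMap_apply]

theorem phi_iota (y : T ⊗[R'] Ω[R'⁄R]) : phi R R' (iota R R' (S := S) y) = 0 := by
  refine addHom_ext R
    ((phi R R' (S := S) (T := T)).toAddMonoidHom.comp (iota R R').toAddMonoidHom) 0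
    (fun c x => ?_) y
  change phi R R' (iota R R' (c ⊗ₜ[R'] D R R' x)) = 0
  rw [iota_tmul, KaehlerDifferential.map_D, phi_tmul_D, Derivation.map_algebraMap,
    TensorProduct.tmul_zero]

/-- the snake argument: kernels of `mapBaseChange` surject -/
theorem exists_lift_ker (w : T ⊗[S] Ω[S⁄R'])
    (hw : KaehlerDifferential.mapBaseChange R' S T w = 0) :
    ∃ z : T ⊗[S] Ω[S⁄R], KaehlerDifferential.mapBaseChange R S T z = 0 ∧ phi R R' z = w := by
  obtain ⟨z, rfl⟩ := phi_surjective R R' w
  rw [mapBaseChange_phi] at hw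
  obtain ⟨y, hy⟩ := (KaehlerDifferential.exact_mapBaseChange_map R R' T _).1 hw
  refine ⟨z - iota R R' y, ?_, ?_⟩
  · rw [map_sub, mapBaseChange_iota, hy, sub_self]
  · rw [map_sub, phi_iota, sub_zero]

end Tower

section Comp

variable (R R' R'' : Type*) {S T : Type*} [CommRing R] [CommRing R'] [CommRing R''] [CommRing S]
  [CommRing T] [Algebra R R'] [Algebra R R''] [Algebra R' R''] [Algebra R S] [Algebra R' S]
  [Algebra R'' S] [IsScalarTower R R' S] [IsScalarTower R' R'' S] [IsScalarTower R R'' S]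
  [Algebra S T]

theorem phi_phi (z : T ⊗[S] Ω[S⁄R]) :
    (KaehlerDifferential.map R' R'' S S).baseChange T
      ((KaehlerDifferential.map R R' S S).baseChange T z) =
      (KaehlerDifferential.map R R'' S S).baseChange T z := by
  refine addHom_ext R
    (((KaehlerDifferential.map R' R'' S S).baseChange T).toAddMonoidHom.comp
      ((KaehlerDifferential.map R R' S S).baseChange T).toAddMonoidHom)
    ((KaehlerDifferential.map R R'' S S).baseChange T).toAddMonoidHom (fun c x => ?_) z
  change (KaehlerDifferential.map R' R'' S S).baseChange T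
      ((KaehlerDifferential.map R R' S S).baseChange T (c ⊗ₜ[S] D R S x)) =
      (KaehlerDifferential.map R R'' S S).baseChange T (c ⊗ₜ[S] D R S x)
  rw [LinearMap.baseChange_tmul, LinearMap.baseChange_tmul, KaehlerDifferential.map_D,
    LinearMap.baseChange_tmul, KaehlerDifferential.map_D, KaehlerDifferential.map_D]
  rfl

end Comp

end KaehlerL

end Groth.Agent.H29
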