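import Mathlib
import Groth.Prelude.Def_CAlg
import Groth.Agent.H15.Depth
import Groth.Agent.H72.DepthExt
import Groth.Agent.H29.SuppDimLoc
import Groth.Agent.H29.SkAt

/-!
# Depth and dimension of a localized kernel; `(S_1)`, `(S_2)` for kernels

* `kerEquiv`: `(ker u)_S ≃ ker (u_S)`.
* `one_le_depth_ker`, `two_le_depth_ker`: localized versions of H72's kernel depth lemmas.
* `supportDim_localization_mono`: `Supp M ⊆ Supp N → dim M_p ≤ dim N_p`.
* `hasSk_one_ker`, `hasSk_two_ker`.
-/

set_option autoImplicit false
set_option linter.style.haveILetI false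
set_option linter.unusedSectionVars false
universe u

namespace Groth.Agent.H29.KerLoc

open IsLocalRing

variable {A : Type u} [CommRing A] {E0 E1 : Type u} [AddCommGroup E0] [Module A E0]
  [AddCommGroup E1] [Module A E1] (u : E0 →ₗ[A] E1)

/-- localization commutes with kernels -/
noncomputable def kerEquiv (S : Submonoid A) :
    LocalizedModule S (LinearMap.ker u) ≃ₗ[Localization S]
      LinearMap.ker (LocalizedModule.map S u) :=
  (LinearEquiv.ofInjective (LocalizedModule.map S (LinearMap.ker u).subtype)
    (LocalizedModule.map_injective S _ (Submodule.injective_subtype _))).trans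
    (LinearEquiv.ofEq _ _ (by
      have hex : Function.Exact (LinearMap.ker u).subtype u := fun x => by
        simp [LinearMap.mem_ker]
      have h := LocalizedModule.map_exact S _ _ hex
      have h2 : Function.Exact (LocalizedModule.map S (LinearMap.ker u).subtype)
          (LocalizedModule.map S u) := h
      exact ((LinearMap.exact_iff.mp h2)).symm))

variable [IsNoetherianRing A] [Module.Finite A E0] [Module.Finite A E1] (p : Ideal A) [p.IsPrime]

theorem one_le_depth_ker
    (h0 : 1 ≤ LocCoh.depth (Localization.AtPrime p) (LocalizedModule p.primeCompl E0)) :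
    1 ≤ LocCoh.depth (Localization.AtPrime p)
      (LocalizedModule p.primeCompl (LinearMap.ker u)) := by
  haveI : IsNoetherianRing (Localization.AtPrime p) :=
    IsLocalization.isNoetherianRing p.primeCompl _ inferInstance
  haveI : Module.Finite (Localization.AtPrime p) (LocalizedModule p.primeCompl E0) :=
    Module.Finite.of_isLocalizedModule p.primeCompl (LocalizedModule.mkLinearMap p.primeCompl E0)
  unfold LocCoh.depth at h0 ⊢
  rw [Groth.Agent.H15.idealDepth_congr (kerEquiv u p.primeCompl)]
  exact Groth.Agent.H72.DepthExt.one_le_idealDepth_ker _ (LocalizedModule.map p.primeCompl u) h0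

theorem two_le_depth_ker
    (h0 : 2 ≤ LocCoh.depth (Localization.AtPrime p) (LocalizedModule p.primeCompl E0))
    (h1 : 1 ≤ LocCoh.depth (Localization.AtPrime p) (LocalizedModule p.primeCompl E1)) :
    2 ≤ LocCoh.depth (Localization.AtPrime p)
      (LocalizedModule p.primeCompl (LinearMap.ker u)) := by
  haveI : IsNoetherianRing (Localization.AtPrime p) :=
    IsLocalization.isNoetherianRing p.primeCompl _ inferInstance
  haveI : Module.Finite (Localization.AtPrime p) (LocalizedModule p.primeCompl E0) :=
    Module.Finite.of_isLocalizedModule p.primeCompl (LocalizedModule.mkLinearMap p.primeCompl E0)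
  haveI : Module.Finite (Localization.AtPrime p) (LocalizedModule p.primeCompl E1) :=
    Module.Finite.of_isLocalizedModule p.primeCompl (LocalizedModule.mkLinearMap p.primeCompl E1)
  unfold LocCoh.depth at h0 h1 ⊢
  rw [Groth.Agent.H15.idealDepth_congr (kerEquiv u p.primeCompl)]
  exact Groth.Agent.H72.DepthExt.two_le_idealDepth_ker _ (LocalizedModule.map p.primeCompl u) h0 h1

omit [IsNoetherianRing A] [Module.Finite A E0] [Module.Finite A E1] in
/-- monotonicity of the local support dimension in the support -/
theorem supportDim_localization_mono (M N : Type u) [AddCommGroup M] [Module A M]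
    [AddCommGroup N] [Module A N] (h : Module.support A M ⊆ Module.support A N) :
    Module.supportDim (Localization.AtPrime p) (LocalizedModule p.primeCompl M) ≤
      Module.supportDim (Localization.AtPrime p) (LocalizedModule p.primeCompl N) := by
  rw [Groth.Agent.H29.SuppDimLoc.supportDim_localization_eq,
    Groth.Agent.H29.SuppDimLoc.supportDim_localization_eq]
  refine Order.krullDim_le_of_strictMono
    (fun x : Groth.Agent.H29.SuppDimLoc.Below M p =>
      (⟨x.1, h x.2.1, x.2.2⟩ : Groth.Agent.H29.SuppDimLoc.Below N p)) ?_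
  intro x y hxy
  exact hxy


omit [IsNoetherianRing A] [Module.Finite A E0] [Module.Finite A E1] in
theorem supportDim_ker_le :
    Module.supportDim (Localization.AtPrime p)
        (LocalizedModule p.primeCompl (LinearMap.ker u)) ≤
      Module.supportDim (Localization.AtPrime p) (LocalizedModule p.primeCompl E0) :=
  Module.supportDim_le_of_injective (LocalizedModule.map p.primeCompl (LinearMap.ker u).subtype)
    (LocalizedModule.map_injective p.primeCompl _ (Submodule.injective_subtype _))

theorem eq_zero_of_not_one_le {δ : ℕ∞} (h : ¬ 1 ≤ δ) : δ = 0 := by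
  by_contra h0
  exact h (Order.one_le_iff_ne_zero.mpr h0)

theorem coe_one_le {δ : ℕ∞} (h : ((1 : ℕ) : WithBot ℕ∞) ≤ ((δ : ℕ∞) : WithBot ℕ∞)) : 1 ≤ δ := by
  exact_mod_cast h

theorem coe_two_le {δ : ℕ∞} (h : ((2 : ℕ) : WithBot ℕ∞) ≤ ((δ : ℕ∞) : WithBot ℕ∞)) : 2 ≤ δ := by
  have h2 : ((2 : ℕ) : WithBot ℕ∞) = (((2 : ℕ) : ℕ∞) : WithBot ℕ∞) := rfl
  rw [h2, WithBot.coe_le_coe] at h
  exact_mod_cast h

theorem two_le_coe {δ : ℕ∞} (h : 2 ≤ δ) : ((2 : ℕ) : WithBot ℕ∞) ≤ ((δ : ℕ∞) : WithBot ℕ∞) := by
  have h2 : ((2 : ℕ) : WithBot ℕ∞) = (((2 : ℕ) : ℕ∞) : WithBot ℕ∞) := rfl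
  rw [h2, WithBot.coe_le_coe]
  exact_mod_cast h

/-- `(S_1)` passes to kernels (indeed to submodules) -/
theorem skCond_one_ker (h0 : Groth.Agent.H29.SkAt.SkCond 1 A E0 p) :
    Groth.Agent.H29.SkAt.SkCond 1 A (LinearMap.ker u) p := by
  unfold Groth.Agent.H29.SkAt.SkCond at h0 ⊢
  by_cases h : 1 ≤ LocCoh.depth (Localization.AtPrime p)
      (LocalizedModule p.primeCompl (LinearMap.ker u))
  · refine (min_le_left _ _).trans ?_
    exact_mod_cast h
  · have hE0 : ¬ 1 ≤ LocCoh.depth (Localization.AtPrime p) (LocalizedModule p.primeCompl E0) :=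
      fun h' => h (one_le_depth_ker u p h')
    rcases min_le_iff.mp h0 with h1 | h1
    · exact absurd (coe_one_le h1) hE0
    · rw [eq_zero_of_not_one_le hE0] at h1
      refine (min_le_right _ _).trans (((supportDim_ker_le u p).trans h1).trans ?_)
      exact WithBot.coe_le_coe.mpr zero_le

/-- `(S_2)` for kernels -/
theorem skCond_two_ker (hsupp : Module.support A (LinearMap.ker u) ⊆ Module.support A E1)
    (h1 : Groth.Agent.H29.SkAt.SkCond 1 A E1 p) (h0 : Groth.Agent.H29.SkAt.SkCond 2 A E0 p) :
    Groth.Agent.H29.SkAt.SkCond 2 A (LinearMap.ker u) p := by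
  have h0' : Groth.Agent.H29.SkAt.SkCond 1 A E0 p := by
    unfold Groth.Agent.H29.SkAt.SkCond at h0 ⊢
    refine le_trans (min_le_min_right _ ?_) h0
    exact_mod_cast (by norm_num : (1 : ℕ) ≤ 2)
  have hk1 := skCond_one_ker u p h0'
  unfold Groth.Agent.H29.SkAt.SkCond at h0 h1 hk1 ⊢
  by_cases h : 2 ≤ LocCoh.depth (Localization.AtPrime p)
      (LocalizedModule p.primeCompl (LinearMap.ker u))
  · exact (min_le_left _ _).trans (two_le_coe h)
  · have hcases : ¬ 2 ≤ LocCoh.depth (Localization.AtPrime p) (LocalizedModule p.primeCompl E0) ∨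
        ¬ 1 ≤ LocCoh.depth (Localization.AtPrime p) (LocalizedModule p.primeCompl E1) := by
      by_contra hcon
      push Not at hcon
      exact h (two_le_depth_ker u p hcon.1 hcon.2)
    rcases hcases with hA | hB
    · -- `dim E0_p ≤ depth E0_p ≤ 1`
      rcases min_le_iff.mp h0 with h2 | h2
      · exact absurd (coe_two_le h2) hA
      · have hle1 : LocCoh.depth (Localization.AtPrime p) (LocalizedModule p.primeCompl E0) ≤ 1 := by
          rw [not_le] at hA
          have : (2 : ℕ∞) = 1 + 1 := by norm_num
          rw [this] at hA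
          exact (ENat.lt_add_one_iff (by simp)).mp hA
        have hd1 : Module.supportDim (Localization.AtPrime p)
            (LocalizedModule p.primeCompl (LinearMap.ker u)) ≤ ((1 : ℕ) : WithBot ℕ∞) := by
          refine ((supportDim_ker_le u p).trans h2).trans ?_
          exact_mod_cast hle1
        rcases min_le_iff.mp hk1 with h3 | h3
        · exact (min_le_right _ _).trans (hd1.trans h3)
        · exact (min_le_right _ _).trans h3
    · rcases min_le_iff.mp h1 with h2 | h2
      · exact absurd (coe_one_le h2) hB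
      · rw [eq_zero_of_not_one_le hB] at h2
        refine (min_le_right _ _).trans
          (((supportDim_localization_mono p _ _ hsupp).trans h2).trans ?_)
        exact WithBot.coe_le_coe.mpr zero_le

end Groth.Agent.H29.KerLoc
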