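import Mathlib
import Groth.Agent.H25.NormFlat

/-!
# Regular sequences on powers of an ideal under normal flatness (helper29)

* `isWeaklyRegular_of_exact`: weak regularity of a sequence passes to extensions.
* `isWeaklyRegular_of_subsingleton`
* `isWeaklyRegular_of_forall_quot`: over a Noetherian ring, with `J` in the Jacobson radical and
  `E` finite, weak regularity on all `E/JⁿE` implies weak regularity on `E`.
-/

set_option autoImplicit false
set_option linter.style.haveILetI false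

namespace Groth.Agent.H29.NormFlatReg

open RingTheory.Sequence Pointwise

universe u v

section SES

variable {R : Type u} [CommRing R]

theorem isWeaklyRegular_of_subsingleton : ∀ (rs : List R) (M : Type v) [AddCommGroup M] [Module R M]
    [Subsingleton M], IsWeaklyRegular M rs := by
  intro rs
  induction rs with
  | nil => intro M _ _ _; exact IsWeaklyRegular.nil R M
  | cons r rs ih =>
    intro M _ _ _
    rw [isWeaklyRegular_cons_iff]
    exact ⟨fun a b _ => Subsingleton.elim a b, ih _⟩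

/-- weak regularity passes to extensions -/
theorem isWeaklyRegular_of_exact : ∀ (rs : List R) {M' M M'' : Type v} [AddCommGroup M']
    [Module R M'] [AddCommGroup M] [Module R M] [AddCommGroup M''] [Module R M'']
    (f : M' →ₗ[R] M) (g : M →ₗ[R] M''), Function.Injective f → Function.Exact f g →
    Function.Surjective g → IsWeaklyRegular M' rs → IsWeaklyRegular M'' rs →
    IsWeaklyRegular M rs := by
  intro rs
  induction rs with
  | nil => intro M' M M'' _ _ _ _ _ _ f g _ _ _ _ _; exact IsWeaklyRegular.nil R M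
  | cons r rs ih =>
    intro M' M M'' _ _ _ _ _ _ f g hf hfg hg h1 h2
    rw [isWeaklyRegular_cons_iff] at h1 h2 ⊢
    refine ⟨isSMulRegular_of_range_eq_ker hf hfg.linearMap_ker_eq.symm h1.1 h2.1, ?_⟩
    refine ih (QuotSMulTop.map r f) (QuotSMulTop.map r g) ?_ (QuotSMulTop.map_exact r hfg hg)
      (QuotSMulTop.map_surjective r hg) h1.2 h2.2
    -- injectivity of `map r f` from regularity on `M''`
    have hex := QuotSMulTop.map_first_exact_on_four_term_exact_of_isSMulRegular_last
      (r := r) (f₁ := (0 : PUnit.{v+1} →ₗ[R] M')) (f₂ := f) (f₃ := g)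
      (by
        intro x
        constructor
        · intro hx
          refine ⟨PUnit.unit, ?_⟩
          rw [LinearMap.zero_apply]
          exact (hf (by rw [hx, map_zero])).symm
        · rintro ⟨_, rfl⟩
          simp) hfg h2.1
    rw [← LinearMap.ker_eq_bot, LinearMap.ker_eq_bot']
    intro x hx
    obtain ⟨y, rfl⟩ := (hex x).mp hx
    have : y = 0 := Subsingleton.elim _ _
    rw [this, map_zero]

end SES

section Lim
variable {R : Type u} [CommRing R]

/-- swapping two successive quotients -/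
noncomputable def quotQuotComm {E : Type v} [AddCommGroup E] [Module R E] (S T : Submodule R E) :
    ((E ⧸ S) ⧸ T.map S.mkQ) ≃ₗ[R] ((E ⧸ T) ⧸ S.map T.mkQ) :=
  (Submodule.quotientQuotientEquivQuotientSup S T).trans
    ((Submodule.quotEquivOfEq _ _ (sup_comm S T)).trans
      (Submodule.quotientQuotientEquivQuotientSup T S).symm)

theorem smul_top_quot_eq_map {E : Type v} [AddCommGroup E] [Module R E] (I : Ideal R)
    (S : Submodule R E) :
    (I • ⊤ : Submodule R (E ⧸ S)) = (I • ⊤ : Submodule R E).map S.mkQ := by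
  rw [Submodule.map_smul'', Submodule.map_top, Submodule.range_mkQ]

theorem pointwise_smul_top_quot_eq_map {E : Type v} [AddCommGroup E] [Module R E] (r : R)
    (S : Submodule R E) :
    (r • ⊤ : Submodule R (E ⧸ S)) = (r • ⊤ : Submodule R E).map S.mkQ := by
  rw [Submodule.map_pointwise_smul, Submodule.map_top, Submodule.range_mkQ]

/-- `(E/rE)/J(E/rE) ≃ (E/JE)/r(E/JE)` -/
noncomputable def quotSMulTopQuotEquiv {E : Type v} [AddCommGroup E] [Module R E] (r : R)
    (I : Ideal R) :
    (QuotSMulTop r E ⧸ (I • ⊤ : Submodule R (QuotSMulTop r E))) ≃ₗ[R]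
      QuotSMulTop r (E ⧸ (I • ⊤ : Submodule R E)) :=
  (Submodule.quotEquivOfEq _ _ (smul_top_quot_eq_map I (r • ⊤ : Submodule R E))).trans
    ((quotQuotComm (r • ⊤ : Submodule R E) (I • ⊤ : Submodule R E)).trans
      (Submodule.quotEquivOfEq _ _
        (pointwise_smul_top_quot_eq_map r (I • ⊤ : Submodule R E)).symm))

/-- Krull: weak regularity on all `E/JⁿE` gives weak regularity on `E`. -/
theorem isWeaklyRegular_of_forall_quot [IsNoetherianRing R] (J : Ideal R)
    (hJ : J ≤ (⊥ : Ideal R).jacobson) : ∀ (rs : List R) (E : Type v) [AddCommGroup E] [Module R E]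
    [Module.Finite R E], (∀ n : ℕ, IsWeaklyRegular (E ⧸ (J ^ n • ⊤ : Submodule R E)) rs) →
    IsWeaklyRegular E rs := by
  intro rs
  induction rs with
  | nil => intro E _ _ _ _; exact IsWeaklyRegular.nil R E
  | cons r rs ih =>
    intro E _ _ _ h
    rw [isWeaklyRegular_cons_iff]
    refine ⟨?_, ?_⟩
    · refine IsSMulRegular.of_right_eq_zero_of_smul fun x hx => ?_
      have hmem : ∀ n : ℕ, x ∈ (J ^ n • ⊤ : Submodule R E) := by
        intro n
        have h1 := ((isWeaklyRegular_cons_iff _ _ _).mp (h n)).1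
        refine mem_of_isSMulRegular_quotient_of_smul_mem h1 ?_
        rw [hx]; exact Submodule.zero_mem _
      have hbot : (⨅ n : ℕ, (J ^ n • ⊤ : Submodule R E)) = ⊥ :=
        Ideal.iInf_pow_smul_eq_bot_of_le_jacobson J hJ
      have : x ∈ (⊥ : Submodule R E) := by
        rw [← hbot, Submodule.mem_iInf]; exact hmem
      simpa using this
    · refine ih (QuotSMulTop r E) fun n => ?_
      have h1 := ((isWeaklyRegular_cons_iff _ _ _).mp (h n)).2
      exact ((quotSMulTopQuotEquiv r (J ^ n)).isWeaklyRegular_congr rs).mpr h1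

end Lim

section Powers
variable {A : Type u} [CommRing A]

theorem mem_smul_top_iff (I₁ I₂ : Ideal A) (x : ↥I₂) :
    x ∈ (I₁ • ⊤ : Submodule A ↥I₂) ↔ (x : A) ∈ I₁ * I₂ := by
  have h : (I₁ • ⊤ : Submodule A ↥I₂).map (Submodule.subtype I₂) = I₁ * I₂ := by
    rw [Submodule.map_smul'', Submodule.map_top, Submodule.range_subtype, smul_eq_mul]
  rw [← h]
  constructor
  · intro hx; exact ⟨x, hx, rfl⟩
  · rintro ⟨y, hy, hyx⟩
    have : y = x := Subtype.ext hyx
    rwa [← this]

/-- the graded piece part -/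
theorem isWeaklyRegular_gr (J : Ideal A) (k : ℕ)
    (hflat : Module.Flat (A ⧸ J) (↥(J ^ k) ⧸ (J • (⊤ : Submodule A ↥(J ^ k)))))
    (fs : List A) (hreg : IsWeaklyRegular (A ⧸ J) fs) :
    IsWeaklyRegular (↥(J ^ k) ⧸ (J • (⊤ : Submodule A ↥(J ^ k)))) fs := by
  have h1 : IsWeaklyRegular (A ⧸ J) (fs.map (algebraMap A (A ⧸ J))) :=
    (isWeaklyRegular_map_algebraMap_iff (A ⧸ J) (A ⧸ J) fs).mpr hreg
  have h2 := Groth.Agent.H25.NormFlat.isWeaklyRegular_of_flat
    (↥(J ^ k) ⧸ (J • (⊤ : Submodule A ↥(J ^ k)))) _ h1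
  exact (isWeaklyRegular_map_algebraMap_iff (A ⧸ J) _ fs).mp h2

/-- `fs` is weakly regular on every `Jᵏ/Jⁿ⁺ᵏ` once it is on all graded pieces -/
theorem isWeaklyRegular_quot_pow (J : Ideal A) (k : ℕ) (fs : List A)
    (hgr : ∀ m : ℕ, IsWeaklyRegular (↥(J ^ m) ⧸ (J • (⊤ : Submodule A ↥(J ^ m)))) fs) :
    ∀ n : ℕ, IsWeaklyRegular (↥(J ^ k) ⧸ (J ^ n • ⊤ : Submodule A ↥(J ^ k))) fs := by
  intro n
  induction n with
  | zero =>
    have : (J ^ 0 • ⊤ : Submodule A ↥(J ^ k)) = ⊤ := by
      rw [pow_zero, Ideal.one_eq_top, Submodule.top_smul]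
    have : Subsingleton (↥(J ^ k) ⧸ (J ^ 0 • ⊤ : Submodule A ↥(J ^ k))) :=
      Submodule.Quotient.subsingleton_iff.mpr this
    exact isWeaklyRegular_of_subsingleton fs _
  | succ n ih =>
    have hle : (J ^ (n + 1) • ⊤ : Submodule A ↥(J ^ k)) ≤ J ^ n • ⊤ :=
      Submodule.smul_mono_left (Ideal.pow_le_pow_right (Nat.le_succ n))
    let g : (↥(J ^ k) ⧸ (J ^ (n + 1) • ⊤ : Submodule A ↥(J ^ k))) →ₗ[A]
        (↥(J ^ k) ⧸ (J ^ n • ⊤ : Submodule A ↥(J ^ k))) := Submodule.factor hle
    have hpow1 : J * J ^ (n + k) = J ^ (n + 1) * J ^ k := by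
      rw [← pow_succ', ← pow_add]; congr 1; omega
    have hpow2 : J ^ n * J ^ k = J ^ (n + k) := (pow_add J n k).symm
    let incl : ↥(J ^ (n + k)) →ₗ[A] ↥(J ^ k) :=
      Submodule.inclusion (Ideal.pow_le_pow_right (Nat.le_add_left k n))
    have hincl : ∀ y : ↥(J ^ (n + k)), ((incl y : ↥(J ^ k)) : A) = (y : A) := fun y => rfl
    have hker : (J • ⊤ : Submodule A ↥(J ^ (n + k))) ≤
        LinearMap.ker ((J ^ (n + 1) • ⊤ : Submodule A ↥(J ^ k)).mkQ ∘ₗ incl) := by
      intro y hy
      rw [LinearMap.mem_ker, LinearMap.comp_apply, Submodule.mkQ_apply,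
        Submodule.Quotient.mk_eq_zero, mem_smul_top_iff, hincl, ← hpow1]
      exact (mem_smul_top_iff J (J ^ (n + k)) y).mp hy
    let f : (↥(J ^ (n + k)) ⧸ (J • (⊤ : Submodule A ↥(J ^ (n + k))))) →ₗ[A]
        (↥(J ^ k) ⧸ (J ^ (n + 1) • ⊤ : Submodule A ↥(J ^ k))) :=
      Submodule.liftQ _ ((J ^ (n + 1) • ⊤ : Submodule A ↥(J ^ k)).mkQ ∘ₗ incl) hker
    have hf_mk : ∀ y : ↥(J ^ (n + k)), f (Submodule.Quotient.mk y) =
        Submodule.Quotient.mk (incl y) := fun y => rfl
    have hinj : Function.Injective f := by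
      rw [← LinearMap.ker_eq_bot, LinearMap.ker_eq_bot']
      intro z hz
      obtain ⟨y, rfl⟩ := Submodule.Quotient.mk_surjective _ z
      rw [hf_mk, Submodule.Quotient.mk_eq_zero, mem_smul_top_iff, hincl, ← hpow1] at hz
      rw [Submodule.Quotient.mk_eq_zero]
      exact (mem_smul_top_iff J (J ^ (n + k)) y).mpr hz
    have hsurj : Function.Surjective g := Submodule.factor_surjective hle
    have hex : Function.Exact f g := by
      intro z
      obtain ⟨x, rfl⟩ := Submodule.Quotient.mk_surjective _ z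
      have hg : g (Submodule.Quotient.mk x) = Submodule.Quotient.mk x := rfl
      rw [hg, Submodule.Quotient.mk_eq_zero, mem_smul_top_iff, hpow2]
      constructor
      · intro hx
        refine ⟨Submodule.Quotient.mk ⟨(x : A), hx⟩, ?_⟩
        rw [hf_mk]
        rfl
      · rintro ⟨w, hw⟩
        obtain ⟨y, rfl⟩ := Submodule.Quotient.mk_surjective _ w
        rw [hf_mk, Submodule.Quotient.eq] at hw
        -- `incl y - x ∈ Jⁿ⁺¹ • ⊤`, so `x ∈ Jⁿ⁺ᵏ`
        have h1 := (mem_smul_top_iff (J ^ (n + 1)) (J ^ k) (incl y - x)).mp hw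
        have h2' : ∀ a : A, a ∈ J ^ (n + 1) * J ^ k → a ∈ J ^ (n + k) := by
          intro a ha
          have := Ideal.mul_mono_left (K := J ^ k) (Ideal.pow_le_pow_right (I := J) (Nat.le_succ n)) ha
          rwa [hpow2] at this
        have h2 : ((incl y - x : ↥(J ^ k)) : A) ∈ J ^ (n + k) := h2' _ h1
        have h3 : (x : A) = (y : A) - ((incl y - x : ↥(J ^ k)) : A) := by
          rw [Submodule.coe_sub, hincl]; ring
        rw [h3]
        exact Ideal.sub_mem _ y.2 h2
    exact isWeaklyRegular_of_exact fs f g hinj hex hsurj (hgr (n + k)) ih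

/-- **Normal flatness and regular sequences** (local form). -/
theorem isWeaklyRegular_pow_and_gr [IsLocalRing A] [IsNoetherianRing A] (J : Ideal A) (hJ : J ≠ ⊤)
    (hflat : ∀ k : ℕ, Module.Flat (A ⧸ J) (↥(J ^ k) ⧸ (J • (⊤ : Submodule A ↥(J ^ k)))))
    (fs : List A) (hreg : IsWeaklyRegular (A ⧸ J) fs) (k : ℕ) :
    IsWeaklyRegular (↥(J ^ k)) fs ∧
      IsWeaklyRegular (↥(J ^ k) ⧸ (J • (⊤ : Submodule A ↥(J ^ k)))) fs := by
  have hgr : ∀ m : ℕ, IsWeaklyRegular (↥(J ^ m) ⧸ (J • (⊤ : Submodule A ↥(J ^ m)))) fs :=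
    fun m => isWeaklyRegular_gr J m (hflat m) fs hreg
  refine ⟨?_, hgr k⟩
  have hJjac : J ≤ (⊥ : Ideal A).jacobson :=
    (IsLocalRing.le_maximalIdeal hJ).trans (IsLocalRing.maximalIdeal_le_jacobson ⊥)
  exact isWeaklyRegular_of_forall_quot J hJjac fs ↥(J ^ k) (isWeaklyRegular_quot_pow J k fs hgr)

end Powers

end Groth.Agent.H29.NormFlatReg
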