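import Mathlib
import Groth.Prelude.Def_EGA4Misc
import Groth.Prelude.Def_W4ega4s0809p4Pair
import Groth.Agent.H24.FGSubAlg
import Groth.Agent.H29.ConsMorA
import Groth.Agent.H29.ConsMorC
import Groth.Agent.H29.RelQC
import Groth.Agent.S9218

/-!
# Spreading out a morphism from `Spec K → Spec A → S`, remembering the morphism
(helper29; for S5904)
-/

set_option autoImplicit false
set_option backward.isDefEq.respectTransparency.types false
universe u

open AlgebraicGeometry CategoryTheory TopologicalSpace Limits Topology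

namespace Groth.Agent.H29.RelSpread

open Groth.Agent.H24.FGSubAlg Groth.Agent.H29.ConsMorC

/-- Abstract form: a morphism between base changes to the limit comes from a stage, and is the base
change of the morphism at that stage. -/
theorem exists_stage_hom_rel {I : Type u} [SmallCategory I] [IsCofiltered I]
    (D : I ⥤ Scheme.{u}) (c : Limits.Cone D) (hc : Limits.IsLimit c)
    [∀ (i j : I) (f : i ⟶ j), IsAffineHom (D.map f)] (i₀ : I)
    {X₀ Y₀ : Scheme.{u}} (x₀ : X₀ ⟶ D.obj i₀) (y₀ : Y₀ ⟶ D.obj i₀)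
    [CompactSpace X₀] [QuasiSeparatedSpace X₀] [LocallyOfFinitePresentation x₀]
    [CompactSpace Y₀] [QuasiSeparatedSpace Y₀] [LocallyOfFinitePresentation y₀]
    {X Y : Scheme.{u}} (qX : X ⟶ X₀) (pX : X ⟶ c.pt) (hX : IsPullback qX pX x₀ (c.π.app i₀))
    (qY : Y ⟶ Y₀) (pY : Y ⟶ c.pt) (hY : IsPullback qY pY y₀ (c.π.app i₀))
    (g : X ⟶ Y) (hg : g ≫ pY = pX) :
    ∃ (j : I) (φ : j ⟶ i₀) (fj : pullback x₀ (D.map φ) ⟶ pullback y₀ (D.map φ))
      (sX : X ⟶ pullback x₀ (D.map φ)) (sY : Y ⟶ pullback y₀ (D.map φ)),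
      fj ≫ pullback.snd y₀ (D.map φ) = pullback.snd x₀ (D.map φ) ∧
      IsPullback sY pY (pullback.snd y₀ (D.map φ)) (c.π.app j) ∧ IsPullback sX g fj sY := by
  obtain ⟨j, φ, fj, sX, sY, h1, h2, h3, h4, h5, h6⟩ :=
    Groth.Agent.S9218.result D c hc i₀ x₀ y₀ qX pX hX qY pY hY g hg
  have hYj : IsPullback sY pY (pullback.snd y₀ (D.map φ)) (c.π.app j) := by
    refine IsPullback.of_right (h₁₂ := pullback.fst y₀ (D.map φ)) (h₂₂ := D.map φ) (v₁₃ := y₀) ?_
      h5 (IsPullback.of_hasPullback y₀ (D.map φ))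
    rw [h4, c.w]
    exact hY
  have hXj : IsPullback sX pX (pullback.snd x₀ (D.map φ)) (c.π.app j) := by
    refine IsPullback.of_right (h₁₂ := pullback.fst x₀ (D.map φ)) (h₂₂ := D.map φ) (v₁₃ := x₀) ?_
      h3 (IsPullback.of_hasPullback x₀ (D.map φ))
    rw [h2, c.w]
    exact hX
  have hXj' : IsPullback sX (g ≫ pY) (fj ≫ pullback.snd y₀ (D.map φ)) (c.π.app j) := by
    rw [h1, hg]; exact hXj
  exact ⟨j, φ, fj, sX, sY, h1, hYj, IsPullback.of_bot hXj' h6 hYj⟩

/-- Spreading out from `Spec K → Spec A → S`, keeping track of the morphism `g`: it is the base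
change of the spread-out morphism `gW`. -/
theorem exists_spread_spec_rel
    {X Y S : Scheme.{u}} (u : X ⟶ S) (v : Y ⟶ S)
    [LocallyOfFinitePresentation u] [QuasiCompact u] [QuasiSeparated u]
    [LocallyOfFinitePresentation v] [QuasiCompact v] [QuasiSeparated v]
    (A K : Type u) [CommRing A] [CommRing K] [Algebra A K] (j : Spec (CommRingCat.of A) ⟶ S)
    [LocallyOfFiniteType j] [QuasiCompact j]
    {X' Y' : Scheme.{u}} (gX' : X' ⟶ Spec (CommRingCat.of K)) (gY' : Y' ⟶ Spec (CommRingCat.of K))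
    (eX : X' ⟶ X) (eY : Y' ⟶ Y)
    (hX : IsPullback eX gX' u (Spec.map (CommRingCat.ofHom (algebraMap A K)) ≫ j))
    (hY : IsPullback eY gY' v (Spec.map (CommRingCat.ofHom (algebraMap A K)) ≫ j))
    (g : X' ⟶ Y') (hg : g ≫ gY' = gX') :
    ∃ (W : Scheme.{u}) (ρ : W ⟶ S) (n : Spec (CommRingCat.of K) ⟶ W) (XW YW : Scheme.{u})
      (uW : XW ⟶ W) (vW : YW ⟶ W) (aX : XW ⟶ X) (aY : YW ⟶ Y) (gW : XW ⟶ YW)
      (bX : X' ⟶ XW) (bY : Y' ⟶ YW),
      LocallyOfFiniteType ρ ∧ QuasiCompact ρ ∧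
      n ≫ ρ = Spec.map (CommRingCat.ofHom (algebraMap A K)) ≫ j ∧
      IsPullback aX uW u ρ ∧ IsPullback aY vW v ρ ∧ gW ≫ vW = uW ∧
      IsPullback bY gY' vW n ∧ IsPullback bX g gW bY := by
  let B : (Idx A K)ᵒᵖ → CommRingCat.{u} := fun i => CommRingCat.of i.unop.1
  let π : ∀ i : (Idx A K)ᵒᵖ, Spec (CommRingCat.of K) ⟶ Spec (B i) := fun i => Spec.map (val i.unop)
  let ρ : ∀ i : (Idx A K)ᵒᵖ, Spec (B i) ⟶ S := fun i => Spec.map (str i.unop) ≫ j
  have hρπ : ∀ i, π i ≫ ρ i = Spec.map (CommRingCat.ofHom (algebraMap A K)) ≫ j := by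
    intro i
    change Spec.map (val i.unop) ≫ Spec.map (str i.unop) ≫ j = _
    rw [← Spec.map_comp_assoc, str_val]
  have hρmap : ∀ {i k : (Idx A K)ᵒᵖ} (a : i ⟶ k),
      (Spec.map (incl (leOfHom a.unop)) : Spec (B i) ⟶ Spec (B k)) ≫ ρ k = ρ i := by
    intro i k a
    change Spec.map (incl (leOfHom a.unop)) ≫ Spec.map (str k.unop) ≫ j = Spec.map (str i.unop) ≫ j
    rw [← Spec.map_comp_assoc, str_incl]
  let i₀ : (Idx A K)ᵒᵖ := Opposite.op ⟨⊥, Subalgebra.fg_bot⟩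
  have wX : eX ≫ u = (gX' ≫ π i₀) ≫ ρ i₀ := by rw [hX.w, Category.assoc, hρπ]
  have wY : eY ≫ v = (gY' ≫ π i₀) ≫ ρ i₀ := by rw [hY.w, Category.assoc, hρπ]
  have hX₀ : IsPullback (pullback.lift eX (gX' ≫ π i₀) wX) gX' (pullback.snd u (ρ i₀))
      (π i₀) := by
    refine IsPullback.of_right (h₁₂ := pullback.fst u (ρ i₀)) (h₂₂ := ρ i₀) (v₁₃ := u) ?_
      (pullback.lift_snd _ _ _) (IsPullback.of_hasPullback u (ρ i₀))
    rw [pullback.lift_fst, hρπ]
    exact hX
  have hY₀ : IsPullback (pullback.lift eY (gY' ≫ π i₀) wY) gY' (pullback.snd v (ρ i₀))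
      (π i₀) := by
    refine IsPullback.of_right (h₁₂ := pullback.fst v (ρ i₀)) (h₂₂ := ρ i₀) (v₁₃ := v) ?_
      (pullback.lift_snd _ _ _) (IsPullback.of_hasPullback v (ρ i₀))
    rw [pullback.lift_fst, hρπ]
    exact hY
  let x₀ : pullback u (ρ i₀) ⟶ (specDiagram A K).obj i₀ := pullback.snd u (ρ i₀)
  let y₀ : pullback v (ρ i₀) ⟶ (specDiagram A K).obj i₀ := pullback.snd v (ρ i₀)
  have : LocallyOfFinitePresentation x₀ :=
    MorphismProperty.pullback_snd (P := @LocallyOfFinitePresentation) u (ρ i₀) inferInstance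
  have : QuasiCompact x₀ := MorphismProperty.pullback_snd (P := @QuasiCompact) u (ρ i₀) inferInstance
  have : QuasiSeparated x₀ :=
    MorphismProperty.pullback_snd (P := @QuasiSeparated) u (ρ i₀) inferInstance
  have : LocallyOfFinitePresentation y₀ :=
    MorphismProperty.pullback_snd (P := @LocallyOfFinitePresentation) v (ρ i₀) inferInstance
  have : QuasiCompact y₀ := MorphismProperty.pullback_snd (P := @QuasiCompact) v (ρ i₀) inferInstance
  have : QuasiSeparated y₀ :=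
    MorphismProperty.pullback_snd (P := @QuasiSeparated) v (ρ i₀) inferInstance
  have : CompactSpace ↥(pullback u (ρ i₀)) := QuasiCompact.compactSpace_of_compactSpace x₀
  have : CompactSpace ↥(pullback v (ρ i₀)) := QuasiCompact.compactSpace_of_compactSpace y₀
  have : QuasiSeparatedSpace ↥(pullback u (ρ i₀)) := quasiSeparatedSpace_of_quasiSeparated x₀
  have : QuasiSeparatedSpace ↥(pullback v (ρ i₀)) := quasiSeparatedSpace_of_quasiSeparated y₀
  obtain ⟨k, φ, fk, sX, sY, h1, hYk, hXY⟩ :=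
    exists_stage_hom_rel (specDiagram A K) (specCone A K) (isLimitSpecCone A K) i₀ x₀ y₀
      (pullback.lift eX (gX' ≫ π i₀) wX) gX' hX₀ (pullback.lift eY (gY' ≫ π i₀) wY) gY' hY₀ g hg
  have hft : LocallyOfFiniteType (Spec.map (str k.unop)) := by
    rw [HasRingHomProperty.Spec_iff (P := @LocallyOfFiniteType)]
    have : Algebra.FiniteType A k.unop.1 := (Subalgebra.fg_iff_finiteType k.unop.1).mp k.unop.2
    exact RingHom.finiteType_algebraMap.mpr this
  have hXk2 : IsPullback (pullback.fst x₀ ((specDiagram A K).map φ))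
      (pullback.snd x₀ ((specDiagram A K).map φ)) (pullback.snd u (ρ i₀))
      (Spec.map (incl (leOfHom φ.unop)) : Spec (B k) ⟶ Spec (B i₀)) :=
    IsPullback.of_hasPullback x₀ ((specDiagram A K).map φ)
  have hYk2 : IsPullback (pullback.fst y₀ ((specDiagram A K).map φ))
      (pullback.snd y₀ ((specDiagram A K).map φ)) (pullback.snd v (ρ i₀))
      (Spec.map (incl (leOfHom φ.unop)) : Spec (B k) ⟶ Spec (B i₀)) :=
    IsPullback.of_hasPullback y₀ ((specDiagram A K).map φ)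
  refine ⟨Spec (B k), ρ k, π k, _, _, pullback.snd x₀ ((specDiagram A K).map φ),
    pullback.snd y₀ ((specDiagram A K).map φ),
    pullback.fst x₀ ((specDiagram A K).map φ) ≫ pullback.fst u (ρ i₀),
    pullback.fst y₀ ((specDiagram A K).map φ) ≫ pullback.fst v (ρ i₀), fk, sX, sY,
    ?_, ?_, hρπ k, ?_, ?_, h1, hYk, hXY⟩
  · change LocallyOfFiniteType (Spec.map (str k.unop) ≫ j)
    infer_instance
  · change QuasiCompact (Spec.map (str k.unop) ≫ j)
    infer_instance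
  · rw [← hρmap φ]
    exact hXk2.paste_horiz (IsPullback.of_hasPullback u (ρ i₀))
  · rw [← hρmap φ]
    exact hYk2.paste_horiz (IsPullback.of_hasPullback v (ρ i₀))

/-- Version in terms of objects of `CommRingCat`. -/
theorem exists_spread_spec_rel'
    {X Y S : Scheme.{u}} (u : X ⟶ S) (v : Y ⟶ S)
    [LocallyOfFinitePresentation u] [QuasiCompact u] [QuasiSeparated u]
    [LocallyOfFinitePresentation v] [QuasiCompact v] [QuasiSeparated v]
    (A K : CommRingCat.{u}) (φ : A ⟶ K) (j : Spec A ⟶ S)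
    [LocallyOfFiniteType j] [QuasiCompact j]
    {X' Y' : Scheme.{u}} (gX' : X' ⟶ Spec K) (gY' : Y' ⟶ Spec K)
    (eX : X' ⟶ X) (eY : Y' ⟶ Y)
    (hX : IsPullback eX gX' u (Spec.map φ ≫ j))
    (hY : IsPullback eY gY' v (Spec.map φ ≫ j))
    (g : X' ⟶ Y') (hg : g ≫ gY' = gX') :
    ∃ (W : Scheme.{u}) (ρ : W ⟶ S) (n : Spec K ⟶ W) (XW YW : Scheme.{u})
      (uW : XW ⟶ W) (vW : YW ⟶ W) (aX : XW ⟶ X) (aY : YW ⟶ Y) (gW : XW ⟶ YW)
      (bX : X' ⟶ XW) (bY : Y' ⟶ YW),
      LocallyOfFiniteType ρ ∧ QuasiCompact ρ ∧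
      n ≫ ρ = Spec.map φ ≫ j ∧
      IsPullback aX uW u ρ ∧ IsPullback aY vW v ρ ∧ gW ≫ vW = uW ∧
      IsPullback bY gY' vW n ∧ IsPullback bX g gW bY := by
  let _ : Algebra A K := φ.hom.toAlgebra
  exact exists_spread_spec_rel u v A K j gX' gY' eX eY hX hY g hg

end Groth.Agent.H29.RelSpread
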