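import Mathlib
import Groth.Prelude.Def_EGA4Misc
import Groth.Prelude.Def_W4ega4s0809p4Pair
import Groth.Agent.H29.RelSpread
import Groth.Agent.H29.MorQ
import Groth.Agent.S2577
import Groth.Agent.S0086

/-!
# "After a field extension there is a proper morphism" is an ind-constructible property of pairs
(helper29; S5904)
-/

set_option autoImplicit false
set_option backward.isDefEq.respectTransparency.types false
universe u

open AlgebraicGeometry CategoryTheory TopologicalSpace Limits Topology

namespace Groth.Agent.H29.PairProper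

open Groth.Agent.H24.FGSubAlg Groth.Agent.H29.ConsMorC Groth.Agent.H29.RelQ
open Groth.Agent.H29.RelSpread Groth.Agent.H29.MorQ
open Groth.Agent.H99.FibrewiseCons Groth.Agent.H29.ConsMorA

theorem isIndConsPair_rel_isProper :
    ConsPropPair.IsIndConsPair (Rel (@IsProper : MorphismProperty Scheme.{u})) := by
  have hdesc := Groth.Agent.S0086.result.{u}
  refine ⟨isFieldStablePair_rel _, ?_⟩
  intro X Y S u v _ _ _ _ _ _ hgen
  obtain ⟨T', X', Y', h, gX', gY', eX, eY, i1, i2, hX', hY', g, hg, hQ⟩ := hgen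
  have : IsLocallyNoetherian X := LocallyOfFiniteType.isLocallyNoetherian u
  have : IsLocallyNoetherian Y := LocallyOfFiniteType.isLocallyNoetherian v
  -- the composite squares over `S`
  let m : T' ⟶ S := h ≫ S.fromSpecResidueField (genericPoint S)
  have hXm : IsPullback (eX ≫ u.fiberι (genericPoint S)) gX' u m :=
    hX'.paste_horiz (IsPullback.of_hasPullback u (S.fromSpecResidueField (genericPoint S)))
  have hYm : IsPullback (eY ≫ v.fiberι (genericPoint S)) gY' v m :=
    hY'.paste_horiz (IsPullback.of_hasPullback v (S.fromSpecResidueField (genericPoint S)))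
  have hmgen : ∀ t : T', m t = (genericPoint S) := by
    intro t
    change (h ≫ S.fromSpecResidueField (genericPoint S)) t = (genericPoint S)
    rw [Scheme.Hom.comp_apply, Scheme.fromSpecResidueField_apply]
  have : IsAffine T' := Groth.Agent.H99.DimCons.isAffine_of_subsingleton T'
  -- an affine open neighbourhood of `(genericPoint S)`
  obtain ⟨U, hU, hgenU, -⟩ :=
    exists_isAffineOpen_mem_and_subset (x := (genericPoint S)) (U := ⊤) trivial
  have hrange : Set.range m ⊆ Set.range hU.fromSpec := by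
    rw [hU.range_fromSpec]
    rintro _ ⟨t, rfl⟩
    rw [hmgen t]; exact hgenU
  let m' : T' ⟶ Spec Γ(S, U) := IsOpenImmersion.lift hU.fromSpec m hrange
  have hm' : m' ≫ hU.fromSpec = m := IsOpenImmersion.lift_fac _ _ _
  let φ : Γ(S, U) ⟶ Γ(T', ⊤) := (Scheme.ΓSpecIso Γ(S, U)).inv ≫ m'.appTop
  have hφ : m' = T'.isoSpec.hom ≫ Spec.map φ := eq_isoSpec_comp_specMap m'
  have hmφ : m = T'.isoSpec.hom ≫ Spec.map φ ≫ hU.fromSpec := by
    rw [← hm', hφ, Category.assoc]
  -- transport to `Spec K`
  have hX'' : IsPullback (eX ≫ u.fiberι (genericPoint S)) (gX' ≫ T'.isoSpec.hom) u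
      (Spec.map φ ≫ hU.fromSpec) :=
    IsPullback.of_iso hXm (Iso.refl _) (Iso.refl _) T'.isoSpec (Iso.refl _) (by simp) (by simp)
      (by simp) (by simp [hmφ])
  have hY'' : IsPullback (eY ≫ v.fiberι (genericPoint S)) (gY' ≫ T'.isoSpec.hom) v
      (Spec.map φ ≫ hU.fromSpec) :=
    IsPullback.of_iso hYm (Iso.refl _) (Iso.refl _) T'.isoSpec (Iso.refl _) (by simp) (by simp)
      (by simp) (by simp [hmφ])
  have hg'' : g ≫ gY' ≫ T'.isoSpec.hom = gX' ≫ T'.isoSpec.hom := by rw [← Category.assoc, hg]
  obtain ⟨W, ρ, n, XW, YW, uW, vW, aX, aY, gW, bX, bY, hρ1, hρ2, hnρ, hXW, hYW, hgW, hbY, hbX⟩ :=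
    exists_spread_spec_rel' u v Γ(S, U) Γ(T', ⊤) φ hU.fromSpec _ _ _ _ hX'' hY'' g hg''
  -- finiteness properties of the spread-out family
  have : IsLocallyNoetherian W := LocallyOfFiniteType.isLocallyNoetherian ρ
  have hvW1 : LocallyOfFiniteType vW :=
    MorphismProperty.of_isPullback (P := @LocallyOfFiniteType) hYW inferInstance
  have hvW2 : QuasiCompact vW :=
    MorphismProperty.of_isPullback (P := @QuasiCompact) hYW inferInstance
  have huW1 : LocallyOfFiniteType uW :=
    MorphismProperty.of_isPullback (P := @LocallyOfFiniteType) hXW inferInstance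
  have huW2 : QuasiCompact uW :=
    MorphismProperty.of_isPullback (P := @QuasiCompact) hXW inferInstance
  have hgv1 : LocallyOfFiniteType (gW ≫ vW) := by rw [hgW]; exact huW1
  have hgv2 : QuasiCompact (gW ≫ vW) := by rw [hgW]; exact huW2
  have : IsLocallyNoetherian YW := LocallyOfFiniteType.isLocallyNoetherian vW
  have : IsLocallyNoetherian XW := LocallyOfFiniteType.isLocallyNoetherian (gW ≫ vW)
  have hE : IsLocallyConstructible {w : W | IsProper (MoreMor.fiberMap gW vW w)} :=
    Groth.Agent.S2577.result gW vW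
  -- the point of `W` under `Spec K`
  obtain ⟨t⟩ : Nonempty T' := inferInstance
  have hw₀ : n (T'.isoSpec.hom t) ∈ {w : W | IsProper (MoreMor.fiberMap gW vW w)} := by
    have h1 := (mem_locusMor_base_change
      (isFieldStableMor_relMor (@IsProper : MorphismProperty Scheme.{u})) hbY hbX
      (T'.isoSpec.hom t)).mp
    apply h1
    exact MorphismProperty.of_isPullback (P := @IsProper)
      (isPullback_fiberMap g (gY' ≫ T'.isoSpec.hom) (T'.isoSpec.hom t)) hQ
  have hgenρ : (genericPoint S) ∈ ρ '' {w : W | IsProper (MoreMor.fiberMap gW vW w)} := by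
    refine ⟨n (T'.isoSpec.hom t), hw₀, ?_⟩
    rw [← Scheme.Hom.comp_apply, hnρ, ← Scheme.Hom.comp_apply, ← hmφ]
    exact hmgen t
  have hcons : IsLocallyConstructible (ρ '' {w : W | IsProper (MoreMor.fiberMap gW vW w)}) :=
    ρ.isLocallyConstructible_image hE
  obtain ⟨O, hO, hgenO, hOsub⟩ :=
    Groth.Agent.H99.DimCons.exists_isOpen_subset_of_isLocallyConstructible
      (genericPoint_spec S) hcons hgenρ
  refine ⟨(genericPoint S), mem_interior.mpr ⟨O, ?_, hO, hgenO⟩⟩
  intro s hs
  obtain ⟨w, hwE, rfl⟩ := hOsub hs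
  have hXW' : IsPullback aX (gW ≫ vW) u ρ := by rw [hgW]; exact hXW
  exact ⟨Spec (W.residueField w), _, _, Spec.map (ρ.residueFieldMap w), _, _, _, _,
    inferInstance, subsingleton_spec_residueField W w, isPullback_fibMap hXW' w,
    isPullback_fibMap hYW w, MoreMor.fiberMap gW vW w, fiberMap_fiberToSpecResidueField gW vW w,
    hwE⟩

end Groth.Agent.H29.PairProper
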