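import Mathlib
import Groth.Agent.H17.DimParam
import Groth.Agent.H29.DimL3

set_option autoImplicit false

/-! Parameters inside an ideal of height `h` of a semi-local Noetherian ring. -/

namespace Groth.Agent.H29.ParamIdeal

universe u

variable {A : Type u} [CommRing A] [IsNoetherianRing A]

/-- prime avoidance: `n` elements of `c` such that every prime over them not containing `c`
has height at least `n` -/
theorem exists_fin_height_le (c : Ideal A) : ∀ n : ℕ, ∃ x : Fin n → A, (∀ i, x i ∈ c) ∧
    ∀ P : Ideal A, P.IsPrime → Ideal.span (Set.range x) ≤ P → ¬ c ≤ P → (n : ℕ∞) ≤ P.height := by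
  classical
  intro n
  induction n with
  | zero => exact ⟨Fin.elim0, fun i => i.elim0, fun P _ _ _ => by simp⟩
  | succ n ih =>
    obtain ⟨x, hxc, hx⟩ := ih
    set J := Ideal.span (Set.range x) with hJ
    have hfin : J.minimalPrimes.Finite := Ideal.finite_minimalPrimes_of_isNoetherianRing A J
    let T : Finset (Ideal A) := hfin.toFinset.filter fun P => ¬ c ≤ P
    have havoid : ¬ ((c : Set A) ⊆ ⋃ P ∈ (T : Set (Ideal A)), (P : Set A)) := by
      intro hsub
      rw [Ideal.subset_union_prime (f := fun P : Ideal A => P) ⊥ ⊥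
        (fun P hP _ _ =>
          ((Set.Finite.mem_toFinset hfin).mp (Finset.mem_filter.mp hP).1).1.1)] at hsub
      obtain ⟨P, hP, hle⟩ := hsub
      exact (Finset.mem_filter.mp hP).2 hle
    rw [Set.not_subset] at havoid
    obtain ⟨y, hyc, hyT⟩ := havoid
    have hy : ∀ K ∈ J.minimalPrimes, ¬ c ≤ K → y ∉ K := by
      intro K hK hcK hyK
      apply hyT
      simp only [Set.mem_iUnion, SetLike.mem_coe, exists_prop]
      exact ⟨K, Finset.mem_filter.mpr ⟨(Set.Finite.mem_toFinset hfin).mpr hK, hcK⟩, hyK⟩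
    refine ⟨Fin.cons y x, ?_, ?_⟩
    · intro i
      refine Fin.cases ?_ (fun j => ?_) i
      · simpa using hyc
      · simpa using hxc j
    · intro P hP hle hcP
      have hJP : J ≤ P := by
        rw [hJ, Ideal.span_le]
        rintro _ ⟨j, rfl⟩
        exact hle (Ideal.subset_span ⟨j.succ, by simp⟩)
      have hyP : y ∈ P := hle (Ideal.subset_span ⟨0, by simp⟩)
      obtain ⟨K, hK, hKP⟩ := Ideal.exists_minimalPrimes_le hJP
      have hKprime : K.IsPrime := hK.1.1
      have hcK : ¬ c ≤ K := fun h => hcP (h.trans hKP)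
      have hyK : y ∉ K := hy K hK hcK
      have hlt : K < P := lt_of_le_of_ne hKP (fun h => hyK (h ▸ hyP))
      have h1 : (n : ℕ∞) ≤ K.height := hx K hKprime hK.1.2 hcK
      have h2 := Ideal.height_add_one_le_of_lt_of_isPrime hlt
      calc ((n + 1 : ℕ) : ℕ∞) = (n : ℕ∞) + 1 := by push_cast; rfl
        _ ≤ K.height + 1 := by gcongr
        _ ≤ P.height := h2

omit [IsNoetherianRing A] in
/-- in a semi-local ring a prime containing the Jacobson radical is maximal -/
theorem isMaximal_of_jacobson_le [Finite (MaximalSpectrum A)] (P : Ideal A) [hP : P.IsPrime]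
    (hle : Ring.jacobson A ≤ P) : P.IsMaximal := by
  classical
  letI : Fintype (MaximalSpectrum A) := Fintype.ofFinite _
  have hjac : (Finset.univ : Finset (MaximalSpectrum A)).inf (fun m => m.asIdeal) ≤
      Ring.jacobson A := by
    rw [Ring.jacobson_eq_sInf_isMaximal]
    apply le_sInf
    intro I hI
    exact Finset.inf_le (f := fun m : MaximalSpectrum A => m.asIdeal)
      (Finset.mem_univ (⟨I, hI⟩ : MaximalSpectrum A))
  obtain ⟨m, -, hm⟩ := (Ideal.IsPrime.inf_le' hP).mp (hjac.trans hle)
  rw [← m.isMaximal.eq_of_le hP.ne_top hm]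
  exact m.isMaximal

/-- dimension bound for a quotient by an ideal all of whose non-maximal primes have height
at least `h` -/
theorem supportDim_quotient_le_sub (I : Ideal A) (d h : ℕ) (hd : ringKrullDim A ≤ (d : WithBot ℕ∞))
    (hI : ∀ P : Ideal A, P.IsPrime → I ≤ P → ¬ P.IsMaximal → (h : ℕ∞) ≤ P.height) :
    Module.supportDim A (A ⧸ I) ≤ ((d - h : ℕ) : WithBot ℕ∞) := by
  unfold Module.supportDim
  rw [Order.krullDim, iSup_le_iff]
  intro p
  by_cases hlen : p.length = 0
  · rw [hlen]
    exact_mod_cast Nat.zero_le _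
  have hpos : 0 < p.length := Nat.pos_of_ne_zero hlen
  let p' : LTSeries (PrimeSpectrum A) := p.map Subtype.val (fun _ _ h => h)
  have hhead : p'.head = (p.head).1 := LTSeries.head_map _ _ _
  have hsupp : ∀ q : PrimeSpectrum A, q ∈ Module.support A (A ⧸ I) → I ≤ q.asIdeal := by
    intro q hq
    rw [Module.support_eq_zeroLocus, Ideal.annihilator_quotient] at hq
    exact hq
  have hIq : I ≤ (p.head).1.asIdeal := hsupp _ (p.head).2
  have hnm : ¬ (p.head).1.asIdeal.IsMaximal := by
    intro hmax
    have hlt : p 0 < p 1 := p.strictMono (by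
      rw [Fin.lt_def]; simp [Nat.one_mod_eq_one.mpr (by omega : p.length + 1 ≠ 1)])
    have hlt' : (p 0).1.asIdeal < (p 1).1.asIdeal := hlt
    exact (p 1).1.isPrime.ne_top (hmax.1.2 _ hlt')
  have h1 : (h : ℕ∞) ≤ Order.height (p.head).1 := by
    rw [← PrimeSpectrum.height_eq_orderHeight]
    exact hI _ (p.head).1.isPrime hIq hnm
  have h2 : (p.length : ℕ∞) ≤ Order.coheight (p.head).1 := by
    have := Order.length_le_coheight_head (p := p')
    rw [hhead] at this
    exact this
  have h3 : ((Order.height (p.head).1 + Order.coheight (p.head).1 : ℕ∞) : WithBot ℕ∞) ≤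
      (d : WithBot ℕ∞) := by
    refine le_trans ?_ hd
    rw [ringKrullDim]
    have : Nonempty (PrimeSpectrum A) := ⟨(p.head).1⟩
    rw [Order.krullDim_eq_iSup_height_add_coheight_of_nonempty, WithBot.coe_le_coe]
    exact le_iSup (fun a : PrimeSpectrum A => Order.height a + Order.coheight a) (p.head).1
  have h4 : ((h : ℕ∞) + (p.length : ℕ∞)) ≤ (d : ℕ∞) := by
    have h5 : ((h : ℕ∞) + (p.length : ℕ∞)) ≤
        Order.height (p.head).1 + Order.coheight (p.head).1 := add_le_add h1 h2
    have h6 : (Order.height (p.head).1 + Order.coheight (p.head).1 : ℕ∞) ≤ (d : ℕ∞) := by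
      exact_mod_cast h3
    exact h5.trans h6
  have h7 : h + p.length ≤ d := by exact_mod_cast h4
  have h8 : p.length ≤ d - h := by omega
  exact_mod_cast h8

omit [IsNoetherianRing A] in
theorem ofList_replicate_zero (k : ℕ) : Ideal.ofList (List.replicate k (0 : A)) = ⊥ := by
  unfold Ideal.ofList
  rw [eq_bot_iff, Ideal.span_le]
  intro a ha
  have : a = 0 := List.eq_of_mem_replicate ha
  simp [this]

/-- the main statement -/
theorem main [Finite (MaximalSpectrum A)] (a : Ideal A) (ha : a ≠ ⊤) (h : ℕ)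
    (hh : a.height = h) :
    ∃ x : Fin h → A, (∀ i, x i ∈ a) ∧ (∀ i, x i ∈ Ring.jacobson A) ∧
      (∃ ys : List A, (∀ y ∈ ys, y ∈ Ring.jacobson A) ∧
        (((h + ys.length : ℕ) : ℕ∞) : WithBot ℕ∞) = ringKrullDim A ∧
        IsFiniteLength A (A ⧸ (Ideal.span (Set.range x) ⊔ Ideal.ofList ys))) ∧
      (a.map (Ideal.Quotient.mk (Ideal.span (Set.range x)))).height = 0 := by
  have hnt : Nontrivial A := by
    by_contra hns
    rw [not_nontrivial_iff_subsingleton] at hns
    exact ha (Subsingleton.elim _ _)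
  -- the dimension of `A`
  obtain ⟨d, hd⟩ : ∃ d : ℕ, ringKrullDim A = d := by
    obtain ⟨k, hk⟩ := DimL.exists_nat_ringKrullDim_le (A := A)
    have hnb : ringKrullDim A ≠ ⊥ := by
      intro hb
      have := ringKrullDim_nonneg_of_nontrivial (R := A)
      rw [hb] at this
      exact absurd this (by simp)
    refine DimL.exists_nat_eq _ hnb ?_
    intro htop
    rw [htop] at hk
    have h1 : ((k : ℕ∞) : WithBot ℕ∞) < ((⊤ : ℕ∞) : WithBot ℕ∞) :=
      WithBot.coe_lt_coe.mpr (ENat.natCast_lt_top k)
    exact absurd hk (not_le.mpr h1)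
  have hhd : h ≤ d := by
    have h1 := Ideal.height_le_ringKrullDim_of_ne_top ha
    rw [hh, hd] at h1
    exact_mod_cast h1
  obtain ⟨x, hxc, hx⟩ := exists_fin_height_le (a ⊓ Ring.jacobson A) h
  set I := Ideal.span (Set.range x) with hI
  have hprop : ∀ P : Ideal A, P.IsPrime → I ≤ P → ¬ P.IsMaximal → (h : ℕ∞) ≤ P.height := by
    intro P hP hIP hPm
    by_cases hcP : a ⊓ Ring.jacobson A ≤ P
    · rcases (Ideal.IsPrime.inf_le hP).mp hcP with h1 | h1
      · rw [← hh]
        exact Ideal.height_mono h1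
      · exact absurd (isMaximal_of_jacobson_le P h1) hPm
    · exact hx P hP hIP hcP
  refine ⟨x, fun i => (hxc i).1, fun i => (hxc i).2, ?_, ?_⟩
  · -- completion to a system of parameters
    have hdim := supportDim_quotient_le_sub I d h hd.le hprop
    obtain ⟨ys, hlen, hys, hfl⟩ := DimL.exists_list_parameters (d - h) (A ⧸ I) hdim
    refine ⟨ys ++ List.replicate (d - h - ys.length) 0, ?_, ?_, ?_⟩
    · intro y hy
      rcases List.mem_append.mp hy with hy | hy
      · exact hys y hy
      · rw [List.eq_of_mem_replicate hy]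
        exact Ideal.zero_mem _
    · rw [hd]
      have : h + (ys ++ List.replicate (d - h - ys.length) (0 : A)).length = d := by
        rw [List.length_append, List.length_replicate]
        omega
      rw [this]
      rfl
    · rw [Ideal.ofList_append, ofList_replicate_zero, sup_bot_eq]
      rw [Groth.Agent.H17.isFiniteLength_iff_supportDim_le_zero] at hfl ⊢
      unfold Module.supportDim at hfl ⊢
      rw [Module.support_quotient, Module.support_eq_zeroLocus, Ideal.annihilator_quotient,
        ← PrimeSpectrum.zeroLocus_sup] at hfl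
      rw [Module.support_eq_zeroLocus, Ideal.annihilator_quotient]
      exact hfl
  · -- a prime of height `h` over `a` is minimal over `I`
    obtain ⟨q, hq, haq, hqh⟩ := Ideal.exists_isPrime_height_eq hh
    have hIa : I ≤ a := by
      rw [hI, Ideal.span_le]
      rintro _ ⟨i, rfl⟩
      exact (hxc i).1
    have hIq : I ≤ q := hIa.trans haq
    have hqmin : q ∈ I.minimalPrimes := by
      refine ⟨⟨hq, hIq⟩, ?_⟩
      rintro p ⟨hp, hIp⟩ hpq
      by_contra hne
      have hlt : p < q := lt_of_le_not_ge hpq hne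
      have hpm : ¬ p.IsMaximal := fun hm => hq.ne_top (hm.1.2 _ hlt)
      have h1 := hprop p hp hIp hpm
      have h2 := Ideal.height_add_one_le_of_lt_of_isPrime hlt
      rw [hqh] at h2
      have h3 : ((h + 1 : ℕ) : ℕ∞) ≤ (h : ℕ∞) := by
        calc ((h + 1 : ℕ) : ℕ∞) = (h : ℕ∞) + 1 := by push_cast; rfl
          _ ≤ p.height + 1 := by gcongr
          _ ≤ h := h2
      have h4 : h + 1 ≤ h := by exact_mod_cast h3
      omega
    rw [Ideal.minimalPrimes_eq_comap] at hqmin
    obtain ⟨Q, hQ, hQq⟩ := hqmin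
    have hQprime : Q.IsPrime := hQ.1.1
    have hQ0 : Q.height = 0 := Ideal.height_eq_zero_iff.mpr hQ
    have hle : a.map (Ideal.Quotient.mk I) ≤ Q := by
      rw [Ideal.map_le_iff_le_comap, hQq]
      exact haq
    exact le_antisymm (hQ0 ▸ Ideal.height_mono hle) zero_le

end Groth.Agent.H29.ParamIdeal
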