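import Groth.Agent.H29.GlDim
import Groth.Agent.H2.InjModMax
import Mathlib.Algebra.Category.ModuleCat.ProjectiveDimension

set_option autoImplicit false

namespace Groth.Agent.H29

namespace PdQuot

universe u

open CategoryTheory Abelian TensorProduct GlDimL

variable {A : Type u} [CommRing A] [IsNoetherianRing A]

theorem hasProjectiveDimensionLT_baseChange_quotient (a : A) (hA : IsSMulRegular A a) :
    ∀ (n : ℕ) (E : Type u) [AddCommGroup E] [Module A E] [Module.Finite A E],
    IsSMulRegular E a → HasProjectiveDimensionLT (ModuleCat.of A E) (n + 1) →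
    HasProjectiveDimensionLT (ModuleCat.of (A ⧸ Ideal.span {a})
      ((A ⧸ Ideal.span {a}) ⊗[A] E)) (n + 1) := by
  intro n
  induction n with
  | zero =>
    intro E _ _ _ _ h
    rw [zero_add, ← projective_iff_hasProjectiveDimensionLT_one,
      ← IsProjective.iff_projective] at h ⊢
    infer_instance
  | succ n ih =>
    intro E _ _ _ hE h
    obtain ⟨k, f, hf⟩ := Module.Finite.exists_fin' A E
    have hSA := shortExact_of_exact (LinearMap.ker f).subtype f (Submodule.subtype_injective _) hf
      (LinearMap.exact_subtype_ker_map f)
    have hFreg : IsSMulRegular (Fin k → A) a := by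
      intro x y hxy
      funext i
      exact hA (congrFun hxy i)
    have hKreg : IsSMulRegular (LinearMap.ker f) a := by
      intro x y hxy
      apply Subtype.ext
      apply hFreg
      exact congrArg Subtype.val hxy
    have hinj : Function.Injective
        ((LinearMap.ker f).subtype.baseChange (A ⧸ Ideal.span {a})) := by
      change Function.Injective ((LinearMap.ker f).subtype.lTensor (A ⧸ Ideal.span {a}))
      rw [Groth.Agent.H2.lTensor_quotient_injective_iff]
      intro x hx
      rw [Submodule.ideal_span_singleton_smul] at hx ⊢
      obtain ⟨y, -, hy⟩ := hx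
      have hy' : a • y = (x : Fin k → A) := hy
      have hyK : y ∈ LinearMap.ker f := by
        rw [LinearMap.mem_ker]
        apply hE
        simp only [smul_zero]
        rw [← map_smul, hy']
        exact x.2
      refine ⟨⟨y, hyK⟩, trivial, ?_⟩
      apply Subtype.ext
      exact hy'
    have hsurj : Function.Surjective (f.baseChange (A ⧸ Ideal.span {a})) :=
      LinearMap.lTensor_surjective _ hf
    have hex : Function.Exact ((LinearMap.ker f).subtype.baseChange (A ⧸ Ideal.span {a}))
        (f.baseChange (A ⧸ Ideal.span {a})) :=
      lTensor_exact (A ⧸ Ideal.span {a}) (LinearMap.exact_subtype_ker_map f) hf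
    have hSB := shortExact_of_exact
      ((LinearMap.ker f).subtype.baseChange (A ⧸ Ideal.span {a}))
      (f.baseChange (A ⧸ Ideal.span {a})) hinj hsurj hex
    have hpA : Projective (ModuleCat.of A (Fin k → A)) :=
      (IsProjective.iff_projective _).mp inferInstance
    have hpB : Projective (ModuleCat.of (A ⧸ Ideal.span {a})
        ((A ⧸ Ideal.span {a}) ⊗[A] (Fin k → A))) :=
      (IsProjective.iff_projective _).mp inferInstance
    have h1 : HasProjectiveDimensionLT (ModuleCat.of A (LinearMap.ker f)) (n + 1) :=
      (hSA.hasProjectiveDimensionLT_X₃_iff n hpA).mp h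
    have h2 := ih (LinearMap.ker f) hKreg h1
    exact (hSB.hasProjectiveDimensionLT_X₃_iff n hpB).mpr h2

end PdQuot

end Groth.Agent.H29
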