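import Mathlib
import Groth.Prelude.Def_CAlg
import Groth.Agent.H11.FtDim

set_option autoImplicit false
set_option linter.style.haveILetI false
universe u

namespace Groth.Agent.H29.QFFlat

open IsLocalRing

section Fibre

variable {P S : Type u} [CommRing P] [CommRing S] [Algebra P S] [Algebra.QuasiFinite P S]
  (p : Ideal P) [p.IsPrime] (q : Ideal S) [q.IsPrime] [q.LiesOver p]
  [Algebra (Localization.AtPrime p) (Localization.AtPrime q)]
  [Localization.AtPrime.IsLiesOverAlgebra p q]

/-- For a quasi-finite algebra, the local ring of the fibre at a prime has dimension zero. -/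
theorem ringKrullDim_fibre_eq_zero :
    ringKrullDim (Localization.AtPrime q ⧸
      (maximalIdeal (Localization.AtPrime p)).map
        (algebraMap (Localization.AtPrime p) (Localization.AtPrime q))) = 0 := by
  set A := Localization.AtPrime p
  set B := Localization.AtPrime q
  set mB : Ideal B := (maximalIdeal A).map (algebraMap A B) with hmB
  have hle : mB ≤ maximalIdeal B := IsLocalRing.map_maximalIdeal_le (algebraMap A B)
  have hne : mB ≠ ⊤ := fun h =>
    (IsLocalRing.maximalIdeal.isMaximal B).ne_top (top_le_iff.mp (h ▸ hle))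
  haveI : Nontrivial (B ⧸ mB) := Ideal.Quotient.nontrivial_iff.mpr hne
  have hdim : Ring.KrullDimLE 0 (B ⧸ mB) := by
    apply Ring.KrullDimLE.mk₀
    intro Q hQ
    -- the prime of `B` below `Q`
    set Q' : Ideal B := Q.comap (Ideal.Quotient.mk mB) with hQ'
    haveI : Q'.IsPrime := Ideal.comap_isPrime _ _
    have hmQ : mB ≤ Q' := by
      intro x hx
      rw [hQ', Ideal.mem_comap, Ideal.Quotient.eq_zero_iff_mem.mpr hx]
      exact Q.zero_mem
    set q' : Ideal S := Q'.comap (algebraMap S B) with hq'
    haveI : q'.IsPrime := Ideal.comap_isPrime _ _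
    have hq'q : q' ≤ q := by
      have h1 : Q' ≤ maximalIdeal B := IsLocalRing.le_maximalIdeal (Ideal.IsPrime.ne_top inferInstance)
      have h2 : Q'.under S ≤ (maximalIdeal B).under S := Ideal.comap_mono (f := algebraMap S B) h1
      rwa [Localization.AtPrime.under_maximalIdeal] at h2
    have hunder : q'.under P = q.under P := by
      apply le_antisymm (Ideal.comap_mono hq'q)
      change q.under P ≤ q'.under P
      rw [← Ideal.LiesOver.over (p := p) (P := q)]
      intro x hx
      rw [Ideal.under_def, Ideal.mem_comap, hq', Ideal.mem_comap]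
      apply hmQ
      rw [← IsScalarTower.algebraMap_apply, IsScalarTower.algebraMap_apply P A B]
      apply Ideal.mem_map_of_mem
      rw [← Localization.AtPrime.map_eq_maximalIdeal]
      exact Ideal.mem_map_of_mem _ hx
    have heq : q' = q := Algebra.QuasiFinite.eq_of_le_of_under_eq (R := P) q' q hq'q hunder
    have hQ'max : Q' = maximalIdeal B := by
      have h3 : Q'.under S = q := heq
      rw [← IsLocalization.map_under q.primeCompl B Q', h3,
        Localization.AtPrime.map_eq_maximalIdeal]
    have hQeq : Q = (maximalIdeal B).map (Ideal.Quotient.mk mB) := by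
      rw [← hQ'max, hQ', Ideal.map_comap_of_surjective _ Ideal.Quotient.mk_surjective]
    rw [hQeq]
    rcases Ideal.map_eq_top_or_isMaximal_of_surjective (Ideal.Quotient.mk mB)
      Ideal.Quotient.mk_surjective (IsLocalRing.maximalIdeal.isMaximal B) with h | h
    · exfalso
      rw [← hQeq] at h
      exact hQ.ne_top h
    · exact h
  apply le_antisymm
  · exact (Ring.krullDimLE_iff (n := 0)).mp hdim
  · exact ringKrullDim_nonneg_of_nontrivial

end Fibre

section Poly

open Groth.Agent.H11.FtDim

variable (k : Type u) [Field k]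

/-- The transcendence degree of the residue field of a prime of a finite type algebra over a
field is finite. -/
theorem exists_trdeg_residueField_eq {S : Type u} [CommRing S] [Algebra k S]
    [Algebra.FiniteType k S] (p : Ideal S) [p.IsPrime] :
    ∃ r : ℕ, Algebra.trdeg k p.ResidueField = r := by
  obtain ⟨n, hn1, -, -⟩ := Groth.Agent.H14.ringKrullDim_eq_trdeg_of_finiteType_domain k (S ⧸ p)
  have h1 : Algebra.trdeg k (FractionRing (S ⧸ p)) = Algebra.trdeg k p.ResidueField :=
    ((FractionRing.algEquiv (S ⧸ p) p.ResidueField).restrictScalars k).trdeg_eq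
  exact ⟨n, by rw [← h1, hn1]⟩

/-- In a polynomial ring `k[y_1..y_d]`: `dim P_p + trdeg_k κ(p) = d`. -/
theorem dim_add_trdeg_mvPolynomial (d : ℕ) (p : Ideal (MvPolynomial (Fin d) k)) [p.IsPrime]
    (r : ℕ) (hr : Algebra.trdeg k p.ResidueField = r) :
    ringKrullDim (Localization.AtPrime p) + (r : WithBot ℕ∞) = (d : WithBot ℕ∞) := by
  rw [← localDim_eq_dim_add_trdeg (k := k) p r hr, localDim_eq_height_add_coheight (k := k),
    height_add_coheight_eq k, MvPolynomial.ringKrullDim_of_isNoetherianRing,
    ringKrullDim_eq_zero_of_field]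
  simp

end Poly

end Groth.Agent.H29.QFFlat
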