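import Mathlib

/-!
# Four-term free presentation of a reflexive module (helper29)

* `cokerLocEquiv`: localization commutes with cokernels (general IsLocalizedModule form).
* `piMap`: coordinatewise localization `(Fin a → B) → (Fin a → B_S)` is a localization.
* `projective_coker_transpose`: over any ring, if `coker D.mulVecLin` is projective then
  `coker Dᵀ.mulVecLin` is projective.
-/

set_option autoImplicit false
set_option linter.style.haveILetI false

namespace Groth.Agent.H29.ReflexivePres

universe u v

section CokerLoc

variable {B : Type*} [CommRing B] (S : Submonoid B)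
variable {P Q P' Q' : Type*} [AddCommGroup P] [Module B P] [AddCommGroup Q] [Module B Q]
  [AddCommGroup P'] [Module B P'] [Module (Localization S) P'] [IsScalarTower B (Localization S) P']
  [AddCommGroup Q'] [Module B Q'] [Module (Localization S) Q'] [IsScalarTower B (Localization S) Q']
  (f1 : P →ₗ[B] P') (f2 : Q →ₗ[B] Q') [IsLocalizedModule S f1] [IsLocalizedModule S f2]
  (φ : P →ₗ[B] Q) (φ' : P' →ₗ[Localization S] Q')

include f1 in
theorem range_eq_localized' (h : ∀ x, φ' (f1 x) = f2 (φ x)) :
    (LinearMap.range φ).localized' (Localization S) S f2 = LinearMap.range φ' := by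
  rw [LinearMap.localized'_range_eq_range_localizedMap (Localization S) S f1 f2 φ]
  congr 1
  apply LinearMap.restrictScalars_injective B
  apply IsLocalizedModule.linearMap_ext S f1 f2
  ext x
  simp [IsLocalizedModule.map_apply, h]

/-- Localization commutes with cokernels. -/
noncomputable def cokerLocEquiv (h : ∀ x, φ' (f1 x) = f2 (φ x)) :
    LocalizedModule S (Q ⧸ LinearMap.range φ) ≃ₗ[Localization S] Q' ⧸ LinearMap.range φ' :=
  ((IsLocalizedModule.linearEquiv S (LocalizedModule.mkLinearMap S (Q ⧸ LinearMap.range φ))
    ((LinearMap.range φ).toLocalizedQuotient' (Localization S) S f2)).extendScalarsOfIsLocalization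
      S (Localization S)).trans
    (Submodule.quotEquivOfEq _ _ (range_eq_localized' S f1 f2 φ φ' h))

end CokerLoc

section PiMap
variable {B : Type*} [CommRing B] (S : Submonoid B)

/-- Coordinatewise localization map. -/
noncomputable def piMap (ι : Type*) : (ι → B) →ₗ[B] (ι → Localization S) :=
  .pi fun i ↦ (Algebra.linearMap B (Localization S)) ∘ₗ .proj i

@[simp] theorem piMap_apply (ι : Type*) (v : ι → B) (i : ι) :
    piMap S ι v i = algebraMap B (Localization S) (v i) := rfl

instance (ι : Type*) [Finite ι] : IsLocalizedModule S (piMap S ι) :=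
  IsLocalizedModule.pi S (fun _ => Algebra.linearMap B (Localization S))

theorem mulVecLin_piMap {a b : Type*} [Fintype a] [Fintype b] (X : Matrix b a B) (v : a → B) :
    (X.map (algebraMap B (Localization S))).mulVecLin (piMap S a v) = piMap S b (X.mulVecLin v) := by
  ext i
  simp only [Matrix.mulVecLin_apply, piMap_apply]
  rw [RingHom.map_mulVec]
  rfl

end PiMap

section GenInv
variable {R : Type*} [CommRing R] {m n : Type*} [Fintype m] [Fintype n]
  [DecidableEq m] [DecidableEq n]

theorem exists_genInv (D : Matrix n m R)
    (hproj : Module.Projective R ((n → R) ⧸ LinearMap.range D.mulVecLin)) :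
    ∃ E : Matrix m n R, D * E * D = D := by
  set u : (m → R) →ₗ[R] (n → R) := D.mulVecLin with hu
  obtain ⟨s, hs⟩ := Module.projective_lifting_property (LinearMap.range u).mkQ LinearMap.id
    (Submodule.mkQ_surjective _)
  have hs' : ∀ c, (LinearMap.range u).mkQ (s c) = c := fun c => LinearMap.congr_fun hs c
  let p : (n → R) →ₗ[R] (n → R) := LinearMap.id - s ∘ₗ (LinearMap.range u).mkQ
  have hp : ∀ y, p y ∈ LinearMap.range u := by
    intro y
    rw [← Submodule.ker_mkQ (LinearMap.range u), LinearMap.mem_ker]
    simp only [p, LinearMap.sub_apply, LinearMap.id_apply, LinearMap.comp_apply, map_sub, hs',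
      sub_self]
  obtain ⟨e, he⟩ := Module.projective_lifting_property u.rangeRestrict
    (p.codRestrict (LinearMap.range u) hp) u.surjective_rangeRestrict
  have he' : ∀ y, u (e y) = p y := fun y => congrArg Subtype.val (LinearMap.congr_fun he y)
  have hpu : ∀ x, p (u x) = u x := by
    intro x
    have h0 : (LinearMap.range u).mkQ (u x) = 0 := by
      rw [← LinearMap.mem_ker, Submodule.ker_mkQ]; exact LinearMap.mem_range_self u x
    simp only [p, LinearMap.sub_apply, LinearMap.id_apply, LinearMap.comp_apply, h0, map_zero,
      sub_zero]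
  refine ⟨LinearMap.toMatrix' e, ?_⟩
  apply Matrix.toLin'.injective
  rw [Matrix.toLin'_mul, Matrix.toLin'_mul, Matrix.toLin'_toMatrix', Matrix.toLin'_apply']
  refine LinearMap.ext fun x => ?_
  show u (e (u x)) = u x
  rw [he', hpu]

omit [DecidableEq m] [DecidableEq n] in
theorem projective_coker_of_genInv (D : Matrix n m R) (E : Matrix m n R) (h : D * E * D = D) :
    Module.Projective R ((n → R) ⧸ LinearMap.range D.mulVecLin) := by
  set u : (m → R) →ₗ[R] (n → R) := D.mulVecLin with hu
  have hq : ∀ x, (D * E).mulVecLin (u x) = u x := by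
    intro x
    rw [hu, ← LinearMap.comp_apply, ← Matrix.mulVecLin_mul, h]
  have hmem : ∀ y, (D * E).mulVecLin y ∈ LinearMap.range u := by
    intro y
    rw [Matrix.mulVecLin_mul]
    exact LinearMap.mem_range_self u _
  let i : ((n → R) ⧸ LinearMap.range u) →ₗ[R] (n → R) :=
    (LinearMap.range u).liftQ (LinearMap.id - (D * E).mulVecLin) (by
      rintro _ ⟨x, rfl⟩
      rw [LinearMap.mem_ker, LinearMap.sub_apply, LinearMap.id_apply, hq, sub_self])
  refine Module.Projective.of_split i (LinearMap.range u).mkQ ?_
  refine LinearMap.ext fun c => ?_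
  obtain ⟨y, rfl⟩ := Submodule.mkQ_surjective _ c
  simp only [LinearMap.comp_apply, LinearMap.id_apply, i, Submodule.mkQ_apply,
    Submodule.liftQ_apply, LinearMap.sub_apply]
  rw [Submodule.Quotient.mk_sub, sub_eq_self, Submodule.Quotient.mk_eq_zero]
  exact hmem y

theorem projective_coker_transpose (D : Matrix n m R)
    (hproj : Module.Projective R ((n → R) ⧸ LinearMap.range D.mulVecLin)) :
    Module.Projective R ((m → R) ⧸ LinearMap.range D.transpose.mulVecLin) := by
  obtain ⟨E, hE⟩ := exists_genInv D hproj
  refine projective_coker_of_genInv D.transpose E.transpose ?_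
  rw [← Matrix.transpose_mul, ← Matrix.transpose_mul, ← Matrix.mul_assoc, hE]

end GenInv

section Pres

theorem exists_pres (B : Type u) [CommRing B] [IsNoetherianRing B] (F : Type u) [AddCommGroup F]
    [Module B F] [Module.Finite B F] [Module.IsReflexive B F] :
    ∃ (n m : ℕ) (π : (Fin n → B) →ₗ[B] Module.Dual B F) (D : Matrix (Fin n) (Fin m) B)
      (g : F →ₗ[B] (Fin n → B)),
      Function.Surjective π ∧ LinearMap.range D.mulVecLin = LinearMap.ker π ∧
      Function.Injective g ∧ Function.Exact g D.transpose.mulVecLin := by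
  obtain ⟨n, π, hπ⟩ := Module.Finite.exists_fin' B (Module.Dual B F)
  obtain ⟨m, ρ, hρ⟩ := Module.Finite.exists_fin' B (LinearMap.ker π)
  set u : (Fin m → B) →ₗ[B] (Fin n → B) := (LinearMap.ker π).subtype ∘ₗ ρ with hu
  have hur : LinearMap.range u = LinearMap.ker π := by
    rw [hu, LinearMap.range_comp, LinearMap.range_eq_top.mpr hρ, Submodule.map_top,
      Submodule.range_subtype]
  set D : Matrix (Fin n) (Fin m) B := LinearMap.toMatrix' u with hD
  have hDu : D.mulVecLin = u := by
    rw [← Matrix.toLin'_apply', hD, Matrix.toLin'_toMatrix']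
  let g : F →ₗ[B] (Fin n → B) := LinearMap.pi fun i => π (Pi.single i 1)
  have hg : ∀ x i, g x i = π (Pi.single i 1) x := fun x i => rfl
  have hs : ∀ i : Fin n, (fun j => if i = j then (1 : B) else 0) = Pi.single i 1 := by
    intro i; ext j; simp [Pi.single_apply, eq_comm]
  -- key identity
  have key : ∀ (v : Fin n → B) (x : F), π v x = v ⬝ᵥ g x := by
    intro v x
    rw [LinearMap.pi_apply_eq_sum_univ π v]
    simp only [LinearMap.coe_sum, Finset.sum_apply, LinearMap.smul_apply, dotProduct, hg,
      smul_eq_mul, hs]
  have hker : ∀ w : Fin m → B, π (u w) = 0 := by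
    intro w
    have : u w ∈ LinearMap.ker π := hur ▸ LinearMap.mem_range_self u w
    exact this
  refine ⟨n, m, π, D, g, hπ, hDu ▸ hur, ?_, ?_⟩
  · -- injectivity
    rw [← LinearMap.ker_eq_bot, LinearMap.ker_eq_bot']
    intro x hx
    apply (Module.bijective_dual_eval B F).1
    rw [map_zero]
    ext φ
    obtain ⟨v, rfl⟩ := hπ φ
    simp only [Module.Dual.eval_apply, LinearMap.zero_apply]
    rw [key, hx, dotProduct_zero]
  · -- exactness
    intro y
    have hdot : ∀ w : Fin m → B, u w ⬝ᵥ y = w ⬝ᵥ (D.transpose.mulVecLin y) := by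
      intro w
      rw [← hDu, Matrix.mulVecLin_apply, Matrix.mulVecLin_apply, dotProduct_comm,
        Matrix.dotProduct_mulVec, Matrix.mulVec_transpose, dotProduct_comm]
    constructor
    · intro hy
      have hy' : ∀ w : Fin m → B, u w ⬝ᵥ y = 0 := by
        intro w
        rw [hdot, hy, dotProduct_zero]
      -- the functional `v ↦ v ⬝ᵥ y` kills `ker π`
      let ℓ : (Fin n → B) →ₗ[B] B :=
        { toFun := fun v => v ⬝ᵥ y
          map_add' := fun a b => add_dotProduct a b y
          map_smul' := fun c a => by simp [smul_dotProduct] }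
      have hℓ : LinearMap.ker π ≤ LinearMap.ker ℓ := by
        rw [← hur]
        rintro _ ⟨w, rfl⟩
        exact hy' w
      let ψ : Module.Dual B (Module.Dual B F) :=
        (LinearMap.ker π).liftQ ℓ hℓ ∘ₗ (π.quotKerEquivOfSurjective hπ).symm.toLinearMap
      have hψ : ∀ v, ψ (π v) = v ⬝ᵥ y := by
        intro v
        have : (π.quotKerEquivOfSurjective hπ).symm (π v) = Submodule.Quotient.mk v := by
          rw [LinearEquiv.symm_apply_eq]
          rfl
        simp only [ψ, LinearMap.comp_apply, LinearEquiv.coe_coe, this]
        rfl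
      obtain ⟨x, hx⟩ := (Module.bijective_dual_eval B F).2 ψ
      refine ⟨x, ?_⟩
      ext i
      rw [hg]
      have := hψ (Pi.single i 1)
      rw [← hx, Module.Dual.eval_apply, single_one_dotProduct] at this
      exact this
    · rintro ⟨x, rfl⟩
      ext j
      have h1 := hdot (Pi.single j 1)
      rw [single_one_dotProduct, ← key, hker] at h1
      simpa using h1.symm

end Pres

section Final

theorem free_loc_coker_transpose {B : Type u} [CommRing B] [IsNoetherianRing B]
    {F : Type u} [AddCommGroup F] [Module B F] [Module.Finite B F]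
    {n m : ℕ} (π : (Fin n → B) →ₗ[B] Module.Dual B F) (D : Matrix (Fin n) (Fin m) B)
    (hπ : Function.Surjective π) (hD : LinearMap.range D.mulVecLin = LinearMap.ker π)
    (q : Ideal B) [q.IsPrime]
    (hfree : Module.Free (Localization.AtPrime q) (LocalizedModule q.primeCompl F)) :
    Module.Free (Localization.AtPrime q)
      (LocalizedModule q.primeCompl ((Fin m → B) ⧸ LinearMap.range D.transpose.mulVecLin)) := by
  set S := q.primeCompl with hS
  haveI : Module.FinitePresentation B F := Module.finitePresentation_of_finite B F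
  let R := Localization.AtPrime q
  let DR : Matrix (Fin n) (Fin m) R := D.map (algebraMap B R)
  -- coker of `D` localizes to the dual of `F_q`
  let e1 : LocalizedModule S ((Fin n → B) ⧸ LinearMap.range D.mulVecLin) ≃ₗ[R]
      (Fin n → R) ⧸ LinearMap.range DR.mulVecLin :=
    cokerLocEquiv S (piMap S (Fin m)) (piMap S (Fin n)) D.mulVecLin DR.mulVecLin
      (mulVecLin_piMap S D)
  let e2 : ((Fin n → B) ⧸ LinearMap.range D.mulVecLin) ≃ₗ[B] Module.Dual B F :=
    (Submodule.quotEquivOfEq _ _ hD).trans (π.quotKerEquivOfSurjective hπ)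
  let e3 : LocalizedModule S ((Fin n → B) ⧸ LinearMap.range D.mulVecLin) ≃ₗ[R]
      Module.Dual R (LocalizedModule S F) :=
    IsLocalizedModule.mapEquiv S (LocalizedModule.mkLinearMap S _)
      (IsLocalizedModule.mapExtendScalars S (LocalizedModule.mkLinearMap S F)
        (Algebra.linearMap B R) R) R e2
  have hfin : Module.Finite R (LocalizedModule S F) := inferInstance
  have hproj : Module.Projective R ((Fin n → R) ⧸ LinearMap.range DR.mulVecLin) := by
    have : Module.Free R (Module.Dual R (LocalizedModule S F)) := inferInstance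
    exact Module.Projective.of_equiv (e3.symm.trans e1)
  have hproj' := projective_coker_transpose DR hproj
  let e4 : LocalizedModule S ((Fin m → B) ⧸ LinearMap.range D.transpose.mulVecLin) ≃ₗ[R]
      (Fin m → R) ⧸ LinearMap.range DR.transpose.mulVecLin :=
    cokerLocEquiv S (piMap S (Fin n)) (piMap S (Fin m)) D.transpose.mulVecLin
      DR.transpose.mulVecLin (by
        intro x
        have := mulVecLin_piMap S D.transpose x
        rwa [Matrix.transpose_map] at this)
  have : Module.Projective R
      (LocalizedModule S ((Fin m → B) ⧸ LinearMap.range D.transpose.mulVecLin)) :=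
    Module.Projective.of_equiv e4.symm
  exact Module.free_of_flat_of_isLocalRing

end Final

end Groth.Agent.H29.ReflexivePres
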