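import Mathlib.RingTheory.Regular.RegularSequence
import Mathlib.RingTheory.Regular.IsSMulRegular
import Mathlib.RingTheory.QuotSMulTop

set_option autoImplicit false

namespace Groth.Agent.H29

namespace RegSeqL

universe u

open RingTheory.Sequence Function

variable {A : Type u} [CommRing A]

open scoped Pointwise

/-- weakly regular sequences on the outer terms of a short exact sequence are weakly regular on
the middle term -/
theorem isWeaklyRegular_of_exact (rs : List A) :
    ∀ {M' M M'' : Type u} [AddCommGroup M'] [AddCommGroup M] [AddCommGroup M''] [Module A M']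
      [Module A M] [Module A M''] (f : M' →ₗ[A] M) (g : M →ₗ[A] M''),
      Injective f → Surjective g → Exact f g →
      IsWeaklyRegular M' rs → IsWeaklyRegular M'' rs → IsWeaklyRegular M rs := by
  induction rs with
  | nil => intro M' M M'' _ _ _ _ _ _ f g _ _ _ _ _; exact IsWeaklyRegular.nil A M
  | cons r rs ih =>
    intro M' M M'' _ _ _ _ _ _ f g hf hg hfg h' h''
    rw [isWeaklyRegular_cons_iff] at h' h'' ⊢
    refine ⟨isSMulRegular_of_range_eq_ker hf (LinearMap.exact_iff.1 hfg).symm h'.1 h''.1, ?_⟩
    refine ih (QuotSMulTop.map r f) (QuotSMulTop.map r g) ?_ (QuotSMulTop.map_surjective r hg)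
      (QuotSMulTop.map_exact r hfg hg) h'.2 h''.2
    have h0 : Exact (0 : PUnit.{u + 1} →ₗ[A] M') f := by
      intro x
      constructor
      · intro hx
        exact ⟨0, (hf (hx.trans (map_zero f).symm)).symm⟩
      · rintro ⟨y, rfl⟩
        exact map_zero f
    have h1 := QuotSMulTop.map_first_exact_on_four_term_exact_of_isSMulRegular_last
      (r := r) h0 hfg h''.1
    rw [injective_iff_map_eq_zero]
    intro x hx
    obtain ⟨y, hy⟩ := (h1 x).1 hx
    rw [← hy, map_zero, LinearMap.zero_apply]

section Mul

variable {M : Type u} [AddCommGroup M] [Module A M]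

theorem smul_top_le_comap (r s : A) :
    (s • ⊤ : Submodule A M) ≤ Submodule.comap (LinearMap.lsmul A M r) ((r * s) • ⊤) := by
  intro x hx
  obtain ⟨y, -, rfl⟩ := (Submodule.mem_smul_pointwise_iff_exists _ _ _).1 hx
  rw [Submodule.mem_comap, LinearMap.lsmul_apply, ← mul_smul]
  exact Submodule.smul_mem_pointwise_smul y (r * s) ⊤ trivial

theorem mul_smul_top_le (r s : A) : ((r * s) • ⊤ : Submodule A M) ≤ (r • ⊤ : Submodule A M) := by
  intro x hx
  obtain ⟨y, -, rfl⟩ := (Submodule.mem_smul_pointwise_iff_exists _ _ _).1 hx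
  rw [mul_smul]
  exact Submodule.smul_mem_pointwise_smul (s • y) r ⊤ trivial

/-- multiplication by `r`, from `M / s M` to `M / r s M` -/
def mulMap (r s : A) : QuotSMulTop s M →ₗ[A] QuotSMulTop (r * s) M :=
  Submodule.mapQ _ _ (LinearMap.lsmul A M r) (smul_top_le_comap r s)

/-- the projection `M / r s M → M / r M` -/
def projMap (r s : A) : QuotSMulTop (r * s) M →ₗ[A] QuotSMulTop r M :=
  Submodule.mapQ _ _ LinearMap.id (by rw [Submodule.comap_id]; exact mul_smul_top_le r s)

theorem mulMap_injective (r s : A) (hr : IsSMulRegular M r) :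
    Injective (mulMap (M := M) r s) := by
  rw [injective_iff_map_eq_zero]
  intro x hx
  obtain ⟨m, rfl⟩ := Submodule.Quotient.mk_surjective _ x
  change Submodule.Quotient.mk (r • m) = 0 at hx
  rw [Submodule.Quotient.mk_eq_zero] at hx ⊢
  obtain ⟨y, -, hy⟩ := (Submodule.mem_smul_pointwise_iff_exists _ _ _).1 hx
  rw [mul_smul] at hy
  have : s • y = m := hr hy
  rw [← this]
  exact Submodule.smul_mem_pointwise_smul y s ⊤ trivial

theorem projMap_surjective (r s : A) : Surjective (projMap (M := M) r s) := by
  intro x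
  obtain ⟨m, rfl⟩ := Submodule.Quotient.mk_surjective _ x
  exact ⟨Submodule.Quotient.mk m, rfl⟩

theorem exact_mulMap_projMap (r s : A) : Exact (mulMap (M := M) r s) (projMap r s) := by
  intro x
  obtain ⟨m, rfl⟩ := Submodule.Quotient.mk_surjective _ x
  constructor
  · intro hx
    change Submodule.Quotient.mk m = 0 at hx
    rw [Submodule.Quotient.mk_eq_zero] at hx
    obtain ⟨y, -, rfl⟩ := (Submodule.mem_smul_pointwise_iff_exists _ _ _).1 hx
    exact ⟨Submodule.Quotient.mk y, rfl⟩
  · rintro ⟨y, hy⟩
    obtain ⟨m', rfl⟩ := Submodule.Quotient.mk_surjective _ y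
    rw [← hy]
    change Submodule.Quotient.mk (r • m') = 0
    rw [Submodule.Quotient.mk_eq_zero]
    exact Submodule.smul_mem_pointwise_smul m' r ⊤ trivial

theorem isWeaklyRegular_quot_mul (r s : A) (hr : IsSMulRegular M r) (rs : List A)
    (h1 : IsWeaklyRegular (QuotSMulTop r M) rs) (h2 : IsWeaklyRegular (QuotSMulTop s M) rs) :
    IsWeaklyRegular (QuotSMulTop (r * s) M) rs :=
  isWeaklyRegular_of_exact rs (mulMap r s) (projMap r s) (mulMap_injective r s hr)
    (projMap_surjective r s) (exact_mulMap_projMap r s) h2 h1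

theorem isWeaklyRegular_quot_pow (r : A) (hr : IsSMulRegular M r) (rs : List A)
    (h1 : IsWeaklyRegular (QuotSMulTop r M) rs) (v : ℕ) (hv : 1 ≤ v) :
    IsWeaklyRegular (QuotSMulTop (r ^ v) M) rs := by
  induction v, hv using Nat.le_induction with
  | base => rw [pow_one]; exact h1
  | succ v hv ih =>
    rw [pow_succ']
    exact isWeaklyRegular_quot_mul r (r ^ v) hr rs h1 ih

end Mul

/-- powers of a weakly regular sequence form a weakly regular sequence -/
theorem isWeaklyRegular_zipWith_pow (rs : List A) :
    ∀ (vs : List ℕ) (_ : ∀ v ∈ vs, 1 ≤ v) (M : Type u) [AddCommGroup M] [Module A M],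
      IsWeaklyRegular M rs → IsWeaklyRegular M (List.zipWith (fun r v => r ^ v) rs vs) := by
  induction rs with
  | nil => intro vs _ M _ _ _; rw [List.zipWith_nil_left]; exact IsWeaklyRegular.nil A M
  | cons r rs ih =>
    intro vs hvs M _ _ h
    cases vs with
    | nil => rw [List.zipWith_nil_right]; exact IsWeaklyRegular.nil A M
    | cons v vs =>
      rw [List.zipWith_cons_cons, isWeaklyRegular_cons_iff]
      rw [isWeaklyRegular_cons_iff] at h
      have hv : 1 ≤ v := hvs v List.mem_cons_self
      refine ⟨h.1.pow v, ?_⟩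
      apply ih vs (fun w hw => hvs w (List.mem_cons_of_mem _ hw))
      exact isWeaklyRegular_quot_pow r h.1 rs h.2 v hv

end RegSeqL

end Groth.Agent.H29
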