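import Mathlib
import Groth.Agent.H29.FieldBase
import Groth.Agent.H6.HomShQC
import Groth.Prelude.Def_MoreMor

/-!
# The relative assassin under base change (helper29)

For `f : X → S` locally of finite type, `g : S' → S`, `X' = X ×_S S'` and `F` an `O_X`-module:
`relAssPoint_baseChange_iff`: `x' ∈ Ass_{X'/S'}(F')` iff its image `x` lies in `Ass_{X/S}(F)` and
`x'` is maximal among the points of `X'` over `x` and `s'`.
-/

set_option autoImplicit false
set_option linter.style.haveILetI false
universe u
open CategoryTheory CategoryTheory.Limits AlgebraicGeometry TopologicalSpace TensorProduct IsLocalRing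

namespace Groth.Agent.H29.AssTensor

variable {X S S' : Scheme.{u}} (f : X ⟶ S) (g : S' ⟶ S)

/-- the map from the fibre of `X ×_S S' → S'` over `s'` to the fibre of `f` over `g s'`. -/
noncomputable def fibMapR (s' : S') : (pullback.snd f g).fiber s' ⟶ f.fiber (g s') :=
  pullback.map _ _ _ _ (pullback.fst f g) (Spec.map (g.residueFieldMap s')) g
    (IsPullback.of_hasPullback f g).w.symm (by simp)

theorem fibMapR_fiberι (s' : S') :
    fibMapR f g s' ≫ f.fiberι (g s') = (pullback.snd f g).fiberι s' ≫ pullback.fst f g :=
  pullback.lift_fst _ _ _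

theorem isPullback_fibMapR (s' : S') :
    IsPullback (fibMapR f g s') ((pullback.snd f g).fiberToSpecResidueField s')
      (f.fiberToSpecResidueField (g s')) (Spec.map (g.residueFieldMap s')) :=
  isPullback_fiberToSpecResidueField_of_isPullback (IsPullback.of_hasPullback f g) s'

instance flat_fibMapR (s' : S') : Flat (fibMapR f g s') := by
  have h1 : Flat (Spec.map (g.residueFieldMap s')) := by
    rw [HasRingHomProperty.Spec_iff (P := @Flat)]
    letI := (g.residueFieldMap s').hom.toAlgebra
    exact (inferInstance : Module.Flat (S.residueField (g s')) (S'.residueField s'))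
  exact MorphismProperty.of_isPullback (P := @Flat) (isPullback_fibMapR f g s').flip h1

theorem fibMapR_apply (s' : S') (z : (pullback.snd f g).fiber s') :
    f.fiberι (g s') (fibMapR f g s' z) =
      pullback.fst f g ((pullback.snd f g).fiberι s' z) := by
  have h := congrArg (fun h : ((pullback.snd f g).fiber s') ⟶ X => h z) (fibMapR_fiberι f g s')
  simpa only [Scheme.Hom.comp_apply] using h

instance isLocallyNoetherian_fiber {X S : Scheme.{u}} (f : X ⟶ S) [LocallyOfFiniteType f] (s : S) :
    IsLocallyNoetherian (f.fiber s) := by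
  haveI : LocallyOfFiniteType (f.fiberToSpecResidueField s) :=
    MorphismProperty.pullback_snd _ _ inferInstance
  exact LocallyOfFiniteType.isLocallyNoetherian (f.fiberToSpecResidueField s)

/-- **Lemma A**: associated points of `F'|X'_{s'}` in terms of `F|X_s` and the fibres of
`X'_{s'} → X_s`. -/
theorem isAssPoint_fibre_baseChange_iff [LocallyOfFiniteType f] (F : X.Modules) (s' : S')
    (z : (pullback.snd f g).fiber s') :
    Curv2.IsAssPoint ((Scheme.Modules.pullback ((pullback.snd f g).fiberι s')).obj
        ((Scheme.Modules.pullback (pullback.fst f g)).obj F)) z ↔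
      Curv2.IsAssPoint ((Scheme.Modules.pullback (f.fiberι (g s'))).obj F) (fibMapR f g s' z) ∧
      FibSocleAt (fibMapR f g s') (Coh.structureModule ((pullback.snd f g).fiber s')) z := by
  let iso : (Scheme.Modules.pullback (fibMapR f g s')).obj
      ((Scheme.Modules.pullback (f.fiberι (g s'))).obj F) ≅
      (Scheme.Modules.pullback ((pullback.snd f g).fiberι s')).obj
        ((Scheme.Modules.pullback (pullback.fst f g)).obj F) :=
    (Scheme.Modules.pullbackComp (fibMapR f g s') (f.fiberι (g s'))).app F ≪≫
      (Scheme.Modules.pullbackCongr (fibMapR_fiberι f g s')).app F ≪≫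
      ((Scheme.Modules.pullbackComp ((pullback.snd f g).fiberι s') (pullback.fst f g)).app F).symm
  rw [← isAssPoint_iff_of_iso iso z]
  haveI : LocallyOfFiniteType (pullback.snd f g) := MorphismProperty.pullback_snd _ _ inferInstance
  haveI : IsNoetherianRing (((pullback.snd f g).fiber s').presheaf.stalk z) := inferInstance
  haveI : IsNoetherianRing ((f.fiber (g s')).presheaf.stalk (fibMapR f g s' z)) := inferInstance
  exact isAssPoint_pullback_iff_of_flat (fibMapR f g s') _ z (Flat.stalkMap (fibMapR f g s') z)

/-- (C1) the fibre of `X'_{s'} → X_s` over `w` is `Spec κ(s') ×_{κ(s)} Spec κ(w)`. -/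
theorem isPullback_fibre_fibMapR (s' : S') (w : f.fiber (g s')) :
    IsPullback ((fibMapR f g s').fiberι w ≫ (pullback.snd f g).fiberToSpecResidueField s')
      ((fibMapR f g s').fiberToSpecResidueField w)
      (Spec.map (g.residueFieldMap s'))
      ((f.fiber (g s')).fromSpecResidueField w ≫ f.fiberToSpecResidueField (g s')) :=
  (IsPullback.of_hasPullback (fibMapR f g s') ((f.fiber (g s')).fromSpecResidueField w)).paste_horiz
    (isPullback_fibMapR f g s').flip

theorem fibre_fibMapR_eq_of_specializes (s' : S') (w : f.fiber (g s'))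
    (t t₁ : (fibMapR f g s').fiber w) (hsp : t₁ ⤳ t)
    (h : HasSocle (((fibMapR f g s').fiber w).presheaf.stalk t)
      (((fibMapR f g s').fiber w).presheaf.stalk t))
    (h₁ : HasSocle (((fibMapR f g s').fiber w).presheaf.stalk t₁)
      (((fibMapR f g s').fiber w).presheaf.stalk t₁)) : t = t₁ := by
  have hT := isPullback_fibre_fibMapR f g s' w
  obtain ⟨β, hβ⟩ : ∃ β : S.residueField (g s') ⟶ (f.fiber (g s')).residueField w,
      Spec.map β = (f.fiber (g s')).fromSpecResidueField w ≫ f.fiberToSpecResidueField (g s') :=
    ⟨Spec.preimage _, Spec.map_preimage _⟩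
  have e1 : Spec.map (g.residueFieldMap s') =
      Spec.map (g.residueFieldMap s') ≫ 𝟙 (Spec (S.residueField (g s'))) := (Category.comp_id _).symm
  have e2 : (f.fiber (g s')).fromSpecResidueField w ≫ f.fiberToSpecResidueField (g s') =
      Spec.map β ≫ 𝟙 (Spec (S.residueField (g s'))) := by rw [Category.comp_id, hβ]
  rw [e1, e2] at hT
  exact eq_of_specializes_of_isPullback_fields (k := S.residueField (g s'))
    (L := S'.residueField s') (K := (f.fiber (g s')).residueField w) _ _ _ _ _ hT t t₁ hsp h h₁

theorem nontrivial_structure_stalk' (T : Scheme.{u}) (t : T) :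
    Nontrivial ((Coh.structureModule T).presheaf.stalk t) :=
  (Groth.Agent.H79.StructStalk.structStalkEquiv T t).symm.toEquiv.nontrivial

/-- (C2) on a scheme with Noetherian local rings and without embedded points, the associated
points of the structure sheaf are the maximal points. -/
theorem isAssPoint_structure_iff_forall_specializes (T : Scheme.{u})
    [∀ t : T, IsNoetherianRing (T.presheaf.stalk t)]
    (hNE : ∀ t t₁ : T, t₁ ⤳ t → HasSocle (T.presheaf.stalk t) (T.presheaf.stalk t) →
      HasSocle (T.presheaf.stalk t₁) (T.presheaf.stalk t₁) → t = t₁) (t : T) :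
    Curv2.IsAssPoint (Coh.structureModule T) t ↔ ∀ t'' : T, t'' ⤳ t → t'' = t := by
  have hcoh : Coh.IsCoh (Coh.structureModule T) := Groth.Agent.H6.HomSh.isCoh_structureModule T
  haveI : (Coh.structureModule T).IsQuasicoherent := hcoh.1
  constructor
  · intro ht t'' hsp
    obtain ⟨t₀, hnt, hsp₀, hgen⟩ := Groth.Agent.H79.SuppGeneric.exists_generic_specializes
      (Coh.structureModule T) hcoh t'' (nontrivial_structure_stalk' T t'')
    have ht₀ : Curv2.IsAssPoint (Coh.structureModule T) t₀ :=
      Groth.Agent.H79.SuppGeneric.isAssPoint_of_generic _ t₀ hnt hgen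
    have hs := (isAssPoint_structure_iff_hasSocle_self T t).mp ht
    have hs₀ := (isAssPoint_structure_iff_hasSocle_self T t₀).mp ht₀
    have heq : t = t₀ := hNE t t₀ (hsp₀.trans hsp) hs hs₀
    rw [← heq] at hsp₀
    exact (hsp.antisymm hsp₀).eq
  · intro h
    exact Groth.Agent.H79.SuppGeneric.isAssPoint_of_generic _ t (nontrivial_structure_stalk' T t)
      (fun y _ hy => h y hy)

/-- (C3) maximal points of the fibre of `X'_{s'} → X_s` in terms of points of `X'`. -/
theorem forall_specializes_fibre_iff (s' : S') (w : f.fiber (g s'))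
    (t : (fibMapR f g s').fiber w) :
    (∀ t'' : (fibMapR f g s').fiber w, t'' ⤳ t → t'' = t) ↔
      ∀ x'' : ↥(pullback f g), pullback.snd f g x'' = s' →
        pullback.fst f g x'' = pullback.fst f g
          ((pullback.snd f g).fiberι s' ((fibMapR f g s').fiberι w t)) →
        x'' ⤳ (pullback.snd f g).fiberι s' ((fibMapR f g s').fiberι w t) →
        x'' = (pullback.snd f g).fiberι s' ((fibMapR f g s').fiberι w t) := by
  have hw : fibMapR f g s' ((fibMapR f g s').fiberι w t) = w :=
    fiberι_apply' (fibMapR f g s') w t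
  constructor
  · intro h x'' h1 h2 h3
    have hmem : x'' ∈ (pullback.snd f g) ⁻¹' {s'} := h1
    rw [← (pullback.snd f g).range_fiberι] at hmem
    obtain ⟨z'', rfl⟩ := hmem
    have hz'' : fibMapR f g s' z'' = w := by
      apply (f.fiberι (g s')).isEmbedding.injective
      rw [fibMapR_apply, h2, ← fibMapR_apply, hw]
    have hmem2 : z'' ∈ (fibMapR f g s') ⁻¹' {w} := hz''
    rw [← (fibMapR f g s').range_fiberι] at hmem2
    obtain ⟨t'', rfl⟩ := hmem2
    have hsp : t'' ⤳ t :=
      specializes_of_fiberι _ _ _ _ (specializes_of_fiberι _ _ _ _ h3)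
    rw [h t'' hsp]
  · intro h t'' hsp
    have h3 : (pullback.snd f g).fiberι s' ((fibMapR f g s').fiberι w t'') ⤳
        (pullback.snd f g).fiberι s' ((fibMapR f g s').fiberι w t) :=
      (hsp.map ((fibMapR f g s').fiberι w).continuous).map
        ((pullback.snd f g).fiberι s').continuous
    have h1 : pullback.snd f g ((pullback.snd f g).fiberι s' ((fibMapR f g s').fiberι w t'')) = s' :=
      fiberι_apply' _ _ _
    have h2 : pullback.fst f g ((pullback.snd f g).fiberι s' ((fibMapR f g s').fiberι w t'')) =
        pullback.fst f g ((pullback.snd f g).fiberι s' ((fibMapR f g s').fiberι w t)) := by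
      rw [← fibMapR_apply, ← fibMapR_apply, hw, fiberι_apply' (fibMapR f g s') w t'']
    have := h _ h1 h2 h3
    exact ((fibMapR f g s').fiberι w).isEmbedding.injective
      (((pullback.snd f g).fiberι s').isEmbedding.injective this)

theorem isAssPoint_fibre_transport {X S : Scheme.{u}} (f : X ⟶ S) (F : X.Modules) {s₁ s₂ : S}
    (h : s₁ = s₂) (w₁ : f.fiber s₁) (w₂ : f.fiber s₂) (hw : f.fiberι s₁ w₁ = f.fiberι s₂ w₂) :
    Curv2.IsAssPoint ((Scheme.Modules.pullback (f.fiberι s₁)).obj F) w₁ ↔
      Curv2.IsAssPoint ((Scheme.Modules.pullback (f.fiberι s₂)).obj F) w₂ := by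
  subst h
  have := (f.fiberι s₁).isEmbedding.injective hw
  subst this
  rfl


/-- **The relative assassin under base change.** -/
theorem relAssPoint_baseChange_iff [LocallyOfFiniteType f] (F : X.Modules)
    (x' : ↥(pullback f g)) :
    Curv2.IsAssPoint
        ((Scheme.Modules.pullback ((pullback.snd f g).fiberι ((pullback.snd f g) x'))).obj
          ((Scheme.Modules.pullback (pullback.fst f g)).obj F))
        ((pullback.snd f g).asFiber x') ↔
      Curv2.IsAssPoint ((Scheme.Modules.pullback (f.fiberι (f ((pullback.fst f g) x')))).obj F)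
          (f.asFiber ((pullback.fst f g) x')) ∧
        ∀ x'' : ↥(pullback f g), (pullback.snd f g) x'' = (pullback.snd f g) x' →
          (pullback.fst f g) x'' = (pullback.fst f g) x' → x'' ⤳ x' → x'' = x' := by
  haveI : LocallyOfFiniteType (pullback.snd f g) := MorphismProperty.pullback_snd _ _ inferInstance
  obtain ⟨s', z, hz⟩ : ∃ (s' : S') (z : (pullback.snd f g).fiber s'),
      (pullback.snd f g).fiberι s' z = x' ∧ s' = pullback.snd f g x' ∧
        HEq z ((pullback.snd f g).asFiber x') :=
    ⟨_, (pullback.snd f g).asFiber x', (pullback.snd f g).fiberι_asFiber x', rfl, HEq.rfl⟩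
  obtain ⟨hz, hs', hheq⟩ := hz
  subst hs'
  have hzeq : z = (pullback.snd f g).asFiber x' := eq_of_heq hheq
  rw [← hzeq, isAssPoint_fibre_baseChange_iff f g F _ z]
  -- first component
  have hcond : g (pullback.snd f g x') = f (pullback.fst f g x') := by
    have h := congrArg (fun h : pullback f g ⟶ S => h x') (pullback.condition (f := f) (g := g))
    simp only [Scheme.Hom.comp_apply] at h
    exact h.symm
  have h1 : Curv2.IsAssPoint ((Scheme.Modules.pullback (f.fiberι (g (pullback.snd f g x')))).obj F)
        (fibMapR f g _ z) ↔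
      Curv2.IsAssPoint ((Scheme.Modules.pullback (f.fiberι (f ((pullback.fst f g) x')))).obj F)
        (f.asFiber ((pullback.fst f g) x')) := by
    apply isAssPoint_fibre_transport f F hcond
    rw [fibMapR_apply, hz, Scheme.Hom.fiberι_asFiber]
  rw [h1]
  refine and_congr_right (fun _ => ?_)
  -- second component
  have hmem : z ∈ (fibMapR f g (pullback.snd f g x')) ⁻¹' {fibMapR f g _ z} := rfl
  rw [← (fibMapR f g (pullback.snd f g x')).range_fiberι] at hmem
  obtain ⟨t, ht⟩ := hmem
  haveI hN : ∀ t'' : (fibMapR f g (pullback.snd f g x')).fiber (fibMapR f g _ z),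
      IsNoetherianRing (((fibMapR f g (pullback.snd f g x')).fiber
        (fibMapR f g _ z)).presheaf.stalk t'') := fun t'' =>
    isNoetherianRing_of_surjective _ _
      (((fibMapR f g (pullback.snd f g x')).fiberι (fibMapR f g _ z)).stalkMap t'').hom
      (((fibMapR f g (pullback.snd f g x')).fiberι (fibMapR f g _ z)).stalkMap_surjective t'')
  have h2 := isAssPoint_fibre_structure_iff (fibMapR f g (pullback.snd f g x'))
    (fibMapR f g _ z) t
  rw [ht] at h2
  rw [← h2, isAssPoint_structure_iff_forall_specializes _
    (fibre_fibMapR_eq_of_specializes f g _ _) t, forall_specializes_fibre_iff f g _ _ t, ht, hz]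

end Groth.Agent.H29.AssTensor
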