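import Mathlib
import Groth.Agent.H29.RelAssBC

/-!
# The relative assassin under base change, for an arbitrary pullback square (helper29)

Same as `Groth.Agent.H29.RelAssBC`, for a pullback square `hc : IsPullback g' f' f g`, plus:
* `mem_relAss_iff_isAssPoint_fibre`: the stalkwise relative assassin `MoreMor.relAss f F` is the set
  of associated points of the restrictions of `F` to the fibres (for `f` locally of finite type).
-/

set_option autoImplicit false
set_option linter.style.haveILetI false
universe u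
open CategoryTheory CategoryTheory.Limits AlgebraicGeometry TopologicalSpace TensorProduct IsLocalRing
open Groth.Agent.H29.AssTensor

namespace Groth.Agent.H29.RelAss2

variable {X S S' X' : Scheme.{u}} {f : X ⟶ S} {g : S' ⟶ S} {g' : X' ⟶ X} {f' : X' ⟶ S'}
  (hc : IsPullback g' f' f g)

/-- the map from the fibre of `f' : X' → S'` over `s'` (for a pullback square `X' = X ×_S S'`) to the fibre of `f` over `g s'`. -/
noncomputable def fibMapR (s' : S') : f'.fiber s' ⟶ f.fiber (g s') :=
  pullback.map _ _ _ _ g' (Spec.map (g.residueFieldMap s')) g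
    hc.w.symm (by simp)

theorem fibMapR_fiberι (s' : S') :
    fibMapR hc s' ≫ f.fiberι (g s') = f'.fiberι s' ≫ g' :=
  pullback.lift_fst _ _ _

theorem isPullback_fibMapR (s' : S') :
    IsPullback (fibMapR hc s') (f'.fiberToSpecResidueField s')
      (f.fiberToSpecResidueField (g s')) (Spec.map (g.residueFieldMap s')) :=
  isPullback_fiberToSpecResidueField_of_isPullback hc s'

instance flat_fibMapR (s' : S') : Flat (fibMapR hc s') := by
  have h1 : Flat (Spec.map (g.residueFieldMap s')) := by
    rw [HasRingHomProperty.Spec_iff (P := @Flat)]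
    letI := (g.residueFieldMap s').hom.toAlgebra
    exact (inferInstance : Module.Flat (S.residueField (g s')) (S'.residueField s'))
  exact MorphismProperty.of_isPullback (P := @Flat) (isPullback_fibMapR hc s').flip h1

theorem fibMapR_apply (s' : S') (z : f'.fiber s') :
    f.fiberι (g s') (fibMapR hc s' z) =
      g' (f'.fiberι s' z) := by
  have h := congrArg (fun h : (f'.fiber s') ⟶ X => h z) (fibMapR_fiberι hc s')
  simpa only [Scheme.Hom.comp_apply] using h

/-- **Lemma A**: associated points of `F'|X'_{s'}` in terms of `F|X_s` and the fibres of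
`X'_{s'} → X_s`. -/
theorem isAssPoint_fibre_baseChange_iff [LocallyOfFiniteType f] (F : X.Modules) (s' : S')
    (z : f'.fiber s') :
    Curv2.IsAssPoint ((Scheme.Modules.pullback (f'.fiberι s')).obj
        ((Scheme.Modules.pullback g').obj F)) z ↔
      Curv2.IsAssPoint ((Scheme.Modules.pullback (f.fiberι (g s'))).obj F) (fibMapR hc s' z) ∧
      FibSocleAt (fibMapR hc s') (Coh.structureModule (f'.fiber s')) z := by
  let iso : (Scheme.Modules.pullback (fibMapR hc s')).obj
      ((Scheme.Modules.pullback (f.fiberι (g s'))).obj F) ≅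
      (Scheme.Modules.pullback (f'.fiberι s')).obj
        ((Scheme.Modules.pullback g').obj F) :=
    (Scheme.Modules.pullbackComp (fibMapR hc s') (f.fiberι (g s'))).app F ≪≫
      (Scheme.Modules.pullbackCongr (fibMapR_fiberι hc s')).app F ≪≫
      ((Scheme.Modules.pullbackComp (f'.fiberι s') g').app F).symm
  rw [← isAssPoint_iff_of_iso iso z]
  haveI : LocallyOfFiniteType f' :=
    MorphismProperty.of_isPullback (P := @LocallyOfFiniteType) hc inferInstance
  haveI : IsNoetherianRing ((f'.fiber s').presheaf.stalk z) := inferInstance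
  haveI : IsNoetherianRing ((f.fiber (g s')).presheaf.stalk (fibMapR hc s' z)) := inferInstance
  exact isAssPoint_pullback_iff_of_flat (fibMapR hc s') _ z (Flat.stalkMap (fibMapR hc s') z)

/-- (C1) the fibre of `X'_{s'} → X_s` over `w` is `Spec κ(s') ×_{κ(s)} Spec κ(w)`. -/
theorem isPullback_fibre_fibMapR (s' : S') (w : f.fiber (g s')) :
    IsPullback ((fibMapR hc s').fiberι w ≫ f'.fiberToSpecResidueField s')
      ((fibMapR hc s').fiberToSpecResidueField w)
      (Spec.map (g.residueFieldMap s'))
      ((f.fiber (g s')).fromSpecResidueField w ≫ f.fiberToSpecResidueField (g s')) :=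
  (IsPullback.of_hasPullback (fibMapR hc s') ((f.fiber (g s')).fromSpecResidueField w)).paste_horiz
    (isPullback_fibMapR hc s').flip

theorem fibre_fibMapR_eq_of_specializes (s' : S') (w : f.fiber (g s'))
    (t t₁ : (fibMapR hc s').fiber w) (hsp : t₁ ⤳ t)
    (h : HasSocle (((fibMapR hc s').fiber w).presheaf.stalk t)
      (((fibMapR hc s').fiber w).presheaf.stalk t))
    (h₁ : HasSocle (((fibMapR hc s').fiber w).presheaf.stalk t₁)
      (((fibMapR hc s').fiber w).presheaf.stalk t₁)) : t = t₁ := by
  have hT := isPullback_fibre_fibMapR hc s' w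
  obtain ⟨β, hβ⟩ : ∃ β : S.residueField (g s') ⟶ (f.fiber (g s')).residueField w,
      Spec.map β = (f.fiber (g s')).fromSpecResidueField w ≫ f.fiberToSpecResidueField (g s') :=
    ⟨Spec.preimage _, Spec.map_preimage _⟩
  have e1 : Spec.map (g.residueFieldMap s') =
      Spec.map (g.residueFieldMap s') ≫ 𝟙 (Spec (S.residueField (g s'))) := (Category.comp_id _).symm
  have e2 : (f.fiber (g s')).fromSpecResidueField w ≫ f.fiberToSpecResidueField (g s') =
      Spec.map β ≫ 𝟙 (Spec (S.residueField (g s'))) := by rw [Category.comp_id, hβ]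
  rw [e1, e2] at hT
  exact eq_of_specializes_of_isPullback_fields (k := S.residueField (g s'))
    (L := S'.residueField s') (K := (f.fiber (g s')).residueField w) _ _ _ _ _ hT t t₁ hsp h h₁

/-- (C3) maximal points of the fibre of `X'_{s'} → X_s` in terms of points of `X'`. -/
theorem forall_specializes_fibre_iff (s' : S') (w : f.fiber (g s'))
    (t : (fibMapR hc s').fiber w) :
    (∀ t'' : (fibMapR hc s').fiber w, t'' ⤳ t → t'' = t) ↔
      ∀ x'' : ↥X', f' x'' = s' →
        g' x'' = g'
          (f'.fiberι s' ((fibMapR hc s').fiberι w t)) →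
        x'' ⤳ f'.fiberι s' ((fibMapR hc s').fiberι w t) →
        x'' = f'.fiberι s' ((fibMapR hc s').fiberι w t) := by
  have hw : fibMapR hc s' ((fibMapR hc s').fiberι w t) = w :=
    fiberι_apply' (fibMapR hc s') w t
  constructor
  · intro h x'' h1 h2 h3
    have hmem : x'' ∈ f' ⁻¹' {s'} := h1
    rw [← f'.range_fiberι] at hmem
    obtain ⟨z'', rfl⟩ := hmem
    have hz'' : fibMapR hc s' z'' = w := by
      apply (f.fiberι (g s')).isEmbedding.injective
      rw [fibMapR_apply hc, h2, ← fibMapR_apply hc, hw]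
    have hmem2 : z'' ∈ (fibMapR hc s') ⁻¹' {w} := hz''
    rw [← (fibMapR hc s').range_fiberι] at hmem2
    obtain ⟨t'', rfl⟩ := hmem2
    have hsp : t'' ⤳ t :=
      specializes_of_fiberι _ _ _ _ (specializes_of_fiberι _ _ _ _ h3)
    rw [h t'' hsp]
  · intro h t'' hsp
    have h3 : f'.fiberι s' ((fibMapR hc s').fiberι w t'') ⤳
        f'.fiberι s' ((fibMapR hc s').fiberι w t) :=
      (hsp.map ((fibMapR hc s').fiberι w).continuous).map
        (f'.fiberι s').continuous
    have h1 : f' (f'.fiberι s' ((fibMapR hc s').fiberι w t'')) = s' :=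
      fiberι_apply' _ _ _
    have h2 : g' (f'.fiberι s' ((fibMapR hc s').fiberι w t'')) =
        g' (f'.fiberι s' ((fibMapR hc s').fiberι w t)) := by
      rw [← fibMapR_apply hc, ← fibMapR_apply hc, hw, fiberι_apply' (fibMapR hc s') w t'']
    have := h _ h1 h2 h3
    exact ((fibMapR hc s').fiberι w).isEmbedding.injective
      ((f'.fiberι s').isEmbedding.injective this)


include hc in
/-- **The relative assassin under base change.** -/
theorem relAssPoint_baseChange_iff [LocallyOfFiniteType f] (F : X.Modules)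
    (x' : ↥X') :
    Curv2.IsAssPoint
        ((Scheme.Modules.pullback (f'.fiberι (f' x'))).obj
          ((Scheme.Modules.pullback g').obj F))
        (f'.asFiber x') ↔
      Curv2.IsAssPoint ((Scheme.Modules.pullback (f.fiberι (f (g' x')))).obj F)
          (f.asFiber (g' x')) ∧
        ∀ x'' : ↥X', f' x'' = f' x' →
          g' x'' = g' x' → x'' ⤳ x' → x'' = x' := by
  haveI : LocallyOfFiniteType f' :=
    MorphismProperty.of_isPullback (P := @LocallyOfFiniteType) hc inferInstance
  obtain ⟨s', z, hz⟩ : ∃ (s' : S') (z : f'.fiber s'),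
      f'.fiberι s' z = x' ∧ s' = f' x' ∧
        HEq z (f'.asFiber x') :=
    ⟨_, f'.asFiber x', f'.fiberι_asFiber x', rfl, HEq.rfl⟩
  obtain ⟨hz, hs', hheq⟩ := hz
  subst hs'
  have hzeq : z = f'.asFiber x' := eq_of_heq hheq
  rw [← hzeq, isAssPoint_fibre_baseChange_iff hc F _ z]
  -- first component
  have hcond : g (f' x') = f (g' x') := by
    have h := congrArg (fun h : X' ⟶ S => h x') hc.w
    simp only [Scheme.Hom.comp_apply] at h
    exact h.symm
  have h1 : Curv2.IsAssPoint ((Scheme.Modules.pullback (f.fiberι (g (f' x')))).obj F)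
        (fibMapR hc _ z) ↔
      Curv2.IsAssPoint ((Scheme.Modules.pullback (f.fiberι (f (g' x')))).obj F)
        (f.asFiber (g' x')) := by
    apply isAssPoint_fibre_transport f F hcond
    rw [fibMapR_apply hc, hz, Scheme.Hom.fiberι_asFiber]
  rw [h1]
  refine and_congr_right (fun _ => ?_)
  -- second component
  have hmem : z ∈ (fibMapR hc (f' x')) ⁻¹' {fibMapR hc _ z} := rfl
  rw [← (fibMapR hc (f' x')).range_fiberι] at hmem
  obtain ⟨t, ht⟩ := hmem
  haveI hN : ∀ t'' : (fibMapR hc (f' x')).fiber (fibMapR hc _ z),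
      IsNoetherianRing (((fibMapR hc (f' x')).fiber
        (fibMapR hc _ z)).presheaf.stalk t'') := fun t'' =>
    isNoetherianRing_of_surjective _ _
      (((fibMapR hc (f' x')).fiberι (fibMapR hc _ z)).stalkMap t'').hom
      (((fibMapR hc (f' x')).fiberι (fibMapR hc _ z)).stalkMap_surjective t'')
  have h2 := isAssPoint_fibre_structure_iff (fibMapR hc (f' x'))
    (fibMapR hc _ z) t
  rw [ht] at h2
  rw [← h2, isAssPoint_structure_iff_forall_specializes _
    (fibre_fibMapR_eq_of_specializes hc _ _) t, forall_specializes_fibre_iff hc _ _ t, ht, hz]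

/-- over a local ring `B` with `B ⧸ I` Noetherian, the maximal ideal is (weakly) associated to
`G ⧸ I G` iff the quotient socle condition holds. -/
theorem isAssociatedPrime_maximalIdeal_quotient_iff {B : Type u} [CommRing B] [IsLocalRing B]
    (I : Ideal B) (hI : I ≠ ⊤) [IsNoetherianRing (B ⧸ I)] (G : Type u) [AddCommGroup G]
    [Module B G] :
    IsAssociatedPrime (maximalIdeal B) (G ⧸ I • (⊤ : Submodule B G)) ↔ QuotSocle B I G := by
  haveI : Nontrivial (B ⧸ I) := Ideal.Quotient.nontrivial_iff.mpr hI
  haveI : IsLocalHom (Ideal.Quotient.mk I) :=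
    IsLocalHom.of_surjective _ Ideal.Quotient.mk_surjective
  haveI : IsLocalRing (B ⧸ I) := IsLocalRing.of_surjective' _ Ideal.Quotient.mk_surjective
  rw [← hasSocle_quotient_iff I hI G, ← isAssociatedPrime_maximalIdeal_iff]
  have key : ∀ m : G ⧸ I • (⊤ : Submodule B G),
      maximalIdeal B = (Submodule.colon (⊥ : Submodule B (G ⧸ I • (⊤ : Submodule B G))) {m}).radical ↔
      maximalIdeal (B ⧸ I) =
        (Submodule.colon (⊥ : Submodule (B ⧸ I) (G ⧸ I • (⊤ : Submodule B G))) {m}).radical := by
    intro m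
    have hmem : ∀ b : B, b ∈ (Submodule.colon (⊥ : Submodule B (G ⧸ I • (⊤ : Submodule B G))) {m}).radical ↔
        Ideal.Quotient.mk I b ∈
          (Submodule.colon (⊥ : Submodule (B ⧸ I) (G ⧸ I • (⊤ : Submodule B G))) {m}).radical := by
      intro b
      simp only [Ideal.mem_radical_iff, Submodule.mem_colon_singleton, Submodule.mem_bot]
      constructor
      · rintro ⟨n, hn⟩
        exact ⟨n, by rw [← map_pow, ← hn]; rfl⟩
      · rintro ⟨n, hn⟩
        exact ⟨n, by rw [← map_pow] at hn; rw [← hn]; rfl⟩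
    have hmax : ∀ b : B, b ∈ maximalIdeal B ↔ Ideal.Quotient.mk I b ∈ maximalIdeal (B ⧸ I) := by
      intro b
      rw [mem_maximalIdeal, mem_maximalIdeal, mem_nonunits_iff, mem_nonunits_iff,
        isUnit_map_iff]
    constructor
    · intro h
      ext b'
      obtain ⟨b, rfl⟩ := Ideal.Quotient.mk_surjective b'
      rw [← hmax, ← hmem, h]
    · intro h
      ext b
      rw [hmax, hmem, h]
  constructor
  · rintro ⟨_, m, hm⟩
    exact ⟨inferInstance, m, (key m).mp hm⟩
  · rintro ⟨_, m, hm⟩
    exact ⟨inferInstance, m, (key m).mpr hm⟩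

section relAss

variable {X Y : Scheme.{u}}

open Groth.Agent.H49.FibreStalk in
/-- variant of `isAssPoint_fibre_iff` assuming only the local ring of the fibre Noetherian. -/
theorem isAssPoint_fibre_iff' (f : X ⟶ Y) (F : X.Modules) (y : Y) (x' : f.fiber y)
    [IsNoetherianRing ((f.fiber y).presheaf.stalk x')] :
    Curv2.IsAssPoint ((Scheme.Modules.pullback (f.fiberι y)).obj F) x' ↔
      FibSocleAt f F (f.fiberι y x') := by
  have hsurj : Function.Surjective ((f.fiberι y).stalkMap x').hom :=
    (f.fiberι y).stalkMap_surjective x'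
  rw [isAssPoint_iff_hasSocle]
  letI := ((f.fiberι y).stalkMap x').hom.toAlgebra
  let e := Groth.Agent.H79.PullStalkLength.pullbackStalkEquiv (f.fiberι y) x' F
  have hs : Function.Surjective (algebraMap (X.presheaf.stalk (f.fiberι y x'))
      ((f.fiber y).presheaf.stalk x')) := hsurj
  obtain ⟨σ, φ, -, hφ⟩ := Groth.Agent.H99.ModPair.exists_semilinear_quotient _ _ hs
    (F.presheaf.stalk (f.fiberι y x'))
  have hker : RingHom.ker (algebraMap (X.presheaf.stalk (f.fiberι y x'))
      ((f.fiber y).presheaf.stalk x')) = fibreIdeal f (f.fiberι y x') :=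
    ker_stalkMap_fiberι f y x'
  have h1 : HasSocle ((f.fiber y).presheaf.stalk x')
      (((Scheme.Modules.pullback (f.fiberι y)).obj F).presheaf.stalk x') ↔
      HasSocle ((f.fiber y).presheaf.stalk x')
        (((f.fiber y).presheaf.stalk x') ⊗[X.presheaf.stalk (f.fiberι y x')]
          (F.presheaf.stalk (f.fiberι y x'))) :=
    ⟨HasSocle.of_linearEquiv e, HasSocle.of_linearEquiv e.symm⟩
  rw [h1]
  have h2 : HasSocle ((f.fiber y).presheaf.stalk x')
        (((f.fiber y).presheaf.stalk x') ⊗[X.presheaf.stalk (f.fiberι y x')]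
          (F.presheaf.stalk (f.fiberι y x'))) ↔
      HasSocle (X.presheaf.stalk (f.fiberι y x') ⧸ RingHom.ker (algebraMap
          (X.presheaf.stalk (f.fiberι y x')) ((f.fiber y).presheaf.stalk x')))
        (F.presheaf.stalk (f.fiberι y x') ⧸ (RingHom.ker (algebraMap
          (X.presheaf.stalk (f.fiberι y x')) ((f.fiber y).presheaf.stalk x'))) •
            (⊤ : Submodule (X.presheaf.stalk (f.fiberι y x'))
              (F.presheaf.stalk (f.fiberι y x')))) :=
    ⟨HasSocle.of_semilinear σ.symm φ.symm (Groth.Agent.H99.ModPair.semilinear_symm σ φ hφ),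
      HasSocle.of_semilinear σ φ hφ⟩
  rw [h2, hasSocle_quotient_iff _ (by rw [hker]; exact fibreIdeal_ne_top f _), hker]
  rfl

open Groth.Agent.H49.FibreStalk in
/-- the stalkwise relative assassin in terms of the fibre socle condition. -/
theorem mem_relAss_iff_fibSocleAt (f : X ⟶ Y) (F : X.Modules) (y : Y) (w : f.fiber y)
    [IsNoetherianRing ((f.fiber y).presheaf.stalk w)] :
    f.fiberι y w ∈ MoreMor.relAss f F ↔ FibSocleAt f F (f.fiberι y w) := by
  haveI : IsNoetherianRing (X.presheaf.stalk (f.fiberι y w) ⧸ fibreIdeal f (f.fiberι y w)) :=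
    isNoetherianRing_of_ringEquiv _ (quotientEquivStalkFiber f y w).symm
  exact isAssociatedPrime_maximalIdeal_quotient_iff _ (fibreIdeal_ne_top f _) _

/-- for `f` locally of finite type, the relative assassin consists of the associated points of
the restrictions to the fibres. -/
theorem mem_relAss_iff_isAssPoint_fibre (f : X ⟶ Y) [LocallyOfFiniteType f] (F : X.Modules) (y : Y)
    (w : f.fiber y) :
    f.fiberι y w ∈ MoreMor.relAss f F ↔
      Curv2.IsAssPoint ((Scheme.Modules.pullback (f.fiberι y)).obj F) w := by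
  rw [mem_relAss_iff_fibSocleAt, isAssPoint_fibre_iff']

end relAss


include hc in
/-- the relative assassin under base change, stalkwise form. -/
theorem mem_relAss_baseChange_iff [LocallyOfFiniteType f] (F : X.Modules) (x' : ↥X') :
    x' ∈ MoreMor.relAss f' ((Scheme.Modules.pullback g').obj F) ↔
      g' x' ∈ MoreMor.relAss f F ∧
        ∀ x'' : ↥X', f' x'' = f' x' → g' x'' = g' x' → x'' ⤳ x' → x'' = x' := by
  haveI : LocallyOfFiniteType f' :=
    MorphismProperty.of_isPullback (P := @LocallyOfFiniteType) hc inferInstance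
  have h1 := mem_relAss_iff_isAssPoint_fibre f' ((Scheme.Modules.pullback g').obj F) (f' x')
    (f'.asFiber x')
  rw [f'.fiberι_asFiber] at h1
  have h2 := mem_relAss_iff_isAssPoint_fibre f F (f (g' x')) (f.asFiber (g' x'))
  rw [f.fiberι_asFiber] at h2
  rw [h1, h2]
  exact relAssPoint_baseChange_iff hc F x'

theorem surjective_fibMapR (s' : S') : Surjective (fibMapR hc s') := by
  have h1 : Surjective (Spec.map (g.residueFieldMap s')) := by
    constructor
    intro p
    exact ⟨default, Subsingleton.elim (α := PrimeSpectrum _) _ _⟩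
  exact MorphismProperty.of_isPullback (P := @Surjective) (isPullback_fibMapR hc s').flip h1

include hc in
/-- over a point `x` of `X` and a point `s'` of `S'` with the same image in `S` there is a point of
`X'` which is maximal among the points over `x` and `s'`. -/
theorem exists_maximal_point_over [LocallyOfFiniteType f] (x : X) (s' : S') (hxs : f x = g s') :
    ∃ x' : ↥X', g' x' = x ∧ f' x' = s' ∧
      ∀ x'' : ↥X', f' x'' = s' → g' x'' = x → x'' ⤳ x' → x'' = x' := by
  have hmem : x ∈ f ⁻¹' {g s'} := hxs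
  rw [← f.range_fiberι] at hmem
  obtain ⟨w, rfl⟩ := hmem
  haveI := surjective_fibMapR hc s'
  obtain ⟨z, hz⟩ := (fibMapR hc s').surjective w
  have hmem2 : z ∈ (fibMapR hc s') ⁻¹' {w} := hz
  rw [← (fibMapR hc s').range_fiberι] at hmem2
  obtain ⟨t₁, -⟩ := hmem2
  have hcoh : Coh.IsCoh (Coh.structureModule ((fibMapR hc s').fiber w)) :=
    Groth.Agent.H6.HomSh.isCoh_structureModule _
  obtain ⟨t₀, -, -, hgen⟩ := Groth.Agent.H79.SuppGeneric.exists_generic_specializes
    (Coh.structureModule ((fibMapR hc s').fiber w)) hcoh t₁ (nontrivial_structure_stalk' _ t₁)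
  have hmax : ∀ t'' : (fibMapR hc s').fiber w, t'' ⤳ t₀ → t'' = t₀ := fun t'' h =>
    hgen t'' (nontrivial_structure_stalk' _ t'') h
  have hx' : g' (f'.fiberι s' ((fibMapR hc s').fiberι w t₀)) = f.fiberι (g s') w := by
    rw [← fibMapR_apply hc, fiberι_apply' (fibMapR hc s') w t₀]
  refine ⟨f'.fiberι s' ((fibMapR hc s').fiberι w t₀), hx', fiberι_apply' _ _ _, ?_⟩
  intro x'' h1 h2 h3
  exact (forall_specializes_fibre_iff hc s' w t₀).mp hmax x'' h1 (h2.trans hx'.symm) h3

include hc in
/-- the associated points of `F` on the fibre `X_s` lie in `U` iff the associated points of `F'` on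
`X'_{s'}` lie in `g'⁻¹ U`. -/
theorem relAss_fibre_subset_open_iff_baseChange [LocallyOfFiniteType f] (F : X.Modules)
    (U : X.Opens) (s' : S') :
    {x : ↑X | x ∈ MoreMor.relAss f F ∧ f x = g s'} ⊆ (U : Set ↑X) ↔
      {x' : ↑X' | x' ∈ MoreMor.relAss f' ((Scheme.Modules.pullback g').obj F) ∧ f' x' = s'} ⊆
        (g' ⁻¹ᵁ U : Set ↑X') := by
  have hcond : ∀ x' : ↥X', f (g' x') = g (f' x') := by
    intro x'
    have h := congrArg (fun h : X' ⟶ S => h x') hc.w
    simpa only [Scheme.Hom.comp_apply] using h
  constructor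
  · rintro h x' ⟨hx', hs'⟩
    have h1 := ((mem_relAss_baseChange_iff hc F x').mp hx').1
    have h2 : f (g' x') = g s' := by rw [hcond, hs']
    exact h ⟨h1, h2⟩
  · rintro h x ⟨hx, hxs⟩
    obtain ⟨x', rfl, hs', hmax⟩ := exists_maximal_point_over hc x s' hxs
    have h1 : x' ∈ MoreMor.relAss f' ((Scheme.Modules.pullback g').obj F) := by
      rw [mem_relAss_baseChange_iff hc F x']
      refine ⟨hx, fun x'' h1 h2 h3 => hmax x'' (h1.trans hs') h2 h3⟩
    exact h ⟨h1, hs'⟩

end Groth.Agent.H29.RelAss2
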