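import Mathlib
import Groth.Prelude.Def_CInt
import Groth.Prelude.Def_FlatMod2
import Groth.Agent.S2107
import Groth.Agent.H70.StalkFibre.Main
import Groth.Agent.H49.FibreStalk
import Groth.Agent.H71.QCoh.StalkPullback
import Groth.Agent.H44.FpqcFP
import Groth.Agent.H44.PullbackAffine
import Groth.Agent.H29.ResInjB

/-!
# Fibrewise criterion for the injectivity of restriction maps of a flat finitely presented module
(helper29)
-/

set_option autoImplicit false
universe u
open CategoryTheory AlgebraicGeometry TopologicalSpace TensorProduct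

namespace Groth.Agent.H29.ResInj

variable {X S : Scheme.{u}}

open Groth.Agent.H71.QCoh Groth.Agent.H49.FibreStalk in
/-- Key lemma: near a point of the fibre there is a section of `O_X` vanishing off `U` whose germ
is regular on the stalk of `F`. -/
theorem exists_section_regular_stalk (f : X ⟶ S) [LocallyOfFinitePresentation f] (F : X.Modules)
    [F.IsQuasicoherent] [SheafOfModules.IsFinitePresentation (R := X.ringCatSheaf) F]
    (U : X.Opens) (s : S) (x' : f.fiber s) (hflat : FlatMod.IsFlatOverAt f F (f.fiberι s x'))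
    (hU : IsResInj ((Scheme.Modules.pullback (f.fiberι s)).obj F) ((f.fiberι s) ⁻¹ᵁ U)) :
    ∃ (W : X.Opens) (hx : f.fiberι s x' ∈ W) (b : Γ(X, W)), X.basicOpen b ≤ U ∧
      IsSMulRegular (F.presheaf.stalk (f.fiberι s x'))
        ((X.presheaf.germ W (f.fiberι s x') hx).hom b) := by
  obtain ⟨_, ⟨W, hW, rfl⟩, hxW, -⟩ :=
    X.isBasis_affineOpens.exists_subset_of_mem_open (Set.mem_univ (f.fiberι s x')) isOpen_univ
  obtain ⟨_, ⟨W', hW', rfl⟩, hxW', hW'W⟩ :=
    (f.fiber s).isBasis_affineOpens.exists_subset_of_mem_open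
      (show x' ∈ (f.fiberι s) ⁻¹ᵁ W from hxW) ((f.fiberι s) ⁻¹ᵁ W).isOpen
  have e : W' ≤ (f.fiberι s) ⁻¹ᵁ W := hW'W
  have : LocallyOfFiniteType (f.fiberToSpecResidueField s) :=
    MorphismProperty.pullback_snd _ _ inferInstance
  have : IsLocallyNoetherian (f.fiber s) :=
    LocallyOfFiniteType.isLocallyNoetherian (f.fiberToSpecResidueField s)
  have hGq : ((Scheme.Modules.pullback (f.fiberι s)).obj F).IsQuasicoherent :=
    Groth.Agent.H44.isQuasicoherent_pullback (f.fiberι s) F
  have hGfp : SheafOfModules.IsFinitePresentation (R := (f.fiber s).ringCatSheaf)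
      ((Scheme.Modules.pullback (f.fiberι s)).obj F) :=
    Groth.Agent.H44.isFinitePresentation_pullback (f.fiberι s) F
  obtain ⟨t, htU, ht⟩ := exists_regular_section _ _ hU hW'
  have hτ := isSMulRegular_germ _ hW' hxW' t ht
  obtain ⟨b, N, υ, hυ, hbU, hbτ⟩ := exists_section_lift (f.fiberι s) U hW hW' e hxW' t htU
  refine ⟨W, hxW, b, hbU, ?_⟩
  have hφβ : IsSMulRegular (((Scheme.Modules.pullback (f.fiberι s)).obj F).presheaf.stalk x')
      (((f.fiberι s).stalkMap x').hom ((X.presheaf.germ W (f.fiberι s x') hxW).hom b)) := by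
    rw [hbτ]
    exact (hτ.pow N).mul (hυ.isSMulRegular _)
  -- the stalk of the pullback
  let _ : Algebra (X.presheaf.stalk (f.fiberι s x')) ((f.fiber s).presheaf.stalk x') :=
    ((f.fiberι s).stalkMap x').hom.toAlgebra
  obtain ⟨eq⟩ := exists_stalkPullbackEquiv (f.fiberι s) F x'
  have hsurj : Function.Surjective (algebraMap (X.presheaf.stalk (f.fiberι s x'))
      ((f.fiber s).presheaf.stalk x')) := (f.fiberι s).stalkMap_surjective x'
  -- apply the fibre criterion
  let _ : Algebra (S.presheaf.stalk (f (f.fiberι s x'))) (X.presheaf.stalk (f.fiberι s x')) :=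
    (f.stalkMap (f.fiberι s x')).hom.toAlgebra
  have : IsLocalHom (algebraMap (S.presheaf.stalk (f (f.fiberι s x')))
      (X.presheaf.stalk (f.fiberι s x'))) :=
    inferInstanceAs (IsLocalHom (f.stalkMap (f.fiberι s x')).hom)
  let _ : Module (S.presheaf.stalk (f (f.fiberι s x'))) (F.presheaf.stalk (f.fiberι s x')) :=
    FlatMod.moduleStalkOver f F (f.fiberι s x')
  have : IsScalarTower (S.presheaf.stalk (f (f.fiberι s x'))) (X.presheaf.stalk (f.fiberι s x'))
      (F.presheaf.stalk (f.fiberι s x')) :=
    IsScalarTower.of_algebraMap_smul (fun r m => rfl)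
  have := Groth.Agent.H70.StalkFibre.finitePresentation_stalk F (f.fiberι s x')
  have : Module.Flat (S.presheaf.stalk (f (f.fiberι s x'))) (F.presheaf.stalk (f.fiberι s x')) :=
    hflat
  have hess := Groth.Agent.H70.StalkFibre.isEssFinitePresentation_stalk f (f.fiberι s x')
  have hker : RingHom.ker (algebraMap (X.presheaf.stalk (f.fiberι s x'))
      ((f.fiber s).presheaf.stalk x')) =
      (IsLocalRing.maximalIdeal (S.presheaf.stalk (f (f.fiberι s x')))).map
        (algebraMap (S.presheaf.stalk (f (f.fiberι s x'))) (X.presheaf.stalk (f.fiberι s x'))) :=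
    ker_stalkMap_fiberι f s x'
  have key := Groth.Agent.S2107.result (R := S.presheaf.stalk (f (f.fiberι s x')))
    (S := X.presheaf.stalk (f.fiberι s x')) (M := F.presheaf.stalk (f.fiberι s x'))
    (N := F.presheaf.stalk (f.fiberι s x')) hess
    (LinearMap.lsmul (X.presheaf.stalk (f.fiberι s x')) (F.presheaf.stalk (f.fiberι s x'))
      ((X.presheaf.germ W (f.fiberι s x') hxW).hom b)) (by
      intro y hy
      rw [← hker] at hy ⊢
      rw [LinearMap.lsmul_apply] at hy
      exact mem_of_smul_mem_of_regular hsurj eq _ hφβ y hy)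
  exact key.1

/-- **Fibrewise criterion**: for a flat finitely presented quasi-coherent module on a scheme
locally of finite presentation over `S`, the restriction maps to `U` are injective as soon as this
holds on every fibre. -/
theorem isResInj_of_fibres (f : X ⟶ S) [LocallyOfFinitePresentation f] (F : X.Modules)
    [F.IsQuasicoherent] [SheafOfModules.IsFinitePresentation (R := X.ringCatSheaf) F]
    (hflat : FlatMod.IsFlatOver f F) (U : X.Opens)
    (h : ∀ s : S, IsResInj ((Scheme.Modules.pullback (f.fiberι s)).obj F) ((f.fiberι s) ⁻¹ᵁ U)) :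
    IsResInj F U := by
  apply resInj_of_forall_regular
  intro x
  obtain ⟨s, x', rfl⟩ : ∃ (s : S) (x' : f.fiber s), f.fiberι s x' = x :=
    ⟨f x, f.asFiber x, f.fiberι_asFiber x⟩
  obtain ⟨W, hx, b, hbU, hb⟩ := exists_section_regular_stalk f F U s x' (hflat _) (h s)
  exact ⟨W, hx, b, hbU, hb⟩

end Groth.Agent.H29.ResInj
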