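import Mathlib
import Groth.Prelude.Def_CInt
import Groth.Prelude.Def_FlatMod2
import Groth.Agent.H71.QCoh.FlatBaseChange
import Groth.Agent.H29.ResInjC

/-!
# Universal injectivity of restriction maps from the fibres (helper29)
-/

set_option autoImplicit false
universe u
open CategoryTheory CategoryTheory.Limits AlgebraicGeometry TopologicalSpace TensorProduct

namespace Groth.Agent.H29.ResInj

/-- injectivity of restriction maps is invariant under isomorphisms of modules -/
theorem isResInj_of_iso {X : Scheme.{u}} {F F' : X.Modules} (e : F ≅ F') (U : X.Opens)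
    (h : IsResInj F U) : IsResInj F' U := by
  intro V
  rw [injective_iff_map_eq_zero]
  intro a ha
  have hnat := e.inv.mapPresheaf.naturality (homOfLE (inf_le_left : V ⊓ U ≤ V)).op
  have h1 : F.presheaf.map (homOfLE (inf_le_left : V ⊓ U ≤ V)).op (e.inv.app V a) =
      e.inv.app (V ⊓ U) (F'.presheaf.map (homOfLE (inf_le_left : V ⊓ U ≤ V)).op a) :=
    (ConcreteCategory.congr_hom hnat a).symm
  rw [ha, map_zero] at h1
  have h2 := (injective_iff_map_eq_zero _).mp (h V) _ h1
  have h3 : e.hom.app V (e.inv.app V a) = a := by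
    rw [← ConcreteCategory.comp_apply, ← Scheme.Modules.Hom.comp_app, e.inv_hom_id,
      Scheme.Modules.Hom.id_app]
    rfl
  rw [← h3, h2, map_zero]

open Groth.Agent.H71.QCoh in
/-- flat pullback preserves the injectivity of the restriction maps (Noetherian target) -/
theorem isResInj_pullback_of_flat {Y' Y : Scheme.{u}} (h : Y' ⟶ Y) [Flat h]
    [IsLocallyNoetherian Y] (G : Y.Modules) [G.IsQuasicoherent]
    [SheafOfModules.IsFinitePresentation (R := Y.ringCatSheaf) G] (U : Y.Opens)
    (hU : IsResInj G U) : IsResInj ((Scheme.Modules.pullback h).obj G) (h ⁻¹ᵁ U) := by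
  have hq : ((Scheme.Modules.pullback h).obj G).IsQuasicoherent :=
    Groth.Agent.H44.isQuasicoherent_pullback h G
  apply resInj_of_forall_regular
  intro y'
  obtain ⟨_, ⟨W, hW, rfl⟩, hyW, -⟩ :=
    Y.isBasis_affineOpens.exists_subset_of_mem_open (Set.mem_univ (h y')) isOpen_univ
  obtain ⟨t, htU, ht⟩ := exists_regular_section G U hU hW
  have hτ := isSMulRegular_germ G hW hyW t ht
  refine ⟨h ⁻¹ᵁ W, hyW, (h.app W).hom t, ?_, ?_⟩
  · rw [← Scheme.preimage_basicOpen]
    exact fun z hz => htU hz
  · have hgerm : (Y'.presheaf.germ (h ⁻¹ᵁ W) y' hyW).hom ((h.app W).hom t) =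
        (h.stalkMap y').hom ((Y.presheaf.germ W (h y') hyW).hom t) :=
      (Scheme.Hom.germ_stalkMap_apply h W y' hyW t).symm
    rw [hgerm]
    let _ : Algebra (Y.presheaf.stalk (h y')) (Y'.presheaf.stalk y') :=
      (h.stalkMap y').hom.toAlgebra
    obtain ⟨eq⟩ := exists_stalkPullbackEquiv h G y'
    have : Module.Flat (Y.presheaf.stalk (h y')) (Y'.presheaf.stalk y') := Flat.stalkMap h y'
    rw [← eq.isSMulRegular_congr]
    exact hτ.of_flat_of_isBaseChange (TensorProduct.isBaseChange _ _ _)

end Groth.Agent.H29.ResInj
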