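import Mathlib
import Groth.Prelude.Def_CInt
import Groth.Prelude.Def_FlatMod2
import Groth.Agent.H29.ResInjD

/-!
# Universal injectivity of restriction maps from the fibres: the base change step (helper29)
-/

set_option autoImplicit false
universe u
open CategoryTheory CategoryTheory.Limits AlgebraicGeometry TopologicalSpace TensorProduct

namespace Groth.Agent.H29.ResInj

variable {X S : Scheme.{u}}

/-- the fibres of a base change inherit the injectivity of the restriction maps -/
theorem isResInj_fibre_baseChange (f : X ⟶ S) [LocallyOfFiniteType f] (F : X.Modules)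
    [F.IsQuasicoherent] [SheafOfModules.IsFinitePresentation (R := X.ringCatSheaf) F]
    (U : X.Opens) {S' : Scheme.{u}} (g : S' ⟶ S) (s' : S')
    (h : IsResInj ((Scheme.Modules.pullback (f.fiberι (g s'))).obj F) ((f.fiberι (g s')) ⁻¹ᵁ U)) :
    IsResInj ((Scheme.Modules.pullback ((pullback.snd f g).fiberι s')).obj
      ((Scheme.Modules.pullback (pullback.fst f g)).obj F))
      (((pullback.snd f g).fiberι s') ⁻¹ᵁ ((pullback.fst f g) ⁻¹ᵁ U)) := by
  have sq := isPullback_fiberToSpecResidueField_of_isPullback (IsPullback.of_hasPullback f g) s'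
  have hfl : Flat (Spec.map (g.residueFieldMap s')) := by
    rw [HasRingHomProperty.Spec_iff (P := @Flat)]
    let _ : Algebra (S.residueField (g s')) (S'.residueField s') :=
      (g.residueFieldMap s').hom.toAlgebra
    change Module.Flat (S.residueField (g s')) (S'.residueField s')
    infer_instance
  have hflat := MorphismProperty.of_isPullback (P := @Flat) sq.flip hfl
  have : LocallyOfFiniteType (f.fiberToSpecResidueField (g s')) :=
    MorphismProperty.pullback_snd _ _ inferInstance
  have : IsLocallyNoetherian (f.fiber (g s')) :=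
    LocallyOfFiniteType.isLocallyNoetherian (f.fiberToSpecResidueField (g s'))
  have hGq : ((Scheme.Modules.pullback (f.fiberι (g s'))).obj F).IsQuasicoherent :=
    Groth.Agent.H44.isQuasicoherent_pullback (f.fiberι (g s')) F
  have hGfp : SheafOfModules.IsFinitePresentation (R := (f.fiber (g s')).ringCatSheaf)
      ((Scheme.Modules.pullback (f.fiberι (g s'))).obj F) :=
    Groth.Agent.H44.isFinitePresentation_pullback (f.fiberι (g s')) F
  have hcomp : (pullback.map (pullback.snd f g) (S'.fromSpecResidueField s') f
      (S.fromSpecResidueField (g s')) (pullback.fst f g) (Spec.map (g.residueFieldMap s')) g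
      (IsPullback.of_hasPullback f g).w.symm (by simp)) ≫ f.fiberι (g s') =
      (pullback.snd f g).fiberι s' ≫ pullback.fst f g := by
    unfold Scheme.Hom.fiberι
    exact pullback.lift_fst _ _ _
  have hd := @isResInj_pullback_of_flat _ _ _ hflat inferInstance
    ((Scheme.Modules.pullback (f.fiberι (g s'))).obj F) hGq hGfp _ h
  have eU : (pullback.map (pullback.snd f g) (S'.fromSpecResidueField s') f
      (S.fromSpecResidueField (g s')) (pullback.fst f g) (Spec.map (g.residueFieldMap s')) g
      (IsPullback.of_hasPullback f g).w.symm (by simp)) ⁻¹ᵁ ((f.fiberι (g s')) ⁻¹ᵁ U) =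
      ((pullback.snd f g).fiberι s') ⁻¹ᵁ ((pullback.fst f g) ⁻¹ᵁ U) := by
    rw [← Scheme.Hom.comp_preimage, hcomp]
    rfl
  rw [← eU]
  refine isResInj_of_iso ?_ _ hd
  exact (Scheme.Modules.pullbackComp _ _).app F ≪≫
    (Scheme.Modules.pullbackCongr hcomp).app F ≪≫
    ((Scheme.Modules.pullbackComp _ _).app F).symm

open Groth.Agent.H71.QCoh in
/-- **Universal injectivity of the restriction maps from the fibres.** -/
theorem univ_isResInj_of_fibres (f : X ⟶ S) [LocallyOfFinitePresentation f] (F : X.Modules)
    [F.IsQuasicoherent] [SheafOfModules.IsFinitePresentation (R := X.ringCatSheaf) F]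
    (hflat : FlatMod.IsFlatOver f F) (U : X.Opens)
    (h : ∀ s : S, IsResInj ((Scheme.Modules.pullback (f.fiberι s)).obj F) ((f.fiberι s) ⁻¹ᵁ U))
    (S' : Scheme.{u}) (g : S' ⟶ S) :
    IsResInj ((Scheme.Modules.pullback (pullback.fst f g)).obj F) ((pullback.fst f g) ⁻¹ᵁ U) := by
  have hq : ((Scheme.Modules.pullback (pullback.fst f g)).obj F).IsQuasicoherent :=
    Groth.Agent.H44.isQuasicoherent_pullback (pullback.fst f g) F
  have hfp : SheafOfModules.IsFinitePresentation (R := (pullback f g).ringCatSheaf)
      ((Scheme.Modules.pullback (pullback.fst f g)).obj F) :=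
    Groth.Agent.H44.isFinitePresentation_pullback (pullback.fst f g) F
  have hflat' : FlatMod.IsFlatOver (pullback.snd f g)
      ((Scheme.Modules.pullback (pullback.fst f g)).obj F) := fun x' =>
    isFlatOverAt_baseChange (IsPullback.of_hasPullback f g) F x' (hflat _)
  apply isResInj_of_fibres (pullback.snd f g) _ hflat'
  intro s'
  exact isResInj_fibre_baseChange f F U g s' (h (g s'))

end Groth.Agent.H29.ResInj
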