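import Mathlib
import Groth.Prelude.Def_CInt
import Groth.Agent.S2107
import Groth.Agent.H70.StalkFibre.Main
import Groth.Agent.H49.FibreStalk
import Groth.Agent.H24.SchDenseRing
import Groth.Agent.H29.SchDenseFibA

/-!
# Fibrewise schematic density implies schematic density for flat lfp morphisms (helper29)
-/

set_option autoImplicit false
universe u
open CategoryTheory AlgebraicGeometry TopologicalSpace

namespace Groth.Agent.H29.SchDenseFib

variable {X S : Scheme.{u}}

open Groth.Agent.H71.QCoh Groth.Agent.H49.FibreStalk in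
/-- Key lemma: near a point of the fibre there is a section vanishing off `U` whose germ is
a nonzerodivisor. -/
theorem exists_section_regular_germ (f : X ⟶ S) [Flat f] [LocallyOfFinitePresentation f]
    (U : X.Opens) (s : S) (hU : CInt.IsSchematicallyDense ((f.fiberι s) ⁻¹ᵁ U))
    (x' : f.fiber s) :
    ∃ (W : X.Opens) (_ : IsAffineOpen W) (hx : f.fiberι s x' ∈ W) (b : Γ(X, W)),
      X.basicOpen b ≤ U ∧
        (X.presheaf.germ W _ hx).hom b ∈ nonZeroDivisors (X.presheaf.stalk (f.fiberι s x')) := by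
  obtain ⟨_, ⟨W, hW, rfl⟩, hxW, -⟩ :=
    X.isBasis_affineOpens.exists_subset_of_mem_open (Set.mem_univ (f.fiberι s x')) isOpen_univ
  obtain ⟨_, ⟨W', hW', rfl⟩, hxW', hW'W⟩ :=
    (f.fiber s).isBasis_affineOpens.exists_subset_of_mem_open
      (show x' ∈ (f.fiberι s) ⁻¹ᵁ W from hxW) ((f.fiberι s) ⁻¹ᵁ W).isOpen
  have e : W' ≤ (f.fiberι s) ⁻¹ᵁ W := hW'W
  have : LocallyOfFiniteType (f.fiberToSpecResidueField s) :=
    MorphismProperty.pullback_snd _ _ inferInstance
  have : IsLocallyNoetherian (f.fiber s) :=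
    LocallyOfFiniteType.isLocallyNoetherian (f.fiberToSpecResidueField s)
  obtain ⟨t, ht, htU⟩ := exists_regular_section _ hU hW'
  obtain ⟨N, hN⟩ := mem_radical_map (f.fiberι s) U hW hW' e t htU
  -- the four rings and maps
  set gB : Γ(X, W) →+* X.presheaf.stalk (f.fiberι s x') :=
    (X.presheaf.germ W (f.fiberι s x') hxW).hom with hgB
  set gR : Γ(f.fiber s, W') →+* (f.fiber s).presheaf.stalk x' :=
    ((f.fiber s).presheaf.germ W' x' hxW').hom with hgR
  set ψ : Γ(X, W) →+* Γ(f.fiber s, W') := ((f.fiberι s).appLE W W' e).hom with hψ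
  set φ : X.presheaf.stalk (f.fiberι s x') →+* (f.fiber s).presheaf.stalk x' :=
    ((f.fiberι s).stalkMap x').hom with hφ
  have hcomm : ∀ a, φ (gB a) = gR (ψ a) := fun a =>
    stalkMap_germ_eq_germ_appLE (f.fiberι s) e hxW' a
  have hsurj : Function.Surjective φ := (f.fiberι s).stalkMap_surjective x'
  -- τ is a nonzerodivisor
  have hτ : gR t ∈ nonZeroDivisors ((f.fiber s).presheaf.stalk x') := by
    have hflat : gR.Flat := by
      let _ := TopCat.Presheaf.algebra_section_stalk (f.fiber s).presheaf (⟨x', hxW'⟩ : W')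
      have hloc' := hW'.isLocalization_stalk ⟨x', hxW'⟩
      exact IsLocalization.flat ((f.fiber s).presheaf.stalk x')
        (hW'.primeIdealOf ⟨x', hxW'⟩).asIdeal.primeCompl
    exact Groth.Agent.H24.SchDenseRing.map_mem_nonZeroDivisors_of_flat' gR hflat t ht
  -- τ^N lies in the image ideal
  have hτN : gR t ^ N ∈ Ideal.map φ (Ideal.map gB (vanIdeal U W)) := by
    have h1 : gR (t ^ N) ∈ Ideal.map gR (Ideal.map ψ (vanIdeal U W)) :=
      Ideal.mem_map_of_mem _ hN
    rw [Ideal.map_map] at h1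
    have h2 : gR.comp ψ = φ.comp gB := RingHom.ext (fun a => (hcomm a).symm)
    rw [h2, ← Ideal.map_map, map_pow] at h1
    exact h1
  obtain ⟨k, hk, hkτ⟩ := (Ideal.mem_map_iff_of_surjective φ hsurj).mp hτN
  -- denominators
  let _ := TopCat.Presheaf.algebra_section_stalk X.presheaf (⟨f.fiberι s x', hxW⟩ : W)
  have hloc := hW.isLocalization_stalk ⟨f.fiberι s x', hxW⟩
  obtain ⟨⟨⟨b, hb⟩, σ⟩, hbσ⟩ :=
    (IsLocalization.mem_map_algebraMap_iff (hW.primeIdealOf ⟨f.fiberι s x', hxW⟩).asIdeal.primeCompl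
      (X.presheaf.stalk (f.fiberι s x'))).mp hk
  have hbσ' : k * gB σ = gB b := hbσ
  have hunit : IsUnit (gB σ) :=
    IsLocalization.map_units (X.presheaf.stalk (f.fiberι s x')) σ
  refine ⟨W, hW, hxW, b, mem_vanIdeal.mp hb, ?_⟩
  have hφβ : φ (gB b) ∈ nonZeroDivisors ((f.fiber s).presheaf.stalk x') := by
    rw [← hbσ', map_mul, hkτ]
    exact mul_mem (pow_mem hτ N) (hunit.map φ).mem_nonZeroDivisors
  -- apply the fibre criterion
  let _ : Algebra (S.presheaf.stalk (f (f.fiberι s x'))) (X.presheaf.stalk (f.fiberι s x')) :=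
    (f.stalkMap (f.fiberι s x')).hom.toAlgebra
  have : IsLocalHom (algebraMap (S.presheaf.stalk (f (f.fiberι s x')))
      (X.presheaf.stalk (f.fiberι s x'))) :=
    inferInstanceAs (IsLocalHom (f.stalkMap (f.fiberι s x')).hom)
  have : Module.Flat (S.presheaf.stalk (f (f.fiberι s x'))) (X.presheaf.stalk (f.fiberι s x')) :=
    Flat.stalkMap f (f.fiberι s x')
  have hess := Groth.Agent.H70.StalkFibre.isEssFinitePresentation_stalk f (f.fiberι s x')
  have hker := ker_stalkMap_fiberι f s x'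
  have key := Groth.Agent.S2107.result (R := S.presheaf.stalk (f (f.fiberι s x')))
    (S := X.presheaf.stalk (f.fiberι s x')) (M := X.presheaf.stalk (f.fiberι s x'))
    (N := X.presheaf.stalk (f.fiberι s x')) hess
    (LinearMap.mulLeft (X.presheaf.stalk (f.fiberι s x')) (gB b)) (by
      intro y hy
      rw [Ideal.smul_eq_mul, Ideal.mul_top] at hy ⊢
      have hJ : ∀ z, z ∈ Ideal.map (algebraMap (S.presheaf.stalk (f (f.fiberι s x')))
          (X.presheaf.stalk (f.fiberι s x')))
          (IsLocalRing.maximalIdeal (S.presheaf.stalk (f (f.fiberι s x')))) ↔ φ z = 0 := by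
        intro z
        rw [← RingHom.mem_ker, hφ, hker]
        rfl
      rw [hJ] at hy ⊢
      rw [LinearMap.mulLeft_apply, map_mul] at hy
      rw [mul_comm] at hy
      exact (mem_nonZeroDivisors_iff_right.mp hφβ) _ hy)
  rw [mem_nonZeroDivisors_iff_right]
  intro y hy
  apply key.1
  rw [LinearMap.mulLeft_apply, map_zero, mul_comm]
  exact hy

/-- A section vanishing on `V ⊓ U` has zero germ at every point where a regular germ of a section
vanishing off `U` exists. -/
theorem germ_eq_zero_of_regular {U W : X.Opens} (_hW : IsAffineOpen W) {x : X} (hxW : x ∈ W)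
    (b : Γ(X, W)) (hbU : X.basicOpen b ≤ U)
    (hb : (X.presheaf.germ W x hxW).hom b ∈ nonZeroDivisors (X.presheaf.stalk x))
    {V : X.Opens} (hxV : x ∈ V) (a : Γ(X, V))
    (ha : X.presheaf.map (homOfLE (inf_le_left : V ⊓ U ≤ V)).op a = 0) :
    (X.presheaf.germ V x hxV).hom a = 0 := by
  obtain ⟨_, ⟨W₂, hW₂, rfl⟩, hxW₂, hW₂le⟩ :=
    X.isBasis_affineOpens.exists_subset_of_mem_open (show x ∈ W ⊓ V from ⟨hxW, hxV⟩)
      (W ⊓ V).isOpen
  have hW₂W : W₂ ≤ W := fun y hy => (hW₂le hy).1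
  have hW₂V : W₂ ≤ V := fun y hy => (hW₂le hy).2
  set a₂ : Γ(X, W₂) := X.presheaf.map (homOfLE hW₂V).op a with ha₂
  set b₂ : Γ(X, W₂) := X.presheaf.map (homOfLE hW₂W).op b with hb₂
  have hle : X.basicOpen b₂ ≤ V ⊓ U := by
    intro y hy
    have h1 : y ∈ W₂ := X.basicOpen_le b₂ hy
    have h2 : X.basicOpen b₂ ≤ X.basicOpen b :=
      (Scheme.basicOpen_res X b (homOfLE hW₂W).op).trans_le inf_le_right
    exact ⟨hW₂V h1, hbU (h2 hy)⟩
  have hres : X.presheaf.map (homOfLE (X.basicOpen_le b₂)).op a₂ = 0 := by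
    have h1 : X.presheaf.map (homOfLE (X.basicOpen_le b₂)).op a₂ =
        X.presheaf.map (homOfLE hle).op
          (X.presheaf.map (homOfLE (inf_le_left : V ⊓ U ≤ V)).op a) := by
      change (X.presheaf.map _ ≫ X.presheaf.map _) a = (X.presheaf.map _ ≫ X.presheaf.map _) a
      rw [← Functor.map_comp, ← Functor.map_comp]
      rfl
    rw [h1, ha, map_zero]
  obtain ⟨n, hn⟩ := exists_pow_mul_eq_zero_of_res_basicOpen_eq_zero_of_isAffineOpen X hW₂ a₂ b₂ hres
  have hga : (X.presheaf.germ W₂ x hxW₂).hom a₂ = (X.presheaf.germ V x hxV).hom a :=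
    X.presheaf.germ_res_apply (homOfLE hW₂V) x hxW₂ a
  have hgb : (X.presheaf.germ W₂ x hxW₂).hom b₂ = (X.presheaf.germ W x hxW).hom b :=
    X.presheaf.germ_res_apply (homOfLE hW₂W) x hxW₂ b
  have h3 := congrArg (X.presheaf.germ W₂ x hxW₂).hom hn
  rw [map_mul, map_pow, map_zero, hga, hgb, mul_comm] at h3
  exact (mem_nonZeroDivisors_iff_right.mp (pow_mem hb n)) _ h3

/-- **Fibrewise schematic density implies schematic density** for a flat morphism locally of
finite presentation. -/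
theorem isSchematicallyDense_of_fibres (f : X ⟶ S) [Flat f] [LocallyOfFinitePresentation f]
    (U : X.Opens) (h : ∀ s : S, CInt.IsSchematicallyDense ((f.fiberι s) ⁻¹ᵁ U)) :
    CInt.IsSchematicallyDense U := by
  intro V
  rw [injective_iff_map_eq_zero]
  intro a ha
  refine TopCat.Presheaf.section_ext X.sheaf V a 0 (fun x hxV => ?_)
  change (X.presheaf.germ V x hxV).hom a = (X.presheaf.germ V x hxV).hom 0
  rw [map_zero]
  obtain ⟨s, x', rfl⟩ : ∃ (s : S) (x' : f.fiber s), f.fiberι s x' = x :=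
    ⟨f x, f.asFiber x, f.fiberι_asFiber x⟩
  obtain ⟨W, hW, hxW, b, hbU, hb⟩ := exists_section_regular_germ f U s (h s) x'
  exact germ_eq_zero_of_regular hW hxW b hbU hb hxV a ha

end Groth.Agent.H29.SchDenseFib
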