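import Mathlib
import Groth.Prelude.Def_CInt
import Groth.Agent.H19.SchDense
import Groth.Agent.H29.SchDenseFibB

/-!
# Fibres of a base change and schematic density (helper29)
-/

set_option autoImplicit false
universe u
open CategoryTheory CategoryTheory.Limits AlgebraicGeometry TopologicalSpace

namespace Groth.Agent.H29.SchDenseFib

variable {X S : Scheme.{u}}

/-- Schematic density of the trace of `U` on a fibre is inherited by the fibres of a base change. -/
theorem isSchematicallyDense_fibre_baseChange (f : X ⟶ S) [LocallyOfFiniteType f] (U : X.Opens)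
    {S' : Scheme.{u}} (g : S' ⟶ S) (s' : S')
    (h : CInt.IsSchematicallyDense ((f.fiberι (g s')) ⁻¹ᵁ U)) :
    CInt.IsSchematicallyDense
      (((pullback.snd f g).fiberι s') ⁻¹ᵁ ((pullback.fst f g) ⁻¹ᵁ U)) := by
  have sq := isPullback_fiberToSpecResidueField_of_isPullback (IsPullback.of_hasPullback f g) s'
  have hfl : Flat (Spec.map (g.residueFieldMap s')) := by
    rw [HasRingHomProperty.Spec_iff (P := @Flat)]
    let _ : Algebra (S.residueField (g s')) (S'.residueField s') :=
      (g.residueFieldMap s').hom.toAlgebra
    change Module.Flat (S.residueField (g s')) (S'.residueField s')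
    infer_instance
  have hflat := MorphismProperty.of_isPullback (P := @Flat) sq.flip hfl
  have : LocallyOfFiniteType (f.fiberToSpecResidueField (g s')) :=
    MorphismProperty.pullback_snd _ _ inferInstance
  have : IsLocallyNoetherian (f.fiber (g s')) :=
    LocallyOfFiniteType.isLocallyNoetherian (f.fiberToSpecResidueField (g s'))
  have hd := @Groth.Agent.H19.isSchematicallyDense_preimage_of_flat _ _ _ hflat _ inferInstance h
  have e : (pullback.map (pullback.snd f g) (S'.fromSpecResidueField s') f
      (S.fromSpecResidueField (g s')) (pullback.fst f g) (Spec.map (g.residueFieldMap s')) g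
      (IsPullback.of_hasPullback f g).w.symm (by simp)) ⁻¹ᵁ ((f.fiberι (g s')) ⁻¹ᵁ U) =
      ((pullback.snd f g).fiberι s') ⁻¹ᵁ ((pullback.fst f g) ⁻¹ᵁ U) := by
    have hcomp : (pullback.map (pullback.snd f g) (S'.fromSpecResidueField s') f
        (S.fromSpecResidueField (g s')) (pullback.fst f g) (Spec.map (g.residueFieldMap s')) g
        (IsPullback.of_hasPullback f g).w.symm (by simp)) ≫ f.fiberι (g s') =
        (pullback.snd f g).fiberι s' ≫ pullback.fst f g := by
      unfold Scheme.Hom.fiberι
      exact pullback.lift_fst _ _ _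
    rw [← Scheme.Hom.comp_preimage, hcomp]
    rfl
  rw [← e]
  exact hd

/-- Universal schematic density from fibrewise schematic density. -/
theorem univ_isSchematicallyDense_of_fibres (f : X ⟶ S) [Flat f] [LocallyOfFinitePresentation f]
    (U : X.Opens) (h : ∀ s : S, CInt.IsSchematicallyDense ((f.fiberι s) ⁻¹ᵁ U))
    (S' : Scheme.{u}) (g : S' ⟶ S) :
    CInt.IsSchematicallyDense ((pullback.fst f g) ⁻¹ᵁ U) := by
  apply isSchematicallyDense_of_fibres (pullback.snd f g)
  intro s'
  exact isSchematicallyDense_fibre_baseChange f U g s' (h (g s'))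

end Groth.Agent.H29.SchDenseFib
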