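import Mathlib.AlgebraicGeometry.ZariskisMainTheorem
import Mathlib.AlgebraicGeometry.Morphisms.UniversallyInjective

/-!
# A retraction of a surjective closed immersion is finite
-/

set_option autoImplicit false
universe u

open CategoryTheory CategoryTheory.Limits AlgebraicGeometry

namespace Groth.Agent.H29.SectionThick

theorem universallyInjective_of_comp_surjective {X Y Z : Scheme.{u}} (f : X ⟶ Y) (g : Y ⟶ Z)
    [UniversallyInjective (f ≫ g)] [Surjective f] : UniversallyInjective g := by
  constructor
  intro X' Y' i₁ i₂ f' H
  have h1 := UniversallyInjective.universally_injective _ _ _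
    ((IsPullback.of_hasPullback i₁ f).paste_horiz H)
  have hs : Function.Surjective (pullback.fst i₁ f) :=
    (MorphismProperty.pullback_fst (P := @Surjective) _ _ ‹_›).1
  intro y₁ y₂ e
  obtain ⟨x₁, rfl⟩ := hs y₁
  obtain ⟨x₂, rfl⟩ := hs y₂
  have : (pullback.fst i₁ f ≫ f') x₁ = (pullback.fst i₁ f ≫ f') x₂ := by
    rw [Scheme.Hom.comp_apply, Scheme.Hom.comp_apply]
    exact e
  rw [h1 this]

theorem isSeparated_of_universallyInjective {X Y : Scheme.{u}} (f : X ⟶ Y)
    [UniversallyInjective f] : IsSeparated f := by
  have hs : Surjective (pullback.diagonal f) := (UniversallyInjective.iff_diagonal f).mp ‹_›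
  refine ⟨IsClosedImmersion.of_isPreimmersion _ ?_⟩
  rw [Set.range_eq_univ.mpr hs.surj]
  exact isClosed_univ

/-- If `j ≫ π = 𝟙` with `j` surjective and `π` locally of finite type, then `π` is finite. -/
theorem isFinite_of_section_surjective {Y T : Scheme.{u}} (j : Y ⟶ T) (π : T ⟶ Y)
    [LocallyOfFiniteType π] [Surjective j] (h : j ≫ π = 𝟙 Y) : IsFinite π := by
  have h1 : UniversallyClosed (j ≫ π) := h ▸ inferInstance
  have h2 : UniversallyInjective (j ≫ π) := h ▸ inferInstance
  have huc : UniversallyClosed π := UniversallyClosed.of_comp_surjective j π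
  have hui : UniversallyInjective π := universallyInjective_of_comp_surjective j π
  have hsep : IsSeparated π := isSeparated_of_universallyInjective π
  have hp : IsProper π := {}
  have hqf : LocallyQuasiFinite π := inferInstance
  exact (IsFinite.iff_isProper_and_locallyQuasiFinite π).mpr ⟨hp, hqf⟩

end Groth.Agent.H29.SectionThick
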