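import Mathlib
import Groth.Prelude.Def_CAlg
import Groth.Prelude.Def_EGA4b
import Groth.Agent.H29.SkAt
import Groth.Agent.H29.SuppDimLoc
import Groth.Agent.H29.CM

/-!
# Openness of the `(S_n)` locus from openness of the codepth loci

If all loci `{p | dim M_p ≤ depth M_p + k}` are open (Noetherian ring, finite module), then the
locus of primes where `M` satisfies `(S_n)` is open.
-/

set_option autoImplicit false
set_option linter.style.haveILetI false
set_option linter.unusedSectionVars false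
universe u

namespace Groth.Agent.H29.SkLocusOpen

open IsLocalRing

variable (A : Type u) [CommRing A] (M : Type u) [AddCommGroup M] [Module A M]

/-- local dimension of `M` at `p` -/
noncomputable def dimAt (p : PrimeSpectrum A) : WithBot ℕ∞ :=
  Module.supportDim (Localization.AtPrime p.asIdeal) (LocalizedModule p.asIdeal.primeCompl M)

/-- local depth of `M` at `p` -/
noncomputable def depthAt (p : PrimeSpectrum A) : ℕ∞ :=
  LocCoh.depth (Localization.AtPrime p.asIdeal) (LocalizedModule p.asIdeal.primeCompl M)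

theorem dimAt_mono {q' q : PrimeSpectrum A} (h : q' ≤ q) : dimAt A M q' ≤ dimAt A M q := by
  unfold dimAt
  rw [Groth.Agent.H29.SuppDimLoc.supportDim_localization_eq,
    Groth.Agent.H29.SuppDimLoc.supportDim_localization_eq]
  refine Order.krullDim_le_of_strictMono
    (fun x : Groth.Agent.H29.SuppDimLoc.Below M q'.asIdeal =>
      (⟨x.1, x.2.1, le_trans x.2.2 h⟩ : Groth.Agent.H29.SuppDimLoc.Below M q.asIdeal)) ?_
  intro x y hxy
  exact hxy

variable [IsNoetherianRing A] [Module.Finite A M]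

/-- the local dimension is `⊥` or a natural number -/
theorem dimAt_eq_bot_or_nat (p : PrimeSpectrum A) :
    dimAt A M p = ⊥ ∨ ∃ d : ℕ, dimAt A M p = (d : WithBot ℕ∞) := by
  unfold dimAt
  haveI : IsNoetherianRing (Localization.AtPrime p.asIdeal) :=
    IsLocalization.isNoetherianRing p.asIdeal.primeCompl _ inferInstance
  by_cases hs : Subsingleton (LocalizedModule p.asIdeal.primeCompl M)
  · left
    exact (Module.supportDim_eq_bot_iff_subsingleton _ _).mpr hs
  · right
    haveI : Nontrivial (LocalizedModule p.asIdeal.primeCompl M) := not_subsingleton_iff_nontrivial.mp hs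
    exact Groth.Agent.H29.CML.exists_nat_supportDim_eq (A := Localization.AtPrime p.asIdeal) _

/-- every point has finite codepth -/
theorem exists_codepth_le (p : PrimeSpectrum A) :
    ∃ m : ℕ, ∀ m' : ℕ, m ≤ m' →
      dimAt A M p ≤ ((depthAt A M p : ℕ∞) : WithBot ℕ∞) + (m' : WithBot ℕ∞) := by
  rcases dimAt_eq_bot_or_nat A M p with h | ⟨d, hd⟩
  · exact ⟨0, fun m' _ => by rw [h]; exact bot_le⟩
  · refine ⟨d, fun m' hm' => ?_⟩
    rw [hd]
    calc ((d : ℕ) : WithBot ℕ∞) ≤ (m' : WithBot ℕ∞) := by exact_mod_cast hm'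
      _ ≤ ((depthAt A M p : ℕ∞) : WithBot ℕ∞) + (m' : WithBot ℕ∞) := by
        have h0 : (0 : WithBot ℕ∞) ≤ ((depthAt A M p : ℕ∞) : WithBot ℕ∞) := by
          exact_mod_cast (zero_le : (0 : ℕ∞) ≤ depthAt A M p)
        calc (m' : WithBot ℕ∞) = 0 + (m' : WithBot ℕ∞) := (zero_add _).symm
          _ ≤ _ := add_le_add_left h0 _

/-- the codepth condition is monotone in `k` -/
theorem codepth_mono (p : PrimeSpectrum A) {k l : ℕ} (hkl : k ≤ l)
    (h : dimAt A M p ≤ ((depthAt A M p : ℕ∞) : WithBot ℕ∞) + (k : WithBot ℕ∞)) :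
    dimAt A M p ≤ ((depthAt A M p : ℕ∞) : WithBot ℕ∞) + (l : WithBot ℕ∞) := by
  refine h.trans ?_
  have : (k : WithBot ℕ∞) ≤ (l : WithBot ℕ∞) := by exact_mod_cast hkl
  exact add_le_add le_rfl this

/-- a prime of codepth `> k` and dimension `≤ n + k` violates `(S_n)` -/
theorem not_skCond_of_codepth (n k : ℕ) (q : PrimeSpectrum A)
    (h1 : ¬ dimAt A M q ≤ ((depthAt A M q : ℕ∞) : WithBot ℕ∞) + (k : WithBot ℕ∞))
    (h2 : dimAt A M q ≤ ((n + k : ℕ) : WithBot ℕ∞)) :
    ¬ Groth.Agent.H29.SkAt.SkCond n A M q.asIdeal := by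
  intro h
  apply h1
  have h' : min (n : WithBot ℕ∞) (dimAt A M q) ≤ ((depthAt A M q : ℕ∞) : WithBot ℕ∞) := h
  rcases min_le_iff.mp h' with h3 | h3
  · refine h2.trans ?_
    have : ((n + k : ℕ) : WithBot ℕ∞) = (n : WithBot ℕ∞) + (k : WithBot ℕ∞) := by push_cast; rfl
    rw [this]
    exact add_le_add h3 le_rfl
  · refine h3.trans ?_
    have h0 : (0 : WithBot ℕ∞) ≤ (k : WithBot ℕ∞) := by exact_mod_cast Nat.zero_le k
    calc ((depthAt A M q : ℕ∞) : WithBot ℕ∞) = ((depthAt A M q : ℕ∞) : WithBot ℕ∞) + 0 :=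
        (add_zero _).symm
      _ ≤ _ := add_le_add le_rfl h0

/-- a prime violating `(S_n)` has codepth `> k` and dimension `≤ n + k` for some `k` -/
theorem exists_codepth_of_not_skCond (n : ℕ) (q : PrimeSpectrum A)
    (h : ¬ Groth.Agent.H29.SkAt.SkCond n A M q.asIdeal) :
    ∃ k : ℕ, ¬ dimAt A M q ≤ ((depthAt A M q : ℕ∞) : WithBot ℕ∞) + (k : WithBot ℕ∞) ∧
      dimAt A M q ≤ ((n + k : ℕ) : WithBot ℕ∞) := by
  have h' : ¬ min (n : WithBot ℕ∞) (dimAt A M q) ≤ ((depthAt A M q : ℕ∞) : WithBot ℕ∞) := h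
  rw [min_le_iff, not_or, not_le, not_le] at h'
  obtain ⟨h3, h4⟩ := h'
  -- depth is finite
  have hδ_ne_top : depthAt A M q ≠ ⊤ := by
    intro ht
    rw [ht] at h3
    exact absurd h3 (not_lt.mpr (by exact_mod_cast (le_top : ((n : ℕ) : ℕ∞) ≤ ⊤)))
  obtain ⟨δ, hδ⟩ := ENat.ne_top_iff_exists.mp hδ_ne_top
  rw [← hδ] at h3 h4
  rcases dimAt_eq_bot_or_nat A M q with hb | ⟨d, hd⟩
  · rw [hb] at h4
    exact absurd h4 (not_lt_bot)
  · rw [hd] at h4
    have hδn : δ < n := by exact_mod_cast h3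
    have hδd : δ < d := by exact_mod_cast h4
    refine ⟨d - δ - 1, ?_, ?_⟩
    · rw [hd, ← hδ, not_le]
      have : δ + (d - δ - 1) < d := by omega
      have h5 : (((δ : ℕ) : ℕ∞) : WithBot ℕ∞) = ((δ : ℕ) : WithBot ℕ∞) := rfl
      rw [h5]
      exact_mod_cast this
    · rw [hd]
      have : d ≤ n + (d - δ - 1) := by omega
      exact_mod_cast this

/-- **Openness of the `(S_n)` locus** given openness of all codepth loci. -/
theorem isOpen_hasSkAt
    (hopen : ∀ k : ℕ, IsOpen {p : PrimeSpectrum A |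
      dimAt A M p ≤ ((depthAt A M p : ℕ∞) : WithBot ℕ∞) + (k : WithBot ℕ∞)}) (n : ℕ) :
    IsOpen {p : PrimeSpectrum A | EGA4.HasSkAt n A M p.asIdeal} := by
  classical
  set Z : ℕ → Set (PrimeSpectrum A) := fun k => {p : PrimeSpectrum A |
      dimAt A M p ≤ ((depthAt A M p : ℕ∞) : WithBot ℕ∞) + (k : WithBot ℕ∞)}ᶜ with hZ
  have hZclosed : ∀ k, IsClosed (Z k) := fun k => (hopen k).isClosed_compl
  have hZanti : ∀ k l, k ≤ l → Z l ⊆ Z k := by
    intro k l hkl p hp hpk
    exact hp (codepth_mono A M p hkl hpk)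
  set I : ℕ → Ideal A := fun k => PrimeSpectrum.vanishingIdeal (Z k) with hI
  have hIZ : ∀ k, PrimeSpectrum.zeroLocus (I k : Set A) = Z k := by
    intro k
    rw [hI, PrimeSpectrum.zeroLocus_vanishingIdeal_eq_closure, (hZclosed k).closure_eq]
  have hImono : Monotone I := fun k l hkl =>
    PrimeSpectrum.vanishingIdeal_anti_mono (hZanti k l hkl)
  obtain ⟨K, hK⟩ := monotone_stabilizes_iff_noetherian.mpr
    (inferInstance : IsNoetherian A A) ⟨I, hImono⟩
  have hZK : Z K = ∅ := by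
    rw [Set.eq_empty_iff_forall_notMem]
    intro p hp
    obtain ⟨m, hm⟩ := exists_codepth_le A M p
    have h1 : I K = I (max m K) := hK (max m K) (le_max_right _ _)
    have h2 : p ∈ Z (max m K) := by
      rw [← hIZ, ← h1, hIZ]
      exact hp
    exact h2 (hm (max m K) (le_max_left _ _))
  have hItop : ∀ k, K ≤ k → I k = ⊤ := by
    intro k hk
    rw [hI]
    change PrimeSpectrum.vanishingIdeal (Z k) = ⊤
    rw [PrimeSpectrum.vanishingIdeal_eq_top_iff, ← Set.subset_empty_iff, ← hZK]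
    exact hZanti K k hk
  set G : Set (PrimeSpectrum A) := {q | ∃ k : ℕ, q.asIdeal ∈ (I k).minimalPrimes ∧
    dimAt A M q ≤ ((n + k : ℕ) : WithBot ℕ∞)} with hG
  have hGfin : G.Finite := by
    have hsub : G ⊆ ⋃ k ∈ Finset.range K,
        (PrimeSpectrum.asIdeal ⁻¹' ((I k).minimalPrimes) : Set (PrimeSpectrum A)) := by
      rintro q ⟨k, hk1, _⟩
      have hkK : k < K := by
        by_contra hcon
        rw [hItop k (not_lt.mp hcon), Ideal.minimalPrimes_top] at hk1
        exact hk1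
      exact Set.mem_biUnion (Finset.mem_range.mpr hkK) hk1
    refine Set.Finite.subset ?_ hsub
    refine Set.Finite.biUnion (Finset.finite_toSet _) (fun k _ => ?_)
    refine Set.Finite.preimage ?_ (Ideal.finite_minimalPrimes_of_isNoetherianRing A (I k))
    intro x _ y _ hxy
    exact PrimeSpectrum.ext hxy
  have hN : {p : PrimeSpectrum A | EGA4.HasSkAt n A M p.asIdeal}ᶜ =
      ⋃ q ∈ G, PrimeSpectrum.zeroLocus (q.asIdeal : Set A) := by
    ext p
    rw [Set.mem_compl_iff, Set.mem_ofPred_eq, Groth.Agent.H29.SkAt.hasSkAt_iff, Set.mem_iUnion₂]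
    constructor
    · intro h
      push Not at h
      obtain ⟨q, hqprime, hqp, hbad⟩ := h
      obtain ⟨k, hk1, hk2⟩ := exists_codepth_of_not_skCond A M n ⟨q, hqprime⟩ hbad
      have hqZ : (⟨q, hqprime⟩ : PrimeSpectrum A) ∈ Z k := hk1
      rw [← hIZ, PrimeSpectrum.mem_zeroLocus] at hqZ
      have hle : I k ≤ q := hqZ
      obtain ⟨q', hq'min, hq'q⟩ := Ideal.exists_minimalPrimes_le hle
      have hq'prime : q'.IsPrime := hq'min.1.1
      refine ⟨⟨q', hq'prime⟩, ⟨k, hq'min, ?_⟩, ?_⟩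
      · exact (dimAt_mono A M (q' := ⟨q', hq'prime⟩) (q := ⟨q, hqprime⟩) hq'q).trans hk2
      · rw [PrimeSpectrum.mem_zeroLocus]
        exact hq'q.trans hqp
    · rintro ⟨q, ⟨k, hk1, hk2⟩, hqp⟩ h
      rw [PrimeSpectrum.mem_zeroLocus] at hqp
      have hqZ : q ∈ Z k := by
        rw [← hIZ, PrimeSpectrum.mem_zeroLocus]
        exact hk1.1.2
      have hbad := not_skCond_of_codepth A M n k q hqZ hk2
      exact hbad (h q.asIdeal hqp)
  rw [← isClosed_compl_iff, hN]
  exact hGfin.isClosed_biUnion (fun q _ => PrimeSpectrum.isClosed_zeroLocus _)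

end Groth.Agent.H29.SkLocusOpen
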