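import Mathlib

/-!
# Separatedness ascends along thickenings of the source
-/

set_option autoImplicit false
universe u

open AlgebraicGeometry CategoryTheory CategoryTheory.Limits

namespace Groth.Agent.H29.ThickSep

/-- If `i : X ⟶ X'` is a surjective closed immersion and `i ≫ f'` is separated, then `f'` is
separated. -/
theorem isSeparated_of_comp_thickening {X X' S : Scheme.{u}} (i : X ⟶ X') (f' : X' ⟶ S)
    [IsClosedImmersion i] [Surjective i] [IsSeparated (i ≫ f')] : IsSeparated f' := by
  constructor
  apply IsClosedImmersion.of_isPreimmersion
  let j : pullback (i ≫ f') (i ≫ f') ⟶ pullback f' f' :=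
    pullback.map (i ≫ f') (i ≫ f') f' f' i i (𝟙 S) ((Category.comp_id _).trans rfl)
      ((Category.comp_id _).trans rfl)
  have hj : IsClosedImmersion j :=
    MorphismProperty.pullbackMap (P := @IsClosedImmersion) (f := i ≫ f') (g := i ≫ f')
      (f' := f') (g' := f') (i₁ := i) (i₂ := i) inferInstance inferInstance rfl rfl
  have hcomm : pullback.diagonal (i ≫ f') ≫ j = i ≫ pullback.diagonal f' := by
    apply pullback.hom_ext
    · simp only [j, Category.assoc, pullback.diagonal_fst, pullback.lift_fst]
      rw [← Category.assoc, pullback.diagonal_fst, Category.id_comp, Category.comp_id]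
    · simp only [j, Category.assoc, pullback.diagonal_snd, pullback.lift_snd]
      rw [← Category.assoc, pullback.diagonal_snd, Category.id_comp, Category.comp_id]
  have hrange : Set.range (pullback.diagonal f') =
      j '' Set.range (pullback.diagonal (i ≫ f')) := by
    have h1 : Set.range (pullback.diagonal f') = Set.range (i ≫ pullback.diagonal f') := by
      rw [Scheme.Hom.comp_base, TopCat.coe_comp, Set.range_comp,
        Set.range_eq_univ.mpr (Surjective.surj (f := i)), Set.image_univ]
    rw [h1, ← hcomm, Scheme.Hom.comp_base, TopCat.coe_comp, Set.range_comp]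
  rw [hrange]
  exact j.isClosedEmbedding.isClosedMap _
    (pullback.diagonal (i ≫ f')).isClosedEmbedding.isClosed_range

end Groth.Agent.H29.ThickSep
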