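import Groth.Agent.H29.TopDim

set_option autoImplicit false

namespace Groth.Agent.H29

open TopologicalSpace Order Topology

universe u
variable {X : Type u} [TopologicalSpace X]

/-- the irreducible closed set `closure {x}` -/
def closurePt (x : X) : IrreducibleCloseds X :=
  ⟨closure {x}, isIrreducible_singleton.closure, isClosed_closure⟩

theorem topologicalKrullDim_nonneg_of_nonempty [Nonempty X] : 0 ≤ topologicalKrullDim X := by
  obtain ⟨x⟩ := ‹Nonempty X›
  have : Nonempty (IrreducibleCloseds X) := ⟨closurePt x⟩
  exact krullDim_nonneg

theorem finite_discrete_of_dim_zero [NoetherianSpace X] [T0Space X]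
    (h : topologicalKrullDim X ≤ 0) : Finite X ∧ DiscreteTopology X := by
  have hmin : ∀ Z : IrreducibleCloseds X, IsMin Z := krullDim_nonpos_iff_forall_isMin.mp h
  have hmax : ∀ Z : IrreducibleCloseds X, IsMax Z := krullDim_nonpos_iff_forall_isMax.mp h
  -- every point is closed
  have hclosed : ∀ x : X, closure ({x} : Set X) = {x} := by
    intro x
    refine Set.Subset.antisymm ?_ (subset_closure)
    intro y hy
    have hle : closurePt y ≤ closurePt x := by
      intro z hz
      exact (closure_minimal (Set.singleton_subset_iff.mpr hy) isClosed_closure) hz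
    have hge : closurePt x ≤ closurePt y := hmin (closurePt x) hle
    have heq : closure ({y} : Set X) = closure {x} :=
      Set.Subset.antisymm hle hge
    have : Inseparable y x := inseparable_iff_closure_eq.mpr heq
    exact Set.mem_singleton_iff.mpr this.eq
  have : T1Space X := ⟨fun x => by rw [← hclosed x]; exact isClosed_closure⟩
  -- irreducible components are singletons
  have hcomp : ∀ Z ∈ irreducibleComponents X, ∃ x, Z = {x} := by
    intro Z hZ
    have hZirr : IsIrreducible Z := hZ.1
    have hZcl : IsClosed Z := isClosed_of_mem_irreducibleComponents Z hZ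
    obtain ⟨x, hx⟩ := hZirr.nonempty
    refine ⟨x, ?_⟩
    let Z' : IrreducibleCloseds X := ⟨Z, hZirr, hZcl⟩
    have hle : closurePt x ≤ Z' := by
      intro z hz
      exact (closure_minimal (Set.singleton_subset_iff.mpr hx) hZcl) hz
    have hge : Z' ≤ closurePt x := hmax (closurePt x) hle
    have : (Z : Set X) = closure {x} := Set.Subset.antisymm hge hle
    rw [this, hclosed x]
  have hfin : (irreducibleComponents X).Finite := NoetherianSpace.finite_irreducibleComponents
  have huniv : (Set.univ : Set X) ⊆ ⋃ Z ∈ irreducibleComponents X, Z := by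
    rw [← Set.sUnion_eq_biUnion, sUnion_irreducibleComponents]
  have hfinX : (Set.univ : Set X).Finite := by
    refine Set.Finite.subset (hfin.biUnion fun Z hZ => ?_) huniv
    obtain ⟨x, rfl⟩ := hcomp Z hZ
    exact Set.finite_singleton x
  have : Finite X := Set.finite_univ_iff.mp hfinX
  exact ⟨inferInstance, inferInstance⟩

end Groth.Agent.H29
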