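import Groth.Prelude.Def_TopMod
import Mathlib.Topology.Algebra.Group.Basic

set_option autoImplicit false
set_option linter.unusedSectionVars false

namespace Groth.Agent.H29

namespace TopModL

/-- an additive map to a discrete group killing a neighbourhood of zero is continuous -/
theorem continuous_of_ker_nhds {G H : Type*} [AddGroup G] [TopologicalSpace G]
    [IsTopologicalAddGroup G] [AddGroup H] [TopologicalSpace H] [DiscreteTopology H] (f : G →+ H)
    (S : Set G) (hS : S ∈ nhds (0 : G)) (hf : ∀ x ∈ S, f x = 0) : Continuous f := by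
  rw [continuous_iff_continuousAt]
  intro b
  rw [ContinuousAt, nhds_discrete H, Filter.tendsto_pure]
  have hmem : (fun y => b + y) '' S ∈ nhds b := by
    have := Filter.image_mem_map (m := fun y => b + y) hS
    rwa [map_add_left_nhds_zero] at this
  refine Filter.mem_of_superset hmem ?_
  rintro _ ⟨y, hy, rfl⟩
  change f (b + y) = f b
  rw [map_add, hf y hy, add_zero]

universe u v w

variable {A : Type u} {M : Type v} [CommRing A] [TopologicalSpace A] [AddCommGroup M]
  [Module A M] [TopologicalSpace M]

theorem smul_top_mem_nhds (hM : TopMod.IsDeduced A M) (J : Ideal A) (hJ : IsOpen (J : Set A)) :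
    ((J • ⊤ : Submodule A M) : Set M) ∈ nhds (0 : M) :=
  hM.2.mem_of_mem hJ

/-- a linear map killing `J • ⊤` for an open `J`, to a discrete module, is continuous -/
theorem continuous_of_kills {E : Type*} [AddCommGroup E] [Module A E] [TopologicalSpace E]
    [DiscreteTopology E] (hM : TopMod.IsDeduced A M) (J : Ideal A) (hJ : IsOpen (J : Set A))
    (f : M →ₗ[A] E) (hf : ∀ x ∈ (J • ⊤ : Submodule A M), f x = 0) : Continuous f := by
  have := hM.1
  exact continuous_of_ker_nhds f.toAddMonoidHom _ (smul_top_mem_nhds hM J hJ) hf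

/-- a continuous linear map to a discrete module kills `J • ⊤` for some open `J` -/
theorem exists_kills {E : Type*} [AddCommGroup E] [Module A E] [TopologicalSpace E]
    [DiscreteTopology E] (hM : TopMod.IsDeduced A M) (f : M →L[A] E) :
    ∃ J : Ideal A, IsOpen (J : Set A) ∧ ∀ x ∈ (J • ⊤ : Submodule A M), f x = 0 := by
  have hker : f ⁻¹' {0} ∈ nhds (0 : M) := by
    apply f.continuous.continuousAt.preimage_mem_nhds
    rw [map_zero]
    exact (isOpen_discrete {0}).mem_nhds rfl
  obtain ⟨J, hJ, hJsub⟩ := hM.2.mem_iff.1 hker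
  exact ⟨J, hJ, fun x hx => hJsub hx⟩

theorem map_smul_top_quotient {N : Type w} [AddCommGroup N] [Module A N] (J : Ideal A)
    (w : N →ₗ[A] M ⧸ (J • ⊤ : Submodule A M)) (n : N) (hn : n ∈ (J • ⊤ : Submodule A N)) :
    w n = 0 := by
  refine Submodule.smul_induction_on hn (fun j hj n' _ => ?_) (fun x y hx hy => ?_)
  · obtain ⟨m, hm⟩ := Submodule.Quotient.mk_surjective _ (w n')
    rw [map_smul, ← hm, ← Submodule.Quotient.mk_smul, Submodule.Quotient.mk_eq_zero]
    exact Submodule.smul_mem_smul hj trivial
  · rw [map_add, hx, hy, add_zero]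

section DQ

variable (A : Type u) (M : Type v) [CommRing A] [AddCommGroup M] [Module A M]

/-- the quotient `M / J M` with the discrete topology -/
def DQ (J : Ideal A) : Type v := M ⧸ (J • ⊤ : Submodule A M)

instance (J : Ideal A) : AddCommGroup (DQ A M J) :=
  inferInstanceAs (AddCommGroup (M ⧸ (J • ⊤ : Submodule A M)))

instance (J : Ideal A) : Module A (DQ A M J) :=
  inferInstanceAs (Module A (M ⧸ (J • ⊤ : Submodule A M)))

instance (J : Ideal A) : TopologicalSpace (DQ A M J) := ⊥

instance (J : Ideal A) : DiscreteTopology (DQ A M J) := ⟨rfl⟩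

/-- the projection onto the discrete quotient -/
def DQ.mkL (J : Ideal A) : M →ₗ[A] DQ A M J := Submodule.mkQ (J • ⊤ : Submodule A M)

theorem DQ.mkL_eq_zero (J : Ideal A) (x : M) (hx : x ∈ (J • ⊤ : Submodule A M)) :
    DQ.mkL A M J x = 0 :=
  (Submodule.Quotient.mk_eq_zero _).2 hx

end DQ

end TopModL

end Groth.Agent.H29
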