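import Mathlib.Algebra.Module.Torsion.Basic
import Mathlib.Algebra.Module.Projective
import Mathlib.Algebra.Ring.GeomSum
import Mathlib.RingTheory.Ideal.Operations
import Mathlib.Tactic.Abel

set_option autoImplicit false
set_option linter.unusedSectionVars false

namespace Groth.Agent.H29

namespace TopModL

universe u v w

section Lift

variable {A : Type u} [CommRing A] (J : Ideal A) {N : Type w} {X : Type*} {Y : Type*}
  [AddCommGroup N] [Module A N] [AddCommGroup X] [Module A X] [AddCommGroup Y] [Module A Y]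

/-- lifting against a surjection of modules killed by `J`, when `N / J N` is projective -/
theorem exists_lift_of_projective_quotient
    [Module.Projective (A ⧸ J) (N ⧸ (J • ⊤ : Submodule A N))]
    (hX : Module.IsTorsionBySet A X J) (hY : Module.IsTorsionBySet A Y J)
    (f : X →ₗ[A] Y) (hf : Function.Surjective f) (g : N →ₗ[A] Y) :
    ∃ h : N →ₗ[A] X, ∀ n, f (h n) = g n := by
  let mX := hX.module
  let mY := hY.module
  let f' : X →ₗ[A ⧸ J] Y :=
    { toFun := f
      map_add' := f.map_add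
      map_smul' := fun r x => by
        obtain ⟨a, rfl⟩ := Ideal.Quotient.mk_surjective r
        exact f.map_smul a x }
  have hle : (J • ⊤ : Submodule A N) ≤ LinearMap.ker g := by
    rw [Submodule.smul_le]
    intro j hj n _
    rw [LinearMap.mem_ker, map_smul]
    exact @hY (g n) ⟨j, hj⟩
  let gbar : N ⧸ (J • ⊤ : Submodule A N) →ₗ[A] Y := Submodule.liftQ _ g hle
  let g' : N ⧸ (J • ⊤ : Submodule A N) →ₗ[A ⧸ J] Y :=
    { toFun := gbar
      map_add' := gbar.map_add
      map_smul' := fun r x => by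
        obtain ⟨a, rfl⟩ := Ideal.Quotient.mk_surjective r
        exact gbar.map_smul a x }
  obtain ⟨h', hh'⟩ := Module.projective_lifting_property f' g' hf
  refine ⟨{ toFun := fun n => h' (Submodule.Quotient.mk n)
            map_add' := fun n n' => by rw [Submodule.Quotient.mk_add, map_add]
            map_smul' := fun a n => by
              rw [Submodule.Quotient.mk_smul, RingHom.id_apply]
              exact h'.map_smul (Ideal.Quotient.mk J a) (Submodule.Quotient.mk n) }, fun n => ?_⟩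
  exact LinearMap.congr_fun hh' (Submodule.Quotient.mk n)

end Lift

section Nilp

variable {A : Type u} [CommRing A] {Q : Type*} [AddCommGroup Q] [Module A Q]

theorem range_pow_le (L : Ideal A) (h : Q →ₗ[A] Q)
    (hh : ∀ q, h q ∈ (L • ⊤ : Submodule A Q)) (k : ℕ) :
    ∀ q, (h ^ k) q ∈ (L ^ k • ⊤ : Submodule A Q) := by
  induction k with
  | zero => intro q; rw [pow_zero, Ideal.one_eq_top, Submodule.top_smul]; trivial
  | succ k ih =>
    intro q
    have e1 : h ^ (k + 1) = h * h ^ k := pow_succ' h k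
    rw [e1, Module.End.mul_apply, pow_succ' L k, mul_smul]
    have h1 : ∀ x ∈ (L ^ k • ⊤ : Submodule A Q), h x ∈ (L • L ^ k • ⊤ : Submodule A Q) := by
      intro x hx
      refine Submodule.smul_induction_on hx (fun a ha y _ => ?_) (fun x y hx hy => ?_)
      · rw [map_smul]
        have h2 := hh y
        have h3 : a • h y ∈ (L ^ k • L • ⊤ : Submodule A Q) := Submodule.smul_mem_smul ha h2
        rwa [← mul_smul, mul_comm, mul_smul] at h3
      · rw [map_add]; exact add_mem hx hy
    exact h1 _ (ih q)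

/-- an endomorphism congruent to the identity modulo a nilpotent ideal has a left inverse -/
theorem exists_leftInverse_of_sub_id (L : Ideal A) (n : ℕ)
    (hL : (L ^ n • ⊤ : Submodule A Q) = ⊥) (e : Q →ₗ[A] Q)
    (he : ∀ q, q - e q ∈ (L • ⊤ : Submodule A Q)) :
    ∃ e' : Q →ₗ[A] Q, ∀ q, e' (e q) = q := by
  let h : Module.End A Q := 1 - e
  have hh : ∀ q, h q ∈ (L • ⊤ : Submodule A Q) := he
  have hn : h ^ n = 0 := by
    ext q
    have := range_pow_le L h hh n q
    rw [hL, Submodule.mem_bot] at this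
    rw [this, LinearMap.zero_apply]
  have he1 : e = 1 - h := by simp only [h, sub_sub_cancel]
  refine ⟨∑ i ∈ Finset.range n, h ^ i, fun q => ?_⟩
  have h2 := geom_sum_mul_neg h n
  rw [hn, sub_zero, ← he1] at h2
  have := LinearMap.congr_fun h2 q
  rwa [Module.End.mul_apply, Module.End.one_apply] at this

end Nilp

section Main

variable {A : Type u} [CommRing A] {M : Type v} {N : Type w} [AddCommGroup M] [Module A M]
  [AddCommGroup N] [Module A N]

theorem isTorsionBySet_quotient_of_le (J L : Ideal A) (hJL : J ≤ L) :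
    Module.IsTorsionBySet A (M ⧸ (L • ⊤ : Submodule A M)) J := by
  rintro x ⟨j, hj⟩
  obtain ⟨m, rfl⟩ := Submodule.Quotient.mk_surjective _ x
  change j • Submodule.Quotient.mk m = 0
  rw [← Submodule.Quotient.mk_smul, Submodule.Quotient.mk_eq_zero]
  exact Submodule.smul_mem_smul (hJL hj) trivial

/-- a left inverse modulo `L` lifts to a left inverse modulo `J` when `L ^ n ≤ J ≤ L` -/
theorem exists_leftInverse_mod (J L : Ideal A) (hJL : J ≤ L) (n : ℕ) (hn : L ^ n ≤ J)
    [Module.Projective (A ⧸ J) (N ⧸ (J • ⊤ : Submodule A N))] (u : M →ₗ[A] N)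
    (w₀ : N →ₗ[A] M ⧸ (L • ⊤ : Submodule A M))
    (hw₀ : ∀ x : M, w₀ (u x) = Submodule.Quotient.mk x) :
    ∃ w : N →ₗ[A] M ⧸ (J • ⊤ : Submodule A M), ∀ x : M, w (u x) = Submodule.Quotient.mk x := by
  have hle : (J • ⊤ : Submodule A M) ≤ (L • ⊤ : Submodule A M) :=
    Submodule.smul_mono_left hJL
  let π : M ⧸ (J • ⊤ : Submodule A M) →ₗ[A] M ⧸ (L • ⊤ : Submodule A M) :=
    Submodule.mapQ _ _ LinearMap.id (by rwa [Submodule.comap_id])
  have hπ : Function.Surjective π := by
    intro y
    obtain ⟨m, rfl⟩ := Submodule.Quotient.mk_surjective _ y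
    exact ⟨Submodule.Quotient.mk m, rfl⟩
  have hQ : Module.IsTorsionBySet A (M ⧸ (J • ⊤ : Submodule A M)) J :=
    isTorsionBySet_quotient_of_le J J le_rfl
  obtain ⟨g, hg⟩ := exists_lift_of_projective_quotient J hQ
    (isTorsionBySet_quotient_of_le J L hJL) π hπ w₀
  have hgu : (J • ⊤ : Submodule A M) ≤ LinearMap.ker (g.comp u) := by
    rw [Submodule.smul_le]
    intro j hj m _
    rw [LinearMap.mem_ker, map_smul]
    exact @hQ _ ⟨j, hj⟩
  let e : M ⧸ (J • ⊤ : Submodule A M) →ₗ[A] M ⧸ (J • ⊤ : Submodule A M) :=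
    Submodule.liftQ _ (g.comp u) hgu
  have he : ∀ q, q - e q ∈ (L • ⊤ : Submodule A (M ⧸ (J • ⊤ : Submodule A M))) := by
    intro q
    obtain ⟨m, rfl⟩ := Submodule.Quotient.mk_surjective _ q
    have h1 : π (Submodule.Quotient.mk m - e (Submodule.Quotient.mk m)) = 0 := by
      rw [map_sub]
      change Submodule.Quotient.mk m - π (g (u m)) = 0
      rw [hg, hw₀, sub_self]
    obtain ⟨m', hm'⟩ := Submodule.Quotient.mk_surjective _
      (Submodule.Quotient.mk m - e (Submodule.Quotient.mk m))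
    rw [← hm'] at h1 ⊢
    change Submodule.Quotient.mk m' = 0 at h1
    rw [Submodule.Quotient.mk_eq_zero] at h1
    have h2 : (L • ⊤ : Submodule A (M ⧸ (J • ⊤ : Submodule A M))) =
        Submodule.map (J • ⊤ : Submodule A M).mkQ (L • ⊤ : Submodule A M) := by
      rw [Submodule.map_smul'', Submodule.map_top, Submodule.range_mkQ]
    rw [h2]
    exact ⟨m', h1, rfl⟩
  have hL : (L ^ n • ⊤ : Submodule A (M ⧸ (J • ⊤ : Submodule A M))) = ⊥ := by
    rw [eq_bot_iff, Submodule.smul_le]
    intro a ha q _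
    rw [Submodule.mem_bot]
    exact @hQ q ⟨a, hn ha⟩
  obtain ⟨e', he'⟩ := exists_leftInverse_of_sub_id L n hL e he
  refine ⟨e'.comp g, fun x => ?_⟩
  rw [LinearMap.comp_apply]
  exact he' (Submodule.Quotient.mk x)

end Main

section Step

variable {A : Type u} [CommRing A] {M : Type v} {N : Type w} [AddCommGroup M] [Module A M]
  [AddCommGroup N] [Module A N]

/-- the projection `M / J' M → M / J M` for `J' ≤ J` -/
def quotMap (M : Type v) [AddCommGroup M] [Module A M] (J' J : Ideal A) (h : J' ≤ J) :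
    M ⧸ (J' • ⊤ : Submodule A M) →ₗ[A] M ⧸ (J • ⊤ : Submodule A M) :=
  Submodule.mapQ _ _ LinearMap.id (by
    rw [Submodule.comap_id]
    exact Submodule.smul_mono_left h)

theorem quotMap_mk (J' J : Ideal A) (h : J' ≤ J) (m : M) :
    quotMap M J' J h (Submodule.Quotient.mk m) = Submodule.Quotient.mk m := rfl

theorem quotMap_surjective (J' J : Ideal A) (h : J' ≤ J) :
    Function.Surjective (quotMap M J' J h) := by
  intro y
  obtain ⟨m, rfl⟩ := Submodule.Quotient.mk_surjective _ y
  exact ⟨Submodule.Quotient.mk m, rfl⟩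

/-- modify a left inverse modulo `J'` so that it lifts a given one modulo `J`
(cokernel projective) -/
theorem exists_step_coker (J' J : Ideal A) (h : J' ≤ J) (u : M →ₗ[A] N)
    [Module.Projective (A ⧸ J')
      ((N ⧸ LinearMap.range u) ⧸ (J' • ⊤ : Submodule A (N ⧸ LinearMap.range u)))]
    (w : N →ₗ[A] M ⧸ (J • ⊤ : Submodule A M))
    (hw : ∀ x : M, w (u x) = Submodule.Quotient.mk x)
    (w' : N →ₗ[A] M ⧸ (J' • ⊤ : Submodule A M))
    (hw' : ∀ x : M, w' (u x) = Submodule.Quotient.mk x) :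
    ∃ w'' : N →ₗ[A] M ⧸ (J' • ⊤ : Submodule A M),
      (∀ x : M, w'' (u x) = Submodule.Quotient.mk x) ∧
        ∀ y : N, quotMap M J' J h (w'' y) = w y := by
  let d : N →ₗ[A] M ⧸ (J • ⊤ : Submodule A M) := w - (quotMap M J' J h).comp w'
  have hd : LinearMap.range u ≤ LinearMap.ker d := by
    rintro _ ⟨x, rfl⟩
    rw [LinearMap.mem_ker]
    change w (u x) - quotMap M J' J h (w' (u x)) = 0
    rw [hw, hw', quotMap_mk, sub_self]
  let dbar : N ⧸ LinearMap.range u →ₗ[A] M ⧸ (J • ⊤ : Submodule A M) :=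
    Submodule.liftQ _ d hd
  obtain ⟨δ, hδ⟩ := exists_lift_of_projective_quotient J'
    (isTorsionBySet_quotient_of_le J' J' le_rfl) (isTorsionBySet_quotient_of_le J' J h)
    (quotMap M J' J h) (quotMap_surjective J' J h) dbar
  refine ⟨w' + δ.comp (LinearMap.range u).mkQ, fun x => ?_, fun y => ?_⟩
  · change w' (u x) + δ (Submodule.Quotient.mk (u x)) = _
    have h0 : (Submodule.Quotient.mk (u x) : N ⧸ LinearMap.range u) = 0 :=
      (Submodule.Quotient.mk_eq_zero _).2 ⟨x, rfl⟩
    rw [h0, map_zero, add_zero, hw']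
  · change quotMap M J' J h (w' y + δ (Submodule.Quotient.mk y)) = w y
    rw [map_add, hδ]
    change quotMap M J' J h (w' y) + (w y - quotMap M J' J h (w' y)) = w y
    abel

/-- modify a left inverse modulo `J'` so that it lifts a given one modulo `J`
(target projective) -/
theorem exists_step_proj (J' J : Ideal A) (h : J' ≤ J) (u : M →ₗ[A] N)
    [Module.Projective (A ⧸ J') (N ⧸ (J' • ⊤ : Submodule A N))]
    (w : N →ₗ[A] M ⧸ (J • ⊤ : Submodule A M))
    (hw : ∀ x : M, w (u x) = Submodule.Quotient.mk x)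
    (w' : N →ₗ[A] M ⧸ (J' • ⊤ : Submodule A M))
    (hw' : ∀ x : M, w' (u x) = Submodule.Quotient.mk x) :
    ∃ w'' : N →ₗ[A] M ⧸ (J' • ⊤ : Submodule A M),
      (∀ x : M, w'' (u x) = Submodule.Quotient.mk x) ∧
        ∀ y : N, quotMap M J' J h (w'' y) = w y := by
  let d : N →ₗ[A] M ⧸ (J • ⊤ : Submodule A M) := w - (quotMap M J' J h).comp w'
  have hdu : ∀ x, d (u x) = 0 := by
    intro x
    change w (u x) - quotMap M J' J h (w' (u x)) = 0
    rw [hw, hw', quotMap_mk, sub_self]
  have hQ : Module.IsTorsionBySet A (M ⧸ (J' • ⊤ : Submodule A M)) J' :=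
    isTorsionBySet_quotient_of_le J' J' le_rfl
  obtain ⟨δ₀, hδ₀⟩ := exists_lift_of_projective_quotient J' hQ
    (isTorsionBySet_quotient_of_le J' J h)
    (quotMap M J' J h) (quotMap_surjective J' J h) d
  have hk : (J' • ⊤ : Submodule A M) ≤ LinearMap.ker (δ₀.comp u) := by
    rw [Submodule.smul_le]
    intro j hj m _
    rw [LinearMap.mem_ker, map_smul]
    exact @hQ _ ⟨j, hj⟩
  let t : M ⧸ (J' • ⊤ : Submodule A M) →ₗ[A] M ⧸ (J' • ⊤ : Submodule A M) :=
    Submodule.liftQ _ (δ₀.comp u) hk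
  have ht : ∀ q, quotMap M J' J h (t q) = 0 := by
    intro q
    obtain ⟨m, rfl⟩ := Submodule.Quotient.mk_surjective _ q
    change quotMap M J' J h (δ₀ (u m)) = 0
    rw [hδ₀, hdu]
  refine ⟨w' + (δ₀ - t.comp w'), fun x => ?_, fun y => ?_⟩
  · change w' (u x) + (δ₀ (u x) - t (w' (u x))) = _
    rw [hw']
    change _ + (δ₀ (u x) - δ₀ (u x)) = _
    rw [sub_self, add_zero]
  · change quotMap M J' J h (w' y + (δ₀ y - t (w' y))) = w y
    rw [map_add, map_sub, hδ₀, ht, sub_zero]
    change quotMap M J' J h (w' y) + (w y - quotMap M J' J h (w' y)) = w y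
    abel

end Step

end TopModL

end Groth.Agent.H29
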