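import Groth.Agent.H29.TopModL
import Groth.Agent.H29.TopModL2
import Mathlib.Topology.Algebra.IsUniformGroup.Defs
import Mathlib.Topology.Algebra.OpenSubgroup
import Mathlib.Topology.UniformSpace.Cauchy

set_option autoImplicit false
set_option linter.unusedSectionVars false

namespace Groth.Agent.H29

namespace TopModL

universe u v w

open Filter Topology Uniformity

section Limit

variable {A : Type u} {M : Type v} [CommRing A] [TopologicalSpace A] [AddCommGroup M]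
  [Module A M] [UniformSpace M] [IsUniformAddGroup M] [CompleteSpace M] [T2Space M]
  (𝔍 : ℕ → Ideal A) (h𝔍open : ∀ n, IsOpen (𝔍 n : Set A)) (h𝔍anti : Antitone 𝔍)
  (h𝔍basis : (nhds (0 : A)).HasBasis (fun _ : ℕ => True) (fun n => (𝔍 n : Set A)))
  (hM : TopMod.IsDeduced A M)

/-- the transition map `M / 𝔍 (n+1) M → M / 𝔍 n M` -/
def trans (M : Type v) [AddCommGroup M] [Module A M] (n : ℕ) :
    M ⧸ (𝔍 (n + 1) • ⊤ : Submodule A M) →ₗ[A] M ⧸ (𝔍 n • ⊤ : Submodule A M) :=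
  Submodule.mapQ _ _ LinearMap.id (by
    rw [Submodule.comap_id]
    exact Submodule.smul_mono_left (h𝔍anti (Nat.le_succ n)))

theorem trans_mk (n : ℕ) (m : M) :
    trans 𝔍 h𝔍anti M n (Submodule.Quotient.mk m) = Submodule.Quotient.mk m := rfl

include h𝔍basis hM in
theorem exists_smul_top_subset (U : Set M) (hU : U ∈ nhds (0 : M)) :
    ∃ k, ((𝔍 k • ⊤ : Submodule A M) : Set M) ⊆ U := by
  obtain ⟨J, hJ, hJU⟩ := hM.2.mem_iff.1 hU
  obtain ⟨k, -, hk⟩ := h𝔍basis.mem_iff.1 (hJ.mem_nhds J.zero_mem)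
  refine ⟨k, fun x hx => hJU ?_⟩
  have hle : 𝔍 k ≤ J := hk
  exact Submodule.smul_mono_left hle hx

include h𝔍open hM in
theorem isClosed_smul_top (k : ℕ) : IsClosed ((𝔍 k • ⊤ : Submodule A M) : Set M) := by
  have hnh : ((𝔍 k • ⊤ : Submodule A M) : Set M) ∈ nhds (0 : M) :=
    smul_top_mem_nhds hM (𝔍 k) (h𝔍open k)
  have hop : IsOpen (((𝔍 k • ⊤ : Submodule A M).toAddSubgroup : AddSubgroup M) : Set M) :=
    AddSubgroup.isOpen_of_mem_nhds _ hnh
  exact AddSubgroup.isClosed_of_isOpen _ hop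

include h𝔍open h𝔍anti h𝔍basis hM in
theorem exists_limit (x : ∀ n, M ⧸ (𝔍 n • ⊤ : Submodule A M))
    (hx : ∀ n, trans 𝔍 h𝔍anti M n (x (n + 1)) = x n) :
    ∃ m : M, ∀ n, Submodule.Quotient.mk m = x n := by
  choose m hm using fun n => Submodule.Quotient.mk_surjective _ (x n)
  have hstep : ∀ j, m (j + 1) - m j ∈ (𝔍 j • ⊤ : Submodule A M) := by
    intro j
    have h1 := hx j
    rw [← hm (j + 1), ← hm j, trans_mk] at h1
    exact (Submodule.Quotient.eq _).1 h1
  have hkj : ∀ k j, k ≤ j → m j - m k ∈ (𝔍 k • ⊤ : Submodule A M) := by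
    intro k j hkj
    induction j, hkj using Nat.le_induction with
    | base => rw [sub_self]; exact Submodule.zero_mem _
    | succ j hj ih =>
      have h2 : m (j + 1) - m k = (m (j + 1) - m j) + (m j - m k) := by abel
      rw [h2]
      exact add_mem (Submodule.smul_mono_left (h𝔍anti hj) (hstep j)) ih
  have hcauchy : CauchySeq m := by
    have hb : (𝓤 M).HasBasis (fun S : Set M => S ∈ nhds (0 : M))
        (fun S => (fun p : M × M => p.2 - p.1) ⁻¹' S) := by
      rw [uniformity_eq_comap_nhds_zero M]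
      exact (nhds (0 : M)).basis_sets.comap _
    rw [hb.cauchySeq_iff']
    intro S hS
    obtain ⟨k, hk⟩ := exists_smul_top_subset 𝔍 h𝔍basis hM S hS
    refine ⟨k, fun n hn => hk ?_⟩
    change m k - m n ∈ (𝔍 k • ⊤ : Submodule A M)
    have := hkj k n hn
    rw [← neg_sub]
    exact Submodule.neg_mem _ this
  obtain ⟨l, hl⟩ := cauchySeq_tendsto_of_complete hcauchy
  refine ⟨l, fun k => ?_⟩
  rw [← hm k]
  apply (Submodule.Quotient.eq _).2
  have hcl : IsClosed {y : M | y - m k ∈ (𝔍 k • ⊤ : Submodule A M)} :=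
    (isClosed_smul_top 𝔍 h𝔍open hM k).preimage (continuous_id.sub continuous_const)
  exact hcl.mem_of_tendsto hl ((eventually_ge_atTop k).mono (fun j hj => hkj k j hj))

include h𝔍basis hM in
theorem eq_of_forall_mk_eq (m m' : M)
    (h : ∀ n, (Submodule.Quotient.mk m : M ⧸ (𝔍 n • ⊤ : Submodule A M)) =
      Submodule.Quotient.mk m') : m = m' := by
  by_contra hne
  have hne' : m - m' ≠ 0 := sub_ne_zero.2 hne
  have hU : ({m - m'}ᶜ : Set M) ∈ nhds (0 : M) := compl_singleton_mem_nhds hne'.symm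
  obtain ⟨k, hk⟩ := exists_smul_top_subset 𝔍 h𝔍basis hM _ hU
  exact hk ((Submodule.Quotient.eq _).1 (h k)) rfl

end Limit

section Global

variable {A : Type u} {M : Type v} {N : Type w} [CommRing A] [TopologicalSpace A] [AddCommGroup M]
  [Module A M] [UniformSpace M] [IsUniformAddGroup M] [CompleteSpace M] [T2Space M]
  [AddCommGroup N] [Module A N]
  (𝔍 : ℕ → Ideal A) (h𝔍open : ∀ n, IsOpen (𝔍 n : Set A)) (h𝔍anti : Antitone 𝔍)
  (h𝔍basis : (nhds (0 : A)).HasBasis (fun _ : ℕ => True) (fun n => (𝔍 n : Set A)))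
  (hM : TopMod.IsDeduced A M) (u : M →ₗ[A] N)

/-- left inverses of `u` modulo `𝔍 n` -/
def LInv (n : ℕ) : Type (max v w) :=
  {w : N →ₗ[A] M ⧸ (𝔍 n • ⊤ : Submodule A M) // ∀ x : M, w (u x) = Submodule.Quotient.mk x}

variable (h0 : Nonempty (LInv 𝔍 u 0))
  (hstep : ∀ (n : ℕ) (w : LInv 𝔍 u n), ∃ w' : LInv 𝔍 u (n + 1),
    ∀ y : N, trans 𝔍 h𝔍anti M n (w'.1 y) = w.1 y)

/-- a compatible system of left inverses -/
noncomputable def sysLInv : ∀ n, LInv 𝔍 u n
  | 0 => h0.some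
  | n + 1 => (hstep n (sysLInv n)).choose

theorem sysLInv_compat (n : ℕ) (y : N) :
    trans 𝔍 h𝔍anti M n ((sysLInv 𝔍 h𝔍anti u h0 hstep (n + 1)).1 y) =
      (sysLInv 𝔍 h𝔍anti u h0 hstep n).1 y :=
  (hstep n (sysLInv 𝔍 h𝔍anti u h0 hstep n)).choose_spec y

include h𝔍open h𝔍basis hM h0 hstep in
theorem exists_global_leftInverse : ∃ w : N →ₗ[A] M, ∀ x : M, w (u x) = x := by
  have hex : ∀ y : N, ∃ m : M, ∀ n,
      (Submodule.Quotient.mk m : M ⧸ (𝔍 n • ⊤ : Submodule A M)) =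
        (sysLInv 𝔍 h𝔍anti u h0 hstep n).1 y := fun y =>
    exists_limit 𝔍 h𝔍open h𝔍anti h𝔍basis hM
      (fun n => (sysLInv 𝔍 h𝔍anti u h0 hstep n).1 y)
      (fun n => sysLInv_compat 𝔍 h𝔍anti u h0 hstep n y)
  choose L hL using hex
  refine ⟨{ toFun := L
            map_add' := fun y y' => ?_
            map_smul' := fun a y => ?_ }, fun x => ?_⟩
  · apply eq_of_forall_mk_eq 𝔍 h𝔍basis hM
    intro n
    rw [Submodule.Quotient.mk_add, hL, hL, hL, map_add]
  · apply eq_of_forall_mk_eq 𝔍 h𝔍basis hM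
    intro n
    rw [RingHom.id_apply, Submodule.Quotient.mk_smul, hL, hL, map_smul]
  · apply eq_of_forall_mk_eq 𝔍 h𝔍basis hM
    intro n
    change Submodule.Quotient.mk (L (u x)) = _
    rw [hL, (sysLInv 𝔍 h𝔍anti u h0 hstep n).2]

end Global

end TopModL

end Groth.Agent.H29
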