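import Groth.Agent.H29.GlDim
import Groth.Agent.H9.TorOneKernel
import Groth.Agent.H9.TorFlip
import Groth.Agent.H9.TorLES
import Mathlib.RingTheory.LocalRing.Module

set_option autoImplicit false

namespace Groth.Agent.H29

namespace TorPd

universe u

open CategoryTheory CategoryTheory.Limits Abelian Groth.Agent.H9 GlDimL

section

variable {R : Type u} [CommRing R]

/-- dimension shifting for `Tor` in the first variable -/
theorem isZero_tor_shift {S : ShortComplex (ModuleCat.{u} R)} (hS : S.ShortExact)
    [Module.Flat R S.X₂] (N : ModuleCat.{u} R) (n : ℕ) :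
    IsZero (((Tor (ModuleCat.{u} R) (n + 1 + 1)).obj S.X₃).obj N) ↔
      IsZero (((Tor (ModuleCat.{u} R) (n + 1)).obj S.X₁).obj N) := by
  let Q := ProjectiveResolution.of N
  have hK := tKsc_shortExact Q.complex (flat_of_projectiveResolution Q) hS
  have hrel : (ComplexShape.down ℕ).Rel (n + 1 + 1) (n + 1) := by simp
  have hiso : IsIso (hK.δ (n + 1 + 1) (n + 1) hrel) :=
    hK.isIso_δ _ _ _ (isZero_homology_tK Q S.X₂ (n + 1)) (isZero_homology_tK Q S.X₂ n)
  let e := asIso (hK.δ (n + 1 + 1) (n + 1) hrel)
  constructor
  · intro h
    exact IsZero.of_iso (IsZero.of_iso (IsZero.of_iso h (torIsoHomology S.X₃ Q (n + 1 + 1)).symm)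
      e.symm) (torIsoHomology S.X₁ Q (n + 1))
  · intro h
    exact IsZero.of_iso (IsZero.of_iso (IsZero.of_iso h (torIsoHomology S.X₁ Q (n + 1)).symm)
      e) (torIsoHomology S.X₃ Q (n + 1 + 1))

end

variable {A : Type u} [CommRing A] [IsLocalRing A] [IsNoetherianRing A]

theorem hasProjectiveDimensionLT_of_isZero_tor : ∀ (n : ℕ) (M : Type u) [AddCommGroup M]
    [Module A M] [Module.Finite A M],
    IsZero (((Tor (ModuleCat.{u} A) (n + 1)).obj
      (ModuleCat.of A (IsLocalRing.ResidueField A))).obj (ModuleCat.of A M)) →
    HasProjectiveDimensionLT (ModuleCat.of A M) (n + 1) := by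
  intro n
  induction n with
  | zero =>
    intro M _ _ _ h
    obtain ⟨k, f, hf⟩ := Module.Finite.exists_fin' A M
    have hS := shortExact_of_exact (LinearMap.ker f).subtype f (Submodule.subtype_injective _) hf
      (LinearMap.exact_subtype_ker_map f)
    have hpA : Projective (ModuleCat.of A (Fin k → A)) :=
      (IsProjective.iff_projective _).mp inferInstance
    have hinj := (isZero_tor_one_iff_injective hS
      (ModuleCat.of A (IsLocalRing.ResidueField A))).mp h
    have hfree : Module.Free A M :=
      Module.free_of_lTensor_residueField_injective (LinearMap.ker f).subtype f hf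
        (LinearMap.exact_subtype_ker_map f) hinj
    rw [zero_add, ← projective_iff_hasProjectiveDimensionLT_one, ← IsProjective.iff_projective]
    infer_instance
  | succ n ih =>
    intro M _ _ _ h
    obtain ⟨k, f, hf⟩ := Module.Finite.exists_fin' A M
    have hS := shortExact_of_exact (LinearMap.ker f).subtype f (Submodule.subtype_injective _) hf
      (LinearMap.exact_subtype_ker_map f)
    have hpA : Projective (ModuleCat.of A (Fin k → A)) :=
      (IsProjective.iff_projective _).mp inferInstance
    have hflat : Module.Flat A (ModuleCat.shortComplexOfCompEqZero (LinearMap.ker f).subtype f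
        (LinearMap.exact_subtype_ker_map f).linearMap_comp_eq_zero).X₂ :=
      inferInstanceAs (Module.Flat A (Fin k → A))
    have h1 := isZero_tor_flip h
    have h2 := (isZero_tor_shift hS (ModuleCat.of A (IsLocalRing.ResidueField A)) n).mp h1
    have h3 := isZero_tor_flip h2
    have h4 := ih (LinearMap.ker f) h3
    exact (hS.hasProjectiveDimensionLT_X₃_iff n hpA).mpr h4

end TorPd

end Groth.Agent.H29
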