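import Mathlib
import Groth.Agent.H29.Vasc1
import Groth.Agent.Lead.PdQuot

set_option autoImplicit false

namespace Groth.Agent.H29

namespace Vasc

universe u

open CategoryTheory IsLocalRing RingTheory.Sequence Pointwise

variable {R : Type u} [CommRing R]

/-- generators of `I` all of whose syzygies have coefficients in `I`
(equivalently: their classes are a basis of `I/I²` over `R/I`) -/
def IsQB (I : Ideal R) {ι : Type} [Fintype ι] (x : ι → R) : Prop :=
  Ideal.span (Set.range x) = I ∧ ∀ a : ι → R, ∑ i, a i * x i = 0 → ∀ i, a i ∈ I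

theorem IsQB.mem {I : Ideal R} {ι : Type} [Fintype ι] {x : ι → R} (hx : IsQB I x) (i : ι) :
    x i ∈ I := by
  rw [← hx.1]
  exact Ideal.subset_span ⟨i, rfl⟩

theorem IsQB.update {I : Ideal R} {ι : Type} [Fintype ι] [DecidableEq ι] {x : ι → R}
    (hx : IsQB I x) (c : ι → R) (j : ι) (hc : IsUnit (c j)) :
    IsQB I (Function.update x j (∑ i, c i * x i)) := by
  set x₀ := ∑ i, c i * x i with hx₀
  have hx₀I : x₀ ∈ I := Ideal.sum_mem _ fun i _ => Ideal.mul_mem_left _ _ (hx.mem i)
  refine ⟨le_antisymm ?_ ?_, ?_⟩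
  · rw [Ideal.span_le]
    rintro _ ⟨i, rfl⟩
    by_cases hij : i = j
    · subst hij
      simpa using hx₀I
    · simpa [Function.update_of_ne hij] using hx.mem i
  · rw [← hx.1, Ideal.span_le]
    rintro _ ⟨i, rfl⟩
    have hne : ∀ k, k ≠ j → x k ∈ Ideal.span (Set.range (Function.update x j x₀)) := by
      intro k hk
      refine Ideal.subset_span ⟨k, ?_⟩
      simp [Function.update_of_ne hk]
    have hj0 : x₀ ∈ Ideal.span (Set.range (Function.update x j x₀)) :=
      Ideal.subset_span ⟨j, by simp⟩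
    by_cases hij : i = j
    · subst hij
      obtain ⟨u, hu⟩ := hc
      have hsum : x₀ = c i * x i + ∑ k ∈ Finset.univ.erase i, c k * x k := by
        rw [hx₀, Finset.add_sum_erase _ (fun k => c k * x k) (Finset.mem_univ i)]
      have hxi : x i = ↑u⁻¹ * (x₀ - ∑ k ∈ Finset.univ.erase i, c k * x k) := by
        rw [hsum, add_sub_cancel_right, ← hu, ← mul_assoc, Units.inv_mul, one_mul]
      change x i ∈ _
      rw [hxi]
      refine Ideal.mul_mem_left _ _ (Ideal.sub_mem _ hj0 (Ideal.sum_mem _ fun k hk => ?_))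
      exact Ideal.mul_mem_left _ _ (hne k (Finset.ne_of_mem_erase hk))
    · exact hne i hij
  · intro a ha
    let a' : ι → R := fun i => a j * c i + if i = j then 0 else a i
    have ha' : ∑ i, a' i * x i = 0 := by
      rw [← ha]
      simp only [a', add_mul, Finset.sum_add_distrib, ite_mul, zero_mul]
      have h1 : ∑ i, a j * c i * x i = a j * x₀ := by
        rw [hx₀, Finset.mul_sum]
        exact Finset.sum_congr rfl fun i _ => mul_assoc _ _ _
      have h2 : ∀ i, a i * Function.update x j x₀ i =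
          (if i = j then a j * x₀ else 0) + (if i = j then 0 else a i * x i) := by
        intro i
        by_cases hij : i = j
        · subst hij
          simp
        · simp [hij]
      rw [h1]
      simp only [h2, Finset.sum_add_distrib, Finset.sum_ite_eq', Finset.mem_univ, if_true]
    have hmem := hx.2 a' ha'
    have hj : a j ∈ I := by
      have := hmem j
      simp only [a', if_true, add_zero] at this
      obtain ⟨u, hu⟩ := hc
      have h2 : a j = a j * c j * ↑u⁻¹ := by
        rw [← hu, mul_assoc, Units.mul_inv, mul_one]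
      rw [h2]
      exact Ideal.mul_mem_right _ _ this
    intro i
    by_cases hij : i = j
    · rw [hij]; exact hj
    · have := hmem i
      simp only [a', if_neg hij] at this
      have h3 : a i = (a j * c i + a i) - a j * c i := by ring
      rw [h3]
      exact Ideal.sub_mem _ this (Ideal.mul_mem_right _ _ hj)

theorem IsQB.quotient {I : Ideal R} {ι : Type} [Fintype ι] [DecidableEq ι] {y : ι → R}
    (hy : IsQB I y) (j : ι) :
    IsQB (I.map (Ideal.Quotient.mk (Ideal.span {y j})))
      (fun i : {i : ι // i ≠ j} => Ideal.Quotient.mk (Ideal.span {y j}) (y i)) := by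
  set mk := Ideal.Quotient.mk (Ideal.span {y j}) with hmk
  have hmkj : mk (y j) = 0 :=
    Ideal.Quotient.eq_zero_iff_mem.mpr (Ideal.mem_span_singleton_self _)
  refine ⟨le_antisymm ?_ ?_, ?_⟩
  · rw [Ideal.span_le]
    rintro _ ⟨i, rfl⟩
    exact Ideal.mem_map_of_mem _ (hy.mem i)
  · rw [← hy.1, Ideal.map_span, Ideal.span_le]
    rintro _ ⟨_, ⟨i, rfl⟩, rfl⟩
    by_cases hij : i = j
    · rw [hij, hmkj]
      exact Ideal.zero_mem _
    · exact Ideal.subset_span ⟨⟨i, hij⟩, rfl⟩
  · intro a ha
    let b : {i : ι // i ≠ j} → R := fun i => Function.surjInv Ideal.Quotient.mk_surjective (a i)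
    have hb : ∀ i, mk (b i) = a i := fun i => Function.surjInv_eq _ _
    have h1 : mk (∑ i : {i : ι // i ≠ j}, b i * y i) = 0 := by
      rw [map_sum, ← ha]
      refine Finset.sum_congr rfl fun i _ => ?_
      rw [map_mul, hb]
    rw [Ideal.Quotient.eq_zero_iff_mem, Ideal.mem_span_singleton'] at h1
    obtain ⟨r, hr⟩ := h1
    let a' : ι → R := fun i => if h : i = j then -r else b ⟨i, h⟩
    have ha' : ∑ i, a' i * y i = 0 := by
      rw [← Finset.add_sum_erase _ _ (Finset.mem_univ j)]
      have h2 : ∑ i ∈ Finset.univ.erase j, a' i * y i = ∑ i : {i : ι // i ≠ j}, b i * y i := by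
        rw [Finset.sum_subtype (Finset.univ.erase j) (p := fun i => i ≠ j)
          (fun i => by simp) (fun i => a' i * y i)]
        refine Finset.sum_congr rfl fun i _ => ?_
        simp only [a', dif_neg i.2]
      rw [h2, ← hr]
      simp only [a', dif_pos rfl]
      ring
    intro i
    have := hy.2 a' ha' i.1
    simp only [a', dif_neg i.2] at this
    rw [← hb i]
    exact Ideal.mem_map_of_mem _ this

/-- `I/xR` is a direct summand of `I/xI`, hence of finite projective dimension over `R/xR` -/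
theorem pd_quotient [IsNoetherianRing R] {I : Ideal R} {ι : Type} [Fintype ι] [DecidableEq ι]
    {y : ι → R} (hy : IsQB I y) (j : ι) (hreg : IsSMulRegular R (y j)) (n : ℕ)
    (hpd : HasProjectiveDimensionLT (ModuleCat.of R I) (n + 1)) :
    HasProjectiveDimensionLT (ModuleCat.of (R ⧸ Ideal.span {y j})
      (I.map (Ideal.Quotient.mk (Ideal.span {y j})))) (n + 1) := by
  set x := y j with hxdef
  have hxI : x ∈ I := hy.mem j
  have hregI : IsSMulRegular I x := fun a b hab =>
    Subtype.ext (hreg (by simpa using congrArg Subtype.val hab))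
  have hQ := Groth.Agent.Lead.PdQuot.hasProjectiveDimensionLT_quotSMulTop x hreg n I hregI hpd
  set I' := I.map (Ideal.Quotient.mk (Ideal.span {x})) with hI'
  let ρ : I →ₗ[R] I' :=
    { toFun := fun i => ⟨Ideal.Quotient.mk _ i.1, Ideal.mem_map_of_mem _ i.2⟩
      map_add' := fun a b => Subtype.ext (by simp)
      map_smul' := fun r a => Subtype.ext (by simp [Algebra.smul_def]) }
  have hρ_apply : ∀ i : I, ((ρ i : I') : R ⧸ Ideal.span {x}) = Ideal.Quotient.mk _ i.1 :=
    fun i => rfl
  have hρsurj : Function.Surjective ρ := by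
    rintro ⟨z, hz⟩
    obtain ⟨i, hi, rfl⟩ := (Ideal.mem_map_iff_of_surjective _ Ideal.Quotient.mk_surjective).mp hz
    exact ⟨⟨i, hi⟩, rfl⟩
  have hρx : ρ ⟨x, hxI⟩ = 0 :=
    Subtype.ext (Ideal.Quotient.eq_zero_iff_mem.mpr (Ideal.mem_span_singleton_self _))
  let xbar : QuotSMulTop x I := Submodule.Quotient.mk ⟨x, hxI⟩
  have hle : (x • ⊤ : Submodule R I) ≤ LinearMap.ker ρ := by
    intro i hi
    obtain ⟨i', -, rfl⟩ := (Submodule.mem_smul_pointwise_iff_exists _ _ _).mp hi
    rw [LinearMap.mem_ker, map_smul]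
    apply Subtype.ext
    change x • ((ρ i' : I') : R ⧸ Ideal.span {x}) = 0
    rw [Algebra.smul_def]
    have : algebraMap R (R ⧸ Ideal.span {x}) x = 0 :=
      Ideal.Quotient.eq_zero_iff_mem.mpr (Ideal.mem_span_singleton_self _)
    rw [this, zero_mul]
  let π : QuotSMulTop x I →ₗ[R] I' := (x • ⊤ : Submodule R I).liftQ ρ hle
  let g : (ι → R) →ₗ[R] I := Fintype.linearCombination R (fun i => (⟨y i, hy.mem i⟩ : I))
  have hg_apply : ∀ a : ι → R, ((g a : I) : R) = ∑ i, a i * y i := by
    intro a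
    simp [g, Fintype.linearCombination_apply]
  have hgsurj : Function.Surjective g := by
    rintro ⟨z, hz⟩
    rw [← hy.1] at hz
    obtain ⟨c, hc⟩ := Ideal.mem_span_range_iff_exists_fun.mp hz
    exact ⟨c, Subtype.ext (by rw [hg_apply, hc])⟩
  let h : (ι → R) →ₗ[R] QuotSMulTop x I :=
    (LinearMap.toSpanSingleton R _ xbar) ∘ₗ (LinearMap.proj j)
  have hh_apply : ∀ a : ι → R, h a = a j • xbar := fun a => rfl
  have hIx : ∀ r ∈ I, r • xbar = 0 := by
    intro r hr
    change r • Submodule.Quotient.mk (⟨x, hxI⟩ : I) = 0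
    rw [← Submodule.Quotient.mk_smul, Submodule.Quotient.mk_eq_zero]
    refine (Submodule.mem_smul_pointwise_iff_exists _ _ _).mpr ⟨⟨r, hr⟩, trivial, ?_⟩
    apply Subtype.ext
    simp [mul_comm]
  have hker : LinearMap.ker g ≤ LinearMap.ker h := by
    intro a ha
    rw [LinearMap.mem_ker] at ha ⊢
    have h0 : ∑ i, a i * y i = 0 := by rw [← hg_apply, ha]; rfl
    rw [hh_apply]
    exact hIx _ (hy.2 a h0 j)
  let ψ : I →ₗ[R] QuotSMulTop x I :=
    ((LinearMap.ker g).liftQ h hker) ∘ₗ (g.quotKerEquivOfSurjective hgsurj).symm.toLinearMap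
  have hψ : ∀ a : ι → R, ψ (g a) = h a := by
    intro a
    have : (g.quotKerEquivOfSurjective hgsurj).symm (g a) = Submodule.Quotient.mk a := by
      rw [LinearEquiv.symm_apply_eq]
      rfl
    simp only [ψ, LinearMap.comp_apply, LinearEquiv.coe_coe, this]
    rfl
  let τ : I →ₗ[R] QuotSMulTop x I := (x • ⊤ : Submodule R I).mkQ - ψ
  have hgx : g (Pi.single j 1) = ⟨x, hxI⟩ := by
    apply Subtype.ext
    rw [hg_apply]
    simp [Pi.single_apply, hxdef]
  have hτx : τ ⟨x, hxI⟩ = 0 := by
    change Submodule.Quotient.mk (⟨x, hxI⟩ : I) - ψ ⟨x, hxI⟩ = 0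
    rw [← hgx, hψ, hh_apply]
    simp [xbar, hgx]
  have hkerρ : LinearMap.ker ρ ≤ LinearMap.ker τ := by
    intro i hi
    rw [LinearMap.mem_ker] at hi ⊢
    have h1 : (i : R) ∈ Ideal.span {x} := by
      rw [← Ideal.Quotient.eq_zero_iff_mem, ← hρ_apply, hi]
      rfl
    obtain ⟨r, hr⟩ := Ideal.mem_span_singleton'.mp h1
    have h2 : i = r • (⟨x, hxI⟩ : I) := Subtype.ext (by simpa using hr.symm)
    rw [h2, map_smul, hτx, smul_zero]
  let σ : I' →ₗ[R] QuotSMulTop x I :=
    ((LinearMap.ker ρ).liftQ τ hkerρ) ∘ₗ (ρ.quotKerEquivOfSurjective hρsurj).symm.toLinearMap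
  have hσ : ∀ i : I, σ (ρ i) = τ i := by
    intro i
    have : (ρ.quotKerEquivOfSurjective hρsurj).symm (ρ i) = Submodule.Quotient.mk i := by
      rw [LinearEquiv.symm_apply_eq]
      rfl
    simp only [σ, LinearMap.comp_apply, LinearEquiv.coe_coe, this]
    rfl
  have hπσ : ∀ z : I', π (σ z) = z := by
    intro z
    obtain ⟨i, rfl⟩ := hρsurj z
    rw [hσ]
    change π (Submodule.Quotient.mk i - ψ i) = ρ i
    rw [map_sub]
    have h1 : π (Submodule.Quotient.mk i) = ρ i := rfl
    obtain ⟨a, rfl⟩ := hgsurj i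
    rw [h1, hψ, hh_apply, map_smul]
    have h2 : π xbar = 0 := hρx
    rw [h2, smul_zero, sub_zero]
  let σ' : I' →ₗ[R ⧸ Ideal.span {x}] QuotSMulTop x I :=
    σ.extendScalarsOfSurjective Ideal.Quotient.mk_surjective
  let π' : QuotSMulTop x I →ₗ[R ⧸ Ideal.span {x}] I' :=
    π.extendScalarsOfSurjective Ideal.Quotient.mk_surjective
  have hretract : Retract (ModuleCat.of (R ⧸ Ideal.span {x}) I')
      (ModuleCat.of (R ⧸ Ideal.span {x}) (QuotSMulTop x I)) :=
    { i := ModuleCat.ofHom σ'
      r := ModuleCat.ofHom π'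
      retract := by
        apply ModuleCat.hom_ext
        apply LinearMap.ext
        intro z
        exact hπσ z }
  exact hretract.hasProjectiveDimensionLT (n + 1)

end Vasc

end Groth.Agent.H29
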