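import Mathlib
import Groth.Agent.H29.Vasc2

set_option autoImplicit false

namespace Groth.Agent.H29

namespace Vasc

universe u

open CategoryTheory IsLocalRing RingTheory.Sequence Pointwise

/-- prime avoidance: a nonzerodivisor in `I` outside `𝔪 I` -/
theorem exists_regular_notMem_mul {R : Type u} [CommRing R] [IsLocalRing R] [IsNoetherianRing R]
    (I : Ideal R) (hI0 : I ≠ ⊥) (hass : ∀ p ∈ associatedPrimes R R, ¬ I ≤ p) :
    ∃ x₀ ∈ I, x₀ ∉ maximalIdeal R * I ∧ IsSMulRegular R x₀ := by
  classical
  by_contra hcon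
  push Not at hcon
  have hfin : (associatedPrimes R R).Finite := associatedPrimes.finite R R
  have hsub : (I : Set R) ⊆
      ⋃ q ∈ ((insert (maximalIdeal R * I) hfin.toFinset : Finset (Ideal R)) : Set (Ideal R)),
        ((id q : Ideal R) : Set R) := by
    intro r hr
    by_cases h2 : r ∈ maximalIdeal R * I
    · simp only [Finset.coe_insert, Set.Finite.coe_toFinset, Set.mem_insert_iff, id_eq,
        Set.iUnion_iUnion_eq_or_left, Set.mem_union, SetLike.mem_coe, Set.mem_iUnion, exists_prop]
      exact Or.inl h2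
    · have h3 := hcon r hr h2
      have h4 : r ∈ ⋃ p ∈ associatedPrimes R R, (p : Set R) := by
        rw [biUnion_associatedPrimes_eq_compl_regular]
        exact h3
      simp only [Set.mem_iUnion, SetLike.mem_coe, exists_prop] at h4
      obtain ⟨p, hp, hrp⟩ := h4
      simp only [Finset.coe_insert, Set.Finite.coe_toFinset, Set.mem_insert_iff, id_eq,
        Set.iUnion_iUnion_eq_or_left, Set.mem_union, SetLike.mem_coe, Set.mem_iUnion, exists_prop]
      exact Or.inr ⟨p, hp, hrp⟩
  rw [Ideal.subset_union_prime (f := id) (maximalIdeal R * I) (maximalIdeal R * I)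
    (fun q hq hq1 _ => by
      have : q ∈ associatedPrimes R R := by
        rcases Finset.mem_insert.mp hq with h | h
        · exact absurd h hq1
        · simpa using h
      exact this.isPrime)] at hsub
  obtain ⟨q, hq, hIq⟩ := hsub
  rcases Finset.mem_insert.mp hq with h | h
  · rw [h] at hIq
    apply hI0
    exact Submodule.eq_bot_of_le_smul_of_le_jacobson_bot (maximalIdeal R) I
      (IsNoetherian.noetherian _) (by simpa [smul_eq_mul] using hIq) (maximalIdeal_le_jacobson ⊥)
  · have hq' : q ∈ associatedPrimes R R := by simpa using h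
    exact hass q hq' hIq

/-- Vasconcelos, local case -/
theorem local_main : ∀ (n : ℕ) (R : Type u) [CommRing R] [IsLocalRing R] [IsNoetherianRing R]
    (I : Ideal R), I ≠ ⊤ → ∀ (k : ℕ), HasProjectiveDimensionLT (ModuleCat.of R I) (k + 1) →
    ∀ (ι : Type) [Fintype ι] [DecidableEq ι], Fintype.card ι = n → ∀ (x : ι → R), IsQB I x →
    ∃ rs : List R, IsWeaklyRegular R rs ∧ Ideal.ofList rs = I := by
  intro n
  induction n with
  | zero =>
    intro R _ _ _ I hI k hpd ι _ _ hcard x hx
    have : IsEmpty ι := Fintype.card_eq_zero_iff.mp hcard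
    refine ⟨[], IsWeaklyRegular.nil _ _, ?_⟩
    rw [Ideal.ofList_nil, ← hx.1]
    simp [Set.range_eq_empty]
  | succ n ih =>
    intro R _ _ _ I hI k hpd ι _ _ hcard x hx
    have hne : Nonempty ι := Fintype.card_pos_iff.mp (by omega)
    have hI0 : I ≠ ⊥ := by
      intro h0
      obtain ⟨i⟩ := hne
      have hxall : ∀ i, x i = 0 := fun i => by simpa [h0] using hx.mem i
      have := hx.2 (fun _ => 1) (by simp [hxall]) i
      rw [h0] at this
      simp at this
    have hass := fun p hp => not_le_of_mem_associatedPrimes I hI0 k hpd p hp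
    obtain ⟨x₀, hx₀I, hx₀m, hx₀reg⟩ := exists_regular_notMem_mul I hI0 hass
    obtain ⟨c, hc⟩ := Ideal.mem_span_range_iff_exists_fun.mp (hx.1 ▸ hx₀I)
    obtain ⟨j, hj⟩ : ∃ j, IsUnit (c j) := by
      by_contra hno
      push Not at hno
      apply hx₀m
      rw [← hc]
      exact Ideal.sum_mem _ fun i _ => Ideal.mul_mem_mul (by simpa using hno i) (hx.mem i)
    have hy := hx.update c j hj
    rw [hc] at hy
    set y := Function.update x j x₀ with hydef
    have hyj : y j = x₀ := Function.update_self ..
    have hregj : IsSMulRegular R (y j) := hyj ▸ hx₀reg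
    have hpd' := pd_quotient hy j hregj k hpd
    have hqb' := hy.quotient j
    have hxjI : y j ∈ I := hy.mem j
    have hspan_le : Ideal.span {y j} ≤ I := (Ideal.span_singleton_le_iff_mem _).mpr hxjI
    have hspan_ne : Ideal.span {y j} ≠ ⊤ := fun h => hI (top_le_iff.mp (h ▸ hspan_le))
    have : Nontrivial (R ⧸ Ideal.span {y j}) := Ideal.Quotient.nontrivial_iff.mpr hspan_ne
    have : IsLocalRing (R ⧸ Ideal.span {y j}) :=
      IsLocalRing.of_surjective' (Ideal.Quotient.mk _) Ideal.Quotient.mk_surjective
    have hcomap : ∀ J : Ideal R, Ideal.span {y j} ≤ J →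
        Ideal.comap (Ideal.Quotient.mk (Ideal.span {y j}))
          (J.map (Ideal.Quotient.mk (Ideal.span {y j}))) = J := by
      intro J hJ
      rw [Ideal.comap_map_of_surjective _ Ideal.Quotient.mk_surjective,
        ← RingHom.ker_eq_comap_bot, Ideal.mk_ker]
      exact sup_eq_left.mpr hJ
    have hI' : I.map (Ideal.Quotient.mk (Ideal.span {y j})) ≠ ⊤ := by
      intro htop
      apply hI
      rw [← hcomap I hspan_le, htop, Ideal.comap_top]
    have hcard' : Fintype.card {i : ι // i ≠ j} = n := by
      simp only [ne_eq, Fintype.card_subtype_compl, Fintype.card_subtype_eq]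
      omega
    obtain ⟨rs', hrs', hof'⟩ := ih (R ⧸ Ideal.span {y j}) _ hI' k hpd' {i : ι // i ≠ j} hcard' _
      hqb'
    let rs := rs'.map (Function.surjInv Ideal.Quotient.mk_surjective)
    have hrsmap : rs.map (Ideal.Quotient.mk (Ideal.span {y j})) = rs' := by
      simp only [rs, List.map_map]
      conv_rhs => rw [← List.map_id rs']
      apply List.map_congr_left
      intro a _
      exact Function.surjInv_eq _ a
    refine ⟨y j :: rs, ?_, ?_⟩
    · rw [isWeaklyRegular_cons_iff']
      refine ⟨hregj, ?_⟩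
      rw [hrsmap]
      let e : QuotSMulTop (y j) R ≃ₗ[R] R ⧸ Ideal.span {y j} :=
        Submodule.quotEquivOfEq _ _ (by
          rw [← Submodule.ideal_span_singleton_smul, smul_eq_mul, Ideal.mul_top])
      let e' : QuotSMulTop (y j) R ≃ₗ[R ⧸ Ideal.span {y j}] R ⧸ Ideal.span {y j} :=
        e.extendScalarsOfSurjective Ideal.Quotient.mk_surjective
      exact (e'.isWeaklyRegular_congr rs').mpr hrs'
    · rw [Ideal.ofList_cons]
      have h1 : (Ideal.span {y j} ⊔ Ideal.ofList rs).map (Ideal.Quotient.mk (Ideal.span {y j})) =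
          I.map (Ideal.Quotient.mk (Ideal.span {y j})) := by
        rw [Ideal.map_sup, Ideal.map_ofList, hrsmap, hof']
        have : (Ideal.span {y j}).map (Ideal.Quotient.mk (Ideal.span {y j})) = ⊥ := by
          rw [Ideal.map_quotient_self]
        rw [this, bot_sup_eq]
      rw [← hcomap (Ideal.span {y j} ⊔ Ideal.ofList rs) le_sup_left, h1, hcomap I hspan_le]

end Vasc

end Groth.Agent.H29
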