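import Mathlib
import Groth.Agent.H29.Vasc3

set_option autoImplicit false

namespace Groth.Agent.H29

namespace Vasc

universe u

open CategoryTheory IsLocalRing RingTheory.Sequence Pointwise

variable {R : Type u} [CommRing R]

/-- `I_p ≃ I R_p` -/
noncomputable def localizedIdealEquiv (p : Ideal R) [p.IsPrime] (I : Ideal R) :
    LocalizedModule p.primeCompl I ≃ₗ[Localization.AtPrime p]
      (I.map (algebraMap R (Localization.AtPrime p))) :=
  let f := Algebra.linearMap R (Localization.AtPrime p)
  let e₁ := IsLocalizedModule.iso p.primeCompl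
    (Submodule.toLocalized' (Localization.AtPrime p) p.primeCompl f I)
  let e₂ := e₁.extendScalarsOfIsLocalization p.primeCompl (Localization.AtPrime p)
  e₂.trans (LinearEquiv.ofEq _ _ (Ideal.localized'_eq_map _ _ _))

theorem pd_map_localization (p : Ideal R) [p.IsPrime] (I : Ideal R) (n : ℕ)
    (h : HasProjectiveDimensionLT (ModuleCat.of R I) (n + 1)) :
    HasProjectiveDimensionLT (ModuleCat.of (Localization.AtPrime p)
      (I.map (algebraMap R (Localization.AtPrime p)))) (n + 1) :=
  have := localized_pd p I n h
  hasProjectiveDimensionLT_of_iso (localizedIdealEquiv p I).toModuleIso (n + 1)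

end Vasc

end Groth.Agent.H29
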