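import Mathlib
import Groth.Agent.H29.Vasc4

set_option autoImplicit false

namespace Groth.Agent.H29

namespace Vasc

universe u

open CategoryTheory IsLocalRing RingTheory.Sequence Pointwise

variable {R : Type u} [CommRing R]

/-- elementwise form of local freeness of `I/I²` at a prime `p ⊇ I` -/
theorem exists_local_basis [IsNoetherianRing R] (I p : Ideal R) [p.IsPrime] (hIp : I ≤ p)
    [Module.Projective (R ⧸ I) I.Cotangent] :
    ∃ (n : ℕ) (x : Fin n → R), (∀ k, x k ∈ I) ∧
      (∀ i ∈ I, ∃ u ∉ p, ∃ g : Fin n → R, u * i - ∑ k, g k * x k ∈ I ^ 2) ∧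
      (∀ α : Fin n → R, ∑ k, α k * x k = 0 → ∀ k, ∃ u ∉ p, u * α k ∈ I) := by
  classical
  set mkS := Ideal.Quotient.mk I with hmkS
  have hker : RingHom.ker mkS ≤ p := by rw [Ideal.mk_ker]; exact hIp
  have hp' : (p.map mkS).IsPrime :=
    Ideal.map_isPrime_of_surjective Ideal.Quotient.mk_surjective hker
  set p' := p.map mkS with hp'def
  have hnotmem : ∀ u : R, mkS u ∉ p' → u ∉ p := fun u hu hup => hu (Ideal.mem_map_of_mem _ hup)
  have hfinR : Module.Finite R I.Cotangent :=
    Module.Finite.of_surjective I.toCotangent I.toCotangent_surjective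
  have hfinS : Module.Finite (R ⧸ I) I.Cotangent := Module.Finite.of_restrictScalars_finite R _ _
  have hfree : Module.Free (Localization.AtPrime p') (LocalizedModule p'.primeCompl I.Cotangent) :=
    Module.free_of_flat_of_isLocalRing
  let b := Module.finBasis (Localization.AtPrime p') (LocalizedModule p'.primeCompl I.Cotangent)
  set n := Module.finrank (Localization.AtPrime p') (LocalizedModule p'.primeCompl I.Cotangent)
    with hn
  have hrep : ∀ k : Fin n, ∃ (m : I.Cotangent) (s : p'.primeCompl), b k = LocalizedModule.mk m s := by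
    intro k
    induction b k using LocalizedModule.induction_on with
    | h m s => exact ⟨m, s, rfl⟩
  choose m s hms using hrep
  have hxs : ∀ k : Fin n, ∃ x : I, I.toCotangent x = m k := fun k => I.toCotangent_surjective (m k)
  choose x hx using hxs
  have hunit : ∀ k : Fin n, IsUnit (algebraMap (R ⧸ I) (Localization.AtPrime p') (s k : R ⧸ I)) :=
    fun k => IsLocalization.map_units _ (s k)
  let b' := b.isUnitSMul hunit
  have hb' : ∀ k, b' k = LocalizedModule.mkLinearMap p'.primeCompl I.Cotangent (m k) := by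
    intro k
    rw [Module.Basis.isUnitSMul_apply, hms k, algebraMap_smul, LocalizedModule.mkLinearMap_apply,
      LocalizedModule.smul'_mk]
    rw [LocalizedModule.mk_eq]
    exact ⟨1, by simp [Submonoid.smul_def]⟩
  refine ⟨n, fun k => (x k : R), fun k => (x k).2, ?_, ?_⟩
  · intro i hi
    set z := LocalizedModule.mkLinearMap p'.primeCompl I.Cotangent (I.toCotangent ⟨i, hi⟩) with hz
    obtain ⟨w, hw⟩ := IsLocalization.exist_integer_multiples p'.primeCompl Finset.univ
      (fun k => b'.repr z k)
    have hγ : ∀ k : Fin n, ∃ γ : R ⧸ I, algebraMap (R ⧸ I) (Localization.AtPrime p') γ =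
        (w : R ⧸ I) • b'.repr z k := fun k => hw k (Finset.mem_univ k)
    choose γ hγ' using hγ
    have h1 : LocalizedModule.mkLinearMap p'.primeCompl I.Cotangent
        ((w : R ⧸ I) • I.toCotangent ⟨i, hi⟩ - ∑ k, γ k • m k) = 0 := by
      rw [map_sub, map_smul, map_sum, sub_eq_zero, ← hz]
      conv_lhs => rw [← b'.sum_repr z, Finset.smul_sum]
      refine Finset.sum_congr rfl fun k _ => ?_
      rw [map_smul, ← hb', ← algebraMap_smul (Localization.AtPrime p') (γ k), hγ' k, smul_assoc]
    rw [LocalizedModule.mkLinearMap_apply, ← LocalizedModule.zero_mk 1, LocalizedModule.mk_eq] at h1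
    obtain ⟨w', hw'⟩ := h1
    simp only [one_smul, smul_zero] at hw'
    obtain ⟨u, hu⟩ := Ideal.Quotient.mk_surjective ((w' : R ⧸ I) * (w : R ⧸ I))
    have hg : ∀ k : Fin n, ∃ g : R, mkS g = (w' : R ⧸ I) * γ k :=
      fun k => Ideal.Quotient.mk_surjective _
    choose g hg' using hg
    refine ⟨u, hnotmem u (by rw [hu]; exact (w' * w).2), g, ?_⟩
    have h2 : I.toCotangent (u • (⟨i, hi⟩ : I) - ∑ k, g k • x k) = 0 := by
      rw [map_sub, map_smul, map_sum]
      have h3 : ∀ k, I.toCotangent (g k • x k) = ((w' : R ⧸ I) * γ k) • m k := by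
        intro k
        rw [map_smul, hx, ← hg', hmkS, ← Ideal.Quotient.algebraMap_eq, algebraMap_smul]
      rw [Finset.sum_congr rfl fun k _ => h3 k]
      have h4 : u • I.toCotangent ⟨i, hi⟩ = ((w' : R ⧸ I) * (w : R ⧸ I)) • I.toCotangent ⟨i, hi⟩ := by
        rw [← hu, ← Ideal.Quotient.algebraMap_eq, algebraMap_smul]
      rw [h4]
      rw [Submonoid.smul_def, smul_sub, Finset.smul_sum, ← mul_smul] at hw'
      rw [← hw']
      congr 1
      refine Finset.sum_congr rfl fun k _ => ?_
      rw [mul_smul]
    rw [Ideal.toCotangent_eq_zero] at h2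
    simpa using h2
  · intro α hα k
    have h1 : ∑ k, mkS (α k) • m k = 0 := by
      have : I.toCotangent (∑ k, α k • x k) = 0 := by
        have h0 : (∑ k, α k • x k : I) = 0 := by
          apply Subtype.ext
          simpa using hα
        rw [h0, map_zero]
      rw [map_sum] at this
      rw [← this]
      refine Finset.sum_congr rfl fun k _ => ?_
      rw [map_smul, hx, hmkS, ← Ideal.Quotient.algebraMap_eq, algebraMap_smul]
    have h2 : ∑ k, algebraMap (R ⧸ I) (Localization.AtPrime p') (mkS (α k)) • b' k = 0 := by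
      have := congrArg (LocalizedModule.mkLinearMap p'.primeCompl I.Cotangent) h1
      rw [map_sum, map_zero] at this
      rw [← this]
      refine Finset.sum_congr rfl fun k _ => ?_
      rw [map_smul, hb', algebraMap_smul]
    have h3 := Fintype.linearIndependent_iff.mp b'.linearIndependent _ h2 k
    rw [IsLocalization.map_eq_zero_iff p'.primeCompl] at h3
    obtain ⟨w, hw⟩ := h3
    obtain ⟨u, hu⟩ := Ideal.Quotient.mk_surjective (w : R ⧸ I)
    refine ⟨u, hnotmem u (by rw [hu]; exact w.2), ?_⟩
    rw [← Ideal.Quotient.eq_zero_iff_mem, map_mul, hu]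
    exact hw

theorem isQB_localization [IsNoetherianRing R] (I p : Ideal R) [p.IsPrime] (hIp : I ≤ p) {n : ℕ}
    (x : Fin n → R) (hxI : ∀ k, x k ∈ I)
    (hA : ∀ i ∈ I, ∃ u ∉ p, ∃ g : Fin n → R, u * i - ∑ k, g k * x k ∈ I ^ 2)
    (hB : ∀ α : Fin n → R, ∑ k, α k * x k = 0 → ∀ k, ∃ u ∉ p, u * α k ∈ I) :
    IsQB (I.map (algebraMap R (Localization.AtPrime p)))
      (fun k => algebraMap R (Localization.AtPrime p) (x k)) := by
  set J := I.map (algebraMap R (Localization.AtPrime p)) with hJ
  have hJm : J ≤ maximalIdeal (Localization.AtPrime p) := by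
    rw [← IsLocalization.AtPrime.map_eq_maximalIdeal p (Localization.AtPrime p)]
    exact Ideal.map_mono hIp
  have hunit : ∀ u ∉ p, IsUnit (algebraMap R (Localization.AtPrime p) u) := fun u hu =>
    IsLocalization.map_units (Localization.AtPrime p) (⟨u, hu⟩ : p.primeCompl)
  refine ⟨le_antisymm ?_ ?_, ?_⟩
  · rw [Ideal.span_le]
    rintro _ ⟨k, rfl⟩
    exact Ideal.mem_map_of_mem _ (hxI k)
  · refine Submodule.le_of_le_smul_of_le_jacobson_bot (I := maximalIdeal (Localization.AtPrime p))
      (IsNoetherian.noetherian _) (maximalIdeal_le_jacobson ⊥) ?_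
    intro z hz
    obtain ⟨⟨⟨i, hi⟩, s⟩, hzs⟩ :=
      (IsLocalization.mem_map_algebraMap_iff p.primeCompl (Localization.AtPrime p)).mp hz
    simp only at hzs
    obtain ⟨u, hu, g, hg⟩ := hA i hi
    have he : algebraMap R (Localization.AtPrime p) (u * i - ∑ k, g k * x k) ∈
        maximalIdeal (Localization.AtPrime p) • J := by
      have h1 := Ideal.mem_map_of_mem (algebraMap R (Localization.AtPrime p)) hg
      rw [Ideal.map_pow, pow_two] at h1
      exact Ideal.mul_mono_left hJm h1
    have hkey : algebraMap R (Localization.AtPrime p) (u * s) * z ∈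
        Ideal.span (Set.range fun k => algebraMap R (Localization.AtPrime p) (x k)) ⊔
          maximalIdeal (Localization.AtPrime p) • J := by
      have h2 : algebraMap R (Localization.AtPrime p) (u * s) * z =
          ∑ k, algebraMap R (Localization.AtPrime p) (g k) *
            algebraMap R (Localization.AtPrime p) (x k) +
          algebraMap R (Localization.AtPrime p) (u * i - ∑ k, g k * x k) := by
        rw [map_mul, mul_assoc, mul_comm _ z, hzs, ← map_mul]
        simp only [map_sub, map_sum, map_mul]
        ring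
      rw [h2]
      refine Submodule.add_mem_sup (Ideal.sum_mem _ fun k _ => ?_) he
      exact Ideal.mul_mem_left _ _ (Ideal.subset_span ⟨k, rfl⟩)
    have hus : IsUnit (algebraMap R (Localization.AtPrime p) (u * s)) :=
      hunit _ (fun h => (Ideal.IsPrime.mem_or_mem inferInstance h).elim hu s.2)
    exact (Ideal.unit_mul_mem_iff_mem _ hus).mp hkey
  · intro a ha k
    obtain ⟨t, ht⟩ := IsLocalization.exist_integer_multiples p.primeCompl Finset.univ a
    have hα : ∀ k : Fin n, ∃ α : R, algebraMap R (Localization.AtPrime p) α = (t : R) • a k :=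
      fun k => ht k (Finset.mem_univ k)
    choose α hα' using hα
    have h1 : algebraMap R (Localization.AtPrime p) (∑ k, α k * x k) = 0 := by
      simp only [map_sum, map_mul, hα']
      have : ∀ k, (t : R) • a k * algebraMap R (Localization.AtPrime p) (x k) =
          (t : R) • (a k * algebraMap R (Localization.AtPrime p) (x k)) := fun k => by
        rw [smul_mul_assoc]
      rw [Finset.sum_congr rfl fun k _ => this k, ← Finset.smul_sum, ha, smul_zero]
    rw [IsLocalization.map_eq_zero_iff p.primeCompl] at h1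
    obtain ⟨v, hv⟩ := h1
    have h2 : ∑ k, ((v : R) * α k) * x k = 0 := by
      rw [← hv, Finset.mul_sum]
      exact Finset.sum_congr rfl fun k _ => mul_assoc _ _ _
    obtain ⟨u, hu, huI⟩ := hB _ h2 k
    have h3 := Ideal.mem_map_of_mem (algebraMap R (Localization.AtPrime p)) huI
    rw [map_mul, map_mul, hα', Algebra.smul_def, ← mul_assoc, ← mul_assoc] at h3
    have hunit3 : IsUnit (algebraMap R (Localization.AtPrime p) u *
        algebraMap R (Localization.AtPrime p) (v : R) *
        algebraMap R (Localization.AtPrime p) (t : R)) :=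
      ((hunit u hu).mul (hunit _ v.2)).mul (hunit _ t.2)
    exact (Ideal.unit_mul_mem_iff_mem _ hunit3).mp h3

end Vasc

end Groth.Agent.H29
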