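import Mathlib

set_option autoImplicit false

namespace Groth.Agent.H29

namespace Vasc

universe u

open RingTheory.Sequence Pointwise

/-- elementwise characterization of weakly regular sequences on the ring itself -/
theorem isWeaklyRegular_self_iff {B : Type u} [CommRing B] (bs : List B) :
    IsWeaklyRegular B bs ↔ ∀ i (h : i < bs.length), ∀ z : B,
      bs[i] * z ∈ Ideal.ofList (bs.take i) → z ∈ Ideal.ofList (bs.take i) := by
  rw [isWeaklyRegular_iff]
  refine forall_congr' fun i => forall_congr' fun h => ?_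
  rw [isSMulRegular_quotient_iff_mem_of_smul_mem]
  have : (Ideal.ofList (bs.take i) • ⊤ : Submodule B B) = Ideal.ofList (bs.take i) := by
    rw [smul_eq_mul, Ideal.mul_top]
  rw [this]
  rfl

variable {R : Type u} [CommRing R]

/-- clearing a finitely generated ideal by a single denominator -/
theorem exists_mul_mem_of_fg (p : Ideal R) [p.IsPrime] (C A : Ideal R) (hC : C.FG)
    (h : ∀ y ∈ C, ∃ s ∉ p, s * y ∈ A) : ∃ g ∉ p, ∀ y ∈ C, g * y ∈ A := by
  classical
  obtain ⟨t, rfl⟩ := hC
  have hch : ∀ y : R, ∃ s : R, y ∈ t → s ∉ p ∧ s * y ∈ A := by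
    intro y
    by_cases hy : y ∈ t
    · obtain ⟨s, hs, hsy⟩ := h y (Ideal.subset_span hy)
      exact ⟨s, fun _ => ⟨hs, hsy⟩⟩
    · exact ⟨0, fun h => absurd h hy⟩
  choose s hs using hch
  refine ⟨∏ y ∈ t, s y, ?_, ?_⟩
  · intro hmem
    obtain ⟨y, hy, hsy⟩ := (Ideal.IsPrime.prod_mem_iff).mp hmem
    exact (hs y hy).1 hsy
  · intro y hy
    refine Submodule.span_induction (p := fun y _ => (∏ y ∈ t, s y) * y ∈ A) ?_ ?_ ?_ ?_ hy
    · intro y hy
      rw [← Finset.mul_prod_erase t s hy, mul_assoc, mul_comm _ y, ← mul_assoc]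
      exact Ideal.mul_mem_right _ _ (hs y hy).2
    · simp
    · intro a b _ _ ha hb
      rw [mul_add]
      exact Ideal.add_mem _ ha hb
    · intro r a _ ha
      rw [smul_eq_mul, mul_left_comm]
      exact Ideal.mul_mem_left _ _ ha

/-- a regularity condition at `R_p` spreads to `R_g` for all `g` divisible by a fixed `h₀ ∉ p` -/
theorem spread_regular [IsNoetherianRing R] (p : Ideal R) [p.IsPrime] (A : Ideal R) (a : R)
    (h : ∀ z : Localization.AtPrime p,
      algebraMap R (Localization.AtPrime p) a * z ∈ A.map (algebraMap R (Localization.AtPrime p)) →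
      z ∈ A.map (algebraMap R (Localization.AtPrime p))) :
    ∃ h₀ ∉ p, ∀ g : R, h₀ ∣ g → ∀ z : Localization.Away g,
      algebraMap R (Localization.Away g) a * z ∈ A.map (algebraMap R (Localization.Away g)) →
      z ∈ A.map (algebraMap R (Localization.Away g)) := by
  let C : Ideal R := Submodule.comap (LinearMap.mulLeft R a) A
  have hCmem : ∀ y, y ∈ C ↔ a * y ∈ A := fun y => Iff.rfl
  have hC : ∀ y ∈ C, ∃ s ∉ p, s * y ∈ A := by
    intro y hy
    have h1 : algebraMap R (Localization.AtPrime p) a * algebraMap R (Localization.AtPrime p) y ∈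
        A.map (algebraMap R (Localization.AtPrime p)) := by
      rw [← map_mul]
      exact Ideal.mem_map_of_mem _ ((hCmem y).mp hy)
    have h2 := h _ h1
    rw [IsLocalization.algebraMap_mem_map_algebraMap_iff p.primeCompl] at h2
    obtain ⟨m, hm, hmy⟩ := h2
    exact ⟨m, hm, hmy⟩
  obtain ⟨h₀, hh₀, hh₀C⟩ := exists_mul_mem_of_fg p C A (IsNoetherian.noetherian C) hC
  refine ⟨h₀, hh₀, fun g hg z hz => ?_⟩
  have hgunit : IsUnit (algebraMap R (Localization.Away g) g) :=
    IsLocalization.Away.algebraMap_isUnit g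
  have hh₀unit : IsUnit (algebraMap R (Localization.Away g) h₀) :=
    isUnit_of_dvd_unit (map_dvd _ hg) hgunit
  obtain ⟨⟨y, ⟨_, k, rfl⟩⟩, hzy⟩ := IsLocalization.surj (Submonoid.powers g) z
  simp only at hzy
  have h1 : algebraMap R (Localization.Away g) (a * y) ∈
      A.map (algebraMap R (Localization.Away g)) := by
    rw [map_mul, ← hzy, ← mul_assoc]
    exact Ideal.mul_mem_right _ _ hz
  rw [IsLocalization.algebraMap_mem_map_algebraMap_iff (Submonoid.powers g)] at h1
  obtain ⟨_, ⟨l, rfl⟩, hl⟩ := h1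
  have h2 : g ^ l * y ∈ C := by
    rw [hCmem]
    have : a * (g ^ l * y) = g ^ l * (a * y) := by ring
    rw [this]
    exact hl
  have h3 := Ideal.mem_map_of_mem (algebraMap R (Localization.Away g)) (hh₀C _ h2)
  rw [map_mul, map_mul, ← mul_assoc] at h3
  have hu : IsUnit (algebraMap R (Localization.Away g) h₀ *
      algebraMap R (Localization.Away g) (g ^ l)) := by
    rw [map_pow]
    exact hh₀unit.mul (hgunit.pow l)
  have h4 := (Ideal.unit_mul_mem_iff_mem _ hu).mp h3
  rw [← hzy, map_pow] at h4
  exact (Ideal.mul_unit_mem_iff_mem _ (hgunit.pow k)).mp h4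

theorem spread_list [IsNoetherianRing R] (p : Ideal R) [p.IsPrime] (as : List R)
    (h : IsWeaklyRegular (Localization.AtPrime p)
      (as.map (algebraMap R (Localization.AtPrime p)))) :
    ∃ h₀ ∉ p, ∀ g : R, h₀ ∣ g →
      IsWeaklyRegular (Localization.Away g) (as.map (algebraMap R (Localization.Away g))) := by
  classical
  rw [isWeaklyRegular_self_iff] at h
  have hex : ∀ i : Fin as.length, ∃ h₀ ∉ p, ∀ g : R, h₀ ∣ g → ∀ z : Localization.Away g,
      algebraMap R (Localization.Away g) (as[i]) * z ∈
        (Ideal.ofList (as.take i)).map (algebraMap R (Localization.Away g)) →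
      z ∈ (Ideal.ofList (as.take i)).map (algebraMap R (Localization.Away g)) := by
    intro i
    apply spread_regular p (Ideal.ofList (as.take i)) (as[i])
    intro z hz
    have hi : (i : ℕ) < (as.map (algebraMap R (Localization.AtPrime p))).length := by
      rw [List.length_map]; exact i.2
    have := h i hi z
    rw [List.getElem_map, ← List.map_take, ← Ideal.map_ofList] at this
    exact this hz
  choose hh hhp hhspec using hex
  refine ⟨∏ i, hh i, ?_, fun g hg => ?_⟩
  · intro hmem
    obtain ⟨i, -, hi⟩ := (Ideal.IsPrime.prod_mem_iff).mp hmem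
    exact hhp i hi
  · rw [isWeaklyRegular_self_iff]
    intro i hi z hz
    have hi' : i < as.length := by rw [List.length_map] at hi; exact hi
    rw [List.getElem_map, ← List.map_take, ← Ideal.map_ofList] at hz
    rw [← List.map_take, ← Ideal.map_ofList]
    exact hhspec ⟨i, hi'⟩ g ((Finset.dvd_prod_of_mem hh (Finset.mem_univ _)).trans hg) z hz

end Vasc

end Groth.Agent.H29
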