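import Mathlib
import Groth.Agent.H29.Vasc5
import Groth.Agent.H29.Vasc6
import Groth.Agent.H9.RegUnits

set_option autoImplicit false

namespace Groth.Agent.H29

namespace Vasc

universe u

open CategoryTheory IsLocalRing RingTheory.Sequence Pointwise

variable {R : Type u} [CommRing R]

theorem ofList_eq_of_forall₂_units {B : Type u} [CommRing B] {rs rs' : List B}
    (h : List.Forall₂ (fun r r' => ∃ u : Bˣ, r' = (u : B) * r) rs rs') :
    Ideal.ofList rs' = Ideal.ofList rs := by
  induction h with
  | nil => rfl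
  | @cons r r' l l' hrr' _ ih =>
    obtain ⟨u, rfl⟩ := hrr'
    rw [Ideal.ofList_cons, Ideal.ofList_cons, ih, Ideal.span_singleton_mul_left_unit u.isUnit]

/-- replace a list in `I R_p` by unit multiples coming from `I` -/
theorem lift_list (p : Ideal R) [p.IsPrime] (I : Ideal R) :
    ∀ rs : List (Localization.AtPrime p),
      (∀ r ∈ rs, r ∈ I.map (algebraMap R (Localization.AtPrime p))) →
      ∃ as : List R, (∀ a ∈ as, a ∈ I) ∧
        List.Forall₂ (fun r r' => ∃ u : (Localization.AtPrime p)ˣ, r' = (u : Localization.AtPrime p) * r)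
          rs (as.map (algebraMap R (Localization.AtPrime p))) := by
  intro rs
  induction rs with
  | nil => intro _; exact ⟨[], by simp, by simp⟩
  | cons r rs ih =>
    intro h
    obtain ⟨as, has, hfa⟩ := ih fun r' hr' => h r' (List.mem_cons_of_mem _ hr')
    obtain ⟨⟨⟨i, hi⟩, s⟩, hrs⟩ :=
      (IsLocalization.mem_map_algebraMap_iff p.primeCompl (Localization.AtPrime p)).mp
        (h r List.mem_cons_self)
    simp only at hrs
    refine ⟨i :: as, ?_, ?_⟩
    · intro a ha
      rcases List.mem_cons.mp ha with rfl | ha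
      · exact hi
      · exact has a ha
    · rw [List.map_cons]
      refine List.Forall₂.cons ?_ hfa
      refine ⟨(IsLocalization.map_units (Localization.AtPrime p) s).unit, ?_⟩
      rw [IsUnit.unit_spec, ← hrs, mul_comm]

/-- **Vasconcelos**: an ideal of finite projective dimension with projective conormal module is
locally generated by a regular sequence -/
theorem main [IsNoetherianRing R] (I : Ideal R) (n : ℕ)
    (hpd : HasProjectiveDimensionLT (ModuleCat.of R I) n)
    [Module.Projective (R ⧸ I) I.Cotangent] (p : Ideal R) [p.IsPrime] (hIp : I ≤ p) :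
    ∃ g : R, g ∉ p ∧ ∃ rs : List (Localization.Away g),
      RingTheory.Sequence.IsRegular (Localization.Away g) rs ∧
        Ideal.ofList rs = I.map (algebraMap R (Localization.Away g)) := by
  have hpd' : HasProjectiveDimensionLT (ModuleCat.of R I) (n + 1) :=
    hasProjectiveDimensionLT_of_ge _ n (n + 1) (by omega)
  obtain ⟨m, x, hxI, hA, hB⟩ := exists_local_basis I p hIp
  have hqb := isQB_localization I p hIp x hxI hA hB
  set J := I.map (algebraMap R (Localization.AtPrime p)) with hJ
  have hJm : J ≤ maximalIdeal (Localization.AtPrime p) := by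
    rw [← IsLocalization.AtPrime.map_eq_maximalIdeal p (Localization.AtPrime p)]
    exact Ideal.map_mono hIp
  have hJtop : J ≠ ⊤ := fun h => (maximalIdeal.isMaximal _).ne_top (top_le_iff.mp (h ▸ hJm))
  have hpdJ := pd_map_localization p I n hpd'
  obtain ⟨rs, hrs, hof⟩ := local_main m (Localization.AtPrime p) J hJtop n hpdJ (Fin m) (by simp) _
    hqb
  have hrsJ : ∀ r ∈ rs, r ∈ J := by
    intro r hr
    rw [← hof]
    exact Ideal.subset_span hr
  obtain ⟨as, has, hfa⟩ := lift_list p I rs hrsJ
  have hreg_p : IsWeaklyRegular (Localization.AtPrime p)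
      (as.map (algebraMap R (Localization.AtPrime p))) :=
    Groth.Agent.H9.isWeaklyRegular_of_forall₂_units hfa (Localization.AtPrime p) hrs
  have hof_p : (Ideal.ofList as).map (algebraMap R (Localization.AtPrime p)) = J := by
    rw [Ideal.map_ofList, ofList_eq_of_forall₂_units hfa, hof]
  obtain ⟨h₀, hh₀, hspread⟩ := spread_list p as hreg_p
  have hasI : Ideal.ofList as ≤ I := by
    rw [Ideal.span_le]
    exact fun a ha => has a ha
  have hgen : ∀ i ∈ I, ∃ s ∉ p, s * i ∈ Ideal.ofList as := by
    intro i hi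
    have h1 : algebraMap R (Localization.AtPrime p) i ∈
        (Ideal.ofList as).map (algebraMap R (Localization.AtPrime p)) := by
      rw [hof_p]
      exact Ideal.mem_map_of_mem _ hi
    rw [IsLocalization.algebraMap_mem_map_algebraMap_iff p.primeCompl] at h1
    obtain ⟨s, hs, hsi⟩ := h1
    exact ⟨s, hs, hsi⟩
  obtain ⟨g₁, hg₁, hg₁I⟩ := exists_mul_mem_of_fg p I (Ideal.ofList as) (IsNoetherian.noetherian I)
    hgen
  have hgp : h₀ * g₁ ∉ p := fun h => (Ideal.IsPrime.mem_or_mem inferInstance h).elim hh₀ hg₁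
  have hgunit : IsUnit (algebraMap R (Localization.Away (h₀ * g₁)) (h₀ * g₁)) :=
    IsLocalization.Away.algebraMap_isUnit _
  have hg₁unit : IsUnit (algebraMap R (Localization.Away (h₀ * g₁)) g₁) :=
    isUnit_of_dvd_unit (map_dvd _ (dvd_mul_left _ _)) hgunit
  have hofg : Ideal.ofList (as.map (algebraMap R (Localization.Away (h₀ * g₁)))) =
      I.map (algebraMap R (Localization.Away (h₀ * g₁))) := by
    rw [← Ideal.map_ofList]
    refine le_antisymm (Ideal.map_mono hasI) ?_
    rw [Ideal.map_le_iff_le_comap]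
    intro i hi
    rw [Ideal.mem_comap]
    have h1 := Ideal.mem_map_of_mem (algebraMap R (Localization.Away (h₀ * g₁))) (hg₁I i hi)
    rw [map_mul] at h1
    exact (Ideal.unit_mul_mem_iff_mem _ hg₁unit).mp h1
  refine ⟨h₀ * g₁, hgp, as.map (algebraMap R (Localization.Away (h₀ * g₁))), ?_, hofg⟩
  refine ⟨hspread _ (dvd_mul_right _ _), ?_⟩
  rw [smul_eq_mul, Ideal.mul_top, hofg]
  intro htop
  have h2 := (IsLocalization.map_algebraMap_ne_top_iff_disjoint (Submonoid.powers (h₀ * g₁))
    (Localization.Away (h₀ * g₁)) I).mpr ?_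
  · exact h2 htop.symm
  · rw [Set.disjoint_left]
    rintro _ ⟨k, rfl⟩ hk
    exact hgp (Ideal.IsPrime.mem_of_pow_mem inferInstance k (hIp hk))

end Vasc

end Groth.Agent.H29
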