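import Mathlib
import Groth.Agent.H29.Vasc3

/-!
# Vasconcelos: free summands of the conormal module (helper29)

Generalisation of `Vasc.pd_quotient` / `Vasc.local_main` from a basis of `I/I²` to a partial
basis with dual functionals `φ i : I →ₗ[R] R ⧸ I`.
-/

set_option autoImplicit false

namespace Groth.Agent.H29

namespace Vasc

universe u

open CategoryTheory IsLocalRing RingTheory.Sequence Pointwise

variable {R : Type u} [CommRing R]

/-- `I/xR` is a direct summand of `I/xI` as soon as there is a functional `φ : I → R/I` with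
`φ x = 1`; hence it has finite projective dimension over `R/xR`. -/
theorem pd_quotient' [IsNoetherianRing R] {I : Ideal R} (x : R) (hxI : x ∈ I)
    (φ : I →ₗ[R] R ⧸ I) (hφ : φ ⟨x, hxI⟩ = 1) (hreg : IsSMulRegular R x) (n : ℕ)
    (hpd : HasProjectiveDimensionLT (ModuleCat.of R I) (n + 1)) :
    HasProjectiveDimensionLT (ModuleCat.of (R ⧸ Ideal.span {x})
      (I.map (Ideal.Quotient.mk (Ideal.span {x})))) (n + 1) := by
  have hregI : IsSMulRegular I x := fun a b hab =>
    Subtype.ext (hreg (by simpa using congrArg Subtype.val hab))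
  have hQ := Groth.Agent.Lead.PdQuot.hasProjectiveDimensionLT_quotSMulTop x hreg n I hregI hpd
  set I' := I.map (Ideal.Quotient.mk (Ideal.span {x})) with hI'
  let ρ : I →ₗ[R] I' :=
    { toFun := fun i => ⟨Ideal.Quotient.mk _ i.1, Ideal.mem_map_of_mem _ i.2⟩
      map_add' := fun a b => Subtype.ext (by simp)
      map_smul' := fun r a => Subtype.ext (by simp [Algebra.smul_def]) }
  have hρ_apply : ∀ i : I, ((ρ i : I') : R ⧸ Ideal.span {x}) = Ideal.Quotient.mk _ i.1 :=
    fun i => rfl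
  have hρsurj : Function.Surjective ρ := by
    rintro ⟨z, hz⟩
    obtain ⟨i, hi, rfl⟩ := (Ideal.mem_map_iff_of_surjective _ Ideal.Quotient.mk_surjective).mp hz
    exact ⟨⟨i, hi⟩, rfl⟩
  have hρx : ρ ⟨x, hxI⟩ = 0 :=
    Subtype.ext (Ideal.Quotient.eq_zero_iff_mem.mpr (Ideal.mem_span_singleton_self _))
  let xbar : QuotSMulTop x I := Submodule.Quotient.mk ⟨x, hxI⟩
  have hle : (x • ⊤ : Submodule R I) ≤ LinearMap.ker ρ := by
    intro i hi
    obtain ⟨i', -, rfl⟩ := (Submodule.mem_smul_pointwise_iff_exists _ _ _).mp hi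
    rw [LinearMap.mem_ker, map_smul]
    apply Subtype.ext
    change x • ((ρ i' : I') : R ⧸ Ideal.span {x}) = 0
    rw [Algebra.smul_def]
    have : algebraMap R (R ⧸ Ideal.span {x}) x = 0 :=
      Ideal.Quotient.eq_zero_iff_mem.mpr (Ideal.mem_span_singleton_self _)
    rw [this, zero_mul]
  let π : QuotSMulTop x I →ₗ[R] I' := (x • ⊤ : Submodule R I).liftQ ρ hle
  have hIx : ∀ r ∈ I, r • xbar = 0 := by
    intro r hr
    change r • Submodule.Quotient.mk (⟨x, hxI⟩ : I) = 0
    rw [← Submodule.Quotient.mk_smul, Submodule.Quotient.mk_eq_zero]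
    refine (Submodule.mem_smul_pointwise_iff_exists _ _ _).mpr ⟨⟨r, hr⟩, trivial, ?_⟩
    apply Subtype.ext
    simp [mul_comm]
  -- the map `R/I → I/xI`, `1 ↦ x̄`
  let θ : (R ⧸ I) →ₗ[R] QuotSMulTop x I :=
    Submodule.liftQ I (LinearMap.toSpanSingleton R _ xbar) (by
      intro r hr
      rw [LinearMap.mem_ker, LinearMap.toSpanSingleton_apply]
      exact hIx r hr)
  have hθ1 : θ 1 = xbar := by
    change θ (Submodule.Quotient.mk 1) = xbar
    simp only [θ, Submodule.liftQ_apply, LinearMap.toSpanSingleton_apply, one_smul]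
  let ψ : I →ₗ[R] QuotSMulTop x I := θ ∘ₗ φ
  have hψx : ψ ⟨x, hxI⟩ = xbar := by
    change θ (φ ⟨x, hxI⟩) = xbar
    rw [hφ, hθ1]
  let τ : I →ₗ[R] QuotSMulTop x I := (x • ⊤ : Submodule R I).mkQ - ψ
  have hτx : τ ⟨x, hxI⟩ = 0 := by
    change Submodule.Quotient.mk (⟨x, hxI⟩ : I) - ψ ⟨x, hxI⟩ = 0
    rw [hψx]
    exact sub_self _
  have hkerρ : LinearMap.ker ρ ≤ LinearMap.ker τ := by
    intro i hi
    rw [LinearMap.mem_ker] at hi ⊢
    have h1 : (i : R) ∈ Ideal.span {x} := by
      rw [← Ideal.Quotient.eq_zero_iff_mem, ← hρ_apply, hi]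
      rfl
    obtain ⟨r, hr⟩ := Ideal.mem_span_singleton'.mp h1
    have h2 : i = r • (⟨x, hxI⟩ : I) := Subtype.ext (by simpa using hr.symm)
    rw [h2, map_smul, hτx, smul_zero]
  let σ : I' →ₗ[R] QuotSMulTop x I :=
    ((LinearMap.ker ρ).liftQ τ hkerρ) ∘ₗ (ρ.quotKerEquivOfSurjective hρsurj).symm.toLinearMap
  have hσ : ∀ i : I, σ (ρ i) = τ i := by
    intro i
    have : (ρ.quotKerEquivOfSurjective hρsurj).symm (ρ i) = Submodule.Quotient.mk i := by
      rw [LinearEquiv.symm_apply_eq]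
      rfl
    simp only [σ, LinearMap.comp_apply, LinearEquiv.coe_coe, this]
    rfl
  have hπψ : ∀ i : I, π (ψ i) = 0 := by
    intro i
    change π (θ (φ i)) = 0
    obtain ⟨r, hr⟩ := Ideal.Quotient.mk_surjective (φ i)
    have h1 : φ i = r • (1 : R ⧸ I) := by
      rw [← hr, Algebra.smul_def, mul_one]
      rfl
    rw [h1, map_smul, map_smul, hθ1]
    have h2 : π xbar = 0 := hρx
    rw [h2, smul_zero]
  have hπσ : ∀ z : I', π (σ z) = z := by
    intro z
    obtain ⟨i, rfl⟩ := hρsurj z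
    rw [hσ]
    change π (Submodule.Quotient.mk i - ψ i) = ρ i
    rw [map_sub, hπψ, sub_zero]
    rfl
  let σ' : I' →ₗ[R ⧸ Ideal.span {x}] QuotSMulTop x I :=
    σ.extendScalarsOfSurjective Ideal.Quotient.mk_surjective
  let π' : QuotSMulTop x I →ₗ[R ⧸ Ideal.span {x}] I' :=
    π.extendScalarsOfSurjective Ideal.Quotient.mk_surjective
  have hretract : Retract (ModuleCat.of (R ⧸ Ideal.span {x}) I')
      (ModuleCat.of (R ⧸ Ideal.span {x}) (QuotSMulTop x I)) :=
    { i := ModuleCat.ofHom σ'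
      r := ModuleCat.ofHom π'
      retract := by
        apply ModuleCat.hom_ext
        apply LinearMap.ext
        intro z
        exact hπσ z }
  exact hretract.hasProjectiveDimensionLT (n + 1)

/-- prime avoidance: a nonzerodivisor in `A` outside `J₁` -/
theorem exists_regular_mem_notMem [IsNoetherianRing R]
    (A J₁ : Ideal R) (hAJ : ¬ A ≤ J₁) (hass : ∀ p ∈ associatedPrimes R R, ¬ A ≤ p) :
    ∃ x₀ ∈ A, x₀ ∉ J₁ ∧ IsSMulRegular R x₀ := by
  classical
  by_contra hcon
  push Not at hcon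
  have hfin : (associatedPrimes R R).Finite := associatedPrimes.finite R R
  have hsub : (A : Set R) ⊆
      ⋃ q ∈ ((insert J₁ hfin.toFinset : Finset (Ideal R)) : Set (Ideal R)),
        ((id q : Ideal R) : Set R) := by
    intro r hr
    by_cases h2 : r ∈ J₁
    · simp only [Finset.coe_insert, Set.Finite.coe_toFinset, Set.mem_insert_iff, id_eq,
        Set.iUnion_iUnion_eq_or_left, Set.mem_union, SetLike.mem_coe, Set.mem_iUnion, exists_prop]
      exact Or.inl h2
    · have h3 := hcon r hr h2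
      have h4 : r ∈ ⋃ p ∈ associatedPrimes R R, (p : Set R) := by
        rw [biUnion_associatedPrimes_eq_compl_regular]
        exact h3
      simp only [Set.mem_iUnion, SetLike.mem_coe, exists_prop] at h4
      obtain ⟨p, hp, hrp⟩ := h4
      simp only [Finset.coe_insert, Set.Finite.coe_toFinset, Set.mem_insert_iff, id_eq,
        Set.iUnion_iUnion_eq_or_left, Set.mem_union, SetLike.mem_coe, Set.mem_iUnion, exists_prop]
      exact Or.inr ⟨p, hp, hrp⟩
  rw [Ideal.subset_union_prime (f := id) J₁ J₁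
    (fun q hq hq1 _ => by
      have : q ∈ associatedPrimes R R := by
        rcases Finset.mem_insert.mp hq with h | h
        · exact absurd h hq1
        · simpa using h
      exact this.isPrime)] at hsub
  obtain ⟨q, hq, hIq⟩ := hsub
  rcases Finset.mem_insert.mp hq with h | h
  · rw [h] at hIq
    exact hAJ hIq
  · have hq' : q ∈ associatedPrimes R R := by simpa using h
    exact hass q hq' hIq

/-- a functional `I → R/I` kills `I²` -/
theorem functional_eq_zero_of_mem_sq {I : Ideal R} (ψ : I →ₗ[R] R ⧸ I) (w : I)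
    (hw : (w : R) ∈ I ^ 2) : ψ w = 0 := by
  have hw' : w ∈ (I • ⊤ : Submodule R I) := by
    have := (Ideal.toCotangent_eq_zero I w).mpr hw
    rwa [← Submodule.Quotient.mk_eq_zero]
  refine Submodule.smul_induction_on hw' (fun a ha y _ => ?_) (fun a b ha hb => ?_)
  · rw [map_smul, Algebra.smul_def, Ideal.Quotient.algebraMap_eq,
      Ideal.Quotient.eq_zero_iff_mem.mpr ha, zero_mul]
  · rw [map_add, ha, hb, add_zero]

/-- descent of a functional vanishing at `x₀` to `R/x₀` -/
theorem descend_functional {I : Ideal R} (x₀ : R) (hx₀ : x₀ ∈ I) (ψ : I →ₗ[R] R ⧸ I)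
    (hψ : ψ ⟨x₀, hx₀⟩ = 0) :
    ∃ ψ' : (I.map (Ideal.Quotient.mk (Ideal.span {x₀}))) →ₗ[R ⧸ Ideal.span {x₀}]
        ((R ⧸ Ideal.span {x₀}) ⧸ I.map (Ideal.Quotient.mk (Ideal.span {x₀}))),
      ∀ (a : R) (ha : a ∈ I), ψ' ⟨Ideal.Quotient.mk (Ideal.span {x₀}) a, Ideal.mem_map_of_mem _ ha⟩ =
        Ideal.quotientMap (I.map (Ideal.Quotient.mk (Ideal.span {x₀})))
          (Ideal.Quotient.mk (Ideal.span {x₀})) Ideal.le_comap_map (ψ ⟨a, ha⟩) := by
  set I' := I.map (Ideal.Quotient.mk (Ideal.span {x₀})) with hI'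
  let ρ : I →ₗ[R] I' :=
    { toFun := fun i => ⟨Ideal.Quotient.mk _ i.1, Ideal.mem_map_of_mem _ i.2⟩
      map_add' := fun a b => Subtype.ext (by simp)
      map_smul' := fun r a => Subtype.ext (by simp [Algebra.smul_def]) }
  have hρ_apply : ∀ i : I, ((ρ i : I') : R ⧸ Ideal.span {x₀}) = Ideal.Quotient.mk _ i.1 :=
    fun i => rfl
  have hρsurj : Function.Surjective ρ := by
    rintro ⟨z, hz⟩
    obtain ⟨i, hi, rfl⟩ := (Ideal.mem_map_iff_of_surjective _ Ideal.Quotient.mk_surjective).mp hz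
    exact ⟨⟨i, hi⟩, rfl⟩
  have hkerρ : LinearMap.ker ρ ≤ LinearMap.ker ψ := by
    intro i hi
    rw [LinearMap.mem_ker] at hi ⊢
    have h1 : (i : R) ∈ Ideal.span {x₀} := by
      rw [← Ideal.Quotient.eq_zero_iff_mem, ← hρ_apply, hi]
      rfl
    obtain ⟨r, hr⟩ := Ideal.mem_span_singleton'.mp h1
    have h2 : i = r • (⟨x₀, hx₀⟩ : I) := Subtype.ext (by simpa using hr.symm)
    rw [h2, map_smul, hψ, smul_zero]
  let q : (R ⧸ I) →ₗ[R] ((R ⧸ Ideal.span {x₀}) ⧸ I') :=
    (Ideal.quotientMapₐ I' (Ideal.Quotient.mkₐ R (Ideal.span {x₀})) Ideal.le_comap_map).toLinearMap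
  have hq : ∀ z, q z = Ideal.quotientMap I' (Ideal.Quotient.mk (Ideal.span {x₀}))
      Ideal.le_comap_map z := fun z => rfl
  let σ : I' →ₗ[R] ((R ⧸ Ideal.span {x₀}) ⧸ I') :=
    q ∘ₗ ((LinearMap.ker ρ).liftQ ψ hkerρ) ∘ₗ
      (ρ.quotKerEquivOfSurjective hρsurj).symm.toLinearMap
  have hσ : ∀ i : I, σ (ρ i) = q (ψ i) := by
    intro i
    have : (ρ.quotKerEquivOfSurjective hρsurj).symm (ρ i) = Submodule.Quotient.mk i := by
      rw [LinearEquiv.symm_apply_eq]
      rfl
    simp only [σ, LinearMap.comp_apply, LinearEquiv.coe_coe, this]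
    rfl
  refine ⟨σ.extendScalarsOfSurjective Ideal.Quotient.mk_surjective, ?_⟩
  intro a ha
  rw [← hq]
  exact hσ ⟨a, ha⟩

/-- Vasconcelos for a partial basis with dual functionals, local case -/
theorem local_main' : ∀ (n : ℕ) (R : Type u) [CommRing R] [IsLocalRing R] [IsNoetherianRing R]
    (I : Ideal R), I ≠ ⊤ → ∀ (k : ℕ), HasProjectiveDimensionLT (ModuleCat.of R I) (k + 1) →
    ∀ (ι : Type) [Fintype ι] [DecidableEq ι], Fintype.card ι = n → ∀ (x : ι → R)
    (hx : ∀ i, x i ∈ I) (φ : ι → (I →ₗ[R] R ⧸ I)),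
    (∀ i j, φ i ⟨x j, hx j⟩ = if i = j then 1 else 0) →
    ∃ rs : List R, IsWeaklyRegular R rs ∧ rs.length = n ∧ Ideal.ofList rs ≤ I ∧
      Ideal.ofList rs ⊔ I ^ 2 = Ideal.span (Set.range x) ⊔ I ^ 2 := by
  intro n
  induction n with
  | zero =>
    intro R _ _ _ I hI k hpd ι _ _ hcard x hx φ hφ
    have : IsEmpty ι := Fintype.card_eq_zero_iff.mp hcard
    refine ⟨[], IsWeaklyRegular.nil _ _, rfl, ?_, ?_⟩
    · rw [Ideal.ofList_nil]; exact bot_le
    · rw [Ideal.ofList_nil]
      simp [Set.range_eq_empty]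
  | succ n ih =>
    intro R _ _ _ I hI k hpd ι _ _ hcard x hx φ hφ
    have hne : Nonempty ι := Fintype.card_pos_iff.mp (by omega)
    obtain ⟨j₀⟩ := hne
    have hnt : Nontrivial (R ⧸ I) := Ideal.Quotient.nontrivial_iff.mpr hI
    have hloc : IsLocalRing (R ⧸ I) :=
      IsLocalRing.of_surjective' (Ideal.Quotient.mk I) Ideal.Quotient.mk_surjective
    have hIm : I ≤ maximalIdeal R := IsLocalRing.le_maximalIdeal hI
    have hI0 : I ≠ ⊥ := by
      intro h0
      have h1 := hφ j₀ j₀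
      rw [if_pos rfl] at h1
      have h2 : (⟨x j₀, hx j₀⟩ : I) = 0 := Subtype.ext (by
        have := hx j₀
        rw [h0] at this
        simpa using this)
      rw [h2, map_zero] at h1
      exact zero_ne_one h1
    have hass := fun p hp => not_le_of_mem_associatedPrimes I hI0 k hpd p hp
    set A : Ideal R := Ideal.span (Set.range x) ⊔ I ^ 2 with hA
    have hAI : A ≤ I := sup_le (Ideal.span_le.mpr (by rintro _ ⟨i, rfl⟩; exact hx i))
      (Ideal.pow_le_self two_ne_zero)
    have hI2A : I ^ 2 ≤ A := le_sup_right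
    have hxA : ∀ i, x i ∈ A := fun i => le_sup_left (α := Ideal R) (Ideal.subset_span ⟨i, rfl⟩)
    let J₁ : Ideal R := Submodule.map I.subtype
      (Submodule.comap (φ j₀) ((maximalIdeal (R ⧸ I)).restrictScalars R))
    have hAJ : ¬ A ≤ J₁ := by
      intro hle
      obtain ⟨y, hy, hyx⟩ := hle (hxA j₀)
      have hy' : y = ⟨x j₀, hx j₀⟩ := Subtype.ext hyx
      rw [hy'] at hy
      have h1 : φ j₀ ⟨x j₀, hx j₀⟩ ∈ maximalIdeal (R ⧸ I) := hy
      rw [hφ j₀ j₀, if_pos rfl] at h1
      exact (Ideal.ne_top_iff_one _).mp (maximalIdeal.isMaximal _).ne_top h1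
    have hassA : ∀ p ∈ associatedPrimes R R, ¬ A ≤ p := by
      intro p hp hAp
      have hpprime : p.IsPrime := (AssociatedPrimes.mem_iff.mp hp).isPrime
      exact hass p hp (hpprime.le_of_pow_le (hI2A.trans hAp))
    obtain ⟨x₀, hx₀A, hx₀J, hx₀reg⟩ := exists_regular_mem_notMem A J₁ hAJ hassA
    have hx₀I : x₀ ∈ I := hAI hx₀A
    have hu : IsUnit (φ j₀ ⟨x₀, hx₀I⟩) := by
      rw [← IsLocalRing.notMem_maximalIdeal]
      intro hmem
      exact hx₀J ⟨⟨x₀, hx₀I⟩, hmem, rfl⟩
    -- decomposition of `x₀`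
    obtain ⟨y, hy, z, hz, hyz⟩ := Submodule.mem_sup.mp hx₀A
    obtain ⟨a, ha⟩ := Ideal.mem_span_range_iff_exists_fun.mp hy
    have hzI : z ∈ I := Ideal.pow_le_self two_ne_zero hz
    have hx₀eq : (⟨x₀, hx₀I⟩ : I) = ∑ i, a i • (⟨x i, hx i⟩ : I) + ⟨z, hzI⟩ := by
      apply Subtype.ext
      rw [Submodule.coe_add, Submodule.coe_sum]
      simp only [Submodule.coe_smul, smul_eq_mul]
      rw [ha, hyz]
    have hφx₀ : ∀ i, φ i ⟨x₀, hx₀I⟩ = Ideal.Quotient.mk I (a i) := by
      intro i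
      rw [hx₀eq, map_add, functional_eq_zero_of_mem_sq (φ i) ⟨z, hzI⟩ hz, add_zero, map_sum]
      simp only [map_smul, hφ]
      rw [Finset.sum_eq_single i]
      · rw [if_pos rfl, Algebra.smul_def, mul_one]; rfl
      · intro b _ hb
        rw [if_neg (Ne.symm hb), smul_zero]
      · intro h; exact absurd (Finset.mem_univ i) h
    have haj : IsUnit (a j₀) := by
      rw [← IsLocalRing.notMem_maximalIdeal]
      intro hmem
      rw [hφx₀ j₀] at hu
      obtain ⟨b, hb⟩ := Ideal.Quotient.mk_surjective (↑hu.unit⁻¹ : R ⧸ I)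
      have h1 : Ideal.Quotient.mk I (a j₀ * b - 1) = 0 := by
        rw [map_sub, map_mul, hb, map_one, IsUnit.mul_val_inv, sub_self]
      rw [Ideal.Quotient.eq_zero_iff_mem] at h1
      have h2 : a j₀ * b - 1 ∈ maximalIdeal R := hIm h1
      have h3 : (1 : R) ∈ maximalIdeal R := by
        have := Ideal.sub_mem _ (Ideal.mul_mem_right b _ hmem) h2
        simp at this
      exact (Ideal.ne_top_iff_one _).mp (maximalIdeal.isMaximal R).ne_top h3
    -- replace `x j₀` by `x₀`
    set v : R := ↑haj.unit⁻¹ with hv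
    have hva : v * a j₀ = 1 := IsUnit.val_inv_mul haj
    set x' : ι → R := Function.update x j₀ x₀ with hx'def
    have hx'j : x' j₀ = x₀ := Function.update_self ..
    have hx'ne : ∀ k, k ≠ j₀ → x' k = x k := fun k hk => Function.update_of_ne hk ..
    have hx' : ∀ i, x' i ∈ I := by
      intro i
      by_cases hi : i = j₀
      · rw [hi, hx'j]; exact hx₀I
      · rw [hx'ne i hi]; exact hx i
    let φ' : ι → (I →ₗ[R] R ⧸ I) := fun i =>
      if i = j₀ then v • φ j₀ else φ i - (a i * v) • φ j₀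
    have hsmul : ∀ (r : R) (b : R), r • (Ideal.Quotient.mk I b) = Ideal.Quotient.mk I (r * b) := by
      intro r b
      rw [Algebra.smul_def, map_mul]; rfl
    have hφ'x₀ : ∀ i, φ' i ⟨x₀, hx₀I⟩ = if i = j₀ then 1 else 0 := by
      intro i
      by_cases hi : i = j₀
      · simp only [φ', if_pos hi, LinearMap.smul_apply]
        rw [hφx₀, hsmul, hva, map_one]
      · simp only [φ', if_neg hi, LinearMap.sub_apply, LinearMap.smul_apply]
        rw [hφx₀, hφx₀, hsmul, mul_assoc, hva, mul_one, sub_self]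
    have hφ' : ∀ i k, φ' i ⟨x' k, hx' k⟩ = if i = k then 1 else 0 := by
      intro i k
      by_cases hk : k = j₀
      · subst hk
        have h1 : (⟨x' k, hx' k⟩ : I) = ⟨x₀, hx₀I⟩ := Subtype.ext hx'j
        rw [h1, hφ'x₀]
      · have h1 : (⟨x' k, hx' k⟩ : I) = ⟨x k, hx k⟩ := Subtype.ext (hx'ne k hk)
        rw [h1]
        by_cases hi : i = j₀
        · simp only [φ', if_pos hi, LinearMap.smul_apply]
          rw [hφ, if_neg (Ne.symm hk), smul_zero, if_neg (by rw [hi]; exact Ne.symm hk)]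
        · simp only [φ', if_neg hi, LinearMap.sub_apply, LinearMap.smul_apply]
          rw [hφ, hφ j₀ k, if_neg (Ne.symm hk), smul_zero, sub_zero]
    -- the ideal `A` is unchanged
    set B₂ : Ideal R := Ideal.span (Set.range x') ⊔ I ^ 2 with hB₂
    have hx'B : ∀ i, x' i ∈ B₂ :=
      fun i => le_sup_left (α := Ideal R) (Ideal.subset_span ⟨i, rfl⟩)
    have hAB : A = B₂ := by
      apply le_antisymm
      · refine sup_le (Ideal.span_le.mpr ?_) le_sup_right
        rintro _ ⟨i, rfl⟩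
        by_cases hi : i = j₀
        · -- `a j₀ * x j₀ = x₀ - ∑_{i ≠ j₀} a i * x i - z`
          have h1 : a j₀ * x j₀ = x₀ - ∑ k ∈ Finset.univ.erase j₀, a k * x k - z := by
            rw [← hyz, ← ha, ← Finset.add_sum_erase _ (fun k => a k * x k) (Finset.mem_univ j₀)]
            ring
          have h2 : a j₀ * x j₀ ∈ B₂ := by
            rw [h1]
            refine Ideal.sub_mem _ (Ideal.sub_mem _ (hx'j ▸ hx'B j₀) (Ideal.sum_mem _ ?_))
              (le_sup_right (α := Ideal R) hz)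
            intro k hk
            have hkne := Finset.ne_of_mem_erase hk
            exact Ideal.mul_mem_left _ _ (hx'ne k hkne ▸ hx'B k)
          have h3 : x j₀ = v * (a j₀ * x j₀) := by rw [← mul_assoc, hva, one_mul]
          change x i ∈ B₂
          rw [hi, h3]
          exact Ideal.mul_mem_left _ _ h2
        · change x i ∈ B₂
          rw [← hx'ne i hi]; exact hx'B i
      · refine sup_le (Ideal.span_le.mpr ?_) le_sup_right
        rintro _ ⟨i, rfl⟩
        by_cases hi : i = j₀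
        · change x' i ∈ A
          rw [hi, hx'j]; exact hx₀A
        · change x' i ∈ A
          rw [hx'ne i hi]; exact hxA i
    -- pass to `R/x₀`
    have hφ'j : φ' j₀ ⟨x₀, hx₀I⟩ = 1 := by rw [hφ'x₀, if_pos rfl]
    have hpd' := pd_quotient' x₀ hx₀I (φ' j₀) hφ'j hx₀reg k hpd
    have hspan_le : Ideal.span {x₀} ≤ I := (Ideal.span_singleton_le_iff_mem _).mpr hx₀I
    have hspan_ne : Ideal.span {x₀} ≠ ⊤ := fun h => hI (top_le_iff.mp (h ▸ hspan_le))
    have : Nontrivial (R ⧸ Ideal.span {x₀}) := Ideal.Quotient.nontrivial_iff.mpr hspan_ne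
    have : IsLocalRing (R ⧸ Ideal.span {x₀}) :=
      IsLocalRing.of_surjective' (Ideal.Quotient.mk _) Ideal.Quotient.mk_surjective
    set mk' := Ideal.Quotient.mk (Ideal.span {x₀}) with hmk'
    have hmk'x₀ : mk' x₀ = 0 :=
      Ideal.Quotient.eq_zero_iff_mem.mpr (Ideal.mem_span_singleton_self _)
    have hcomap : ∀ J : Ideal R, Ideal.span {x₀} ≤ J → Ideal.comap mk' (J.map mk') = J := by
      intro J hJ
      rw [Ideal.comap_map_of_surjective _ Ideal.Quotient.mk_surjective,
        ← RingHom.ker_eq_comap_bot, Ideal.mk_ker]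
      exact sup_eq_left.mpr hJ
    set I' := I.map mk' with hI'def
    have hI' : I' ≠ ⊤ := by
      intro htop
      apply hI
      rw [← hcomap I hspan_le, ← hI'def, htop, Ideal.comap_top]
    have hcard' : Fintype.card {i : ι // i ≠ j₀} = n := by
      simp only [ne_eq, Fintype.card_subtype_compl, Fintype.card_subtype_eq]
      omega
    let x'' : {i : ι // i ≠ j₀} → R ⧸ Ideal.span {x₀} := fun i => mk' (x' i)
    have hx'' : ∀ i, x'' i ∈ I' := fun i => Ideal.mem_map_of_mem _ (hx' i)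
    have hdesc : ∀ i : {i : ι // i ≠ j₀}, ∃ ψ' : I' →ₗ[R ⧸ Ideal.span {x₀}]
        ((R ⧸ Ideal.span {x₀}) ⧸ I'),
        ∀ (b : R) (hb : b ∈ I), ψ' ⟨mk' b, Ideal.mem_map_of_mem _ hb⟩ =
          Ideal.quotientMap I' mk' Ideal.le_comap_map (φ' i ⟨b, hb⟩) := by
      intro i
      exact descend_functional x₀ hx₀I (φ' i) (by rw [hφ'x₀, if_neg i.2])
    choose φ'' hφ''spec using hdesc
    have hφ'' : ∀ i k, φ'' i ⟨x'' k, hx'' k⟩ = if i = k then 1 else 0 := by
      intro i k
      have h1 := hφ''spec i (x' k) (hx' k)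
      rw [hφ'] at h1
      rw [h1]
      by_cases hik : i = k
      · rw [if_pos hik, if_pos (by rw [hik]), map_one]
      · rw [if_neg hik, if_neg (fun h => hik (Subtype.ext h)), map_zero]
    obtain ⟨rs', hrs', hlen', hle', hof'⟩ := ih (R ⧸ Ideal.span {x₀}) I' hI' k hpd'
      {i : ι // i ≠ j₀} hcard' x'' hx'' φ'' hφ''
    let rs := rs'.map (Function.surjInv Ideal.Quotient.mk_surjective)
    have hrsmap : rs.map mk' = rs' := by
      simp only [rs, List.map_map]
      conv_rhs => rw [← List.map_id rs']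
      apply List.map_congr_left
      intro b _
      exact Function.surjInv_eq _ b
    have hmapB : ∀ l : List R, (Ideal.span {x₀} ⊔ Ideal.ofList l ⊔ I ^ 2).map mk' =
        Ideal.ofList (l.map mk') ⊔ I' ^ 2 := by
      intro l
      rw [Ideal.map_sup, Ideal.map_sup, Ideal.map_ofList, Ideal.map_pow]
      have : (Ideal.span {x₀}).map mk' = ⊥ := by rw [hmk', Ideal.map_quotient_self]
      rw [this, bot_sup_eq]
    refine ⟨x₀ :: rs, ?_, ?_, ?_, ?_⟩
    · rw [isWeaklyRegular_cons_iff']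
      refine ⟨hx₀reg, ?_⟩
      rw [hrsmap]
      let e : QuotSMulTop x₀ R ≃ₗ[R] R ⧸ Ideal.span {x₀} :=
        Submodule.quotEquivOfEq _ _ (by
          rw [← Submodule.ideal_span_singleton_smul, smul_eq_mul, Ideal.mul_top])
      let e' : QuotSMulTop x₀ R ≃ₗ[R ⧸ Ideal.span {x₀}] R ⧸ Ideal.span {x₀} :=
        e.extendScalarsOfSurjective Ideal.Quotient.mk_surjective
      exact (e'.isWeaklyRegular_congr rs').mpr hrs'
    · simp only [rs, List.length_cons, List.length_map, hlen']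
    · rw [Ideal.ofList_cons]
      refine sup_le hspan_le ?_
      rw [← hcomap I hspan_le, ← Ideal.map_le_iff_le_comap, Ideal.map_ofList, hrsmap]
      exact hle'
    · rw [hAB, Ideal.ofList_cons]
      have hB₂x₀ : Ideal.span {x₀} ≤ B₂ :=
        (Ideal.span_singleton_le_iff_mem _).mpr (hx'j ▸ hx'B j₀)
      rw [← hcomap (Ideal.span {x₀} ⊔ Ideal.ofList rs ⊔ I ^ 2) (le_sup_left.trans le_sup_left),
        ← hcomap B₂ hB₂x₀, hmapB, hrsmap, hof']
      congr 1
      rw [hB₂, Ideal.map_sup, Ideal.map_pow, Ideal.map_span]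
      congr 1
      apply le_antisymm
      · rw [Ideal.span_le]
        rintro _ ⟨k, rfl⟩
        exact Ideal.subset_span ⟨x' k, ⟨k, rfl⟩, rfl⟩
      · rw [Ideal.span_le]
        rintro _ ⟨_, ⟨k, rfl⟩, rfl⟩
        by_cases hk : k = j₀
        · rw [hk, hx'j, hmk'x₀]
          exact Ideal.zero_mem _
        · exact Ideal.subset_span ⟨⟨k, hk⟩, rfl⟩

end Vasc

end Groth.Agent.H29
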