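import Mathlib
import Groth.Agent.H29.Vasc8

/-!
# Vasconcelos: a free direct summand of `I/I²` is generated by a regular sequence (helper29)
-/

set_option autoImplicit false
namespace Groth.Agent.H29
namespace Vasc
universe u
open CategoryTheory IsLocalRing RingTheory.Sequence Pointwise
variable {R : Type u} [CommRing R]

/-- comparison of `R/I`-spans in the cotangent space from ideal containments modulo `I²` -/
theorem span_toCotangent_le {I : Ideal R} {κ κ' : Type} [Fintype κ'] (w : κ → I) (w' : κ' → I)
    (h : ∀ k, ((w k : I) : R) ∈ Ideal.span (Set.range fun i => ((w' i : I) : R)) ⊔ I ^ 2) :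
    Submodule.span (R ⧸ I) (Set.range fun k => I.toCotangent (w k)) ≤
      Submodule.span (R ⧸ I) (Set.range fun i => I.toCotangent (w' i)) := by
  rw [Submodule.span_le]
  rintro _ ⟨k, rfl⟩
  obtain ⟨y, hy, z, hz, hyz⟩ := Submodule.mem_sup.mp (h k)
  obtain ⟨a, ha⟩ := Ideal.mem_span_range_iff_exists_fun.mp hy
  have hzI : z ∈ I := Ideal.pow_le_self two_ne_zero hz
  have heq : w k = ∑ i, a i • w' i + ⟨z, hzI⟩ := by
    apply Subtype.ext
    rw [Submodule.coe_add, Submodule.coe_sum]
    simp only [Submodule.coe_smul, smul_eq_mul]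
    rw [ha, hyz]
  change I.toCotangent (w k) ∈ _
  rw [heq, map_add, (Ideal.toCotangent_eq_zero I ⟨z, hzI⟩).mpr hz, add_zero,
    map_sum]
  refine Submodule.sum_mem _ fun i _ => ?_
  rw [map_smul]
  have : a i • I.toCotangent (w' i) = (Ideal.Quotient.mk I (a i)) • I.toCotangent (w' i) := by
    rw [← Ideal.Quotient.algebraMap_eq, algebraMap_smul]
  rw [this]
  exact Submodule.smul_mem _ _ (Submodule.subset_span ⟨i, rfl⟩)

/-- Vasconcelos: a free direct summand of `I/I²` is generated by a regular sequence
(for `I` of finite projective dimension in a Noetherian local ring). -/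
theorem exists_regularSeq_generating_free_summand [IsNoetherianRing R] [IsLocalRing R]
    (I : Ideal R) (hI : I ≠ ⊤) (n : ℕ)
    (hpd : HasProjectiveDimensionLT (ModuleCat.of R I) n)
    (F G : Submodule (R ⧸ I) I.Cotangent) (hFG : IsCompl F G) (r : ℕ)
    (e : F ≃ₗ[R ⧸ I] (Fin r → R ⧸ I)) :
    ∃ (x : Fin r → R) (hx : ∀ i, x i ∈ I), RingTheory.Sequence.IsRegular R (List.ofFn x) ∧
      Submodule.span (R ⧸ I) (Set.range fun i => I.toCotangent ⟨x i, hx i⟩) = F := by
  classical
  have hpd' : HasProjectiveDimensionLT (ModuleCat.of R I) (n + 1) :=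
    hasProjectiveDimensionLT_of_ge _ n (n + 1) (by omega)
  -- the basis of `F` and lifts to `I`
  let b : Fin r → I.Cotangent := fun i => ((e.symm (Pi.single i 1) : F) : I.Cotangent)
  have hlift : ∀ i, ∃ y : I, I.toCotangent y = b i := fun i => I.toCotangent_surjective (b i)
  choose y hy using hlift
  let φ : Fin r → (I →ₗ[R] R ⧸ I) := fun i =>
    ((LinearMap.proj i ∘ₗ e.toLinearMap ∘ₗ
      Submodule.projectionOnto F G hFG).restrictScalars R) ∘ₗ I.toCotangent
  have hφ : ∀ i j, φ i ⟨(y j : R), (y j).2⟩ = if i = j then 1 else 0 := by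
    intro i j
    change (e (Submodule.projectionOnto F G hFG (I.toCotangent (y j)))) i = _
    rw [hy j]
    change (e (Submodule.projectionOnto F G hFG ((e.symm (Pi.single j 1) : F) : I.Cotangent))) i
      = _
    rw [Submodule.projectionOnto_apply_left, LinearEquiv.apply_symm_apply, Pi.single_apply]
  obtain ⟨rs, hreg, hlen, hle, hof⟩ := local_main' r R I hI n hpd' (Fin r) (Fintype.card_fin r)
    (fun i => (y i : R)) (fun i => (y i).2) φ hφ
  subst hlen
  have hmem : ∀ i : Fin rs.length, rs.get i ∈ I := fun i =>
    hle (Ideal.subset_span (List.get_mem rs i))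
  refine ⟨fun i => rs.get i, hmem, ⟨?_, ?_⟩, ?_⟩
  · rw [List.ofFn_get]; exact hreg
  · rw [List.ofFn_get]
    intro htop
    apply hI
    rw [eq_top_iff]
    calc (⊤ : Ideal R) = Ideal.ofList rs • (⊤ : Submodule R R) := htop
      _ ≤ Ideal.ofList rs := by rw [smul_eq_mul, Ideal.mul_top]
      _ ≤ I := hle
  · -- `F` is the span of the `b i`
    have hF : F = Submodule.span (R ⧸ I) (Set.range fun i => I.toCotangent (y i)) := by
      apply le_antisymm
      · intro f hf
        have hs : ∀ i : Fin rs.length,
            (fun j => if i = j then (1 : R ⧸ I) else 0) = Pi.single i 1 := by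
          intro i; ext j; simp [Pi.single_apply, eq_comm]
        have h1 : (⟨f, hf⟩ : F) = ∑ i, (e ⟨f, hf⟩) i • e.symm (Pi.single i 1) := by
          have := LinearMap.pi_apply_eq_sum_univ e.symm.toLinearMap (e ⟨f, hf⟩)
          simp only [LinearEquiv.coe_coe, LinearEquiv.symm_apply_apply, hs] at this
          exact this
        have h2 : f = ∑ i, (e ⟨f, hf⟩) i • b i := by
          have := congrArg (Subtype.val) h1
          simp only [Submodule.coe_sum, Submodule.coe_smul] at this
          exact this
        rw [h2]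
        refine Submodule.sum_mem _ fun i _ => Submodule.smul_mem _ _ ?_
        rw [← hy i]
        exact Submodule.subset_span ⟨i, rfl⟩
      · rw [Submodule.span_le]
        rintro _ ⟨i, rfl⟩
        change I.toCotangent (y i) ∈ F
        rw [hy i]
        exact (e.symm (Pi.single i 1)).2
    have hrange : {r | r ∈ rs} = Set.range fun i : Fin rs.length => rs.get i :=
      (Set.range_list_get rs).symm
    rw [hF]
    apply le_antisymm
    · refine span_toCotangent_le (fun i : Fin rs.length => (⟨rs.get i, hmem i⟩ : I)) y ?_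
      intro k
      change rs.get k ∈ _
      rw [← hof]
      exact le_sup_left (α := Ideal R) (Ideal.subset_span (List.get_mem rs k))
    · refine span_toCotangent_le y (fun i : Fin rs.length => (⟨rs.get i, hmem i⟩ : I)) ?_
      intro k
      have h1 : ((y k : I) : R) ∈ Ideal.span (Set.range fun i => ((y i : I) : R)) ⊔ I ^ 2 :=
        le_sup_left (α := Ideal R) (Ideal.subset_span ⟨k, rfl⟩)
      rw [← hof] at h1
      change ((y k : I) : R) ∈ Ideal.span (Set.range fun i : Fin rs.length => rs.get i) ⊔ I ^ 2
      rw [← hrange]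
      exact h1

end Vasc
end Groth.Agent.H29
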